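import Mathlib

/-!
Basic facts on `GL`, `SL`, `PGL`, `PSL` over a field: generation of `SL` by transvections, the determinant
sequence, orders over finite fields and the order of the centre of `SL`.
-/

set_option autoImplicit false

open Matrix
open scoped MatrixGroups

namespace Cfsg.Agent.GL

section Generation

variable {ι F : Type*} [Fintype ι] [DecidableEq ι] [Field F]

/-- The elementary transvections of `SL ι F`. -/
def elementaryTransvections (ι F : Type*) [Fintype ι] [DecidableEq ι] [Field F] :
    Set (SpecialLinearGroup ι F) :=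
  {g | ∃ (i j : ι) (hij : i ≠ j) (c : F), g = SpecialLinearGroup.transvection hij c}

/-- `diag(a, a⁻¹)` in the coordinates `i, j` is a product of six transvections. -/
theorem diag2n_eq_prod_transvection {i j : ι} (hij : i ≠ j) (a : F) (ha : a ≠ 0) :
    SpecialLinearGroup.diag2n hij a ha =
      SpecialLinearGroup.transvection hij a * SpecialLinearGroup.transvection hij.symm (-a⁻¹) *
      SpecialLinearGroup.transvection hij a * SpecialLinearGroup.transvection hij (-1) *
      SpecialLinearGroup.transvection hij.symm 1 * SpecialLinearGroup.transvection hij (-1) := by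
  apply SpecialLinearGroup.coeMonoidHom_injective
  simp only [map_mul, SpecialLinearGroup.coeMonoidHom_apply, SpecialLinearGroup.transvection_coe,
    SpecialLinearGroup.diag2n_coe, mul_add, add_mul, mul_one, one_mul]
  simp [hij, hij.symm]
  ext k l
  simp [Matrix.single_apply, Matrix.diagonal_apply, Matrix.one_apply]
  grind

/-- Induction on transvections. -/
theorem SL_induction (P : SpecialLinearGroup ι F → Prop) (one : P 1)
    (transvec : ∀ (i j : ι) (hij : i ≠ j) (c : F), P (SpecialLinearGroup.transvection hij c))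
    (mul : ∀ A B, P A → P B → P (A * B)) (A : SpecialLinearGroup ι F) : P A := by
  rcases subsingleton_or_nontrivial ι with h | h
  · rwa [Subsingleton.elim A 1]
  · refine SpecialLinearGroup.diagonal_transvection_induction' P A (fun i j hij c hc => ?_) transvec mul
    rw [diag2n_eq_prod_transvection]
    refine mul _ _ (mul _ _ (mul _ _ (mul _ _ (mul _ _ ?_ ?_) ?_) ?_) ?_) ?_
    all_goals exact transvec _ _ _ _

/-- A subgroup of `SL` containing all elementary transvections is everything. -/
theorem SL_eq_top_of_transvection_mem {H : Subgroup (SpecialLinearGroup ι F)}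
    (h : ∀ (i j : ι) (hij : i ≠ j) (c : F), SpecialLinearGroup.transvection hij c ∈ H) : H = ⊤ :=
  eq_top_iff.2 fun A _ => SL_induction (· ∈ H) H.one_mem h (fun _ _ => H.mul_mem) A

theorem closure_elementaryTransvections :
    Subgroup.closure (elementaryTransvections ι F) = ⊤ :=
  SL_eq_top_of_transvection_mem fun i j hij c => Subgroup.subset_closure ⟨i, j, hij, c, rfl⟩

end Generation

section Det

variable {ι R : Type*} [Fintype ι] [DecidableEq ι] [CommRing R]

theorem det_ker_eq_range_toGL :
    (GeneralLinearGroup.det : GL ι R →* Rˣ).ker = (SpecialLinearGroup.toGL (n := ι) (R := R)).range := by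
  ext g
  constructor
  · intro hg
    exact ⟨⟨g.1, congrArg Units.val (MonoidHom.mem_ker.1 hg)⟩, Units.ext rfl⟩
  · rintro ⟨A, rfl⟩
    exact MonoidHom.mem_ker.2 (Units.ext A.2)

/-- `SL` is the kernel of the determinant. -/
noncomputable def slEquivDetKer :
    SpecialLinearGroup ι R ≃* (GeneralLinearGroup.det : GL ι R →* Rˣ).ker :=
  (MonoidHom.ofInjective SpecialLinearGroup.toGL_injective).trans
    (MulEquiv.subgroupCongr det_ker_eq_range_toGL.symm)

theorem card_GL_eq_SL_mul_units [Nonempty ι] :
    Nat.card (GL ι R) = Nat.card (SpecialLinearGroup ι R) * Nat.card Rˣ := by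
  rw [Subgroup.card_eq_card_quotient_mul_card_subgroup (GeneralLinearGroup.det : GL ι R →* Rˣ).ker,
    mul_comm, Nat.card_congr slEquivDetKer.toEquiv,
    Nat.card_congr (QuotientGroup.quotientKerEquivOfSurjective _
      GeneralLinearGroup.det_surjective).toEquiv]

theorem scalar_injective [Nonempty ι] :
    Function.Injective (GeneralLinearGroup.scalar ι : Rˣ →* GL ι R) := by
  intro a b h
  refine Units.ext ?_
  obtain ⟨i⟩ := ‹Nonempty ι›
  simpa using congrArg (fun g : GL ι R => (g : Matrix ι ι R) i i) h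

theorem card_center_GL [Nonempty ι] : Nat.card (Subgroup.center (GL ι R)) = Nat.card Rˣ := by
  rw [GeneralLinearGroup.center_eq_range_scalar,
    Nat.card_congr (MonoidHom.ofInjective scalar_injective).toEquiv.symm]

/-- `diag(d)` in `GL`, as a monoid hom. -/
def diagHom : (ι → Rˣ) →* GL ι R :=
  (Units.map (diagonalRingHom ι R : (ι → R) →* Matrix ι ι R)).comp MulEquiv.piUnits.symm.toMonoidHom

@[simp] theorem coe_diagHom (d : ι → Rˣ) :
    ((diagHom d : GL ι R) : Matrix ι ι R) = diagonal fun i => (d i : R) := rfl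

theorem det_diagHom (d : ι → Rˣ) : GeneralLinearGroup.det (diagHom d) = ∏ i, d i := by
  refine Units.ext ?_
  simp [GeneralLinearGroup.val_det_apply, Units.coe_prod]

theorem diagHom_injective : Function.Injective (diagHom : (ι → Rˣ) →* GL ι R) := by
  intro a b h
  funext i
  refine Units.ext ?_
  simpa using congrArg (fun g : GL ι R => (g : Matrix ι ι R) i i) h

end Det

section Orders

variable {F : Type*} [Field F] [Fintype F] {ι : Type*} [Fintype ι] [DecidableEq ι]

theorem card_units_field : Nat.card Fˣ = Fintype.card F - 1 := by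
  rw [Nat.card_units, Nat.card_eq_fintype_card]

/-- `|GL ι F|` for an arbitrary index type. -/
theorem card_GL (n : ℕ) (hι : Fintype.card ι = n) :
    Nat.card (GL ι F) = ∏ i : Fin n, (Fintype.card F ^ n - Fintype.card F ^ (i : ℕ)) := by
  rw [← card_GL_field n]
  exact Nat.card_congr (Units.mapEquiv
    (reindexAlgEquiv F F (Fintype.equivFinOfCardEq hι)).toMulEquiv).toEquiv

theorem card_SL_mul (n : ℕ) (hn : 1 ≤ n) :
    (Fintype.card F - 1) * Nat.card (SpecialLinearGroup (Fin n) F) =
      ∏ i : Fin n, (Fintype.card F ^ n - Fintype.card F ^ (i : ℕ)) := by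
  have : Nonempty (Fin n) := Fin.pos_iff_nonempty.1 hn
  rw [← card_GL_field n, card_GL_eq_SL_mul_units, card_units_field, mul_comm]

theorem prod_pow_sub_pow (q n : ℕ) :
    ∏ i : Fin n, (q ^ n - q ^ (i : ℕ)) =
      q ^ (n * (n - 1) / 2) * ∏ i ∈ Finset.Ico 1 (n + 1), (q ^ i - 1) := by
  rw [Fin.prod_univ_eq_prod_range (fun i => q ^ n - q ^ i) n,
    Finset.prod_congr rfl (g := fun i => q ^ i * (q ^ (n - i) - 1)) (fun i hi => by
      rw [Nat.mul_sub, ← pow_add, mul_one, Nat.add_sub_cancel' (Finset.mem_range.1 hi).le]),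
    Finset.prod_mul_distrib, Finset.prod_pow_eq_pow_sum, Finset.sum_range_id,
    Finset.prod_Ico_eq_prod_range, ← Finset.prod_range_reflect (fun k => q ^ (1 + k) - 1)]
  congr 1
  refine Finset.prod_congr rfl fun i hi => ?_
  rw [show 1 + (n + 1 - 1 - 1 - i) = n - i by rw [Finset.mem_range] at hi; omega]

/-- `|GL_n(q)| = q^(n(n-1)/2) ∏_{i=1}^n (q^i - 1)`. -/
theorem card_GL_prod (n : ℕ) :
    Nat.card (GL (Fin n) F) = Fintype.card F ^ (n * (n - 1) / 2) *
      ∏ i ∈ Finset.Ico 1 (n + 1), (Fintype.card F ^ i - 1) := by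
  rw [card_GL_field, prod_pow_sub_pow]

/-- `|SL_n(q)| = q^(n(n-1)/2) ∏_{i=2}^n (q^i - 1)`. -/
theorem card_SL_prod (n : ℕ) :
    Nat.card (SpecialLinearGroup (Fin n) F) = Fintype.card F ^ (n * (n - 1) / 2) *
      ∏ i ∈ Finset.Ico 2 (n + 1), (Fintype.card F ^ i - 1) := by
  rcases Nat.eq_zero_or_pos n with rfl | hn
  · simp
  have hq := Fintype.one_lt_card (α := F)
  refine Nat.eq_of_mul_eq_mul_left (show 0 < Fintype.card F - 1 by omega) ?_
  rw [card_SL_mul n hn, prod_pow_sub_pow, Finset.prod_eq_prod_Ico_succ_bot (show 1 < n + 1 by omega)]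
  simp
  ring

theorem card_rootsOfUnity_eq_gcd (k : ℕ) :
    Nat.card (rootsOfUnity k F) = Nat.gcd (Fintype.card F - 1) k := by
  rw [← card_units_field, ← IsCyclic.card_powMonoidHom_ker]
  rfl

theorem card_center_SL [Nonempty ι] :
    Nat.card (Subgroup.center (SpecialLinearGroup ι F)) =
      Nat.gcd (Fintype.card ι) (Fintype.card F - 1) := by
  rw [Nat.card_congr SpecialLinearGroup.center_equiv_rootsOfUnity.toEquiv, card_rootsOfUnity_eq_gcd,
    Nat.gcd_comm, max_eq_left Fintype.card_pos]

theorem card_center_SL_mul_card_PSL :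
    Nat.card (Subgroup.center (SpecialLinearGroup ι F)) *
      Nat.card (ProjectiveSpecialLinearGroup ι F) = Nat.card (SpecialLinearGroup ι F) := by
  rw [mul_comm]
  exact (Subgroup.card_eq_card_quotient_mul_card_subgroup _).symm

theorem gcd_mul_card_PSL (n : ℕ) (hn : 1 ≤ n) :
    Nat.gcd n (Fintype.card F - 1) * Nat.card (ProjectiveSpecialLinearGroup (Fin n) F) =
      Nat.card (SpecialLinearGroup (Fin n) F) := by
  have : Nonempty (Fin n) := Fin.pos_iff_nonempty.1 hn
  rw [← card_center_SL_mul_card_PSL, card_center_SL, Fintype.card_fin]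

theorem card_PSL_eq (n : ℕ) (hn : 1 ≤ n) :
    Nat.card (ProjectiveSpecialLinearGroup (Fin n) F) =
      Nat.card (SpecialLinearGroup (Fin n) F) / Nat.gcd n (Fintype.card F - 1) := by
  rw [← gcd_mul_card_PSL n hn, Nat.mul_div_cancel_left]
  exact Nat.gcd_pos_of_pos_left _ hn

theorem card_SL2 : Nat.card SL(2, F) = Fintype.card F * (Fintype.card F ^ 2 - 1) := by
  rw [card_SL_prod, Finset.prod_Ico_succ_top (by norm_num)]
  simp

theorem card_GL2 :
    Nat.card (GL (Fin 2) F) = Fintype.card F * (Fintype.card F - 1) * (Fintype.card F ^ 2 - 1) := by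
  rw [card_GL_eq_SL_mul_units, card_SL2, card_units_field]
  ring

/-- `|PGL| = |SL|`. -/
theorem card_PGL : Nat.card (ProjGenLinGroup ι F) = Nat.card (SpecialLinearGroup ι F) := by
  rcases isEmpty_or_nonempty ι with h | h
  · rw [Nat.card_eq_one_iff_unique.2 ⟨⟨fun a b => ?_⟩, ⟨1⟩⟩,
      Nat.card_eq_one_iff_unique.2 ⟨inferInstance, ⟨1⟩⟩]
    induction a using ProjGenLinGroup.induction_on
    induction b using ProjGenLinGroup.induction_on
    exact congrArg _ (Units.ext (Subsingleton.elim _ _))
  · have h1 : Nat.card (GL ι F) = Nat.card (ProjGenLinGroup ι F) * Nat.card Fˣ := by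
      rw [← card_center_GL (ι := ι)]
      exact Subgroup.card_eq_card_quotient_mul_card_subgroup _
    have h2 := card_GL_eq_SL_mul_units (ι := ι) (R := F)
    exact Nat.eq_of_mul_eq_mul_right Nat.card_pos (h1.symm.trans h2)

end Orders

end Cfsg.Agent.GL
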