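import Mathlib
import Cfsg.Agent.Lib.GL.Basic

/-!
`SL_n` is perfect, the commutator subgroup of `GL_n` is `SL_n`, and `PSL_n` is simple.
-/

set_option autoImplicit false

open Matrix
open scoped MatrixGroups commutatorElement LinearAlgebra.Projectivization

namespace Cfsg.Agent.GL

variable {ι F : Type*} [Fintype ι] [DecidableEq ι] [Field F]

/-- `⁅x_ij(a), x_jk(b)⁆ = x_ik(ab)` for distinct `i, j, k`. -/
theorem commutator_transvection {i j k : ι} (hij : i ≠ j) (hjk : j ≠ k) (hik : i ≠ k) (a b : F) :
    ⁅SpecialLinearGroup.transvection hij a, SpecialLinearGroup.transvection hjk b⁆ =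
      SpecialLinearGroup.transvection hik (a * b) := by
  rw [commutatorElement_def, SpecialLinearGroup.transvection_inv,
    SpecialLinearGroup.transvection_inv]
  apply SpecialLinearGroup.coeMonoidHom_injective
  simp only [map_mul, SpecialLinearGroup.coeMonoidHom_apply, SpecialLinearGroup.transvection_coe, mul_add, add_mul,
    mul_one, one_mul]
  simp [hij, hij.symm, hjk, hjk.symm, hik, hik.symm]
  ext r s
  simp [Matrix.single_apply]
  grind

/-- `SL_n` is perfect for `n ≥ 3`. -/
theorem SL_commutator_eq_top_of_three_le (h : 3 ≤ Fintype.card ι) :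
    commutator (SpecialLinearGroup ι F) = ⊤ := by
  refine SL_eq_top_of_transvection_mem fun i j hij c => ?_
  obtain ⟨k, -, hk⟩ := Finset.exists_mem_notMem_of_card_lt_card
    (s := {i, j}) (t := (Finset.univ : Finset ι))
    ((Finset.card_le_two).trans_lt (by rw [Finset.card_univ]; omega))
  simp only [Finset.mem_insert, Finset.mem_singleton, not_or] at hk
  rw [← mul_one c, ← commutator_transvection (Ne.symm hk.1) hk.2 hij c 1]
  exact Subgroup.commutator_mem_commutator (Subgroup.mem_top _) (Subgroup.mem_top _)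

theorem exists_sq_ne_one_of_four_le_card (hF : 4 ≤ Nat.card F) : ∃ a : F, a ≠ 0 ∧ a ^ 2 ≠ 1 := by
  have : Finite F := (Nat.card_pos_iff.1 (by omega)).2
  obtain ⟨x, hx⟩ : IsCyclic Fˣ := inferInstance
  refine ⟨x, Units.ne_zero x, fun h => ?_⟩
  have h1 := orderOf_le_of_pow_eq_one two_pos (Units.ext h : x ^ 2 = 1)
  rw [orderOf_eq_card_of_forall_mem_zpowers hx] at h1
  have := Nat.card_eq_card_units_add_one F
  omega

/-- `SL_n(F)` is perfect, except for `SL_2(2)` and `SL_2(3)`. -/
theorem SL_commutator_eq_top (n : ℕ) (hn : 2 ≤ n) (hF : n = 2 → ∃ a : F, a ≠ 0 ∧ a ^ 2 ≠ 1) :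
    commutator (SpecialLinearGroup (Fin n) F) = ⊤ := by
  rcases hn.eq_or_lt with rfl | hn
  · obtain ⟨a, ha, ha'⟩ := hF rfl
    exact SL2.commutator_eq_top ha ha'
  · exact SL_commutator_eq_top_of_three_le (by simp; omega)

theorem SL_isPerfect_of_three_le (h : 3 ≤ Fintype.card ι) :
    Group.IsPerfect (SpecialLinearGroup ι F) :=
  ⟨SL_commutator_eq_top_of_three_le h⟩

/-- The Iwasawa structure of `PSL_n` on projective space. -/
noncomputable def pslIwasawa :
    MulAction.IwasawaStructure (ProjectiveSpecialLinearGroup ι F) (ℙ F (ι → F)) where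
  T := PSL.iwasawaT
  is_comm p := by
    have hSL : IsMulCommutative (SpecialLinearGroup.lineStab (F := F) (ι := ι) p.submodule) := by
      rw [← Projectivization.mk_rep p, Projectivization.submodule_mk]
      exact SpecialLinearGroup.lineStab_isMulCommutative_of_span p.rep p.rep_nonzero
    exact Subgroup.map_isMulCommutative _ _
  is_conj g p := by
    obtain ⟨g, rfl⟩ := QuotientGroup.mk_surjective g
    rw [ProjectiveSpecialLinearGroup.smul_proj_mk]
    change Subgroup.map _ _ = _
    rw [PSL.smul_submodule, SpecialLinearGroup.lineStab_smul, PSL.iwasawaT_map_conj]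
  is_generator := by
    show ⨆ p : ℙ F (ι → F), Subgroup.map _ _ = ⊤
    rw [← Subgroup.map_iSup,
      show (⨆ p : ℙ F (ι → F), SpecialLinearGroup.lineStab p.submodule) = ⊤ from ?_]
    · exact Subgroup.map_top_of_surjective _ (QuotientGroup.mk'_surjective _)
    refine SL_eq_top_of_transvection_mem fun i j hij c => ?_
    refine le_iSup (fun p : ℙ F (ι → F) => SpecialLinearGroup.lineStab p.submodule)
      (Projectivization.mk F (Pi.single i 1) (by simp)) ?_
    rw [Projectivization.submodule_mk]
    exact SL2Gen.transvection_mem_lineStab hij c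

theorem PSL_isSimpleGroup_of_commutator [Nontrivial ι]
    (h : commutator (SpecialLinearGroup ι F) = ⊤) :
    IsSimpleGroup (ProjectiveSpecialLinearGroup ι F) := by
  have : Group.IsPerfect (SpecialLinearGroup ι F) := ⟨h⟩
  have : Group.IsPerfect (ProjectiveSpecialLinearGroup ι F) := inferInstance
  exact pslIwasawa.isSimpleGroup this.commutator_eq_top inferInstance

theorem PSL_isSimpleGroup_of_three_le (h : 3 ≤ Fintype.card ι) :
    IsSimpleGroup (ProjectiveSpecialLinearGroup ι F) := by
  have : Nontrivial ι := Fintype.one_lt_card_iff_nontrivial.1 (by omega)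
  exact PSL_isSimpleGroup_of_commutator (SL_commutator_eq_top_of_three_le h)

/-- `PSL_n(q)` is simple for `n ≥ 2`, except `PSL_2(2)` and `PSL_2(3)`. -/
theorem PSL_isSimpleGroup (n : ℕ) (hn : 2 ≤ n) (hF : n = 2 → 4 ≤ Nat.card F) :
    IsSimpleGroup (ProjectiveSpecialLinearGroup (Fin n) F) := by
  have : Nontrivial (Fin n) := Fintype.one_lt_card_iff_nontrivial.1 (by simp; omega)
  exact PSL_isSimpleGroup_of_commutator
    (SL_commutator_eq_top n hn fun h => exists_sq_ne_one_of_four_le_card (hF h))

theorem PSL_not_comm (n : ℕ) (hn : 2 ≤ n) (hF : n = 2 → 4 ≤ Nat.card F) :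
    ¬ ∀ a b : ProjectiveSpecialLinearGroup (Fin n) F, a * b = b * a := by
  intro hab
  have : Nontrivial (Fin n) := Fintype.one_lt_card_iff_nontrivial.1 (by simp; omega)
  have : Group.IsPerfect (SpecialLinearGroup (Fin n) F) :=
    ⟨SL_commutator_eq_top n hn fun h => exists_sq_ne_one_of_four_le_card (hF h)⟩
  have h := (inferInstance : Group.IsPerfect (ProjectiveSpecialLinearGroup (Fin n) F)).commutator_eq_top
  have hbot : commutator (ProjectiveSpecialLinearGroup (Fin n) F) = ⊥ := by
    rw [commutator_eq_closure, Subgroup.closure_eq_bot_iff]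
    rintro _ ⟨a, b, rfl⟩
    exact commutatorElement_eq_one_iff_mul_comm.2 (hab a b)
  exact bot_ne_top (hbot.symm.trans h)

/-- Diagonal matrices normalise the root subgroups. -/
theorem diagHom_mul_transvection_mul_inv {i j : ι} (hij : i ≠ j) (d : ι → Fˣ) (b : F) :
    diagHom d * SpecialLinearGroup.toGL (SpecialLinearGroup.transvection hij b) * (diagHom d)⁻¹ =
      SpecialLinearGroup.toGL (SpecialLinearGroup.transvection hij (d i * b * (d j : F)⁻¹)) := by
  rw [mul_inv_eq_iff_eq_mul]
  ext r s
  simp only [GeneralLinearGroup.coe_mul, coe_diagHom, SpecialLinearGroup.coe_GL_coe_matrix,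
    SpecialLinearGroup.transvection_coe, Matrix.diagonal_mul, Matrix.mul_diagonal]
  simp [Matrix.single_apply, Matrix.one_apply]
  grind [Units.ne_zero]

/-- `⁅diag_i(u), x_ij(b)⁆ = x_ij((u-1)b)`. -/
theorem commutator_diag_transvection {i j : ι} (hij : i ≠ j) (u : Fˣ) (b : F) :
    ⁅diagHom (Pi.mulSingle i u), SpecialLinearGroup.toGL (SpecialLinearGroup.transvection hij b)⁆ =
      SpecialLinearGroup.toGL (SpecialLinearGroup.transvection hij ((u - 1) * b)) := by
  rw [commutatorElement_def, diagHom_mul_transvection_mul_inv hij, ← map_inv,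
    SpecialLinearGroup.transvection_inv, ← map_mul, ← SpecialLinearGroup.transvection_add]
  congr 2
  simp [hij.symm]
  ring

/-- `GL' = SL` except for `GL_2(2)`. -/
theorem GL_commutator_eq_det_ker (h : Fintype.card ι = 2 → ∃ a : F, a ≠ 0 ∧ a ≠ 1) :
    commutator (GL ι F) = (GeneralLinearGroup.det : GL ι F →* Fˣ).ker := by
  refine le_antisymm (Abelianization.commutator_subset_ker _) ?_
  rw [det_ker_eq_range_toGL, MonoidHom.range_eq_map, Subgroup.map_le_iff_le_comap]
  refine le_of_eq (Eq.symm ?_)
  by_cases h3 : 3 ≤ Fintype.card ι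
  · rw [eq_top_iff, ← SL_commutator_eq_top_of_three_le h3, ← Subgroup.map_le_iff_le_comap,
      commutator_def, Subgroup.map_commutator]
    exact Subgroup.commutator_mono le_top le_top
  · refine SL_eq_top_of_transvection_mem fun i j hij c => ?_
    obtain ⟨a, ha, ha1⟩ := h (by
      have := Fintype.one_lt_card_iff.2 ⟨i, j, hij⟩
      omega)
    have h0 : a - 1 ≠ 0 := sub_ne_zero.2 ha1
    rw [Subgroup.mem_comap, show c = ((Units.mk0 a ha : F) - 1) * (c / (a - 1)) by simp; field_simp,
      ← commutator_diag_transvection]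
    exact Subgroup.commutator_mem_commutator (Subgroup.mem_top _) (Subgroup.mem_top _)

end Cfsg.Agent.GL
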