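import Mathlib
import Cfsg.Agent.Lib.GL.Simple
import Cfsg.Agent.Lib.SmallSimple.Low

/-!
# GL(4,2) and A_8

`SL(4,2)` acts by congruence on the 28 nondegenerate alternating forms; these carry eight heptads,
permuted by the transvections, whence a subgroup of index at most eight.
-/

set_option autoImplicit false

open Matrix

namespace Cfsg.Agent.GL.FourTwo

def formCoord : Fin 28 → Fin 6 → ZMod 2 :=
  ![![0, 0, 1, 1, 0, 0],
    ![0, 0, 1, 1, 0, 1],
    ![0, 0, 1, 1, 1, 0],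
    ![0, 0, 1, 1, 1, 1],
    ![0, 1, 0, 0, 1, 0],
    ![0, 1, 0, 0, 1, 1],
    ![0, 1, 0, 1, 1, 0],
    ![0, 1, 0, 1, 1, 1],
    ![0, 1, 1, 0, 1, 0],
    ![0, 1, 1, 0, 1, 1],
    ![0, 1, 1, 1, 0, 0],
    ![0, 1, 1, 1, 0, 1],
    ![1, 0, 0, 0, 0, 1],
    ![1, 0, 0, 0, 1, 1],
    ![1, 0, 0, 1, 0, 1],
    ![1, 0, 0, 1, 1, 1],
    ![1, 0, 1, 0, 0, 1],
    ![1, 0, 1, 0, 1, 1],
    ![1, 0, 1, 1, 0, 0],
    ![1, 0, 1, 1, 1, 0],
    ![1, 1, 0, 0, 0, 1],
    ![1, 1, 0, 0, 1, 0],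
    ![1, 1, 0, 1, 0, 1],
    ![1, 1, 0, 1, 1, 0],
    ![1, 1, 1, 0, 0, 1],
    ![1, 1, 1, 0, 1, 0],
    ![1, 1, 1, 1, 0, 0],
    ![1, 1, 1, 1, 1, 1]]

def heptad : Fin 8 → List (Fin 28) :=
  ![[0, 6, 9, 15, 16, 22, 25],
    [0, 7, 8, 14, 17, 23, 24],
    [1, 6, 8, 13, 18, 20, 27],
    [1, 7, 9, 12, 19, 21, 26],
    [2, 4, 11, 15, 17, 20, 26],
    [2, 5, 10, 14, 16, 21, 27],
    [3, 4, 10, 13, 19, 22, 24],
    [3, 5, 11, 12, 18, 23, 25]]

def formPerm : Fin 4 → Fin 4 → Fin 28 → Fin 28 :=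
  ![![![0, 1, 2, 3, 4, 5, 6, 7, 8, 9, 10, 11, 12, 13, 14, 15, 16, 17, 18, 19, 20, 21, 22, 23, 24, 25, 26, 27],
      ![10, 11, 6, 7, 8, 9, 2, 3, 4, 5, 0, 1, 12, 17, 22, 27, 16, 13, 26, 23, 20, 25, 14, 19, 24, 21, 18, 15],
      ![18, 14, 19, 15, 4, 9, 23, 27, 8, 5, 26, 22, 16, 17, 1, 3, 12, 13, 0, 2, 24, 21, 11, 6, 20, 25, 10, 7],
      ![0, 11, 19, 27, 21, 13, 23, 15, 25, 17, 10, 1, 20, 5, 22, 7, 24, 9, 18, 2, 12, 4, 14, 6, 16, 8, 26, 3]],
    ![![2, 3, 0, 1, 6, 7, 4, 5, 10, 11, 8, 9, 12, 13, 14, 15, 17, 16, 19, 18, 22, 23, 20, 21, 27, 26, 25, 24],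
      ![0, 1, 2, 3, 4, 5, 6, 7, 8, 9, 10, 11, 12, 13, 14, 15, 16, 17, 18, 19, 20, 21, 22, 23, 24, 25, 26, 27],
      ![0, 3, 2, 1, 21, 20, 23, 22, 25, 24, 26, 27, 13, 12, 15, 14, 17, 16, 18, 19, 5, 4, 7, 6, 9, 8, 10, 11],
      ![18, 16, 19, 17, 4, 7, 6, 5, 25, 27, 26, 24, 14, 15, 12, 13, 1, 3, 0, 2, 22, 21, 20, 23, 11, 8, 10, 9]],
    ![![1, 0, 3, 2, 4, 5, 6, 7, 9, 8, 11, 10, 14, 15, 12, 13, 18, 19, 16, 17, 22, 23, 20, 21, 26, 27, 24, 25],
      ![0, 1, 3, 2, 5, 4, 7, 6, 9, 8, 10, 11, 20, 21, 22, 23, 24, 25, 26, 27, 12, 13, 14, 15, 16, 17, 18, 19],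
      ![0, 1, 2, 3, 4, 5, 6, 7, 8, 9, 10, 11, 12, 13, 14, 15, 16, 17, 18, 19, 20, 21, 22, 23, 24, 25, 26, 27],
      ![10, 11, 8, 9, 6, 7, 4, 5, 2, 3, 0, 1, 12, 15, 14, 13, 24, 27, 26, 25, 20, 23, 22, 21, 16, 19, 18, 17]],
    ![![0, 1, 2, 3, 5, 4, 7, 6, 9, 8, 11, 10, 13, 12, 15, 14, 17, 16, 19, 18, 21, 20, 23, 22, 25, 24, 27, 26],
      ![1, 0, 3, 2, 4, 5, 7, 6, 8, 9, 11, 10, 16, 17, 18, 19, 12, 13, 14, 15, 24, 25, 26, 27, 20, 21, 22, 23],
      ![2, 3, 0, 1, 8, 9, 10, 11, 4, 5, 6, 7, 12, 13, 15, 14, 16, 17, 19, 18, 24, 25, 27, 26, 20, 21, 23, 22],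
      ![0, 1, 2, 3, 4, 5, 6, 7, 8, 9, 10, 11, 12, 13, 14, 15, 16, 17, 18, 19, 20, 21, 22, 23, 24, 25, 26, 27]]]

def heptadPerm : Fin 4 → Fin 4 → Fin 8 → Fin 8 :=
  ![![![0, 1, 2, 3, 4, 5, 6, 7], ![5, 6, 4, 7, 2, 0, 1, 3], ![7, 2, 1, 5, 6, 3, 4, 0], ![1, 0, 7, 4, 3, 6, 5, 2]],
    ![![4, 5, 6, 7, 0, 1, 2, 3], ![0, 1, 2, 3, 4, 5, 6, 7], ![1, 0, 7, 6, 5, 4, 3, 2], ![2, 7, 0, 5, 6, 3, 4, 1]],
    ![![2, 3, 0, 1, 6, 7, 4, 5], ![1, 0, 3, 2, 7, 6, 5, 4], ![0, 1, 2, 3, 4, 5, 6, 7], ![6, 5, 4, 7, 2, 1, 0, 3]],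
    ![![1, 0, 3, 2, 5, 4, 7, 6], ![3, 2, 1, 0, 6, 7, 4, 5], ![5, 4, 6, 7, 1, 0, 2, 3], ![0, 1, 2, 3, 4, 5, 6, 7]]]

/-- The alternating matrix with the given upper coordinates. -/
def form (k : Fin 28) : Matrix (Fin 4) (Fin 4) (ZMod 2) :=
  !![0, formCoord k 0, formCoord k 1, formCoord k 2;
     formCoord k 0, 0, formCoord k 3, formCoord k 4;
     formCoord k 1, formCoord k 3, 0, formCoord k 5;
     formCoord k 2, formCoord k 4, formCoord k 5, 0]

/-- Elementary transvection matrix over the field of two elements. -/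
def tmat (i j : Fin 4) : Matrix (Fin 4) (Fin 4) (ZMod 2) :=
  fun a b => if a = b then 1 else if a = i ∧ b = j then 1 else 0

theorem form_perm : ∀ i j k, tmat i j * form k * (tmat i j)ᵀ = form (formPerm i j k) := by
  decide +kernel

theorem heptad_perm : ∀ i j h k,
    k ∈ heptad (heptadPerm i j h) ↔ k ∈ (heptad h).map (formPerm i j) := by
  decide +kernel

theorem form_injective : ∀ k l, form k = form l → k = l := by decide +kernel

/-- A heptad as a set of matrices. -/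
def heptadSet (h : Fin 8) : Set (Matrix (Fin 4) (Fin 4) (ZMod 2)) :=
  {A | ∃ k ∈ heptad h, form k = A}

/-- Congruence action on sets of matrices. -/
def act (g : Matrix.SpecialLinearGroup (Fin 4) (ZMod 2)) (S : Set (Matrix (Fin 4) (Fin 4) (ZMod 2))) :
    Set (Matrix (Fin 4) (Fin 4) (ZMod 2)) :=
  (fun A => g.1 * A * g.1ᵀ) '' S

theorem act_mul (g h : Matrix.SpecialLinearGroup (Fin 4) (ZMod 2))
    (S : Set (Matrix (Fin 4) (Fin 4) (ZMod 2))) : act (g * h) S = act g (act h S) := by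
  simp only [act, Set.image_image]
  refine Set.image_congr' fun A => ?_
  show g.1 * h.1 * A * (g.1 * h.1)ᵀ = _
  rw [transpose_mul]
  simp only [mul_assoc]

theorem act_one (S : Set (Matrix (Fin 4) (Fin 4) (ZMod 2))) : act 1 S = S := by
  simp [act]

theorem act_transvection (i j : Fin 4) (hij : i ≠ j) (h : Fin 8) :
    act (SpecialLinearGroup.transvection hij (1 : ZMod 2)) (heptadSet h) =
      heptadSet (heptadPerm i j h) := by
  have hT : (SpecialLinearGroup.transvection hij (1 : ZMod 2)).1 = tmat i j := by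
    refine (SpecialLinearGroup.transvection_coe hij (1 : ZMod 2)).trans ?_
    revert i j
    decide +kernel
  simp only [act, hT]
  ext A
  constructor
  · rintro ⟨B, ⟨k, hk, rfl⟩, rfl⟩
    exact ⟨formPerm i j k, (heptad_perm i j h _).2 (List.mem_map_of_mem hk), (form_perm i j k).symm⟩
  · rintro ⟨k, hk, rfl⟩
    obtain ⟨l, hl, rfl⟩ := List.mem_map.1 ((heptad_perm i j h k).1 hk)
    exact ⟨form l, ⟨l, hl, rfl⟩, form_perm i j l⟩

theorem exists_heptad (g : Matrix.SpecialLinearGroup (Fin 4) (ZMod 2)) :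
    ∀ h, ∃ h', act g (heptadSet h) = heptadSet h' := by
  induction g using GL.SL_induction with
  | one => exact fun h => ⟨h, act_one _⟩
  | transvec i j hij c =>
    rcases (show ∀ c : ZMod 2, c = 0 ∨ c = 1 by decide) c with rfl | rfl
    · exact fun h => ⟨h, by
        rw [show SpecialLinearGroup.transvection hij (0 : ZMod 2) = 1 by
          apply SpecialLinearGroup.coeMonoidHom_injective
          simp [SpecialLinearGroup.transvection_coe], act_one]⟩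
    · exact fun h => ⟨_, act_transvection i j hij h⟩
  | mul A B hA hB =>
    intro h
    obtain ⟨h₁, e₁⟩ := hB h
    obtain ⟨h₂, e₂⟩ := hA h₁
    exact ⟨h₂, by rw [act_mul, e₁, e₂]⟩

/-- The stabilizer of a heptad. -/
def stab : Subgroup (Matrix.SpecialLinearGroup (Fin 4) (ZMod 2)) where
  carrier := {g | act g (heptadSet 0) = heptadSet 0}
  one_mem' := act_one _
  mul_mem' {a b} ha hb := by
    show act (a * b) _ = _
    rw [act_mul, hb, ha]
  inv_mem' {a} ha := by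
    show act a⁻¹ _ = _
    conv_lhs => rw [← ha]
    rw [← act_mul, inv_mul_cancel, act_one]

theorem stab_ne_top : stab ≠ ⊤ := fun h => by
  have hij : (0 : Fin 4) ≠ 1 := by decide
  have hmem : SpecialLinearGroup.transvection hij (1 : ZMod 2) ∈ stab := h ▸ Subgroup.mem_top _
  have heq : heptadSet (heptadPerm 0 1 0) = heptadSet 0 :=
    (act_transvection 0 1 hij 0).symm.trans hmem
  have key : ∀ k, (k ∈ heptad (heptadPerm 0 1 0) ↔ k ∈ heptad 0) := fun k => by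
    have hm := Set.ext_iff.1 heq (form k)
    constructor
    · intro hk
      obtain ⟨l, hl, he⟩ := hm.1 ⟨k, hk, rfl⟩
      exact form_injective l k he ▸ hl
    · intro hk
      obtain ⟨l, hl, he⟩ := hm.2 ⟨k, hk, rfl⟩
      exact form_injective l k he ▸ hl
  exact absurd key (by decide +kernel)

theorem index_stab_le : stab.index ≤ 8 := by
  choose π hπ using fun g => exists_heptad g 0
  have hinj : Function.Injective fun x : _ ⧸ stab => π x.out := fun x y hxy => by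
    rw [← QuotientGroup.out_eq' x, ← QuotientGroup.out_eq' y, QuotientGroup.eq]
    show act (x.out⁻¹ * y.out) _ = _
    rw [act_mul, hπ y.out, show π y.out = π x.out from hxy.symm, ← hπ x.out, ← act_mul,
      inv_mul_cancel, act_one]
  exact (Nat.card_le_card_of_injective _ hinj).trans_eq (Nat.card_fin 8)

theorem center_eq_bot {F : Type*} [Field F] [Fintype F] (hF : Fintype.card F = 2) :
    Subgroup.center (Matrix.SpecialLinearGroup (Fin 4) F) = ⊥ := by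
  refine (Subgroup.eq_bot_iff_card _).2 ?_
  rw [GL.card_center_SL, hF]
  rfl

/-- `PSL(4,2)` is `SL(4,2)`. -/
noncomputable def pslEquiv {F : Type*} [Field F] [Fintype F] (hF : Fintype.card F = 2) :
    ProjectiveSpecialLinearGroup (Fin 4) F ≃* Matrix.SpecialLinearGroup (Fin 4) F :=
  (QuotientGroup.quotientMulEquivOfEq (center_eq_bot hF)).trans QuotientGroup.quotientBot

theorem card_eq {F : Type*} [Field F] [Fintype F] (hF : Fintype.card F = 2) :
    Nat.card (Matrix.SpecialLinearGroup (Fin 4) F) = 20160 := by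
  have h := GL.card_SL_mul (F := F) 4 (by norm_num)
  simp only [hF, Fin.prod_univ_four] at h
  norm_num at h
  omega

theorem iso_alternating : Nonempty (Matrix.SpecialLinearGroup (Fin 4) (ZMod 2) ≃* alternatingGroup (Fin 8)) := by
  have h2 : Fintype.card (ZMod 2) = 2 := ZMod.card 2
  have hs := GL.PSL_isSimpleGroup (F := ZMod 2) 4 (by norm_num) (by norm_num)
  have hs' : IsSimpleGroup (Matrix.SpecialLinearGroup (Fin 4) (ZMod 2)) :=
    haveI := hs
    MulEquiv.isSimpleGroup (pslEquiv h2).symm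
  have hnc : ¬ IsMulCommutative (Matrix.SpecialLinearGroup (Fin 4) (ZMod 2)) := fun hc =>
    GL.PSL_not_comm (F := ZMod 2) 4 (by norm_num) (by norm_num) fun a b =>
      (pslEquiv h2).injective (by rw [map_mul, map_mul]; exact hc.is_comm.comm _ _)
  refine SmallSimple.iso_alternating_of_index hnc (H := stab) (n := 8) ?_ (by norm_num)
    (by rw [card_eq h2]; decide)
  have hd := SmallSimple.card_dvd_factorial stab_ne_top
  rw [card_eq h2] at hd
  have hle := index_stab_le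
  by_contra hne
  have hlt : stab.index ≤ 7 := by omega
  have := Nat.le_of_dvd (Nat.factorial_pos _) hd
  have := Nat.factorial_le hlt
  norm_num [Nat.factorial] at *
  omega

end Cfsg.Agent.GL.FourTwo
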