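import Mathlib

/-!
Element orders in `GL n F` over a finite field: an exponent bound, companion-type elements with prescribed
minimal polynomial, elements of order `q ^ d - 1`, unipotent elements of largest order, padding.
-/

set_option autoImplicit false

open Matrix Polynomial
open scoped MatrixGroups

namespace Cfsg.Agent.GL

variable {F : Type*} [Field F]

/-- A nonzero polynomial all whose irreducible factors divide `Q` divides a power of `Q`. -/
theorem dvd_pow_natDegree_of_irreducible_factors (f : F[X]) (hf : f ≠ 0) (Q : F[X])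
    (h : ∀ g, Irreducible g → g ∣ f → g ∣ Q) : f ∣ Q ^ f.natDegree := by
  induction f using UniqueFactorizationMonoid.induction_on_prime with
  | h₁ => exact absurd rfl hf
  | h₂ x hx => exact hx.dvd
  | h₃ a g ha hg ih =>
    rw [natDegree_mul hg.ne_zero ha, pow_add]
    refine mul_dvd_mul ?_ (ih ha fun r hr hra => h r hr (hra.mul_left g))
    exact (h g hg.irreducible (dvd_mul_right g a)).trans
      (dvd_pow_self Q hg.irreducible.natDegree_pos.ne')

variable [Fintype F]

/-- An irreducible polynomial of degree `d` other than `X` divides `X ^ (q ^ d - 1) - 1`. -/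
theorem irreducible_dvd_X_pow_sub_one {g : F[X]} (hg : Irreducible g) (hX : ¬ g ∣ X)
    {L : ℕ} (hL : Fintype.card F ^ g.natDegree - 1 ∣ L) : g ∣ X ^ L - 1 := by
  have h := hg.natDegree_dvd_iff_dvd_X_pow_card_pow_sub_X.1 (dvd_refl g.natDegree)
  rw [← Fintype.card_eq_nat_card] at h
  have h1 : 1 ≤ Fintype.card F ^ g.natDegree := Nat.one_le_pow _ _ Fintype.card_pos
  have e : (X ^ (Fintype.card F ^ g.natDegree) - X : F[X]) =
      X * (X ^ (Fintype.card F ^ g.natDegree - 1) - 1) := by
    rw [mul_sub, mul_one, ← pow_succ', Nat.sub_add_cancel h1]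
  rw [e] at h
  refine ((hg.prime.dvd_or_dvd h).resolve_left hX).trans ?_
  obtain ⟨c, rfl⟩ := hL
  rw [pow_mul]
  exact sub_one_dvd_pow_sub_one _ _

/-- An irreducible factor of the characteristic polynomial of an invertible matrix is not `X`. -/
theorem not_dvd_X_of_dvd_charpoly {ι : Type*} [Fintype ι] [DecidableEq ι] (A : GL ι F) {g : F[X]}
    (hg : Irreducible g) (h : g ∣ (A : Matrix ι ι F).charpoly) : ¬ g ∣ X := by
  intro hX
  have hX' : X ∣ (A : Matrix ι ι F).charpoly :=
    ((hg.associated_of_dvd Polynomial.irreducible_X hX).symm.dvd).trans h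
  rw [X_dvd_iff] at hX'
  have hd : (A : Matrix ι ι F).det = 0 := by rw [Matrix.det_eq_sign_charpoly_coeff, hX', mul_zero]
  exact ((Matrix.isUnit_iff_isUnit_det _).1 A.isUnit).ne_zero hd

/-- Exponent bound: `A ^ (L * p ^ e) = 1` if `q ^ d - 1 ∣ L` for `1 ≤ d ≤ n` and `n ≤ p ^ e`. -/
theorem pow_eq_one_of_exponent {ι : Type*} [Fintype ι] [DecidableEq ι] (p : ℕ) [Fact p.Prime]
    [CharP F p] {e L : ℕ} (he : Fintype.card ι ≤ p ^ e)
    (hL : ∀ d, 1 ≤ d → d ≤ Fintype.card ι → Fintype.card F ^ d - 1 ∣ L) (A : GL ι F) :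
    A ^ (L * p ^ e) = 1 := by
  have hdeg : (A : Matrix ι ι F).charpoly.natDegree = Fintype.card ι :=
    Matrix.charpoly_natDegree_eq_dim _
  have hne : (A : Matrix ι ι F).charpoly ≠ 0 := (Matrix.charpoly_monic _).ne_zero
  have h1 : (A : Matrix ι ι F).charpoly ∣ ((X : F[X]) ^ L - 1) ^ (A : Matrix ι ι F).charpoly.natDegree :=
    dvd_pow_natDegree_of_irreducible_factors _ hne _ fun g hg hgA =>
      irreducible_dvd_X_pow_sub_one hg (not_dvd_X_of_dvd_charpoly A hg hgA)
        (hL _ hg.natDegree_pos ((natDegree_le_of_dvd hgA hne).trans hdeg.le))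
  have h2 : (A : Matrix ι ι F).charpoly ∣ (X : F[X]) ^ (L * p ^ e) - 1 := by
    refine h1.trans ((pow_dvd_pow _ (hdeg.le.trans he)).trans ?_)
    rw [sub_pow_char_pow, one_pow, pow_mul]
  obtain ⟨c, hc⟩ := h2
  have h3 := congrArg (aeval (A : Matrix ι ι F)) hc
  simp only [map_mul, map_sub, map_pow, aeval_X, map_one, Matrix.aeval_self_charpoly, zero_mul] at h3
  exact Units.ext (by simpa using sub_eq_zero.1 h3)

/-- Block padding `A ↦ [A 0; 0 1]`. -/
def padOne (m k : Type*) [Fintype m] [DecidableEq m] [Fintype k] [DecidableEq k] :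
    Matrix m m F →* Matrix (m ⊕ k) (m ⊕ k) F where
  toFun A := Matrix.fromBlocks A 0 0 1
  map_one' := Matrix.fromBlocks_one
  map_mul' A B := by simp [Matrix.fromBlocks_multiply]

/-- `GL d F` inside `GL n F` for `d ≤ n`. -/
def padGL {d n : ℕ} (h : d ≤ n) : GL (Fin d) F →* GL (Fin n) F :=
  let e : Fin d ⊕ Fin (n - d) ≃ Fin n := finSumFinEquiv.trans (finCongr (Nat.add_sub_of_le h))
  Units.map ((Matrix.reindexAlgEquiv F F e).toMulEquiv.toMonoidHom.comp (padOne (Fin d) (Fin (n - d))))

omit [Fintype F] in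
theorem padGL_injective {d n : ℕ} (h : d ≤ n) : Function.Injective (padGL (F := F) h) := by
  apply Units.map_injective
  simp only [MonoidHom.coe_comp]
  exact (MulEquiv.injective _).comp fun A B hAB => (Matrix.fromBlocks_inj.1 hAB).1

omit [Fintype F] in
theorem det_padGL {d n : ℕ} (h : d ≤ n) (A : GL (Fin d) F) :
    (padGL h A : Matrix (Fin n) (Fin n) F).det = (A : Matrix (Fin d) (Fin d) F).det := by
  change (Matrix.reindex _ _ (Matrix.fromBlocks (A : Matrix (Fin d) (Fin d) F) 0 0 1)).det = _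
  rw [Matrix.det_reindex_self, Matrix.det_fromBlocks_zero₂₁, Matrix.det_one, mul_one]

omit [Fintype F] in
/-- For monic `f` coprime to `X` there is an invertible matrix with minimal polynomial `f`. -/
theorem exists_GL_pow_eq_one_iff {f : F[X]} {n : ℕ} (hn : f.natDegree = n) (hf : f.Monic)
    (h0 : IsCoprime f X) :
    ∃ A : GL (Fin n) F, ∀ L : ℕ, A ^ L = 1 ↔ f ∣ X ^ L - 1 := by
  obtain ⟨a, b, hab⟩ := h0
  have hu : IsUnit (AdjoinRoot.root f) := by
    refine IsUnit.of_mul_eq_one (AdjoinRoot.mk f b) ?_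
    have := congrArg (AdjoinRoot.mk f) hab
    simpa [AdjoinRoot.mk_self, mul_comm] using this
  let bs : Module.Basis (Fin n) F (AdjoinRoot f) :=
    (AdjoinRoot.powerBasis' hf).basis.reindex (finCongr (by simpa using hn))
  refine ⟨Units.map (Algebra.leftMulMatrix bs).toMonoidHom hu.unit, fun L => ?_⟩
  rw [← map_pow]
  refine (map_eq_one_iff _ (Units.map_injective (Algebra.leftMulMatrix_injective bs))).trans ?_
  rw [← AdjoinRoot.mk_eq_zero, map_sub, map_pow, map_one, AdjoinRoot.mk_X, sub_eq_zero, Units.ext_iff]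
  simp

/-- `GL n F` contains an element of order `q ^ d - 1` for `1 ≤ d ≤ n`. -/
theorem exists_orderOf_card_pow_sub_one {d n : ℕ} (hd : 0 < d) (h : d ≤ n) :
    ∃ A : GL (Fin n) F, orderOf A = Fintype.card F ^ d - 1 := by
  obtain ⟨p, hp⟩ := CharP.exists F
  have : Fact p.Prime := ⟨CharP.char_is_prime F p⟩
  have : NeZero d := ⟨hd.ne'⟩
  let E := FiniteField.Extension F p d
  let b : Module.Basis (Fin d) F E := Module.finBasisOfFinrankEq F E (FiniteField.finrank_extension F p d)
  obtain ⟨g, hg⟩ := IsCyclic.exists_ofOrder_eq_natCard (α := Eˣ)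
  refine ⟨padGL h (Units.map (Algebra.leftMulMatrix b).toMonoidHom g), ?_⟩
  rw [orderOf_injective (padGL h) (padGL_injective h),
    orderOf_injective (Units.map _) (Units.map_injective (Algebra.leftMulMatrix_injective b)), hg,
    Nat.card_units, FiniteField.natCard_extension, Fintype.card_eq_nat_card]

omit [Fintype F] in
/-- A full Jordan block: order `p ^ e` for the least `e` with `n ≤ p ^ e`. -/
theorem exists_orderOf_unipotent (p : ℕ) [hp : Fact p.Prime] [CharP F p] (n : ℕ) :
    ∃ A : GL (Fin n) F, orderOf A = p ^ Nat.clog p n := by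
  have hf : ((X - C (1 : F)) ^ n).Monic := (monic_X_sub_C 1).pow n
  have hdeg : ((X - C (1 : F)) ^ n).natDegree = n := by
    rw [natDegree_pow, natDegree_X_sub_C, mul_one]
  have h0 : IsCoprime ((X - C (1 : F)) ^ n) X := IsCoprime.pow_left ⟨-1, 1, by simp⟩
  obtain ⟨A, hA⟩ := exists_GL_pow_eq_one_iff hdeg hf h0
  refine ⟨A, ?_⟩
  have key : ∀ j, A ^ p ^ j = 1 ↔ n ≤ p ^ j := fun j => by
    rw [hA, show (X : F[X]) ^ p ^ j - 1 = (X - C (1 : F)) ^ p ^ j by
      rw [sub_pow_char_pow, map_one, one_pow], pow_dvd_pow_iff (X_sub_C_ne_zero 1) (not_isUnit_X_sub_C 1)]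
  rcases Nat.eq_zero_or_pos (Nat.clog p n) with h | h
  · have := (key 0).2 (by have := Nat.le_pow_clog hp.out.one_lt n; rwa [h] at this)
    simpa [h] using this
  · obtain ⟨e, he⟩ := Nat.exists_eq_add_one_of_ne_zero h.ne'
    rw [he]
    refine orderOf_eq_prime_pow (fun hh => ?_) ((key (e + 1)).2 (he ▸ Nat.le_pow_clog hp.out.one_lt n))
    have := Nat.clog_le_of_le_pow (b := p) ((key e).1 hh)
    omega

end Cfsg.Agent.GL
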