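import Mathlib
import Cfsg.Agent.Lib.GL.Basic

/-!
Upper triangular (Borel) and upper unitriangular subgroups of `GL_n` and `SL_n`; in characteristic `p` the
unitriangular group is a Sylow `p`-subgroup and its normaliser is the Borel subgroup.
-/

set_option autoImplicit false

open Matrix
open scoped MatrixGroups

namespace Cfsg.Agent.GL

section Triangular

variable {R : Type*} [CommRing R] {n : ℕ}

theorem mul_diag_of_upperTriangular {M N : Matrix (Fin n) (Fin n) R}
    (hM : ∀ i j, j < i → M i j = 0) (hN : ∀ i j, j < i → N i j = 0) (i : Fin n) :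
    (M * N) i i = M i i * N i i := by
  rw [Matrix.mul_apply]
  refine Finset.sum_eq_single_of_mem i (Finset.mem_univ i) fun k _ hk => ?_
  rcases hk.lt_or_gt with h | h
  · rw [hM i k h, zero_mul]
  · rw [hN k i h, mul_zero]

/-- The upper triangular matrices in `GL_n`. -/
def borel (n : ℕ) (R : Type*) [CommRing R] : Subgroup (GL (Fin n) R) where
  carrier := {g | ∀ i j, j < i → (g : Matrix (Fin n) (Fin n) R) i j = 0}
  one_mem' i j h := by simp [h.ne']
  mul_mem' {a b} ha hb := by
    intro i j h
    exact BlockTriangular.mul (b := id) (fun _ _ => ha _ _) (fun _ _ => hb _ _) h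
  inv_mem' {a} ha := by
    intro i j h
    letI := a.invertible
    have hT : BlockTriangular (a : Matrix (Fin n) (Fin n) R) id := fun k l hkl => ha k l hkl
    rw [Matrix.coe_units_inv]
    exact blockTriangular_inv_of_blockTriangular hT h

theorem mem_borel {g : GL (Fin n) R} :
    g ∈ borel n R ↔ ∀ i j, j < i → (g : Matrix (Fin n) (Fin n) R) i j = 0 := Iff.rfl

theorem borel_diag_mul_inv {g : GL (Fin n) R} (hg : g ∈ borel n R) (i : Fin n) :
    (g : Matrix (Fin n) (Fin n) R) i i * ((g⁻¹ : GL (Fin n) R) : Matrix (Fin n) (Fin n) R) i i = 1 := by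
  rw [← mul_diag_of_upperTriangular hg ((borel n R).inv_mem hg), ← GeneralLinearGroup.coe_mul,
    mul_inv_cancel, GeneralLinearGroup.coe_one, Matrix.one_apply_eq]

/-- The diagonal of an upper triangular matrix. -/
def borelDiag (n : ℕ) (R : Type*) [CommRing R] : borel n R →* (Fin n → Rˣ) where
  toFun g i := Units.mkOfMulEqOne _ _ (borel_diag_mul_inv g.2 i)
  map_one' := funext fun i => Units.ext (by simp)
  map_mul' a b := funext fun i => Units.ext (by
    simp [mul_diag_of_upperTriangular a.2 b.2 i])

@[simp] theorem borelDiag_apply (g : borel n R) (i : Fin n) :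
    (borelDiag n R g i : R) = (g : GL (Fin n) R).1 i i := rfl

/-- The upper unitriangular matrices in `GL_n`. -/
def unitriangular (n : ℕ) (R : Type*) [CommRing R] : Subgroup (GL (Fin n) R) :=
  (borelDiag n R).ker.map (borel n R).subtype

theorem mem_unitriangular {g : GL (Fin n) R} :
    g ∈ unitriangular n R ↔ (∀ i j, j < i → (g : Matrix (Fin n) (Fin n) R) i j = 0) ∧
      ∀ i, (g : Matrix (Fin n) (Fin n) R) i i = 1 := by
  constructor
  · rintro ⟨a, ha, rfl⟩
    exact ⟨a.2, fun i => congrArg Units.val (congrFun ha i)⟩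
  · rintro ⟨h1, h2⟩
    exact ⟨⟨g, h1⟩, funext fun i => Units.ext (h2 i), rfl⟩

theorem unitriangular_le_borel : unitriangular n R ≤ borel n R := Subgroup.map_subtype_le _

theorem borel_le_normalizer_unitriangular :
    borel n R ≤ Subgroup.normalizer (unitriangular n R : Set (GL (Fin n) R)) := by
  intro g hg
  rw [Subgroup.mem_normalizer_iff]
  intro h
  let g' : borel n R := ⟨g, hg⟩
  have key : ∀ (x : borel n R),
      borelDiag n R (g' * x * g'⁻¹) = borelDiag n R x := fun x => by
    rw [map_mul, map_mul, map_inv, mul_comm _ (borelDiag n R x), mul_assoc, mul_inv_cancel, mul_one]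
  constructor
  · rintro ⟨a, ha, rfl⟩
    exact ⟨g' * a * g'⁻¹, MonoidHom.mem_ker.2 ((key a).trans ha), rfl⟩
  · rintro ⟨a, ha, he⟩
    have he' : (a : GL (Fin n) R) = g * h * g⁻¹ := he
    refine ⟨g'⁻¹ * a * g', MonoidHom.mem_ker.2 ?_, ?_⟩
    · rw [← key (g'⁻¹ * a * g'), show g' * (g'⁻¹ * a * g') * g'⁻¹ = a by group]
      exact ha
    · show g⁻¹ * (a : GL (Fin n) R) * g = h
      rw [he']
      group

theorem det_unitriangular {g : GL (Fin n) R} (hg : g ∈ unitriangular n R) :
    GeneralLinearGroup.det g = 1 := by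
  obtain ⟨h1, h2⟩ := mem_unitriangular.1 hg
  refine Units.ext ?_
  rw [GeneralLinearGroup.val_det_apply, Matrix.det_of_isUpperTriangular (fun i j => h1 i j)]
  simp [h2]

theorem unitriangular_le_det_ker :
    unitriangular n R ≤ (GeneralLinearGroup.det : GL (Fin n) R →* Rˣ).ker :=
  fun _ hg => MonoidHom.mem_ker.2 (det_unitriangular hg)

theorem borelDiag_surjective : Function.Surjective (borelDiag n R) := fun d =>
  ⟨⟨diagHom d, fun i j h => by simp [h.ne']⟩, funext fun i => Units.ext (by simp)⟩

theorem card_borel :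
    Nat.card (borel n R) = Nat.card Rˣ ^ n * Nat.card (unitriangular n R) := by
  rw [Subgroup.card_eq_card_quotient_mul_card_subgroup (borelDiag n R).ker,
    Nat.card_congr (QuotientGroup.quotientKerEquivOfSurjective _ borelDiag_surjective).toEquiv,
    Nat.card_fun, Nat.card_fin, unitriangular, Subgroup.card_map_of_injective (borel n R).subtype_injective]

theorem transvection_mem_unitriangular {i j : Fin n} (h : i < j) (c : R) :
    SpecialLinearGroup.toGL (SpecialLinearGroup.transvection h.ne c) ∈ unitriangular n R := by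
  rw [mem_unitriangular]
  simp only [SpecialLinearGroup.coe_GL_coe_matrix, SpecialLinearGroup.transvection_coe]
  refine ⟨fun a b hab => ?_, fun a => ?_⟩
  · simp [hab.ne', Matrix.single_apply]
    intro h1 h2
    subst h1 h2
    exact absurd hab h.not_gt
  · simp [Matrix.single_apply]
    intro h1 h2
    exact absurd (h1.trans h2.symm) h.ne

/-- Strictly upper triangular positions. -/
def strictUpperEquiv (n : ℕ) :
    {p : Fin n × Fin n // p.1 < p.2} ≃ Σ j : Fin n, Fin (j : ℕ) where
  toFun p := ⟨p.1.2, ⟨p.1.1, p.2⟩⟩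
  invFun x := ⟨(⟨x.2, x.2.2.trans x.1.2⟩, x.1), x.2.2⟩
  left_inv _ := rfl
  right_inv _ := rfl

theorem card_strictUpper (n : ℕ) :
    Nat.card {p : Fin n × Fin n // p.1 < p.2} = n * (n - 1) / 2 := by
  rw [Nat.card_congr (strictUpperEquiv n), Nat.card_sigma]
  simp only [Nat.card_fin]
  rw [Fin.sum_univ_eq_sum_range (fun i => i) n, Finset.sum_range_id]

theorem card_unitriangular :
    Nat.card (unitriangular n R) = Nat.card R ^ (n * (n - 1) / 2) := by
  rw [← card_strictUpper, ← Nat.card_fun]
  have hT : ∀ f : {p : Fin n × Fin n // p.1 < p.2} → R,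
      (Matrix.of fun i j => if h : i < j then f ⟨(i, j), h⟩ else if i = j then 1 else 0).det = 1 := by
    intro f
    rw [Matrix.det_of_isUpperTriangular (fun i j (h : j < i) => by simp [h.not_gt, h.ne'])]
    simp
  let S : ({p : Fin n × Fin n // p.1 < p.2} → R) → SpecialLinearGroup (Fin n) R := fun f => ⟨_, hT f⟩
  have hS : ∀ f i j, ((SpecialLinearGroup.toGL (S f) : GL (Fin n) R) : Matrix (Fin n) (Fin n) R) i j =
      if h : i < j then f ⟨(i, j), h⟩ else if i = j then 1 else 0 := fun _ _ _ => rfl
  refine Nat.card_congr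
    { toFun := fun g p => (g : GL (Fin n) R).1 p.1.1 p.1.2
      invFun := fun f => ⟨SpecialLinearGroup.toGL (S f), mem_unitriangular.2
        ⟨fun i j h => by rw [hS, dif_neg h.not_gt, if_neg h.ne'],
         fun i => by rw [hS, dif_neg (lt_irrefl i), if_pos rfl]⟩⟩
      left_inv := fun g => ?_
      right_inv := fun f => ?_ }
  · obtain ⟨h1, h2⟩ := mem_unitriangular.1 g.2
    refine Subtype.ext (Units.ext (Matrix.ext fun i j => ?_))
    show ((SpecialLinearGroup.toGL (S fun p => (g : GL (Fin n) R).1 p.1.1 p.1.2) : GL (Fin n) R) : Matrix (Fin n) (Fin n) R) i j = _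
    refine Eq.trans (hS (fun p => (g : GL (Fin n) R).1 p.1.1 p.1.2) i j) ?_
    rcases lt_trichotomy i j with h | rfl | h
    · rw [dif_pos h]
    · rw [dif_neg (lt_irrefl i), if_pos rfl, h2]
    · rw [dif_neg h.not_gt, if_neg h.ne', h1 i j h]
  · funext p
    exact (hS f p.1.1 p.1.2).trans (dif_pos p.2)

end Triangular

section NormalizerUnitriangular

variable {F : Type*} [Field F] {n : ℕ}

/-- If `g x g⁻¹` is unitriangular for every elementary upper transvection `x`, then `g` is triangular. -/
theorem mem_borel_of_conj_transvection {g : GL (Fin n) F}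
    (hg : ∀ (i j : Fin n) (h : i < j),
      g * SpecialLinearGroup.toGL (SpecialLinearGroup.transvection h.ne (1 : F)) * g⁻¹ ∈
        unitriangular n F) :
    g ∈ borel n F := by
  classical
  set G : Matrix (Fin n) (Fin n) F := g.1 with hG
  set H : Matrix (Fin n) (Fin n) F := (g⁻¹ : GL (Fin n) F).1 with hH
  have key : ∀ i j : Fin n, i < j → ∀ k l : Fin n, G k i ≠ 0 → H j l ≠ 0 → k < l := by
    intro i j hij k l hk hl
    obtain ⟨h1, h2⟩ := mem_unitriangular.1 (hg i j hij)
    have he : ∀ a b, (g * SpecialLinearGroup.toGL (SpecialLinearGroup.transvection hij.ne (1 : F))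
        * g⁻¹).1 a b = (1 : Matrix (Fin n) (Fin n) F) a b + G a i * H j b := by
      intro a b
      simp only [GeneralLinearGroup.coe_mul, SpecialLinearGroup.coe_GL_coe_matrix,
        SpecialLinearGroup.transvection_coe, Matrix.mul_add, Matrix.add_mul, Matrix.mul_one]
      rw [← hG, ← hH, hG, hH, ← GeneralLinearGroup.coe_mul, mul_inv_cancel,
        GeneralLinearGroup.coe_one, Matrix.add_apply, ← hG, ← hH]
      simp [Matrix.mul_apply, Matrix.single_apply, ite_and, Finset.sum_mul]
    have hne := mul_ne_zero hk hl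
    rcases lt_trichotomy k l with h | rfl | h
    · exact h
    · exact absurd (h2 k) (by rw [he, Matrix.one_apply_eq]; simpa using hne)
    · exact absurd (h1 k l h) (by rw [he, Matrix.one_apply_ne h.ne', zero_add]; exact hne)
  have hex : ∀ i, ∃ k, G k i ≠ 0 ∧ H i k ≠ 0 := by
    intro i
    by_contra hcon
    simp only [not_exists, not_and_or, not_not] at hcon
    have h1 : (H * G) i i = 1 := by
      rw [hG, hH, ← GeneralLinearGroup.coe_mul, inv_mul_cancel, GeneralLinearGroup.coe_one,
        Matrix.one_apply_eq]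
    rw [Matrix.mul_apply, Finset.sum_eq_zero (fun k _ => by
      rcases hcon k with h | h <;> simp [h])] at h1
    exact zero_ne_one h1
  choose w hwG hwH using hex
  have hmono : StrictMono w := fun i j hij => key i j hij _ _ (hwG i) (hwH j)
  have hw : ∀ i, w i = i := fun i => le_antisymm (hmono.le_id i) (hmono.id_le i)
  intro i j hji
  by_contra hne
  rcases lt_or_ge (j : ℕ) (n - 1) with h | h
  · have hlt : (j : Fin n) < ⟨j + 1, by omega⟩ := Nat.lt_succ_self _
    have := key j ⟨j + 1, by omega⟩ hlt i (w ⟨j + 1, by omega⟩) hne (hwH _)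
    rw [hw, Fin.lt_def] at this
    simp at this
    rw [Fin.lt_def] at hji
    omega
  · rw [Fin.lt_def] at hji
    omega

/-- The normaliser of the unitriangular group is the Borel subgroup. -/
theorem normalizer_unitriangular :
    Subgroup.normalizer (unitriangular n F : Set (GL (Fin n) F)) = borel n F :=
  le_antisymm (fun g hg => mem_borel_of_conj_transvection fun _ _ h =>
    (Subgroup.mem_normalizer_iff.1 hg _).1 (transvection_mem_unitriangular h 1))
    borel_le_normalizer_unitriangular

/-- The unitriangular subgroup of `SL_n`. -/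
def unitriangularSL (n : ℕ) (F : Type*) [Field F] : Subgroup (SpecialLinearGroup (Fin n) F) :=
  (unitriangular n F).comap SpecialLinearGroup.toGL

/-- The Borel subgroup of `SL_n`. -/
def borelSL (n : ℕ) (F : Type*) [Field F] : Subgroup (SpecialLinearGroup (Fin n) F) :=
  (borel n F).comap SpecialLinearGroup.toGL

theorem map_unitriangularSL :
    (unitriangularSL n F).map SpecialLinearGroup.toGL = unitriangular n F := by
  rw [unitriangularSL, Subgroup.map_comap_eq, inf_eq_right, ← det_ker_eq_range_toGL]
  exact unitriangular_le_det_ker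

theorem card_unitriangularSL :
    Nat.card (unitriangularSL n F) = Nat.card F ^ (n * (n - 1) / 2) := by
  rw [← card_unitriangular (R := F), ← map_unitriangularSL,
    Subgroup.card_map_of_injective SpecialLinearGroup.toGL_injective]

theorem normalizer_unitriangularSL :
    Subgroup.normalizer (unitriangularSL n F : Set (SpecialLinearGroup (Fin n) F)) =
      borelSL n F := by
  refine le_antisymm (fun g hg => mem_borel_of_conj_transvection fun i j h => ?_) fun g hg => ?_
  · have := (Subgroup.mem_normalizer_iff.1 hg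
      (SpecialLinearGroup.transvection h.ne 1)).1 (transvection_mem_unitriangular h 1)
    simpa [unitriangularSL] using this
  · rw [Subgroup.mem_normalizer_iff]
    intro x
    simpa [unitriangularSL] using
      Subgroup.mem_normalizer_iff.1 (borel_le_normalizer_unitriangular hg) (SpecialLinearGroup.toGL x)

end NormalizerUnitriangular

section Sylow

variable {F : Type*} [Field F] [Fintype F] {n : ℕ} (p : ℕ) [Fact p.Prime] [CharP F p]

theorem card_eq_pow_char : ∃ f : ℕ, 0 < f ∧ Fintype.card F = p ^ f := by
  obtain ⟨f, hp, hf⟩ := FiniteField.card F p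
  exact ⟨f, f.2, hf⟩

theorem not_dvd_prod_pow_sub_one (s : Finset ℕ) (hs : ∀ i ∈ s, 1 ≤ i) :
    ¬ p ∣ ∏ i ∈ s, (Fintype.card F ^ i - 1) := by
  obtain ⟨f, hf0, hf⟩ := card_eq_pow_char (F := F) p
  rw [(Fact.out : p.Prime).prime.dvd_finsetProd_iff]
  rintro ⟨i, hi, hdvd⟩
  have hi1 := hs i hi
  have hpd : p ∣ Fintype.card F ^ i := by
    rw [hf, ← pow_mul]
    exact dvd_pow_self p (Nat.mul_ne_zero hf0.ne' (by omega))
  have h1 : p ∣ 1 := by
    have h := Nat.dvd_sub hpd hdvd
    rwa [Nat.sub_sub_self (Nat.one_le_pow _ _ Fintype.card_pos)] at h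
  exact (Fact.out : p.Prime).ne_one (Nat.dvd_one.1 h1)

theorem isPGroup_of_card_eq {G : Type*} [Group G] (k : ℕ)
    (h : Nat.card G = Fintype.card F ^ k) : IsPGroup p G := by
  obtain ⟨f, -, hf⟩ := card_eq_pow_char (F := F) p
  exact IsPGroup.of_card (n := f * k) (by rw [h, hf, pow_mul])

theorem unitriangular_index :
    (unitriangular n F).index = ∏ i ∈ Finset.Ico 1 (n + 1), (Fintype.card F ^ i - 1) := by
  have h := (unitriangular n F).card_mul_index
  rw [card_unitriangular, card_GL_prod, Nat.card_eq_fintype_card] at h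
  exact Nat.eq_of_mul_eq_mul_left (pow_pos Fintype.card_pos _) h

theorem unitriangularSL_index :
    (unitriangularSL n F).index = ∏ i ∈ Finset.Ico 2 (n + 1), (Fintype.card F ^ i - 1) := by
  have h := (unitriangularSL n F).card_mul_index
  rw [card_unitriangularSL, card_SL_prod, Nat.card_eq_fintype_card] at h
  exact Nat.eq_of_mul_eq_mul_left (pow_pos Fintype.card_pos _) h

theorem isPGroup_unitriangular : IsPGroup p (unitriangular n F) :=
  isPGroup_of_card_eq (F := F) p _ (by rw [card_unitriangular, Nat.card_eq_fintype_card])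

theorem isPGroup_unitriangularSL : IsPGroup p (unitriangularSL n F) :=
  isPGroup_of_card_eq (F := F) p _ (by rw [card_unitriangularSL, Nat.card_eq_fintype_card])

/-- The unitriangular Sylow `p`-subgroup of `GL_n`. -/
noncomputable def sylowGL (n : ℕ) : Sylow p (GL (Fin n) F) :=
  (isPGroup_unitriangular p (n := n)).toSylow (by
    rw [unitriangular_index]
    exact not_dvd_prod_pow_sub_one p _ fun i hi => (Finset.mem_Ico.1 hi).1)

/-- The unitriangular Sylow `p`-subgroup of `SL_n`. -/
noncomputable def sylowSL (n : ℕ) : Sylow p (SpecialLinearGroup (Fin n) F) :=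
  (isPGroup_unitriangularSL p (n := n)).toSylow (by
    rw [unitriangularSL_index]
    exact not_dvd_prod_pow_sub_one p _ fun i hi => by
      have := (Finset.mem_Ico.1 hi).1
      omega)

@[simp] theorem coe_sylowGL :
    ((sylowGL (F := F) p n : Sylow p (GL (Fin n) F)) : Subgroup (GL (Fin n) F)) = unitriangular n F := rfl

@[simp] theorem coe_sylowSL :
    ((sylowSL (F := F) p n : Sylow p (SpecialLinearGroup (Fin n) F)) :
      Subgroup (SpecialLinearGroup (Fin n) F)) = unitriangularSL n F := rfl

theorem exists_conj_unitriangular (P : Sylow p (GL (Fin n) F)) :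
    ∃ g : GL (Fin n) F,
      (P : Subgroup (GL (Fin n) F)) = (unitriangular n F).map (MulAut.conj g).toMonoidHom := by
  obtain ⟨g, hg⟩ := MulAction.exists_smul_eq (GL (Fin n) F) (sylowGL p n) P
  exact ⟨g, by rw [← hg]; rfl⟩

theorem exists_conj_unitriangularSL (P : Sylow p (SpecialLinearGroup (Fin n) F)) :
    ∃ g : SpecialLinearGroup (Fin n) F, (P : Subgroup (SpecialLinearGroup (Fin n) F)) =
      (unitriangularSL n F).map (MulAut.conj g).toMonoidHom := by
  obtain ⟨g, hg⟩ := MulAction.exists_smul_eq (SpecialLinearGroup (Fin n) F) (sylowSL p n) P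
  exact ⟨g, by rw [← hg]; rfl⟩

/-- Every `p`-subgroup of `GL_n` in characteristic `p` is conjugate into the unitriangular group. -/
theorem exists_conj_le_unitriangular {H : Subgroup (GL (Fin n) F)} (hH : IsPGroup p H) :
    ∃ g : GL (Fin n) F, H ≤ (unitriangular n F).map (MulAut.conj g).toMonoidHom := by
  obtain ⟨P, hP⟩ := hH.exists_le_sylow
  obtain ⟨g, hg⟩ := exists_conj_unitriangular p P
  exact ⟨g, hg ▸ hP⟩

theorem card_sylow_GL_eq (P : Sylow p (GL (Fin n) F)) :
    Nat.card P = Fintype.card F ^ (n * (n - 1) / 2) := by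
  rw [Nat.card_congr (P.equiv (sylowGL p n)).toEquiv, ← Nat.card_eq_fintype_card (α := F)]
  exact card_unitriangular

theorem card_sylow_SL_eq (P : Sylow p (SpecialLinearGroup (Fin n) F)) :
    Nat.card P = Fintype.card F ^ (n * (n - 1) / 2) := by
  rw [Nat.card_congr (P.equiv (sylowSL p n)).toEquiv, ← Nat.card_eq_fintype_card (α := F)]
  exact card_unitriangularSL

theorem card_sylow_normalizer (P : Sylow p (GL (Fin n) F)) :
    Nat.card (Subgroup.normalizer ((P : Subgroup (GL (Fin n) F)) : Set (GL (Fin n) F))) =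
      (Fintype.card F - 1) ^ n * Fintype.card F ^ (n * (n - 1) / 2) := by
  obtain ⟨g, hg⟩ := exists_conj_unitriangular p P
  rw [hg, ← Subgroup.map_equiv_normalizer_eq, Subgroup.card_map_of_injective (MulAut.conj g).injective,
    normalizer_unitriangular, card_borel, card_units_field, card_unitriangular, Nat.card_eq_fintype_card]

/-- The number of Sylow `p`-subgroups of `GL_n` times the order of a Borel subgroup is `|GL_n|`. -/
theorem card_sylow_GL_mul :
    Nat.card (Sylow p (GL (Fin n) F)) *
      ((Fintype.card F - 1) ^ n * Fintype.card F ^ (n * (n - 1) / 2)) = Nat.card (GL (Fin n) F) := by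
  rw [Sylow.card_eq_index_normalizer (sylowGL p n), ← card_sylow_normalizer p (sylowGL p n)]
  exact Subgroup.index_mul_card _

end Sylow

end Cfsg.Agent.GL
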