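import Cfsg.Agent.Lib.GL.IsometryOrders
import Cfsg.Agent.Lib.Forms.Classify
import Cfsg.Agent.Lib.ClassicalSimple.SympMatrix

/-!
Element orders in symplectic groups of odd characteristic: exponents attached to the orbit of an irreducible
factor, tori, regular unipotent elements and two-block elements in the standard form `sympForm`.
-/

set_option autoImplicit false

open Matrix Polynomial
open Cfsg.Agent.Forms (exists_alt_coords sympForm_eq_sum)

namespace Cfsg.Agent.GL

variable {F : Type*} [Field F]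

/-- Linear in both variables. -/
theorem isReflexiveSesq_sympForm (m : ℕ) : IsReflexiveSesq (RingHom.id F) (sympForm m F) where
  invol _ := rfl
  add_left u u' v := add_dotProduct _ _ _
  smul_left c u v := smul_dotProduct _ _ _
  add_right u v v' := by simp [sympForm, Matrix.mulVec_add, dotProduct_add]
  smul_right c u v := by simp [sympForm, Matrix.mulVec_smul]
  refl u v huv := by
    rw [sympForm_eq_sum] at huv ⊢
    rw [← neg_eq_zero, ← Finset.sum_neg_distrib, ← huv]
    exact Finset.sum_congr rfl fun i _ => by ring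
  nondeg v hv := by
    have h1 : Matrix.J (Fin m) F *ᵥ v = 0 := funext fun i => by
      have := hv (Pi.single i 1)
      rwa [sympForm, single_dotProduct, one_mul] at this
    exact Matrix.mulVec_injective_iff_isUnit.2
      ((Matrix.isUnit_iff_isUnit_det _).2 (Matrix.isUnit_det_J _ _)) (h1.trans (Matrix.mulVec_zero _).symm)

theorem sympForm_self (m : ℕ) (v : Fin m ⊕ Fin m → F) : sympForm m F v v = 0 := by
  rw [sympForm_eq_sum]; simp [mul_comm]

/-- Transport of isometries of an alternating form to the standard one. -/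
theorem exists_to_standard_symp {ι : Type*} [Fintype ι] [DecidableEq ι] {d : ℕ}
    (hcard : Fintype.card ι = 2 * d) {h : (ι → F) → (ι → F) → F}
    (hh : IsReflexiveSesq (RingHom.id F) h) (halt : ∀ v, h v v = 0) :
    ∃ Φ : Matrix ι ι F ≃ₐ[F] Matrix (Fin d ⊕ Fin d) (Fin d ⊕ Fin d) F, ∀ A,
      (Preserves h A → Preserves (sympForm d F) (Φ A)) := by
  let B : LinearMap.BilinForm F (ι → F) := LinearMap.mk₂ F (fun u v => h v u)
    (fun a b c => hh.add_right c a b) (fun c a b => hh.smul_right c b a)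
    (fun a b c => hh.add_left b c a) (fun c a b => hh.smul_left c b a)
  obtain ⟨m, k, e, he⟩ := exists_alt_coords B (fun v => halt v)
  have hk : k = 0 := by
    by_contra hk
    have h0 : e.symm (Pi.single (Sum.inr ⟨0, by omega⟩) 1) = 0 := hh.nondeg _ fun u => by
      change B (e.symm _) u = 0
      rw [he, e.apply_symm_apply]
      simp [sympForm, ← Pi.zero_def]
    simp at h0
  subst hk
  have hm : m = d := by
    have := e.finrank_eq
    rw [Module.finrank_fintype_fun_eq_card, Module.finrank_fintype_fun_eq_card, hcard] at this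
    simp at this
    omega
  subst hm
  let e' : (ι → F) ≃ₗ[F] (Fin m ⊕ Fin m → F) :=
    e.trans (LinearEquiv.funCongrLeft F F (Equiv.sumEmpty (Fin m ⊕ Fin m) (Fin 0)).symm)
  have he' : ∀ u v, h v u = sympForm m F (e' v) (e' u) := fun u v => by
    change B u v = _
    rw [he]
    rfl
  refine ⟨Matrix.toLinAlgEquiv'.trans ((LinearEquiv.conjAlgEquiv F e').trans LinearMap.toMatrixAlgEquiv'),
    fun A hA u v => ?_⟩
  change sympForm m F (LinearMap.toMatrix' (e'.toLinearMap ∘ₗ Matrix.toLin' A ∘ₗ e'.symm.toLinearMap) *ᵥ u)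
    (LinearMap.toMatrix' (e'.toLinearMap ∘ₗ Matrix.toLin' A ∘ₗ e'.symm.toLinearMap) *ᵥ v) = sympForm m F u v
  rw [LinearMap.toMatrix'_mulVec, LinearMap.toMatrix'_mulVec]
  simp only [LinearMap.comp_apply, LinearEquiv.coe_coe, Matrix.toLin'_apply]
  rw [← he', hA, he', LinearEquiv.apply_symm_apply, LinearEquiv.apply_symm_apply]

/-- A scalar isometry squares to one. -/
theorem symp_scalar_sq {n : ℕ} (hn : 0 < n) {c : F}
    (h : Preserves (sympForm n F) (c • (1 : Matrix (Fin n ⊕ Fin n) (Fin n ⊕ Fin n) F))) : c * c = 1 := by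
  have hh := isReflexiveSesq_sympForm (F := F) n
  have h1 := h (Pi.single (Sum.inr ⟨0, hn⟩) 1) (Pi.single (Sum.inl ⟨0, hn⟩) 1)
  have e : sympForm n F (Pi.single (Sum.inr ⟨0, hn⟩) 1) (Pi.single (Sum.inl ⟨0, hn⟩) 1) = 1 := by
    simp [sympForm_eq_sum, Pi.single_apply]
  rw [Matrix.smul_mulVec, Matrix.smul_mulVec, Matrix.one_mulVec, Matrix.one_mulVec, hh.smul_left, hh.smul_right,
    RingHom.id_apply, e, mul_one] at h1
  exact h1

variable [Fintype F]

/-- `f = f*`: a linear factor `X ∓ 1`, or even degree `2e` and a root of order dividing `q ^ e + 1`. -/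
theorem root_pow_of_self_rev {f : F[X]} (hm : f.Monic) (hf : Irreducible f) (h0 : f.coeff 0 ≠ 0)
    (hs : f ∣ conjRev (RingHom.id F) f) :
    (f.natDegree = 1 ∧ AdjoinRoot.root f ^ 2 = 1) ∨
      ∃ e, 0 < e ∧ f.natDegree = 2 * e ∧ AdjoinRoot.root f ^ (Fintype.card F ^ e + 1) = 1 := by
  have := Fact.mk hf
  set q := Fintype.card F with hq
  set α := AdjoinRoot.root f with hα
  have hα0 : α ≠ 0 := fun h => h0 (by
    have hX : f ∣ X := AdjoinRoot.mk_eq_zero.1 (by rw [AdjoinRoot.mk_X, ← hα, h])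
    have := (hf.associated_of_dvd Polynomial.irreducible_X hX).symm.dvd
    rwa [X_dvd_iff] at this)
  obtain ⟨p, hp⟩ := CharP.exists F
  have : Fact p.Prime := ⟨CharP.char_is_prime F p⟩
  have : Finite (AdjoinRoot f) :=
    Nat.finite_of_card_ne_zero (by rw [natCard_adjoinRoot hm]; exact pow_ne_zero _ Fintype.card_ne_zero)
  have := Fintype.ofFinite (AdjoinRoot f)
  have h1 : eval₂ (AdjoinRoot.of f) α⁻¹ f = 0 := by
    let : Invertible α⁻¹ := invertibleOfNonzero (inv_ne_zero hα0)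
    refine (eval₂_reverse_eq_zero_iff (AdjoinRoot.of f) α⁻¹ f).1 ?_
    rw [invOf_eq_inv, inv_inv]
    obtain ⟨u, hu⟩ := hs
    rw [conjRev, Polynomial.map_id] at hu
    rw [hu, eval₂_mul, AdjoinRoot.eval₂_root, zero_mul]
  let φ : AdjoinRoot f →ₐ[F] AdjoinRoot f := AdjoinRoot.liftAlgHom f (Algebra.ofId F (AdjoinRoot f)) α⁻¹ h1
  let g : AdjoinRoot f ≃ₐ[F] AdjoinRoot f := AlgEquiv.ofBijective φ
    ⟨φ.toRingHom.injective, Finite.surjective_of_injective φ.toRingHom.injective⟩
  obtain ⟨i, hi⟩ := FiniteField.exists_forall_apply_eq_pow F p (AdjoinRoot f) g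
  rw [← Fintype.card_eq_nat_card, ← hq] at hi
  set d := f.natDegree with hd
  have hper : ∀ k, α ^ q ^ (d * k) = α := fun k => by
    rw [pow_mul, hq, hd, ← natCard_adjoinRoot hm, ← Fintype.card_eq_nat_card]
    exact FiniteField.pow_card_pow _ _
  have hinv : α⁻¹ = α ^ q ^ i := by
    rw [← hi α]
    exact (AdjoinRoot.liftAlgHom_root f (Algebra.ofId F (AdjoinRoot f)) α⁻¹ h1).symm
  have h2 : α ^ q ^ (2 * i) = α := by
    rw [two_mul, pow_add, pow_mul, ← hinv, inv_pow, ← hinv, inv_inv]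
  have hdi : d ∣ 2 * i := by
    refine hf.natDegree_dvd_of_dvd_X_pow_card_pow_sub_X ?_
    rw [← Fintype.card_eq_nat_card, ← hq, ← AdjoinRoot.mk_eq_zero, map_sub, map_pow, AdjoinRoot.mk_X, h2,
      sub_self]
  have hself : d ∣ i → d = 1 ∧ α ^ 2 = 1 := by
    rintro ⟨k, rfl⟩
    rw [hper] at hinv
    have hsq : α ^ 2 = 1 := by
      rw [sq]
      conv_lhs => arg 1; rw [← hinv]
      exact inv_mul_cancel₀ hα0
    refine ⟨Nat.dvd_one.1 (hf.natDegree_dvd_of_dvd_X_pow_card_pow_sub_X ?_), hsq⟩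
    rw [← Fintype.card_eq_nat_card, pow_one, ← AdjoinRoot.mk_eq_zero, map_sub, map_pow, AdjoinRoot.mk_X,
      sub_eq_zero]
    change α ^ Fintype.card F = α
    rcases sq_eq_one_iff.1 hsq with h | h
    · rw [h, one_pow]
    · rw [h, show (-1 : AdjoinRoot f) = algebraMap F (AdjoinRoot f) (-1) by simp, ← map_pow,
        FiniteField.pow_card]
  rcases Nat.even_or_odd d with hev | hodd
  swap
  · exact Or.inl (hself ((Nat.Coprime.dvd_mul_left (Nat.coprime_two_right.2 hodd)).1 hdi))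
  obtain ⟨e, he⟩ := hev
  have he0 : 0 < e := by have := hf.natDegree_pos; omega
  obtain ⟨k, hk⟩ := hdi
  have hie : i = e * k := by rw [he, ← two_mul, mul_assoc] at hk; omega
  rcases Nat.even_or_odd k with hke | ⟨s, hs'⟩
  · obtain ⟨t, ht⟩ := hke
    exact Or.inl (hself ⟨t, by rw [hie, ht, he]; ring⟩)
  · refine Or.inr ⟨e, he0, by omega, ?_⟩
    have h3 : α⁻¹ = α ^ q ^ e := by
      rw [hinv, hie, hs', show e * (2 * s + 1) = d * s + e by rw [he]; ring, pow_add, pow_mul, hper]
    rw [pow_succ, ← h3, inv_mul_cancel₀ hα0]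

omit [Fintype F] in
/-- Isometries of `sympForm` form the symplectic group. -/
theorem mem_symplectic_iff_preserves {m : ℕ} {A : Matrix (Fin m ⊕ Fin m) (Fin m ⊕ Fin m) F} :
    A ∈ Matrix.symplecticGroup (Fin m) F ↔ Preserves (sympForm m F) A :=
  Forms.mem_symplecticGroup_iff_form

omit [Fintype F] in
/-- Central elements of the symplectic group are scalar. -/
theorem symp_center_scalar {m : ℕ} (z : Matrix.symplecticGroup (Fin m) F)
    (hz : z ∈ Subgroup.center (Matrix.symplecticGroup (Fin m) F)) :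
    ∃ c : F, (z : Matrix (Fin m ⊕ Fin m) (Fin m ⊕ Fin m) F) = c • 1 := by
  set Z : Matrix (Fin m ⊕ Fin m) (Fin m ⊕ Fin m) F := (z : Matrix (Fin m ⊕ Fin m) (Fin m ⊕ Fin m) F) with hZ
  obtain ⟨c, hc⟩ := LinearMap.exists_eq_smul_id_of_forall_notLinearIndependent (f := Matrix.toLin' Z) fun v hli => by
    have hv : v ≠ 0 := hli.ne_zero 0
    obtain ⟨x, hx⟩ : ∃ x, sympForm m F x v ≠ 0 := by
      by_contra h
      push Not at h
      exact hv ((isReflexiveSesq_sympForm m).nondeg v h)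
    have e := Subgroup.mem_center_iff.1 hz ⟨_, ClassicalSimple.sympTransvection_mem v 1⟩
    have e' : Cfsg.sympTransvection m v 1 * Z = Z * Cfsg.sympTransvection m v 1 :=
      congrArg Subtype.val e
    have e2 := congrArg (· *ᵥ x) e'
    simp only [← Matrix.mulVec_mulVec, ClassicalSimple.sympTransvection_mulVec, Matrix.mulVec_add,
      Matrix.mulVec_smul, ClassicalSimple.sympBilin_apply, one_mul] at e2
    rw [add_right_inj] at e2
    have := LinearIndependent.pair_iff.1 hli (sympForm m F (Z *ᵥ x) v) (-sympForm m F x v) (by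
      rw [Matrix.toLin'_apply, e2, neg_smul, add_neg_cancel])
    exact hx (neg_eq_zero.1 this.2)
  exact ⟨c, Matrix.toLin'.injective (by rw [hc, map_smul, Matrix.toLin'_one]; rfl)⟩

/-- Hyperbolic torus of `Sp_{2d}` of order `q ^ d - 1`. -/
theorem exists_split_torus_symp {d : ℕ} (hd : 0 < d) :
    ∃ Z : Matrix (Fin d ⊕ Fin d) (Fin d ⊕ Fin d) F, Preserves (sympForm d F) Z ∧
      (∀ k, Z ^ k = 1 ↔ Fintype.card F ^ d - 1 ∣ k) ∧
      ∀ k (c : F), Z ^ k = c • 1 → c * c = 1 → Fintype.card F ^ d - 1 ∣ k * 2 := by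
  obtain ⟨p, hp⟩ := CharP.exists F
  have : Fact p.Prime := ⟨CharP.char_is_prime F p⟩
  have : NeZero d := ⟨hd.ne'⟩
  let E := FiniteField.Extension F p d
  let b : Module.Basis (Fin d) F E := Module.finBasisOfFinrankEq F E (FiniteField.finrank_extension F p d)
  obtain ⟨g, hg⟩ := IsCyclic.exists_ofOrder_eq_natCard (α := Eˣ)
  rw [Nat.card_units, FiniteField.natCard_extension, ← Fintype.card_eq_nat_card] at hg
  have hord : orderOf (g : E) = Fintype.card F ^ d - 1 := by rw [orderOf_units, hg]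
  set B : Matrix (Fin d) (Fin d) F := Algebra.leftMulMatrix b (g : E) with hB
  have hBu : IsUnit B.det := (Matrix.isUnit_iff_isUnit_det _).1 (g.isUnit.map (Algebra.leftMulMatrix b))
  set D : Matrix (Fin d) (Fin d) F := (B⁻¹)ᵀ with hD
  have hBk : ∀ k, B ^ k = 1 ↔ Fintype.card F ^ d - 1 ∣ k := fun k => by
    rw [hB, ← map_pow, map_eq_one_iff _ (Algebra.leftMulMatrix_injective b), ← orderOf_dvd_iff_pow_eq_one, hord]
  refine ⟨Matrix.fromBlocks B 0 0 D, ?_, fun k => ?_, fun k c hk hc => ?_⟩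
  · rw [← mem_symplectic_iff_preserves, SymplecticGroup.mem_iff, Matrix.J, Matrix.fromBlocks_transpose,
      Matrix.fromBlocks_multiply, Matrix.fromBlocks_multiply]
    simp [hD, Matrix.mul_nonsing_inv _ hBu, ← Matrix.transpose_mul, Matrix.transpose_transpose]
  · rw [Matrix.fromBlocks_diagonal_pow, ← Matrix.fromBlocks_one, Matrix.fromBlocks_inj]
    refine ⟨fun h1 => (hBk k).1 h1.1, fun h1 => ⟨(hBk k).2 h1, rfl, rfl, ?_⟩⟩
    rw [hD, ← Matrix.transpose_pow, Matrix.inv_pow', (hBk k).2 h1, inv_one, Matrix.transpose_one]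
  · rw [Matrix.fromBlocks_diagonal_pow, ← Matrix.fromBlocks_one, Matrix.fromBlocks_smul, Matrix.fromBlocks_inj] at hk
    have hk'' : (g : E) ^ k = algebraMap F E c := by
      apply Algebra.leftMulMatrix_injective b
      rw [map_pow, ← hB, hk.1, AlgHom.commutes, Algebra.algebraMap_eq_smul_one]
    rw [← hord, orderOf_dvd_iff_pow_eq_one, pow_mul, hk'', ← map_pow, sq, hc, map_one]

/-- Torus of `Sp_{2e}` of order `q ^ e + 1`, any characteristic. -/
theorem exists_nonsplit_torus_symp_any {e : ℕ} (he : 0 < e) :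
    ∃ Z : Matrix (Fin e ⊕ Fin e) (Fin e ⊕ Fin e) F, Preserves (sympForm e F) Z ∧
      (∀ k, Z ^ k = 1 ↔ Fintype.card F ^ e + 1 ∣ k) ∧
      ∀ k (c : F), Z ^ k = c • 1 → c * c = 1 → Fintype.card F ^ e + 1 ∣ k * 2 := by
  obtain ⟨p, hp⟩ := CharP.exists F
  have : Fact p.Prime := ⟨CharP.char_is_prime F p⟩
  obtain ⟨a, -, hqp⟩ := FiniteField.card F p
  set q := Fintype.card F with hq
  have : NeZero (2 * e) := ⟨by omega⟩
  let E := FiniteField.Extension F p (2 * e)
  have : CharP E p := charP_of_injective_algebraMap (algebraMap F E).injective p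
  let b : Module.Basis (Fin (2 * e)) F E :=
    Module.finBasisOfFinrankEq F E (FiniteField.finrank_extension F p (2 * e))
  obtain ⟨g, hg⟩ := IsCyclic.exists_ofOrder_eq_natCard (α := Eˣ)
  rw [Nat.card_units, FiniteField.natCard_extension, ← Fintype.card_eq_nat_card, ← hq] at hg
  have hqe : 2 ≤ q ^ e := le_trans Fintype.one_lt_card (Nat.le_self_pow he.ne' q)
  have hcard : q ^ (2 * e) - 1 = (q ^ e - 1) * (q ^ e + 1) := by
    rw [show q ^ (2 * e) = (q ^ e) ^ 2 by rw [← pow_mul, mul_comm], mul_comm, ← Nat.sq_sub_sq, one_pow]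
  set z : Eˣ := g ^ (q ^ e - 1) with hz
  have hord : orderOf (z : E) = q ^ e + 1 := by
    rw [orderOf_units, hz, orderOf_pow' _ (by omega), hg, hcard, Nat.gcd_mul_right_left,
      Nat.mul_div_cancel_left _ (by omega)]
  have hzq : (z : E) ^ (q ^ e + 1) = 1 := by rw [← hord, pow_orderOf_eq_one]
  let ψ : E →+* E := iterateFrobenius E p (a * e)
  have hψ : ∀ x, ψ x = x ^ q ^ e := fun x => by
    rw [hqp, ← pow_mul]; exact iterateFrobenius_def p (a * e) x
  have hψam : ∀ c : F, ψ (algebraMap F E c) = algebraMap F E c := fun c => by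
    rw [hψ, ← map_pow, FiniteField.pow_card_pow]
  have hψψ : ∀ x : E, ψ (ψ x) = x := by
    intro x
    have := Fintype.ofFinite E
    have hc : Fintype.card E = q ^ (2 * e) := by
      rw [Fintype.card_eq_nat_card, FiniteField.natCard_extension, ← Fintype.card_eq_nat_card]
    rw [hψ, hψ, ← pow_mul, ← pow_add, ← two_mul, ← hc, FiniteField.pow_card]
  have htr : ∀ w : E, Algebra.trace F E (ψ w) = Algebra.trace F E w := by
    intro w
    apply (algebraMap F E).injective
    conv_rhs => rw [← hψam]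
    rw [FiniteField.algebraMap_trace_eq_sum_pow, FiniteField.algebraMap_trace_eq_sum_pow, map_sum]
    exact Finset.sum_congr rfl fun i _ => (map_pow ψ w _).symm
  -- an element negated by the conjugation
  set γ : E := (g : E) - ψ (g : E) with hγdef
  have hγ : ψ γ = -γ := by rw [hγdef, map_sub, hψψ, neg_sub]
  have hγ0 : γ ≠ 0 := by
    intro h0
    have h1 : (g : E) ^ (q ^ e - 1) = 1 := by
      refine mul_right_cancel₀ g.ne_zero ?_
      rw [← pow_succ, Nat.sub_add_cancel (by omega), one_mul, ← hψ]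
      exact (sub_eq_zero.1 h0).symm
    rw [← Units.val_pow_eq_pow_val, ← hz] at h1
    rw [h1, orderOf_one] at hord
    omega
  let X' : (Fin (2 * e) → F) ≃ₗ[F] E := b.equivFun.symm
  let h : (Fin (2 * e) → F) → (Fin (2 * e) → F) → F := fun u v =>
    Algebra.trace F E (γ * (X' u * ψ (X' v)))
  have hskew : ∀ u v, h v u = -h u v := fun u v => by
    show Algebra.trace F E _ = -Algebra.trace F E _
    rw [← htr (γ * (X' u * ψ (X' v))), map_mul ψ, map_mul ψ, hψψ, hγ, ← map_neg, neg_mul, neg_neg, mul_comm (X' v)]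
  have hh : IsReflexiveSesq (RingHom.id F) h :=
    { invol := fun _ => rfl
      add_left := fun u u' v => by simp [h, add_mul, mul_add]
      smul_left := fun c u v => by simp [h]
      add_right := fun u v v' => by simp [h, mul_add]
      smul_right := fun c u v => by
        show Algebra.trace F E (γ * (X' u * ψ (X' (c • v)))) = _
        rw [map_smul, Algebra.smul_def, map_mul ψ, hψam, ← Algebra.smul_def, mul_smul_comm, mul_smul_comm,
          map_smul, smul_eq_mul, RingHom.id_apply]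
      refl := fun u v huv => by rw [hskew, huv, neg_zero]
      nondeg := fun v hv => by
        have : γ * ψ (X' v) = 0 := (traceForm_nondegenerate F E).2 _ fun x => by
          have := hv (X'.symm x)
          simpa [h, Algebra.traceForm_apply, mul_left_comm] using this
        simpa [hγ0] using this }
  obtain ⟨Φ, hΦ⟩ := exists_to_standard_symp (d := e) (Fintype.card_fin _) hh (fun v => by
    have hw : ψ (X' v * ψ (X' v)) = X' v * ψ (X' v) := by rw [map_mul, hψψ, mul_comm]
    show Algebra.trace F E _ = 0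
    rw [hγdef, sub_mul, map_sub, sub_eq_zero]
    conv_rhs => rw [← hw, ← map_mul ψ, htr])
  refine ⟨Φ (Algebra.leftMulMatrix b z), ?_, fun k => ?_, fun k c hk hc => ?_⟩
  · refine hΦ _ fun u v => ?_
    have hX : ∀ u, X' (Algebra.leftMulMatrix b (z : E) *ᵥ u) = (z : E) * X' u := fun u => by
      rw [LinearEquiv.symm_apply_eq]
      conv_lhs => rw [show u = ⇑(b.repr (X' u)) from (b.equivFun.apply_symm_apply u).symm]
      exact Algebra.leftMulMatrix_mulVec_repr b _ _
    simp only [h, hX, hψ]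
    rw [show γ * ((z : E) * X' u * ((z : E) * X' v) ^ q ^ e) =
        (z : E) ^ (q ^ e + 1) * (γ * (X' u * X' v ^ q ^ e)) by
      rw [mul_pow, pow_succ]; ring, hzq, one_mul]
  · rw [← map_pow, map_eq_one_iff _ Φ.injective, ← map_pow, map_eq_one_iff _ (Algebra.leftMulMatrix_injective b),
      ← orderOf_dvd_iff_pow_eq_one, hord]
  · have hk' : (z : E) ^ k = algebraMap F E c := by
      apply Algebra.leftMulMatrix_injective b
      apply Φ.injective
      rw [map_pow, map_pow, hk, AlgHom.commutes, AlgEquiv.commutes, Algebra.algebraMap_eq_smul_one]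
    rw [← hord, orderOf_dvd_iff_pow_eq_one, pow_mul, hk', ← map_pow, sq, hc, map_one]

/-- Torus of `Sp_{2e}` of order `q ^ e + 1`. -/
theorem exists_nonsplit_torus_symp (_hodd : Odd (Fintype.card F)) {e : ℕ} (he : 0 < e) :
    ∃ Z : Matrix (Fin e ⊕ Fin e) (Fin e ⊕ Fin e) F, Preserves (sympForm e F) Z ∧
      (∀ k, Z ^ k = 1 ↔ Fintype.card F ^ e + 1 ∣ k) ∧
      ∀ k (c : F), Z ^ k = c • 1 → c * c = 1 → Fintype.card F ^ e + 1 ∣ k * 2 :=
  exists_nonsplit_torus_symp_any he

omit [Fintype F] in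
/-- The shift, symplectic copy. -/
theorem shift_pow_eq_zero {s : ℕ} (N₀ : Matrix (Fin s) (Fin s) F)
    (hN : ∀ i j, N₀ i j = if (j : ℕ) = i + 1 then 1 else 0) (k : ℕ) : N₀ ^ k = 0 ↔ s ≤ k := by
  have hpow : ∀ (k : ℕ) (i j : Fin s), (N₀ ^ k) i j = if (j : ℕ) = i + k then 1 else 0 := by
    intro k
    induction k with
    | zero => intro i j; simp [Matrix.one_apply, Fin.ext_iff, eq_comm]
    | succ k ih =>
      intro i j
      rw [pow_succ, Matrix.mul_apply]
      simp only [ih, hN, mul_ite, mul_one, mul_zero, ← ite_and]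
      by_cases hj : (j : ℕ) = i + (k + 1)
      · rw [if_pos hj, Finset.sum_eq_single_of_mem (⟨i + k, by omega⟩ : Fin s) (Finset.mem_univ _)]
        · exact if_pos ⟨by simp only; omega, rfl⟩
        · intro b _ hb
          rw [if_neg]
          intro hc
          exact hb (Fin.ext hc.2)
      · rw [if_neg hj]
        exact Finset.sum_eq_zero fun b _ => if_neg (by omega)
  constructor
  · intro h
    by_contra hk
    have := congrFun (congrFun h ⟨0, by omega⟩) ⟨k, by omega⟩
    rw [hpow, if_pos (by simp)] at this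
    exact one_ne_zero this
  · intro hk
    ext i j
    rw [hpow, if_neg (by omega), Matrix.zero_apply]

/-- Regular unipotent element of `Sp_{2s}`, by a Cayley transform of the shift. -/
theorem exists_symp_jordan (p : ℕ) [hp : Fact p.Prime] [CharP F p] (hp2 : p ≠ 2) {s : ℕ} (hs : 0 < s) :
    ∃ J : Matrix (Fin s ⊕ Fin s) (Fin s ⊕ Fin s) F, Preserves (sympForm s F) J ∧
      ∀ N (c : F), J ^ N = c • 1 → c = 1 ∧ p ^ Nat.clog p (2 * s) ∣ N := by
  have h2 : (2 : F) ≠ 0 := by
    rw [show (2 : F) = ((2 : ℕ) : F) by norm_num, Ne, CharP.cast_eq_zero_iff F p]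
    exact fun h => hp2 ((Nat.prime_dvd_prime_iff_eq hp.out Nat.prime_two).1 h)
  set N₀ : Matrix (Fin (2 * s)) (Fin (2 * s)) F :=
    Matrix.of fun i j => if (j : ℕ) = i + 1 then 1 else 0 with hN₀
  have hdet : ∀ c : F, IsUnit (1 + c • N₀).det := fun c => by
    have hut : (1 + c • N₀).IsUpperTriangular := by
      intro i j hij
      have h1 : (i : ℕ) ≠ j := Fin.val_ne_of_ne (ne_of_gt hij)
      have h2 : (j : ℕ) ≠ i + 1 := by have : (j : ℕ) < i := hij; omega
      simp [hN₀, Matrix.one_apply, Fin.ext_iff, h1, h2]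
    rw [Matrix.det_of_isUpperTriangular hut]
    simp [hN₀]
  let h : (Fin (2 * s) → F) → (Fin (2 * s) → F) → F := fun u v => ∑ i : Fin (2 * s), (-1) ^ (i : ℕ) * (u i * v i.rev)
  have hrev : ∀ i : Fin (2 * s), (-1 : F) ^ (i.rev : ℕ) = -(-1) ^ (i : ℕ) := fun i => by
    rcases Nat.even_or_odd (i : ℕ) with hi | hi
    · rw [hi.neg_one_pow, Odd.neg_one_pow]
      rw [Fin.val_rev, Nat.odd_iff]; rw [Nat.even_iff] at hi; omega
    · rw [hi.neg_one_pow, Even.neg_one_pow, neg_neg]
      rw [Fin.val_rev, Nat.even_iff]; rw [Nat.odd_iff] at hi; omega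
  have hskew : ∀ u v, h v u = -h u v := fun u v => by
    simp only [h, ← Finset.sum_neg_distrib]
    refine Fintype.sum_equiv Fin.revPerm _ _ fun i => ?_
    simp only [Fin.revPerm_apply, Fin.rev_rev, hrev]
    ring
  have hh : IsReflexiveSesq (RingHom.id F) h :=
    { invol := fun _ => rfl
      add_left := fun u u' v => by simp [h, add_mul, mul_add, Finset.sum_add_distrib]
      smul_left := fun c u v => by simp [h, Finset.mul_sum, mul_assoc, mul_left_comm]
      add_right := fun u v v' => by simp [h, mul_add, Finset.sum_add_distrib]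
      smul_right := fun c u v => by simp [h, Finset.mul_sum, mul_left_comm]
      refl := fun u v huv => by rw [hskew, huv, neg_zero]
      nondeg := fun v hv => by
        funext i
        have := hv (Pi.single i.rev 1)
        simpa [h, Pi.single_apply] using this }
  have hN : ∀ u v, h (N₀ *ᵥ u) v = -h u (N₀ *ᵥ v) := by
    intro u v
    simp only [h, hN₀, Matrix.mulVec, dotProduct, Matrix.of_apply, ite_mul, one_mul, zero_mul,
      Finset.mul_sum, Finset.sum_mul, mul_ite, mul_zero, ← Finset.sum_neg_distrib]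
    rw [Finset.sum_comm]
    refine Finset.sum_congr rfl fun i _ => ?_
    refine Fintype.sum_equiv Fin.revPerm _ _ fun j => ?_
    simp only [Fin.revPerm_apply, Fin.val_rev]
    by_cases hij : (i : ℕ) = j + 1
    · rw [if_pos hij, if_pos (by omega), hij, pow_succ]
      ring
    · rw [if_neg hij, if_neg (by omega), neg_zero]
  obtain ⟨Φ, hΦ⟩ := exists_to_standard_symp (d := s) (Fintype.card_fin _) hh (fun v => by
    have hvv : (2 : F) * h v v = 0 := by
      have := hskew v v
      linear_combination this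
    exact (mul_eq_zero.1 hvv).resolve_left h2)
  set P₁ := 1 + (1 : F) • N₀ with hP₁
  set M₁ := 1 + (-1 : F) • N₀ with hM₁
  set U := P₁ * M₁⁻¹ with hU
  have hpres : Preserves h U := by
    intro u v
    obtain ⟨u', rfl⟩ : ∃ u', M₁ *ᵥ u' = u :=
      ⟨M₁⁻¹ *ᵥ u, by rw [Matrix.mulVec_mulVec, Matrix.mul_nonsing_inv _ (hdet _), Matrix.one_mulVec]⟩
    obtain ⟨v', rfl⟩ : ∃ v', M₁ *ᵥ v' = v :=
      ⟨M₁⁻¹ *ᵥ v, by rw [Matrix.mulVec_mulVec, Matrix.mul_nonsing_inv _ (hdet _), Matrix.one_mulVec]⟩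
    simp only [hU, Matrix.mulVec_mulVec, Matrix.mul_assoc, hM₁, Matrix.nonsing_inv_mul _ (hdet _), Matrix.mul_one]
    simp only [hP₁, Matrix.add_mulVec, Matrix.one_mulVec, Matrix.smul_mulVec, hh.add_left, hh.add_right,
      hh.smul_left, hh.smul_right, hN, RingHom.id_apply]
    ring
  have hUsub : U - 1 = ((2 : F) • N₀) * M₁⁻¹ := by
    conv_lhs => arg 2; rw [← Matrix.mul_nonsing_inv M₁ (hdet _)]
    rw [hU, ← Matrix.sub_mul, hP₁, hM₁, add_sub_add_left_eq_sub, ← sub_smul]
    norm_num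
  have hcomm : Commute ((2 : F) • N₀) M₁⁻¹ := by
    have h1 : Commute ((2 : F) • N₀) M₁ :=
      ((Commute.one_right _).add_right ((Commute.refl N₀).smul_right _)).smul_left _
    calc (2 : F) • N₀ * M₁⁻¹ = M₁⁻¹ * (M₁ * ((2 : F) • N₀)) * M₁⁻¹ := by
          rw [Matrix.nonsing_inv_mul_cancel_left _ _ (hdet _)]
      _ = M₁⁻¹ * ((2 : F) • N₀) := by
          rw [← h1.eq, ← Matrix.mul_assoc, Matrix.mul_nonsing_inv_cancel_right _ _ (hdet _)]
  have : Nonempty (Fin (2 * s)) := ⟨⟨0, by omega⟩⟩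
  have hkey : ∀ j, U ^ p ^ j = 1 ↔ 2 * s ≤ p ^ j := fun j => by
    rw [← sub_eq_zero, ← one_pow (M := Matrix (Fin (2 * s)) (Fin (2 * s)) F) (p ^ j),
      ← sub_pow_char_pow_of_commute (p := p) (h := Commute.one_right U), hUsub, hcomm.mul_pow, _root_.smul_pow]
    have hMu : IsUnit (M₁⁻¹ ^ p ^ j) := by
      refine IsUnit.pow _ ?_
      rw [Matrix.isUnit_nonsing_inv_iff, Matrix.isUnit_iff_isUnit_det]
      exact hdet _
    rw [hMu.mul_left_eq_zero, smul_eq_zero, or_iff_right (pow_ne_zero _ h2),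
      shift_pow_eq_zero N₀ (fun i j => rfl)]
  set e := Nat.clog p (2 * s) with he
  have hone : U ^ p ^ e = 1 := (hkey e).2 (Nat.le_pow_clog hp.out.one_lt _)
  refine ⟨Φ U, hΦ U hpres, fun N c hN' => ?_⟩
  have hUN : U ^ N = c • 1 := by
    apply Φ.injective
    rw [map_pow, hN', map_smul, map_one]
  have hc : c = 1 := by
    apply eq_one_of_pow_char_pow p e
    have h1 : (c • (1 : Matrix (Fin (2 * s)) (Fin (2 * s)) F)) ^ p ^ e = 1 := by
      rw [← hUN, pow_right_comm, hone, one_pow]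
    rw [_root_.smul_pow, one_pow] at h1
    simpa using congrFun (congrFun h1 ⟨0, by omega⟩) ⟨0, by omega⟩
  refine ⟨hc, ?_⟩
  rw [hc, one_smul, ← orderOf_dvd_iff_pow_eq_one] at hUN
  have hord : orderOf U = p ^ e := by
    rcases Nat.eq_zero_or_pos e with h0 | h0
    · rw [h0] at hone ⊢
      simpa using hone
    · obtain ⟨e', he'⟩ := Nat.exists_eq_add_one_of_ne_zero h0.ne'
      rw [he'] at hone ⊢
      refine orderOf_eq_prime_pow (fun h1 => ?_) hone
      have := Nat.clog_le_of_le_pow (b := p) ((hkey e').1 h1)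
      omega
  rwa [hord] at hUN

/-- The index equivalence for two symplectic blocks. -/
def sympBlockEquiv {d₁ d₂ n : ℕ} (h : d₁ + d₂ = n) :
    (Fin d₁ ⊕ Fin d₁) ⊕ (Fin d₂ ⊕ Fin d₂) ≃ Fin n ⊕ Fin n :=
  (Equiv.sumSumSumComm _ _ _ _).trans
    (Equiv.sumCongr (finSumFinEquiv.trans (finCongr h)) (finSumFinEquiv.trans (finCongr h)))

/-- Two symplectic blocks. -/
def sympBlock {d₁ d₂ n : ℕ} (h : d₁ + d₂ = n) :
    Matrix (Fin d₁ ⊕ Fin d₁) (Fin d₁ ⊕ Fin d₁) F × Matrix (Fin d₂ ⊕ Fin d₂) (Fin d₂ ⊕ Fin d₂) F →*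
      Matrix (Fin n ⊕ Fin n) (Fin n ⊕ Fin n) F where
  toFun A := Matrix.reindexAlgEquiv F F (sympBlockEquiv h) (Matrix.fromBlocks A.1 0 0 A.2)
  map_one' := by rw [Prod.fst_one, Prod.snd_one, Matrix.fromBlocks_one, map_one]
  map_mul' A B := by
    simp only [← map_mul, Matrix.fromBlocks_multiply, Matrix.mul_zero, Matrix.zero_mul, add_zero, zero_add,
      Prod.fst_mul, Prod.snd_mul]

omit [Fintype F] in
theorem sympBlock_eq_smul_one {d₁ d₂ n : ℕ} (h : d₁ + d₂ = n)
    (A : Matrix (Fin d₁ ⊕ Fin d₁) (Fin d₁ ⊕ Fin d₁) F × Matrix (Fin d₂ ⊕ Fin d₂) (Fin d₂ ⊕ Fin d₂) F) (c : F) :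
    sympBlock h A = c • 1 ↔ A.1 = c • 1 ∧ A.2 = c • 1 := by
  change Matrix.reindexAlgEquiv F F (sympBlockEquiv h) _ = c • 1 ↔ _
  rw [← map_one (Matrix.reindexAlgEquiv F F (sympBlockEquiv h)), ← map_smul, EquivLike.apply_eq_iff_eq,
    ← Matrix.fromBlocks_one, Matrix.fromBlocks_smul, smul_zero, smul_zero, Matrix.fromBlocks_inj]
  simp

omit [Fintype F] in
theorem preserves_sympBlock {d₁ d₂ n : ℕ} (h : d₁ + d₂ = n)
    {A₁ : Matrix (Fin d₁ ⊕ Fin d₁) (Fin d₁ ⊕ Fin d₁) F} {A₂ : Matrix (Fin d₂ ⊕ Fin d₂) (Fin d₂ ⊕ Fin d₂) F}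
    (h₁ : Preserves (sympForm d₁ F) A₁) (h₂ : Preserves (sympForm d₂ F) A₂) :
    Preserves (sympForm n F) (sympBlock h (A₁, A₂)) := by
  set E := sympBlockEquiv h with hE
  have hsplit : ∀ u v : Fin n ⊕ Fin n → F, sympForm n F u v =
      sympForm d₁ F (fun i => u (E (Sum.inl i))) (fun i => v (E (Sum.inl i))) +
        sympForm d₂ F (fun i => u (E (Sum.inr i))) (fun i => v (E (Sum.inr i))) := fun u v => by
    subst h
    simp [hE, sympBlockEquiv, sympForm_eq_sum, Fin.sum_univ_add]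
    ring
  have e : ∀ w : Fin n ⊕ Fin n → F, ∀ x, (sympBlock h (A₁, A₂) *ᵥ w) (E x) =
      (Matrix.fromBlocks A₁ 0 0 A₂ *ᵥ (w ∘ E)) x := fun w x => by
    change ((Matrix.fromBlocks A₁ 0 0 A₂).submatrix E.symm E.symm *ᵥ w) (E x) = _
    rw [Matrix.submatrix_mulVec_equiv]
    simp
  intro u v
  rw [hsplit, hsplit]
  simp only [e, Matrix.fromBlocks_mulVec, Sum.elim_inl, Sum.elim_inr, Matrix.zero_mulVec, add_zero, zero_add]
  exact congrArg₂ (· + ·) (h₁ _ _) (h₂ _ _)

end Cfsg.Agent.GL
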