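import Cfsg.Agent.Lib.GL.IsometryOrders
import Cfsg.Agent.Lib.Forms.Classify
import Cfsg.Agent.Lib.Forms.HermCenter

/-!
Element orders in unitary groups: exponents attached to the orbit of an irreducible factor, and tori, regular
unipotent elements and two-block elements in the standard form `hermForm`.
-/

set_option autoImplicit false

open Matrix Polynomial
open Cfsg.Agent.Forms (qEnd qEnd_apply qEnd_qEnd one_lt_q exists_prime_pow_q hermB exists_herm_coords)

namespace Cfsg.Agent.GL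

variable {F : Type*} [Field F] [Fintype F] {q : ℕ} (hF : Fintype.card F = q ^ 2)

/-- `(q ^ d + 1) / (q + 1)`. -/
def oddIndex (q d : ℕ) : ℕ := (q ^ d + 1) / (q + 1)

/-- `(q ^ (2 * d) - 1) / (q + 1)`. -/
def evenIndex (q d : ℕ) : ℕ := (q ^ (2 * d) - 1) / (q + 1)

theorem oddIndex_mul (q : ℕ) {d : ℕ} (hd : Odd d) : oddIndex q d * (q + 1) = q ^ d + 1 :=
  Nat.div_mul_cancel (by simpa using Odd.nat_add_dvd_pow_add_pow q 1 hd)

theorem evenIndex_mul (q d : ℕ) : evenIndex q d * (q + 1) = q ^ (2 * d) - 1 := by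
  refine Nat.div_mul_cancel ?_
  rw [pow_mul, show (q ^ 2) ^ d - 1 = (q ^ 2) ^ d - 1 ^ d by rw [one_pow]]
  refine dvd_trans ?_ (Nat.sub_dvd_pow_sub_pow _ _ _)
  exact ⟨q - 1, by rw [← Nat.sq_sub_sq q 1, one_pow]⟩

theorem normIndex_sq {q d : ℕ} (hq : 1 < q) (hd : Odd d) :
    normIndex (q ^ 2) d = oddIndex q d * normIndex q d := by
  refine Nat.eq_of_mul_eq_mul_right (show 0 < q ^ 2 - 1 by have := Nat.one_lt_pow two_ne_zero hq; omega) ?_
  rw [normIndex_mul, ← pow_mul, mul_comm 2 d, pow_mul]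
  conv_rhs => rw [← one_pow 2, Nat.sq_sub_sq, mul_mul_mul_comm, oddIndex_mul q hd, normIndex_mul]
  conv_lhs => rw [← one_pow 2, Nat.sq_sub_sq]

theorem oddIndex_dvd_evenIndex (q : ℕ) {d : ℕ} (hd : Odd d) : oddIndex q d ∣ evenIndex q d := by
  refine Nat.dvd_of_mul_dvd_mul_right (Nat.succ_pos q) ?_
  rw [oddIndex_mul q hd, evenIndex_mul]
  exact ⟨q ^ d - 1, by rw [← Nat.sq_sub_sq (q ^ d) 1, one_pow, ← pow_mul, mul_comm]⟩

include hF in
/-- The conjugates of the root. -/
theorem exists_conjugate_eq_pow {f : F[X]} (hm : f.Monic) (hf : Irreducible f) (β : AdjoinRoot f)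
    (hβ : eval₂ (AdjoinRoot.of f) β f = 0) : ∃ i, β = AdjoinRoot.root f ^ (q ^ 2) ^ i := by
  have := Fact.mk hf
  obtain ⟨p, hp⟩ := CharP.exists F
  have : Fact p.Prime := ⟨CharP.char_is_prime F p⟩
  have : Finite (AdjoinRoot f) :=
    Nat.finite_of_card_ne_zero (by rw [natCard_adjoinRoot hm]; exact pow_ne_zero _ Fintype.card_ne_zero)
  let φ : AdjoinRoot f →ₐ[F] AdjoinRoot f := AdjoinRoot.liftAlgHom f (Algebra.ofId F (AdjoinRoot f)) β hβ
  let g : AdjoinRoot f ≃ₐ[F] AdjoinRoot f := AlgEquiv.ofBijective φ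
    ⟨φ.toRingHom.injective, Finite.surjective_of_injective φ.toRingHom.injective⟩
  obtain ⟨i, hi⟩ := FiniteField.exists_forall_apply_eq_pow F p (AdjoinRoot f) g
  refine ⟨i, ?_⟩
  have := hi (AdjoinRoot.root f)
  rw [← Fintype.card_eq_nat_card, hF] at this
  rw [← this]
  exact (AdjoinRoot.liftAlgHom_root f (Algebra.ofId F (AdjoinRoot f)) β hβ).symm

include hF in
theorem root_pow_card {f : F[X]} (hm : f.Monic) (hf : Irreducible f) (k : ℕ) :
    AdjoinRoot.root f ^ (q ^ 2) ^ (f.natDegree * k) = AdjoinRoot.root f := by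
  have := Fact.mk hf
  have : Finite (AdjoinRoot f) :=
    Nat.finite_of_card_ne_zero (by rw [natCard_adjoinRoot hm]; exact pow_ne_zero _ Fintype.card_ne_zero)
  have := Fintype.ofFinite (AdjoinRoot f)
  rw [pow_mul, ← hF, ← natCard_adjoinRoot hm, ← Fintype.card_eq_nat_card]
  exact FiniteField.pow_card_pow _ _

/-- `f = f*`: the degree is odd and the root has order dividing `q ^ d + 1`. -/
theorem root_pow_of_self_conj {f : F[X]} (hm : f.Monic) (hf : Irreducible f) (h0 : f.coeff 0 ≠ 0)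
    (hs : f ∣ conjRev (qEnd hF) f) :
    Odd f.natDegree ∧ AdjoinRoot.root f ^ (q ^ f.natDegree + 1) = 1 := by
  have := Fact.mk hf
  set α := AdjoinRoot.root f with hα
  have hα0 : α ≠ 0 := fun h => h0 (by
    have hX : f ∣ X := AdjoinRoot.mk_eq_zero.1 (by rw [AdjoinRoot.mk_X, ← hα, h])
    have := (hf.associated_of_dvd Polynomial.irreducible_X hX).symm.dvd
    rwa [X_dvd_iff] at this)
  obtain ⟨p, k, hp, hchar, hq⟩ := exists_prime_pow_q hF
  have := Fact.mk hp
  have : CharP (AdjoinRoot f) p := charP_of_injective_algebraMap (algebraMap F (AdjoinRoot f)).injective p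
  let φ : AdjoinRoot f →+* AdjoinRoot f := iterateFrobenius (AdjoinRoot f) p k
  have hφ : ∀ x, φ x = x ^ q := fun x => by rw [hq]; rfl
  have h1 : eval₂ (AdjoinRoot.of f) α⁻¹ (f.map (qEnd hF)) = 0 := by
    let : Invertible α⁻¹ := invertibleOfNonzero (inv_ne_zero hα0)
    refine (eval₂_reverse_eq_zero_iff (AdjoinRoot.of f) α⁻¹ (f.map (qEnd hF))).1 ?_
    rw [invOf_eq_inv, inv_inv]
    obtain ⟨u, hu⟩ := hs
    rw [conjRev] at hu
    rw [hu, eval₂_mul, AdjoinRoot.eval₂_root, zero_mul]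
  have h2 : eval₂ (AdjoinRoot.of f) (α⁻¹ ^ q) f = 0 := by
    have := congrArg φ h1
    rw [eval₂_map, hom_eval₂, map_zero, hφ] at this
    rw [← this]
    congr 1
    refine RingHom.ext fun c => ?_
    simp only [RingHom.comp_apply, hφ]
    rw [← map_pow, ← qEnd_apply hF, qEnd_qEnd]
  obtain ⟨i, hi⟩ := exists_conjugate_eq_pow hF hm hf _ h2
  set d := f.natDegree
  have hd : 0 < d := hf.natDegree_pos
  have hi' : α⁻¹ ^ q = α ^ (q ^ 2) ^ (i + d) := by
    rw [pow_add, mul_comm, pow_mul, ← mul_one d, root_pow_card hF hm hf, hi]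
  obtain ⟨j, hj⟩ : ∃ j, 2 * (i + d) = j + 1 := ⟨2 * (i + d) - 1, by omega⟩
  have hjodd : Odd j := ⟨i + d - 1, by omega⟩
  have h3 : α ^ (q ^ j + 1) = 1 := by
    apply φ.injective
    rw [map_one, hφ, ← pow_mul, add_mul, one_mul, pow_add, ← pow_succ, ← hj, pow_mul, ← hi', ← mul_pow,
      inv_mul_cancel₀ hα0, one_pow]
  have h4 : α ^ (q ^ 2) ^ j = α := by
    have hpos : 1 ≤ q ^ j := Nat.one_le_pow _ _ (by have := one_lt_q hF; omega)
    have e : (q ^ 2) ^ j = (q ^ j + 1) * (q ^ j - 1) + 1 := by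
      obtain ⟨t, ht⟩ := Nat.exists_eq_add_of_le hpos
      rw [← pow_mul, mul_comm 2 j, pow_mul, ht, Nat.add_sub_cancel_left]
      ring
    rw [e, pow_succ, pow_mul, h3, one_pow, one_mul]
  have hdj : d ∣ j := by
    refine hf.natDegree_dvd_of_dvd_X_pow_card_pow_sub_X ?_
    rw [← Fintype.card_eq_nat_card, hF, ← AdjoinRoot.mk_eq_zero, map_sub, map_pow, AdjoinRoot.mk_X, h4, sub_self]
  obtain ⟨t, ht⟩ := hdj
  obtain ⟨hdodd, htodd⟩ := Nat.odd_mul.1 (ht ▸ hjodd)
  refine ⟨hdodd, ?_⟩
  obtain ⟨s, rfl⟩ := htodd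
  have e : q ^ j = (q ^ 2) ^ (d * s) * q ^ d := by
    rw [← pow_mul, ← pow_add, ht]
    congr 1
    ring
  rw [e] at h3
  rwa [pow_succ, pow_mul, root_pow_card hF hm hf, ← pow_succ] at h3

include hF in
theorem root_pow_evenIndex_mul {f : F[X]} (hm : f.Monic) (hf : Irreducible f) (h0 : AdjoinRoot.root f ≠ 0) :
    AdjoinRoot.root f ^ (evenIndex q f.natDegree * (q + 1)) = 1 := by
  have h := root_pow_normIndex_mul hm hf h0
  rw [normIndex_mul, hF, ← pow_mul] at h
  rwa [evenIndex_mul]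

/-- A power of the root in the unit circle of `F` gives a scalar `c` with `c * c ^ q = 1`. -/
theorem exists_norm_one_scalar {f : F[X]} (hf : Irreducible f) {L : ℕ}
    (h : AdjoinRoot.root f ^ (L * (q + 1)) = 1) :
    ∃ c : F, c * qEnd hF c = 1 ∧ f ∣ X ^ L - C c := by
  have := Fact.mk hf
  have hq := one_lt_q hF
  have hQ : Fintype.card F - 1 = (q + 1) * (q - 1) := by rw [hF, ← Nat.sq_sub_sq, one_pow]
  obtain ⟨c, hc⟩ := exists_algebraMap_eq_of_pow_card_sub_one (F := F) (K := AdjoinRoot f)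
    (y := AdjoinRoot.root f ^ L) (by rw [← pow_mul, hQ, ← mul_assoc, pow_mul, h, one_pow])
  refine ⟨c, ?_, ?_⟩
  · apply (algebraMap F (AdjoinRoot f)).injective
    rw [qEnd_apply, ← pow_succ', map_pow, map_one, hc, ← pow_mul, h]
  · rw [← AdjoinRoot.mk_eq_zero, map_sub, map_pow, AdjoinRoot.mk_X, AdjoinRoot.mk_C, ← hc, sub_eq_zero]
    rfl

/-- Scalar powers, unitary case. -/
theorem unitary_pow_eq_scalar {n : ℕ} {p : ℕ} [Fact p.Prime] [CharP F p]
    (hh : IsReflexiveSesq (qEnd hF) (hermForm n F q)) {A : Matrix (Fin n) (Fin n) F} {f : F[X]}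
    (hf : Irreducible f) {m e L : ℕ} (hL : 0 < L) (hm : m ≤ p ^ e)
    (horb : minpoly F A ∣ f ^ m ∨
      (IsCoprime f (conjRev (qEnd hF) f) ∧ minpoly F A ∣ (f * conjRev (qEnd hF) f) ^ m))
    (h : AdjoinRoot.root f ^ (L * (q + 1)) = 1) : ∃ c : F, A ^ (L * p ^ e) = c • 1 := by
  obtain ⟨c, hc, hfc⟩ := exists_norm_one_scalar hF hf h
  exact isometry_pow_eq_scalar hh hL hm horb hc hfc

theorem isReflexiveSesq_hermForm (n : ℕ) : IsReflexiveSesq (qEnd hF) (hermForm n F q) where
  invol := qEnd_qEnd hF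
  add_left u u' v := by simp [hermForm, add_mul, Finset.sum_add_distrib]
  smul_left c u v := by simp [hermForm, Finset.mul_sum, mul_assoc]
  add_right u v v' := by
    simp only [hermForm, Pi.add_apply, ← qEnd_apply hF, map_add, mul_add, Finset.sum_add_distrib]
  smul_right c u v := by
    simp only [hermForm, Pi.smul_apply, smul_eq_mul, ← qEnd_apply hF, map_mul, Finset.mul_sum]
    exact Finset.sum_congr rfl fun i _ => mul_left_comm _ _ _
  refl u v huv := by rw [← Forms.hermForm_swap hF u v, huv, map_zero]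
  nondeg v hv := by
    funext i
    have h := hv (Pi.single i 1)
    simp only [hermForm, Pi.single_apply, ite_mul, one_mul, zero_mul, Finset.sum_ite_eq', Finset.mem_univ,
      if_true] at h
    exact pow_eq_zero_iff (by have := one_lt_q hF; omega) |>.1 h

/-- Transport of isometries of a Hermitian form to the standard one. -/
theorem exists_to_standard {ι : Type*} [Fintype ι] [DecidableEq ι] {n : ℕ} (hn : Fintype.card ι = n)
    {h : (ι → F) → (ι → F) → F} (hh : IsReflexiveSesq (qEnd hF) h)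
    (hsymm : ∀ u v, qEnd hF (h u v) = h v u) :
    ∃ Φ : Matrix ι ι F ≃ₐ[F] Matrix (Fin n) (Fin n) F, ∀ A, (Φ A).det = A.det ∧
      (Preserves h A → Preserves (hermForm n F q) (Φ A)) := by
  let B : (ι → F) →ₛₗ[qEnd hF] (ι → F) →ₗ[F] F :=
    LinearMap.mk₂'ₛₗ (qEnd hF) (RingHom.id F) (fun u v => h v u)
      (fun a b c => hh.add_right c a b) (fun c a b => hh.smul_right c b a)
      (fun a b c => hh.add_left b c a) (fun c a b => hh.smul_left c b a)
  obtain ⟨e, he⟩ := exists_herm_coords hF (B := B) (fun x y => hsymm y x) (fun x hx => hh.nondeg x hx)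
  have hfin : Module.finrank F (ι → F) = n := by rw [Module.finrank_fintype_fun_eq_card, hn]
  revert e
  rw [hfin]
  intro e he
  refine ⟨Matrix.toLinAlgEquiv'.trans ((LinearEquiv.conjAlgEquiv F e).trans LinearMap.toMatrixAlgEquiv'),
    fun A => ⟨?_, fun hA u v => ?_⟩⟩
  · change (LinearMap.toMatrix' (e.toLinearMap ∘ₗ Matrix.toLin' A ∘ₗ e.symm.toLinearMap)).det = A.det
    rw [LinearMap.det_toMatrix', LinearMap.det_conj, LinearMap.det_toLin']
  · change hermForm n F q (LinearMap.toMatrix' (e.toLinearMap ∘ₗ Matrix.toLin' A ∘ₗ e.symm.toLinearMap) *ᵥ u)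
      (LinearMap.toMatrix' (e.toLinearMap ∘ₗ Matrix.toLin' A ∘ₗ e.symm.toLinearMap) *ᵥ v) = hermForm n F q u v
    rw [LinearMap.toMatrix'_mulVec, LinearMap.toMatrix'_mulVec]
    simp only [LinearMap.comp_apply, LinearEquiv.coe_coe, Matrix.toLin'_apply]
    rw [← he]
    change h _ _ = _
    rw [hA, show h (e.symm u) (e.symm v) = B (e.symm v) (e.symm u) from rfl, he, LinearEquiv.apply_symm_apply,
      LinearEquiv.apply_symm_apply]

/-- Torus of `U_d`, `d` odd. -/
theorem exists_odd_torus {d : ℕ} (hd : Odd d) :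
    ∃ Z : Matrix (Fin d) (Fin d) F, Z.det = 1 ∧ Preserves (hermForm d F q) Z ∧
      (∀ k, Z ^ k = 1 ↔ oddIndex q d ∣ k) ∧
      ∀ k (c : F), Z ^ k = c • 1 → c * qEnd hF c = 1 → oddIndex q d ∣ k * (q + 1) := by
  obtain ⟨p, a, hp, hchar, hqp⟩ := exists_prime_pow_q hF
  have := Fact.mk hp
  obtain ⟨d', rfl⟩ : ∃ d', d = 2 * d' + 1 := by obtain ⟨t, ht⟩ := hd; exact ⟨t, ht⟩
  set d := 2 * d' + 1 with hd'
  have : NeZero d := ⟨by omega⟩
  let E := FiniteField.Extension F p d
  have : CharP E p := charP_of_injective_algebraMap (algebraMap F E).injective p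
  let b : Module.Basis (Fin d) F E := Module.finBasisOfFinrankEq F E (FiniteField.finrank_extension F p d)
  obtain ⟨g, hg⟩ := IsCyclic.exists_ofOrder_eq_natCard (α := Eˣ)
  rw [Nat.card_units, FiniteField.natCard_extension, ← Fintype.card_eq_nat_card, hF, ← pow_mul] at hg
  have hq := one_lt_q hF
  have hpos : 1 ≤ q ^ d := Nat.one_le_pow _ _ (by omega)
  set s := (q + 1) * (q ^ d - 1) with hs
  have hprod : oddIndex q d * s = q ^ (2 * d) - 1 := by
    rw [hs, ← mul_assoc, oddIndex_mul q hd, ← Nat.sq_sub_sq, one_pow, ← pow_mul, mul_comm]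
  have hs0 : s ≠ 0 := by
    refine mul_ne_zero (by omega) ?_
    have : 2 ≤ q ^ d := le_trans hq (Nat.le_self_pow (by omega) q)
    omega
  set z : Eˣ := g ^ s with hz
  have hord : orderOf (z : E) = oddIndex q d := by
    rw [orderOf_units, hz, orderOf_pow' _ hs0, hg, ← hprod, Nat.gcd_mul_left_left,
      Nat.mul_div_cancel _ (Nat.pos_of_ne_zero hs0)]
  have hzq : (z : E) ^ (q ^ d + 1) = 1 := by
    rw [← oddIndex_mul q hd, pow_mul, ← hord, pow_orderOf_eq_one, one_pow]
  -- the conjugation `x ↦ x ^ (q ^ d)` and the form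
  let ψ : E →+* E := iterateFrobenius E p (a * d)
  have hψ : ∀ x, ψ x = x ^ q ^ d := fun x => by
    rw [hqp, ← pow_mul]; exact iterateFrobenius_def p (a * d) x
  have hψam : ∀ c : F, ψ (algebraMap F E c) = algebraMap F E (qEnd hF c) := by
    intro c
    rw [hψ, ← map_pow, qEnd_apply]
    congr 1
    rw [hd', pow_succ', pow_mul, pow_mul, ← hF]
    rw [FiniteField.pow_card_pow]
  have hψψ : ∀ x : E, ψ (ψ x) = x := by
    intro x
    have := Fintype.ofFinite E
    rw [hψ, hψ, ← pow_mul, ← pow_add, ← two_mul, pow_mul, ← hF]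
    have hc : Fintype.card E = Fintype.card F ^ d := by
      rw [Fintype.card_eq_nat_card, FiniteField.natCard_extension, ← Fintype.card_eq_nat_card]
    rw [← hc, FiniteField.pow_card]
  have htr : ∀ w : E, qEnd hF (Algebra.trace F E w) = Algebra.trace F E (ψ w) := by
    intro w
    apply (algebraMap F E).injective
    rw [← hψam, FiniteField.algebraMap_trace_eq_sum_pow, FiniteField.algebraMap_trace_eq_sum_pow, map_sum]
    refine Finset.sum_congr rfl fun i _ => ?_
    rw [map_pow]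
  let X' : (Fin d → F) ≃ₗ[F] E := b.equivFun.symm
  let h : (Fin d → F) → (Fin d → F) → F := fun u v => Algebra.trace F E (X' u * ψ (X' v))
  have hh : IsReflexiveSesq (qEnd hF) h :=
    { invol := qEnd_qEnd hF
      add_left := fun u u' v => by simp [h, add_mul]
      smul_left := fun c u v => by simp [h, smul_mul_assoc]
      add_right := fun u v v' => by simp [h, mul_add]
      smul_right := fun c u v => by
        show Algebra.trace F E (X' u * ψ (X' (c • v))) = _
        rw [map_smul, Algebra.smul_def, map_mul ψ, hψam, ← Algebra.smul_def, mul_smul_comm, map_smul,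
          smul_eq_mul]
      refl := fun u v huv => by
        have := htr (X' u * ψ (X' v))
        rw [show Algebra.trace F E (X' u * ψ (X' v)) = 0 from huv, map_zero, map_mul, hψψ, mul_comm] at this
        exact this.symm
      nondeg := fun v hv => by
        have : ψ (X' v) = 0 := (traceForm_nondegenerate F E).2 _ fun x => by
          have := hv (X'.symm x)
          simpa [h, Algebra.traceForm_apply] using this
        simpa using this }
  obtain ⟨Φ, hΦ⟩ := exists_to_standard hF (n := d) (Fintype.card_fin d) hh (fun u v => by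
    simp only [h, htr, map_mul, hψψ, mul_comm])
  refine ⟨Φ (Algebra.leftMulMatrix b z), ?_, ?_, fun k => ?_, fun k c hk hc => ?_⟩
  · rw [(hΦ _).1, ← Algebra.norm_eq_matrix_det]
    apply (algebraMap F E).injective
    rw [FiniteField.algebraMap_norm_eq_pow, map_one, FiniteField.natCard_extension, ← Fintype.card_eq_nat_card]
    rw [← orderOf_dvd_iff_pow_eq_one, hord]
    rw [hF, show ((q ^ 2) ^ d - 1) / (q ^ 2 - 1) = normIndex (q ^ 2) d from rfl, normIndex_sq hq hd]
    exact dvd_mul_right _ _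
  · refine (hΦ _).2 fun u v => ?_
    have hX : ∀ u, X' (Algebra.leftMulMatrix b (z : E) *ᵥ u) = (z : E) * X' u := fun u => by
      rw [LinearEquiv.symm_apply_eq]
      conv_lhs => rw [show u = ⇑(b.repr (X' u)) from (b.equivFun.apply_symm_apply u).symm]
      exact Algebra.leftMulMatrix_mulVec_repr b _ _
    simp only [h, hX, map_mul, hψ]
    rw [show (z : E) * X' u * ((z : E) * X' v) ^ q ^ d = (z : E) ^ (q ^ d + 1) * (X' u * X' v ^ q ^ d) by
      rw [mul_pow, pow_succ]; ring, hzq, one_mul]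
  · rw [← map_pow, map_eq_one_iff _ Φ.injective, ← map_pow, map_eq_one_iff _ (Algebra.leftMulMatrix_injective b),
      ← orderOf_dvd_iff_pow_eq_one, hord]
  · have hk' : (z : E) ^ k = algebraMap F E c := by
      apply Algebra.leftMulMatrix_injective b
      apply Φ.injective
      rw [map_pow, map_pow, hk, AlgHom.commutes, AlgEquiv.commutes, Algebra.algebraMap_eq_smul_one]
    rw [← hord, orderOf_dvd_iff_pow_eq_one, pow_mul, hk', ← map_pow, pow_succ', ← qEnd_apply hF, hc, map_one]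

include hF in
/-- A scalar isometry has norm one. -/
theorem scalar_norm_one {n : ℕ} (hn : 0 < n) {c : F}
    (h : Preserves (hermForm n F q) (c • (1 : Matrix (Fin n) (Fin n) F))) : c * qEnd hF c = 1 := by
  have hh := isReflexiveSesq_hermForm hF n
  have h1 := h (Pi.single ⟨0, hn⟩ 1) (Pi.single ⟨0, hn⟩ 1)
  rw [Matrix.smul_mulVec, Matrix.one_mulVec, hh.smul_left, hh.smul_right, ← mul_assoc] at h1
  have hq : q ≠ 0 := by have := one_lt_q hF; omega
  have e : hermForm n F q (Pi.single ⟨0, hn⟩ 1) (Pi.single ⟨0, hn⟩ 1) = 1 := by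
    simp [hermForm, Pi.single_apply, zero_pow hq]
  rwa [e, mul_one] at h1

include hF in
/-- Torus of `U_{2d}` of order `(q ^ (2 * d) - 1) / (q + 1)`. -/
theorem exists_even_torus {d : ℕ} (hd : 0 < d) :
    ∃ Z : Matrix (Fin (2 * d)) (Fin (2 * d)) F, Z.det = 1 ∧ Preserves (hermForm (2 * d) F q) Z ∧
      (∀ k, Z ^ k = 1 ↔ evenIndex q d ∣ k) ∧
      ∀ k (c : F), Z ^ k = c • 1 → evenIndex q d ∣ k * (q + 1) := by
  obtain ⟨p, hp⟩ := CharP.exists F
  have : Fact p.Prime := ⟨CharP.char_is_prime F p⟩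
  have : NeZero d := ⟨hd.ne'⟩
  have hq := one_lt_q hF
  let E := FiniteField.Extension F p d
  let b : Module.Basis (Fin d) F E := Module.finBasisOfFinrankEq F E (FiniteField.finrank_extension F p d)
  obtain ⟨g, hg⟩ := IsCyclic.exists_ofOrder_eq_natCard (α := Eˣ)
  rw [Nat.card_units, FiniteField.natCard_extension, ← Fintype.card_eq_nat_card, hF, ← pow_mul,
    ← evenIndex_mul] at hg
  set z : Eˣ := g ^ (q + 1) with hz
  have hord : orderOf (z : E) = evenIndex q d := by
    rw [orderOf_units, hz, orderOf_pow' _ (Nat.succ_ne_zero q), hg, Nat.gcd_mul_left_left,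
      Nat.mul_div_cancel _ (Nat.succ_pos q)]
  set B : Matrix (Fin d) (Fin d) F := Algebra.leftMulMatrix b (z : E) with hB
  have hBu : IsUnit B := z.isUnit.map (Algebra.leftMulMatrix b)
  set Bs : Matrix (Fin d) (Fin d) F := (qEnd hF).mapMatrix B with hBs
  have hBsu : IsUnit Bs.det := (Matrix.isUnit_iff_isUnit_det _).1 (hBu.map (qEnd hF).mapMatrix)
  set D : Matrix (Fin d) (Fin d) F := (Bs⁻¹)ᵀ with hD
  have hDpow : ∀ k, D ^ k = (((qEnd hF).mapMatrix (B ^ k))⁻¹)ᵀ := fun k => by
    rw [hD, ← Matrix.transpose_pow, Matrix.inv_pow', map_pow]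
  have hBk : ∀ k, B ^ k = 1 ↔ evenIndex q d ∣ k := fun k => by
    rw [hB, ← map_pow, map_eq_one_iff _ (Algebra.leftMulMatrix_injective b), ← orderOf_dvd_iff_pow_eq_one, hord]
  let h : (Fin d ⊕ Fin d → F) → (Fin d ⊕ Fin d → F) → F := fun u v =>
    (u ∘ Sum.inl) ⬝ᵥ (qEnd hF ∘ v ∘ Sum.inr) + (u ∘ Sum.inr) ⬝ᵥ (qEnd hF ∘ v ∘ Sum.inl)
  have hsymm : ∀ u v, qEnd hF (h u v) = h v u := by
    intro u v
    simp only [h, map_add, dotProduct, map_sum, map_mul, Function.comp_apply, qEnd_qEnd]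
    rw [add_comm]
    congr 1 <;> exact Finset.sum_congr rfl fun i _ => mul_comm _ _
  have hh : IsReflexiveSesq (qEnd hF) h :=
    { invol := qEnd_qEnd hF
      add_left := fun u u' v => by
        simp [h, dotProduct, add_mul, Finset.sum_add_distrib]; ring
      smul_left := fun c u v => by simp [h, dotProduct, Finset.mul_sum, mul_assoc, mul_add]
      add_right := fun u v v' => by
        simp [h, dotProduct, mul_add, Finset.sum_add_distrib]; ring
      smul_right := fun c u v => by simp [h, dotProduct, Finset.mul_sum, mul_left_comm, mul_add]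
      refl := fun u v huv => by rw [← hsymm u v, huv, map_zero]
      nondeg := fun v hv => by
        funext i
        rcases i with i | i
        · have := hv (Pi.single (Sum.inr i) 1)
          simpa [h, dotProduct, Pi.single_apply] using this
        · have := hv (Pi.single (Sum.inl i) 1)
          simpa [h, dotProduct, Pi.single_apply] using this }
  obtain ⟨Φ, hΦ⟩ := exists_to_standard hF (n := 2 * d) (by simp [two_mul]) hh hsymm
  refine ⟨Φ (Matrix.fromBlocks B 0 0 D), ?_, ?_, fun k => ?_, fun k c hk => ?_⟩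
  · rw [(hΦ _).1, Matrix.det_fromBlocks_zero₂₁, hD, Matrix.det_transpose, Matrix.det_nonsing_inv,
      Ring.inverse_eq_inv', hBs, ← RingHom.map_det]
    have hN : qEnd hF B.det = B.det := by
      rw [hB, ← Algebra.norm_eq_matrix_det, qEnd_apply]
      have hne : Algebra.norm F (z : E) ≠ 0 := (z.isUnit.map (Algebra.norm F)).ne_zero
      have h1 : Algebra.norm F (z : E) ^ (q - 1) = 1 := by
        apply (algebraMap F E).injective
        rw [map_pow, FiniteField.algebraMap_norm_eq_pow, map_one, FiniteField.natCard_extension,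
          ← Fintype.card_eq_nat_card, hF, ← pow_mul, ← orderOf_dvd_iff_pow_eq_one, hord]
        refine Nat.dvd_of_mul_dvd_mul_right (Nat.succ_pos q) (dvd_of_eq ?_)
        rw [Nat.succ_eq_add_one, evenIndex_mul, mul_assoc, mul_comm (q - 1), ← Nat.sq_sub_sq, one_pow, pow_mul]
        exact (Nat.div_mul_cancel (Nat.sub_one_dvd_pow_sub_one _ _)).symm
      conv_lhs => rw [← Nat.sub_add_cancel hq.le, pow_succ, h1, one_mul]
    rw [hN, mul_inv_cancel₀ ((Matrix.isUnit_iff_isUnit_det _).1 hBu).ne_zero]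
  · refine (hΦ _).2 fun u v => ?_
    have el : ∀ w : Fin d ⊕ Fin d → F, (Matrix.fromBlocks B 0 0 D *ᵥ w) ∘ Sum.inl = B *ᵥ (w ∘ Sum.inl) :=
      fun w => by funext i; simp [Matrix.fromBlocks_mulVec]
    have er : ∀ w : Fin d ⊕ Fin d → F, (Matrix.fromBlocks B 0 0 D *ᵥ w) ∘ Sum.inr = D *ᵥ (w ∘ Sum.inr) :=
      fun w => by funext i; simp [Matrix.fromBlocks_mulVec]
    have em : ∀ (M : Matrix (Fin d) (Fin d) F) (w : Fin d → F),
        qEnd hF ∘ (M *ᵥ w) = (qEnd hF).mapMatrix M *ᵥ (qEnd hF ∘ w) :=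
      fun M w => funext fun i => RingHom.map_mulVec (qEnd hF) M w i
    have hDs : (qEnd hF).mapMatrix D = (B⁻¹)ᵀ := by
      have h1 : (qEnd hF).mapMatrix Bs = B := by ext i j; simp [hBs, qEnd_qEnd]
      have h2 : (qEnd hF).mapMatrix Bs⁻¹ = B⁻¹ := by
        refine (Matrix.inv_eq_right_inv ?_).symm
        nth_rewrite 1 [← h1]
        rw [← map_mul, Matrix.mul_nonsing_inv _ hBsu, map_one]
      rw [← h2, hD]
      rfl
    simp only [h, el, er, em, hDs, ← hBs]
    rw [Matrix.mulVec_transpose, dotProduct_comm, ← Matrix.dotProduct_mulVec, Matrix.mulVec_mulVec,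
      Matrix.nonsing_inv_mul _ ((Matrix.isUnit_iff_isUnit_det _).1 hBu), Matrix.one_mulVec, dotProduct_comm,
      hD, Matrix.mulVec_transpose, ← Matrix.dotProduct_mulVec, Matrix.mulVec_mulVec,
      Matrix.nonsing_inv_mul _ hBsu, Matrix.one_mulVec]
  · rw [← map_pow, map_eq_one_iff _ Φ.injective, Matrix.fromBlocks_diagonal_pow, ← Matrix.fromBlocks_one,
      Matrix.fromBlocks_inj]
    refine ⟨fun h1 => (hBk k).1 h1.1, fun h1 => ⟨(hBk k).2 h1, rfl, rfl, ?_⟩⟩
    rw [hDpow, (hBk k).2 h1, map_one, inv_one, Matrix.transpose_one]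
  · have hk' : Matrix.fromBlocks (B ^ k) 0 0 (D ^ k) = Matrix.fromBlocks (c • 1) 0 0 (c • 1) := by
      apply Φ.injective
      rw [← Matrix.fromBlocks_diagonal_pow, map_pow, hk]
      have e : (Matrix.fromBlocks (c • 1) 0 0 (c • 1) : Matrix (Fin d ⊕ Fin d) (Fin d ⊕ Fin d) F) = c • 1 := by
        rw [← Matrix.fromBlocks_one, Matrix.fromBlocks_smul]; simp
      rw [e, map_smul, map_one]
    obtain ⟨e1, -, -, e2⟩ := Matrix.fromBlocks_inj.1 hk'
    have e3 : c * qEnd hF c = 1 := by
      rw [hDpow, e1] at e2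
      have e4 := congrArg Matrix.transpose e2
      rw [Matrix.transpose_transpose, Matrix.transpose_smul, Matrix.transpose_one] at e4
      have e5 : (qEnd hF).mapMatrix (c • (1 : Matrix (Fin d) (Fin d) F)) = qEnd hF c • 1 := by
        ext i j; by_cases hij : i = j <;> simp [Matrix.one_apply, hij]
      rw [e5] at e4
      have hu : IsUnit (qEnd hF c • (1 : Matrix (Fin d) (Fin d) F)).det := by
        rw [← e5, ← e1, map_pow, Matrix.det_pow, ← hBs]
        exact hBsu.pow k
      have e6 := Matrix.mul_nonsing_inv _ hu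
      rw [e4, Matrix.smul_mul, Matrix.one_mul, smul_smul] at e6
      have := congrFun (congrFun e6 ⟨0, hd⟩) ⟨0, hd⟩
      simpa [mul_comm] using this
    have hk'' : (z : E) ^ k = algebraMap F E c := by
      apply Algebra.leftMulMatrix_injective b
      rw [map_pow, ← hB, e1, AlgHom.commutes, Algebra.algebraMap_eq_smul_one]
    rw [← hord, orderOf_dvd_iff_pow_eq_one, pow_mul, hk'', ← map_pow, pow_succ', ← qEnd_apply hF, e3, map_one]

/-- The shift matrix. -/
def shiftMat (F : Type*) [Field F] (s : ℕ) : Matrix (Fin s) (Fin s) F :=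
  Matrix.of fun i j => if (j : ℕ) = i + 1 then 1 else 0

omit [Fintype F] in
theorem shiftMat_pow {s : ℕ} (k : ℕ) (i j : Fin s) :
    (shiftMat F s ^ k) i j = if (j : ℕ) = i + k then 1 else 0 := by
  induction k generalizing j with
  | zero => simp [Matrix.one_apply, Fin.ext_iff, eq_comm]
  | succ k ih =>
    rw [pow_succ, Matrix.mul_apply]
    simp only [ih]
    simp only [shiftMat, Matrix.of_apply, mul_ite, mul_one, mul_zero, ← ite_and]
    by_cases hj : (j : ℕ) = i + (k + 1)
    · rw [if_pos hj, Finset.sum_eq_single_of_mem (⟨i + k, by omega⟩ : Fin s) (Finset.mem_univ _)]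
      · exact if_pos ⟨by simp only; omega, rfl⟩
      · intro b _ hb
        rw [if_neg]
        intro hc
        exact hb (Fin.ext hc.2)
    · rw [if_neg hj]
      exact Finset.sum_eq_zero fun b _ => if_neg (by omega)

omit [Fintype F] in
theorem shiftMat_pow_eq_zero {s : ℕ} (k : ℕ) : shiftMat F s ^ k = 0 ↔ s ≤ k := by
  constructor
  · intro h
    by_contra hk
    have := congrFun (congrFun h ⟨0, by omega⟩) ⟨k, by omega⟩
    rw [shiftMat_pow, if_pos (by simp)] at this
    exact one_ne_zero this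
  · intro hk
    ext i j
    rw [shiftMat_pow, if_neg (by omega), Matrix.zero_apply]

omit [Fintype F] in
theorem det_one_add_smul_shiftMat {s : ℕ} (c : F) : (1 + c • shiftMat F s).det = 1 := by
  have hut : (1 + c • shiftMat F s).IsUpperTriangular := by
    intro i j hij
    have h1 : (i : ℕ) ≠ j := Fin.val_ne_of_ne (ne_of_gt hij)
    have h2 : (j : ℕ) ≠ i + 1 := by have : (j : ℕ) < i := hij; omega
    simp [shiftMat, Matrix.one_apply, Fin.ext_iff, h1, h2]
  rw [Matrix.det_of_isUpperTriangular hut]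
  simp [shiftMat]

include hF in
/-- Regular unipotent element of `SU_s`, by a Cayley transform of the shift. -/
theorem exists_unitary_jordan (p : ℕ) [hp : Fact p.Prime] [CharP F p] {s : ℕ} (hs : 0 < s) :
    ∃ J : Matrix (Fin s) (Fin s) F, J.det = 1 ∧ Preserves (hermForm s F q) J ∧
      ∀ N (c : F), J ^ N = c • 1 → c = 1 ∧ p ^ Nat.clog p s ∣ N := by
  obtain ⟨l, hl⟩ : ∃ l : F, qEnd hF l ≠ l := by
    by_contra hc
    push Not at hc
    exact Forms.qEnd_ne_id hF (RingHom.ext hc)
  set m := qEnd hF l with hm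
  set N₀ := shiftMat F s with hN₀
  have hdet : ∀ c : F, IsUnit (1 + c • N₀).det := fun c => by
    rw [hN₀, det_one_add_smul_shiftMat]; exact isUnit_one
  let h : (Fin s → F) → (Fin s → F) → F := fun u v => ∑ i, u i * qEnd hF (v i.rev)
  have hsymm : ∀ u v, qEnd hF (h u v) = h v u := by
    intro u v
    simp only [h, map_sum, map_mul, qEnd_qEnd]
    exact Fintype.sum_equiv Fin.revPerm _ _ fun i => by simp [mul_comm]
  have hh : IsReflexiveSesq (qEnd hF) h :=
    { invol := qEnd_qEnd hF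
      add_left := fun u u' v => by simp [h, add_mul, Finset.sum_add_distrib]
      smul_left := fun c u v => by simp [h, Finset.mul_sum, mul_assoc]
      add_right := fun u v v' => by simp [h, mul_add, Finset.sum_add_distrib]
      smul_right := fun c u v => by simp [h, Finset.mul_sum, mul_left_comm]
      refl := fun u v huv => by rw [← hsymm u v, huv, map_zero]
      nondeg := fun v hv => by
        funext i
        have := hv (Pi.single i.rev 1)
        simpa [h, Pi.single_apply] using this }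
  have hN : ∀ (u v : Fin s → F), h (N₀ *ᵥ u) v = h u (N₀ *ᵥ v) := by
    intro u v
    simp only [h, hN₀, Matrix.mulVec, dotProduct, shiftMat, Matrix.of_apply, ite_mul, one_mul, zero_mul,
      map_sum, Finset.mul_sum, Finset.sum_mul, apply_ite (qEnd hF), map_zero, mul_ite, mul_zero]
    rw [Finset.sum_comm]
    refine Finset.sum_congr rfl fun i _ => ?_
    refine Fintype.sum_equiv Fin.revPerm _ _ fun j => ?_
    simp only [Fin.revPerm_apply, Fin.val_rev]
    by_cases hij : (i : ℕ) = j + 1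
    · rw [if_pos hij, if_pos (by omega)]
    · rw [if_neg hij, if_neg (by omega)]
  set M := (1 + m • N₀)⁻¹ with hM
  set U := (1 + l • N₀) * M with hU
  obtain ⟨Φ, hΦ⟩ := exists_to_standard hF (n := s) (Fintype.card_fin s) hh hsymm
  have hUdet : U.det = 1 := by
    rw [hU, det_mul, hM, Matrix.det_nonsing_inv, hN₀, det_one_add_smul_shiftMat, det_one_add_smul_shiftMat,
      Ring.inverse_one, mul_one]
  have hpres : Preserves h U := by
    intro u v
    obtain ⟨u', rfl⟩ : ∃ u', (1 + m • N₀) *ᵥ u' = u :=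
      ⟨M *ᵥ u, by rw [Matrix.mulVec_mulVec, hM, Matrix.mul_nonsing_inv _ (hdet m), Matrix.one_mulVec]⟩
    obtain ⟨v', rfl⟩ : ∃ v', (1 + m • N₀) *ᵥ v' = v :=
      ⟨M *ᵥ v, by rw [Matrix.mulVec_mulVec, hM, Matrix.mul_nonsing_inv _ (hdet m), Matrix.one_mulVec]⟩
    simp only [hU, hM, Matrix.mulVec_mulVec, Matrix.mul_assoc, Matrix.nonsing_inv_mul _ (hdet m), Matrix.mul_one]
    simp only [Matrix.add_mulVec, Matrix.one_mulVec, Matrix.smul_mulVec, hh.add_left, hh.add_right,
      hh.smul_left, hh.smul_right, hN, hm, qEnd_qEnd]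
    ring
  have hUsub : U - 1 = ((l - m) • N₀) * M := by
    conv_lhs => arg 2; rw [← Matrix.mul_nonsing_inv _ (hdet m)]
    rw [hU, hM, ← Matrix.sub_mul, add_sub_add_left_eq_sub, sub_smul]
  have hcomm : Commute ((l - m) • N₀) M := by
    have h1 : Commute ((l - m) • N₀) (1 + m • N₀) :=
      ((Commute.one_right _).add_right ((Commute.refl N₀).smul_right m)).smul_left _
    rw [hM]
    exact show _ = _ from by
      calc (l - m) • N₀ * (1 + m • N₀)⁻¹
          = (1 + m • N₀)⁻¹ * ((1 + m • N₀) * ((l - m) • N₀)) * (1 + m • N₀)⁻¹ := by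
            rw [Matrix.nonsing_inv_mul_cancel_left _ _ (hdet m)]
        _ = (1 + m • N₀)⁻¹ * ((l - m) • N₀) := by
            rw [← h1.eq, ← Matrix.mul_assoc, Matrix.mul_nonsing_inv_cancel_right _ _ (hdet m)]
  have : Nonempty (Fin s) := ⟨⟨0, hs⟩⟩
  have hkey : ∀ j, U ^ p ^ j = 1 ↔ s ≤ p ^ j := fun j => by
    rw [← sub_eq_zero, ← one_pow (M := Matrix (Fin s) (Fin s) F) (p ^ j),
      ← sub_pow_char_pow_of_commute (p := p) (h := Commute.one_right U), hUsub, hcomm.mul_pow, _root_.smul_pow]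
    have hMu : IsUnit (M ^ p ^ j) := by
      refine IsUnit.pow _ ?_
      rw [hM, Matrix.isUnit_nonsing_inv_iff, Matrix.isUnit_iff_isUnit_det]
      exact hdet m
    rw [hMu.mul_left_eq_zero, smul_eq_zero, or_iff_right (pow_ne_zero _ (sub_ne_zero.2 (Ne.symm hl))), hN₀,
      shiftMat_pow_eq_zero]
  set e := Nat.clog p s with he
  have hone : U ^ p ^ e = 1 := (hkey e).2 (Nat.le_pow_clog hp.out.one_lt s)
  refine ⟨Φ U, (hΦ U).1.trans hUdet, (hΦ U).2 hpres, fun N c hN' => ?_⟩
  have hUN : U ^ N = c • 1 := by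
    apply Φ.injective
    rw [map_pow, hN', map_smul, map_one]
  have hc : c = 1 := by
    apply eq_one_of_pow_char_pow p e
    have h1 : (c • (1 : Matrix (Fin s) (Fin s) F)) ^ p ^ e = 1 := by
      rw [← hUN, pow_right_comm, hone, one_pow]
    rw [_root_.smul_pow, one_pow] at h1
    simpa using congrFun (congrFun h1 ⟨0, hs⟩) ⟨0, hs⟩
  refine ⟨hc, ?_⟩
  rw [hc, one_smul, ← orderOf_dvd_iff_pow_eq_one] at hUN
  have hord : orderOf U = p ^ e := by
    rcases Nat.eq_zero_or_pos e with h0 | h0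
    · rw [h0] at hone ⊢
      simpa using hone
    · obtain ⟨e', he'⟩ := Nat.exists_eq_add_one_of_ne_zero h0.ne'
      rw [he'] at hone ⊢
      refine orderOf_eq_prime_pow (fun h1 => ?_) hone
      have := Nat.clog_le_of_le_pow (b := p) ((hkey e').1 h1)
      omega
  rwa [hord] at hUN

include hF in
/-- Two diagonal blocks. -/
theorem preserves_twoBlock {d₁ d₂ n : ℕ} (h : d₁ + d₂ = n) {A₁ : Matrix (Fin d₁) (Fin d₁) F}
    {A₂ : Matrix (Fin d₂) (Fin d₂) F} (h₁ : Preserves (hermForm d₁ F q) A₁)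
    (h₂ : Preserves (hermForm d₂ F q) A₂) : Preserves (hermForm n F q) (twoBlock h (A₁, A₂)) := by
  subst h
  have hsplit : ∀ u v : Fin (d₁ + d₂) → F, hermForm (d₁ + d₂) F q u v =
      hermForm d₁ F q (u ∘ Fin.castAdd d₂) (v ∘ Fin.castAdd d₂) +
        hermForm d₂ F q (u ∘ Fin.natAdd d₁) (v ∘ Fin.natAdd d₁) := fun u v => by
    simp [hermForm, Fin.sum_univ_add]
  have e1 : ∀ w : Fin (d₁ + d₂) → F,
      (twoBlock rfl (A₁, A₂) *ᵥ w) ∘ Fin.castAdd d₂ = A₁ *ᵥ (w ∘ Fin.castAdd d₂) := fun w => by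
    funext i
    simp [twoBlock, Matrix.mulVec, dotProduct, Fin.sum_univ_add]
  have e2 : ∀ w : Fin (d₁ + d₂) → F,
      (twoBlock rfl (A₁, A₂) *ᵥ w) ∘ Fin.natAdd d₁ = A₂ *ᵥ (w ∘ Fin.natAdd d₁) := fun w => by
    funext i
    simp [twoBlock, Matrix.mulVec, dotProduct, Fin.sum_univ_add]
  intro u v
  rw [hsplit, hsplit, e1, e1, e2, e2, h₁, h₂]

end Cfsg.Agent.GL
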