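import Mathlib
import Cfsg.Agent.Lib.GL.Basic

/-!
`GL` and `SL` on vectors, independent tuples, subspaces and projective space; maximal parabolic subgroups.
-/

set_option autoImplicit false

open Matrix
open scoped MatrixGroups LinearAlgebra.Projectivization

namespace Cfsg.Agent.GL

variable {ι F : Type*} [Fintype ι] [DecidableEq ι] [Field F]

/-- The matrix in `GL` of a linear automorphism of `ι → F`. -/
def ofLinearEquiv (e : (ι → F) ≃ₗ[F] (ι → F)) : GL ι F :=
  GeneralLinearGroup.toLin.symm (LinearMap.GeneralLinearGroup.ofLinearEquiv e)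

@[simp] theorem ofLinearEquiv_mulVec (e : (ι → F) ≃ₗ[F] (ι → F)) (v : ι → F) :
    (ofLinearEquiv e : Matrix ι ι F) *ᵥ v = e v := by
  rw [← Matrix.mulVecLin_apply, ← GeneralLinearGroup.toLin_apply, ofLinearEquiv,
    MulEquiv.apply_symm_apply]
  rfl

/-- Two independent tuples of the same length differ by an element of `GL`. -/
theorem exists_GL_of_linearIndependent {κ : Type*} [Fintype κ] {v w : κ → ι → F}
    (hv : LinearIndependent F v) (hw : LinearIndependent F w) :
    ∃ g : GL ι F, ∀ k, (g : Matrix ι ι F) *ᵥ v k = w k := by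
  obtain ⟨e, he⟩ := Submodule.exists_linearEquiv_restrict_eq
    ((Module.Basis.span hv).equiv (Module.Basis.span hw) (Equiv.refl κ))
  refine ⟨ofLinearEquiv e, fun k => ?_⟩
  have hk := he (Module.Basis.span hv k)
  rw [Module.Basis.equiv_apply, Equiv.refl_apply, Module.Basis.span_apply,
    Module.Basis.span_apply] at hk
  rw [ofLinearEquiv_mulVec, ← hk]

/-- An invertible matrix of prescribed determinant fixing fewer than `n` given independent vectors. -/
theorem exists_GL_fix_of_det {κ : Type*} [Fintype κ] {v : κ → ι → F}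
    (hv : LinearIndependent F v) (hlt : Fintype.card κ < Fintype.card ι) (u : Fˣ) :
    ∃ g : GL ι F, GeneralLinearGroup.det g = u ∧ ∀ k, (g : Matrix ι ι F) *ᵥ v k = v k := by
  classical
  set b := Module.Basis.sumExtend hv with hb
  have := Module.Finite.finite_basis b
  have : Finite (Module.Basis.sumExtendIndex hv) := Finite.sum_right κ
  let _ : Fintype (Module.Basis.sumExtendIndex hv) := Fintype.ofFinite _
  have hcard : Fintype.card κ + Fintype.card (Module.Basis.sumExtendIndex hv) = Fintype.card ι := by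
    rw [← Fintype.card_sum, ← Module.finrank_eq_card_basis b, Module.finrank_fintype_fun_eq_card]
  obtain ⟨s⟩ : Nonempty (Module.Basis.sumExtendIndex hv) := Fintype.card_pos_iff.1 (by omega)
  let D : (ι → F) ≃ₗ[F] (ι → F) :=
    b.equiv (b.unitsSMul fun i => if i = Sum.inr s then u else 1) (Equiv.refl _)
  have hD : ∀ i, D (b i) = ((if i = Sum.inr s then u else 1 : Fˣ) : F) • b i := by
    intro i
    rw [Module.Basis.equiv_apply, Equiv.refl_apply, Module.Basis.unitsSMul_apply, Units.smul_def]
  refine ⟨ofLinearEquiv D, ?_, fun k => ?_⟩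
  · refine Units.ext ?_
    rw [GeneralLinearGroup.val_det_apply, ← LinearMap.det_toLin',
      show Matrix.toLin' (ofLinearEquiv D : Matrix ι ι F) = D.toLinearMap from
        LinearMap.ext fun x => by simp, ← LinearMap.det_toMatrix b,
      show LinearMap.toMatrix b b D.toLinearMap =
        diagonal fun i => ((if i = Sum.inr s then u else 1 : Fˣ) : F) from
        Matrix.ext fun i j => by
          rw [LinearMap.toMatrix_apply, LinearEquiv.coe_coe, hD, map_smul, b.repr_self,
            Finsupp.smul_single, Finsupp.single_apply, Matrix.diagonal_apply]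
          split_ifs with h1 h2 <;> simp_all,
      Matrix.det_diagonal, ← Units.coe_prod]
    simp
  · have hbv : b (Sum.inl k) = v k := by
      simp [hb, Module.Basis.sumExtend]
      rfl
    rw [← hbv, ofLinearEquiv_mulVec, hD]
    simp

/-- Two independent tuples of length `< n` differ by an element of `SL`. -/
theorem exists_SL_of_linearIndependent {κ : Type*} [Fintype κ] {v w : κ → ι → F}
    (hv : LinearIndependent F v) (hw : LinearIndependent F w)
    (hlt : Fintype.card κ < Fintype.card ι) :
    ∃ g : SpecialLinearGroup ι F, ∀ k, (g : Matrix ι ι F) *ᵥ v k = w k := by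
  obtain ⟨g, hg⟩ := exists_GL_of_linearIndependent hv hw
  obtain ⟨d, hd, hdv⟩ := exists_GL_fix_of_det hv hlt (GeneralLinearGroup.det g)⁻¹
  have hm : g * d ∈ (GeneralLinearGroup.det : GL ι F →* Fˣ).ker := by
    rw [MonoidHom.mem_ker, map_mul, hd, mul_inv_cancel]
  rw [det_ker_eq_range_toGL] at hm
  obtain ⟨a, ha⟩ := hm
  refine ⟨a, fun k => ?_⟩
  rw [show (a : Matrix ι ι F) = ((g * d : GL ι F) : Matrix ι ι F) from congrArg Units.val ha,
    GeneralLinearGroup.coe_mul, ← Matrix.mulVec_mulVec, hdv, hg]

/-- `GL` is transitive on subspaces of a given dimension. -/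
theorem exists_GL_map_submodule {U W : Submodule F (ι → F)}
    (h : Module.finrank F U = Module.finrank F W) :
    ∃ g : GL ι F, U.map (Matrix.toLin' (g : Matrix ι ι F)) = W := by
  obtain ⟨e, he⟩ := Submodule.exists_linearEquiv_restrict_eq (LinearEquiv.ofFinrankEq U W h)
  refine ⟨ofLinearEquiv e, Submodule.ext fun x => ⟨?_, fun hx => ?_⟩⟩
  · rintro ⟨y, hy, rfl⟩
    rw [Matrix.toLin'_apply, ofLinearEquiv_mulVec, ← he ⟨y, hy⟩]
    exact Subtype.prop _
  · refine ⟨(LinearEquiv.ofFinrankEq U W h).symm ⟨x, hx⟩, Subtype.prop _, ?_⟩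
    rw [Matrix.toLin'_apply, ofLinearEquiv_mulVec, ← he, LinearEquiv.apply_symm_apply]

/-- `SL` is transitive on subspaces of a given dimension. -/
theorem exists_SL_map_submodule {U W : Submodule F (ι → F)}
    (h : Module.finrank F U = Module.finrank F W) :
    ∃ g : SpecialLinearGroup ι F, U.map (Matrix.toLin' (g : Matrix ι ι F)) = W := by
  by_cases hU : U = ⊤
  · refine ⟨1, ?_⟩
    rw [hU, finrank_top] at h
    rw [hU, Submodule.eq_top_of_finrank_eq h.symm,
      show ((1 : SpecialLinearGroup ι F) : Matrix ι ι F) = 1 from rfl, Matrix.toLin'_one,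
      Submodule.map_id]
  · have hlt : Fintype.card (Fin (Module.finrank F U)) < Fintype.card ι := by
      rw [Fintype.card_fin, ← Module.finrank_fintype_fun_eq_card (R := F)]
      exact Submodule.finrank_lt hU
    let b := Module.finBasis F U
    let c := (Module.finBasis F W).reindex (finCongr h.symm)
    obtain ⟨g, hg⟩ := exists_SL_of_linearIndependent
      (v := fun k => (b k : ι → F)) (w := fun k => (c k : ι → F))
      (b.linearIndependent.map' U.subtype U.ker_subtype)
      (c.linearIndependent.map' W.subtype W.ker_subtype) hlt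
    refine ⟨g, Submodule.eq_of_le_of_finrank_eq ?_ ?_⟩
    · rw [← U.range_subtype, ← LinearMap.range_comp, LinearMap.range_eq_map, ← b.span_eq,
        Submodule.map_span, Submodule.span_le]
      rintro _ ⟨_, ⟨k, rfl⟩, rfl⟩
      simp [hg]
    · rw [← h]
      exact ((Submodule.equivMapOfInjective _ (fun x y hxy => by
        have := congrArg ((g⁻¹ : SpecialLinearGroup ι F) : Matrix ι ι F).mulVec hxy
        simpa [Matrix.mulVec_mulVec, Matrix.adjugate_mul] using this) U).finrank_eq).symm

/-- `SL` is transitive on the non-zero vectors when `n ≥ 2`. -/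
theorem exists_SL_mulVec_eq (hn : 2 ≤ Fintype.card ι) {v w : ι → F} (hv : v ≠ 0) (hw : w ≠ 0) :
    ∃ g : SpecialLinearGroup ι F, (g : Matrix ι ι F) *ᵥ v = w := by
  obtain ⟨g, hg⟩ := exists_SL_of_linearIndependent (v := fun _ : Unit => v) (w := fun _ : Unit => w)
    (LinearIndependent.of_subsingleton () hv) (LinearIndependent.of_subsingleton () hw)
    (by simp; omega)
  exact ⟨g, hg ()⟩

section Counting

variable [Fintype F]

theorem card_projectiveSpace :
    Nat.card (ℙ F (ι → F)) =
      (Fintype.card F ^ Fintype.card ι - 1) / (Fintype.card F - 1) := by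
  rw [Projectivization.card'', Nat.card_fun, Nat.card_eq_fintype_card, Nat.card_eq_fintype_card]

/-- The point stabiliser in `SL` has index the number of points. -/
theorem index_stabilizer_SL [Nontrivial ι] (p : ℙ F (ι → F)) :
    (MulAction.stabilizer (SpecialLinearGroup ι F) p).index =
      (Fintype.card F ^ Fintype.card ι - 1) / (Fintype.card F - 1) := by
  rw [MulAction.index_stabilizer_of_transitive, card_projectiveSpace]

/-- The point stabiliser in `PSL` has index the number of points. -/
theorem index_stabilizer_PSL [Nontrivial ι] (p : ℙ F (ι → F)) :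
    (MulAction.stabilizer (ProjectiveSpecialLinearGroup ι F) p).index =
      (Fintype.card F ^ Fintype.card ι - 1) / (Fintype.card F - 1) := by
  rw [MulAction.index_stabilizer_of_transitive, card_projectiveSpace]

end Counting

section Parabolic

variable (F) (k m : ℕ)

/-- The maximal parabolic subgroup: block upper triangular matrices of shape `(k, m)`. -/
def parabolic : Subgroup (GL (Fin k ⊕ Fin m) F) where
  carrier := {g | (g : Matrix (Fin k ⊕ Fin m) (Fin k ⊕ Fin m) F).toBlocks₂₁ = 0}
  one_mem' := by
    ext i j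
    simp [Matrix.toBlocks₂₁]
  mul_mem' {a b} ha hb := by
    simp only [Set.mem_ofPred_eq, GeneralLinearGroup.coe_mul] at ha hb ⊢
    ext i j
    have ha' := fun i l => congrFun (congrFun ha i) l
    have hb' := fun l j => congrFun (congrFun hb l) j
    simp [Matrix.toBlocks₂₁] at ha' hb'
    simp [Matrix.toBlocks₂₁, Matrix.mul_apply, ha', hb']
  inv_mem' {a} ha := by
    simp only [Set.mem_ofPred_eq] at ha ⊢
    letI := a.invertible
    have hT : BlockTriangular (a : Matrix (Fin k ⊕ Fin m) (Fin k ⊕ Fin m) F)
        (Sum.elim (fun _ => 0) (fun _ => 1) : Fin k ⊕ Fin m → ℕ) := by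
      rintro (i | i) (j | j) h <;> simp at h
      exact congrFun (congrFun ha i) j
    rw [Matrix.coe_units_inv]
    ext i j
    exact blockTriangular_inv_of_blockTriangular hT (i := Sum.inr i) (j := Sum.inl j) (by simp)

variable {F k m}

theorem mem_parabolic {g : GL (Fin k ⊕ Fin m) F} :
    g ∈ parabolic F k m ↔ ∀ i j, (g : Matrix (Fin k ⊕ Fin m) (Fin k ⊕ Fin m) F) (.inr i) (.inl j) = 0 :=
  ⟨fun h i j => congrFun (congrFun h i) j, fun h => Matrix.ext h⟩

variable (F k m)

/-- The parabolic as triples (two diagonal blocks and the unipotent block). -/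
noncomputable def parabolicEquiv :
    parabolic F k m ≃ GL (Fin k) F × GL (Fin m) F × Matrix (Fin k) (Fin m) F :=
  have hblock : ∀ g : parabolic F k m,
      (g : GL (Fin k ⊕ Fin m) F).1.toBlocks₁₁.det ≠ 0 ∧
      (g : GL (Fin k ⊕ Fin m) F).1.toBlocks₂₂.det ≠ 0 := fun g => by
    have h := GeneralLinearGroup.det_ne_zero (g : GL (Fin k ⊕ Fin m) F)
    rw [← Matrix.fromBlocks_toBlocks (g : GL (Fin k ⊕ Fin m) F).1, g.2,
      Matrix.det_fromBlocks_zero₂₁] at h
    exact ⟨left_ne_zero_of_mul h, right_ne_zero_of_mul h⟩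
  { toFun := fun g => (GeneralLinearGroup.mkOfDetNeZero _ (hblock g).1,
      GeneralLinearGroup.mkOfDetNeZero _ (hblock g).2, (g : GL (Fin k ⊕ Fin m) F).1.toBlocks₁₂)
    invFun := fun x => ⟨GeneralLinearGroup.mkOfDetNeZero (fromBlocks x.1.1 x.2.2 0 x.2.1.1) (by
        rw [Matrix.det_fromBlocks_zero₂₁]
        exact mul_ne_zero (GeneralLinearGroup.det_ne_zero _) (GeneralLinearGroup.det_ne_zero _)),
      Matrix.toBlocks_fromBlocks₂₁ _ _ _ _⟩
    left_inv := fun g => Subtype.ext (Units.ext ((congrArg (fun C => fromBlocks _ _ C _) g.2.symm).trans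
      (Matrix.fromBlocks_toBlocks _)))
    right_inv := fun x => Prod.ext (Units.ext (Matrix.toBlocks_fromBlocks₁₁ _ _ _ _))
      (Prod.ext (Units.ext (Matrix.toBlocks_fromBlocks₂₂ _ _ _ _))
        (Matrix.toBlocks_fromBlocks₁₂ _ _ _ _)) }

theorem card_parabolic [Fintype F] :
    Nat.card (parabolic F k m) =
      Nat.card (GL (Fin k) F) * Nat.card (GL (Fin m) F) * Fintype.card F ^ (k * m) := by
  rw [Nat.card_congr (parabolicEquiv F k m), Nat.card_prod, Nat.card_prod, mul_assoc]
  congr 2
  rw [show Matrix (Fin k) (Fin m) F = (Fin k → Fin m → F) from rfl, Nat.card_fun, Nat.card_fun,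
    Nat.card_fin, Nat.card_fin, Nat.card_eq_fintype_card, ← pow_mul, mul_comm]

end Parabolic

end Cfsg.Agent.GL
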