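import Mathlib
import Cfsg.Agent.Lib.GL.ElementOrders

/-!
An endomorphism commuting with a non-zero nilpotent endomorphism of an `n`-space, `n ≥ 4`, has no irreducible
factor of degree `n - 1` or `n` in its minimal polynomial.
-/

set_option autoImplicit false

open Polynomial Module

namespace Cfsg.Agent.GL

variable {F V : Type*} [Field F] [AddCommGroup V] [Module F V] [FiniteDimensional F V]

/-- A non-zero invariant subspace inside the kernel of `g(f)`, `g` irreducible, has dimension at least `deg g`. -/
theorem natDegree_le_finrank_of_invariant (f : End F V) {g : F[X]} (hg : Irreducible g) (U : Submodule F V)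
    (hU : U ≠ ⊥) (hinv : ∀ u ∈ U, f u ∈ U) (hker : ∀ u ∈ U, aeval f g u = 0) :
    g.natDegree ≤ finrank F U := by
  obtain ⟨v, hv, hv0⟩ := U.exists_mem_ne_zero_of_ne_bot hU
  have hpow : ∀ k : ℕ, (f ^ k) v ∈ U := fun k => by
    induction k with
    | zero => simpa using hv
    | succ k ih => rw [pow_succ', Module.End.mul_apply]; exact hinv _ ih
  have hmem : ∀ p : F[X], aeval f p v ∈ U := fun p => by
    induction p using Polynomial.induction_on' with
    | add p q hp hq => rw [map_add, LinearMap.add_apply]; exact U.add_mem hp hq
    | monomial k c => simp only [aeval_monomial, Module.End.mul_apply, Module.algebraMap_end_apply]; exact U.smul_mem c (hpow k)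
  let φ : Polynomial.degreeLT F g.natDegree →ₗ[F] U :=
    { toFun := fun p => ⟨aeval f p.1 v, hmem p.1⟩
      map_add' := fun p q => Subtype.ext (by simp)
      map_smul' := fun c p => Subtype.ext (by simp) }
  have hφ : Function.Injective φ := by
    rw [← LinearMap.ker_eq_bot, LinearMap.ker_eq_bot']
    intro p hp
    have hp' : aeval f p.1 v = 0 := congrArg Subtype.val hp
    by_contra hne
    have hne' : (p : F[X]) ≠ 0 := fun h => hne (Subtype.ext h)
    have hdeg : (p : F[X]).natDegree < g.natDegree :=
      (natDegree_lt_iff_degree_lt hne').2 (mem_degreeLT.1 p.2)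
    obtain ⟨a, b, hab⟩ := hg.coprime_iff_not_dvd.2 fun h => by
      have := natDegree_le_of_dvd h hne'; omega
    apply hv0
    have h1 := congrArg (fun q => aeval f q v) hab
    simp only [map_add, map_mul, map_one, LinearMap.add_apply, Module.End.mul_apply, Module.End.one_apply, hp', hker v hv,
      map_zero, add_zero] at h1
    exact h1.symm
  refine le_trans (le_of_eq ?_) (LinearMap.finrank_le_finrank_of_injective hφ)
  rw [(Polynomial.degreeLTEquiv F g.natDegree).finrank_eq, finrank_pi, Fintype.card_fin]

theorem commute_aeval_of_commute {R A : Type*} [CommSemiring R] [Semiring A] [Algebra R A] {a b : A}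
    (h : Commute a b) (p : R[X]) : Commute (aeval a p) b := by
  induction p using Polynomial.induction_on' with
  | add p q hp hq => rw [map_add]; exact hp.add_left hq
  | monomial k c => rw [aeval_monomial]; exact Commute.mul_left (Algebra.commutes c b) (h.pow_left k)

/-- The minimal polynomial of an endomorphism commuting with a non-zero nilpotent one. -/
theorem natDegree_le_of_commute_nilpotent (f N : End F V) (hn : 4 ≤ finrank F V) (hN : IsNilpotent N) (hN0 : N ≠ 0)
    (hc : Commute f N) {g : F[X]} (hg : Irreducible g) (hgd : g ∣ minpoly F f) :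
    g.natDegree + 2 ≤ finrank F V := by
  by_contra hlt
  push Not at hlt
  set d := g.natDegree with hd
  have hint := Algebra.IsIntegral.isIntegral (R := F) f
  set U := LinearMap.ker (aeval f g) with hU
  have hU0 : U ≠ ⊥ := by
    intro h
    obtain ⟨e, he⟩ := hgd
    have he0 : e ≠ 0 := fun h0 => minpoly.ne_zero hint (by rw [he, h0, mul_zero])
    have hdeg : e.natDegree < (minpoly F f).natDegree := by
      rw [he, natDegree_mul hg.ne_zero he0]
      have := hg.natDegree_pos
      omega
    have h0 : aeval f e = 0 := by
      apply LinearMap.ext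
      intro v
      have h1 : aeval f g (aeval f e v) = 0 := by
        rw [← Module.End.mul_apply, ← map_mul, ← he, minpoly.aeval]; rfl
      have h2 : aeval f e v ∈ U := h1
      rw [h] at h2
      simpa using h2
    have := natDegree_le_of_dvd (minpoly.dvd F f h0) he0
    omega
  have hUinv : ∀ u ∈ U, f u ∈ U := fun u hu => by
    show aeval f g (f u) = 0
    rw [← Module.End.mul_apply, (commute_aeval_of_commute (Commute.refl f) g).eq, Module.End.mul_apply, hu, map_zero]
  have hUN : ∀ u ∈ U, N u ∈ U := fun u hu => by
    show aeval f g (N u) = 0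
    have h1 : Commute (aeval f g) N := commute_aeval_of_commute hc g
    rw [← Module.End.mul_apply, h1.eq, Module.End.mul_apply, hu, map_zero]
  have hUd : d ≤ finrank F U := natDegree_le_finrank_of_invariant f hg U hU0 hUinv fun u hu => hu
  -- `N` vanishes on `U`
  have hUK : U ≤ LinearMap.ker N := by
    have hK0 : U ⊓ LinearMap.ker N ≠ ⊥ := by
      obtain ⟨k, hk⟩ := hN
      obtain ⟨u, hu, hu0⟩ := U.exists_mem_ne_zero_of_ne_bot hU0
      intro hbot
      have : ∀ j : ℕ, (N ^ j) u ≠ 0 ∧ (N ^ j) u ∈ U := by
        intro j
        induction j with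
        | zero => exact ⟨by simpa using hu0, by simpa using hu⟩
        | succ j ih =>
          rw [pow_succ', Module.End.mul_apply]
          refine ⟨fun h => ih.1 ?_, hUN _ ih.2⟩
          have h2 : (N ^ j) u ∈ U ⊓ LinearMap.ker N := ⟨ih.2, h⟩
          rw [hbot] at h2
          simpa using h2
      exact (this k).1 (by rw [hk]; rfl)
    have hKd := natDegree_le_finrank_of_invariant f hg (U ⊓ LinearMap.ker N) hK0
      (fun u hu => ⟨hUinv u hu.1, by
        show N (f u) = 0
        rw [← Module.End.mul_apply, ← hc.eq, Module.End.mul_apply, show N u = 0 from hu.2, map_zero]⟩)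
      (fun u hu => hu.1)
    by_contra hnle
    have hlt' : U ⊓ LinearMap.ker N < U := lt_of_le_of_ne inf_le_left fun h => hnle (h ▸ inf_le_right)
    -- the image of `U` under `N` is a small invariant subspace of `U`
    have hI0 : U.map N ≠ ⊥ := fun h => hnle fun u hu => by
      have : N u ∈ U.map N := Submodule.mem_map_of_mem hu
      rw [h] at this
      simpa using this
    have hId := natDegree_le_finrank_of_invariant f hg (U.map N) hI0
      (fun w ⟨u, hu, hw⟩ => ⟨f u, hUinv u hu, by
        rw [← hw, ← Module.End.mul_apply, ← hc.eq, Module.End.mul_apply]⟩)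
      (fun w ⟨u, hu, hw⟩ => hw ▸ hUN u hu)
    have hrk := LinearMap.finrank_range_add_finrank_ker (N.domRestrict U)
    rw [LinearMap.range_domRestrict, LinearMap.ker_domRestrict] at hrk
    have hcomap : finrank F ((LinearMap.ker N).comap U.subtype) = finrank F (U ⊓ LinearMap.ker N : Submodule F V) := by
      rw [← Submodule.finrank_map_subtype_eq, Submodule.map_comap_subtype]
    have := Submodule.finrank_le U
    omega
  have hKlt : finrank F (LinearMap.ker N) < finrank F V := by
    refine Submodule.finrank_lt (fun h => hN0 ?_)
    exact LinearMap.ker_eq_top.1 h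
  have h1 := Submodule.finrank_mono hUK
  have hK : LinearMap.ker N = U := (Submodule.eq_of_le_of_finrank_le hUK (by omega)).symm
  have hR0 : LinearMap.range N ≠ ⊥ := fun h => hN0 (LinearMap.range_eq_bot.1 h)
  have hRd := natDegree_le_finrank_of_invariant f hg (U ⊓ LinearMap.range N) (by
      obtain ⟨k, hk⟩ := hN
      obtain ⟨w, hw, hw0⟩ := (LinearMap.range N).exists_mem_ne_zero_of_ne_bot hR0
      intro hbot
      have : ∀ j : ℕ, (N ^ j) w ≠ 0 ∧ (N ^ j) w ∈ LinearMap.range N := by
        intro j
        induction j with
        | zero => exact ⟨by simpa using hw0, by simpa using hw⟩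
        | succ j ih =>
          rw [pow_succ', Module.End.mul_apply]
          refine ⟨fun h => ih.1 ?_, LinearMap.mem_range_self N _⟩
          have h2 : (N ^ j) w ∈ U ⊓ LinearMap.range N := ⟨hK ▸ (h : (N ^ j) w ∈ LinearMap.ker N), ih.2⟩
          rw [hbot] at h2
          simpa using h2
      exact (this k).1 (by rw [hk]; rfl))
    (fun u hu => ⟨hUinv u hu.1, by
      obtain ⟨x, hx⟩ := hu.2
      exact ⟨f x, by rw [← hx, ← Module.End.mul_apply, ← hc.eq, Module.End.mul_apply]⟩⟩)
    (fun u hu => hu.1)
  have h2 := Submodule.finrank_mono (inf_le_right : U ⊓ LinearMap.range N ≤ LinearMap.range N)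
  have h3 := LinearMap.finrank_range_add_finrank_ker N
  omega

end Cfsg.Agent.GL
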