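import Mathlib
import Cfsg.Agent.Lib.GL.CentralizerFactors

/-!
An endomorphism commuting with a non-zero nilpotent endomorphism of an `n`-space, `n ≥ 4`: two distinct
irreducible factors of its minimal polynomial, of degrees at least `d`, force `2 d + 2 ≤ n`.
-/

set_option autoImplicit false

open Polynomial Module

namespace Cfsg.Agent.GL

variable {F V : Type*} [Field F] [AddCommGroup V] [Module F V] [FiniteDimensional F V]

theorem ker_aeval_ne_bot_of_dvd_minpoly (f : End F V) {g : F[X]} (hg : Irreducible g)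
    (hgd : g ∣ minpoly F f) : LinearMap.ker (aeval f g) ≠ ⊥ := by
  intro h
  have hint := Algebra.IsIntegral.isIntegral (R := F) f
  obtain ⟨e, he⟩ := hgd
  have he0 : e ≠ 0 := fun h0 => minpoly.ne_zero hint (by rw [he, h0, mul_zero])
  have hdeg : e.natDegree < (minpoly F f).natDegree := by
    rw [he, natDegree_mul hg.ne_zero he0]
    have := hg.natDegree_pos
    omega
  have h0 : aeval f e = 0 := by
    apply LinearMap.ext
    intro v
    have h1 : aeval f g (aeval f e v) = 0 := by
      rw [← Module.End.mul_apply, ← map_mul, ← he, minpoly.aeval]; rfl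
    have h2 : aeval f e v ∈ LinearMap.ker (aeval f g) := h1
    rw [h] at h2
    simpa using h2
  have := natDegree_le_of_dvd (minpoly.dvd F f h0) he0
  omega

/-- On an invariant subspace inside `ker g(f)` on which a commuting nilpotent acts non-trivially. -/
theorem two_mul_natDegree_le_finrank (f N : End F V) (hN : IsNilpotent N) (hc : Commute f N) {g : F[X]}
    (hg : Irreducible g) (U : Submodule F V) (hUinv : ∀ u ∈ U, f u ∈ U) (hUN : ∀ u ∈ U, N u ∈ U)
    (hker : ∀ u ∈ U, aeval f g u = 0) (hne : ¬ U ≤ LinearMap.ker N) :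
    2 * g.natDegree ≤ finrank F U := by
  have hU0 : U ≠ ⊥ := fun h => hne (h ▸ bot_le)
  have hK0 : U ⊓ LinearMap.ker N ≠ ⊥ := by
    obtain ⟨k, hk⟩ := hN
    obtain ⟨u, hu, hu0⟩ := U.exists_mem_ne_zero_of_ne_bot hU0
    intro hbot
    have : ∀ j : ℕ, (N ^ j) u ≠ 0 ∧ (N ^ j) u ∈ U := by
      intro j
      induction j with
      | zero => exact ⟨by simpa using hu0, by simpa using hu⟩
      | succ j ih =>
        rw [pow_succ', Module.End.mul_apply]
        refine ⟨fun h => ih.1 ?_, hUN _ ih.2⟩
        have h2 : (N ^ j) u ∈ U ⊓ LinearMap.ker N := ⟨ih.2, h⟩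
        rw [hbot] at h2
        simpa using h2
    exact (this k).1 (by rw [hk]; rfl)
  have hKd := natDegree_le_finrank_of_invariant f hg (U ⊓ LinearMap.ker N) hK0
    (fun u hu => ⟨hUinv u hu.1, by
      show N (f u) = 0
      rw [← Module.End.mul_apply, ← hc.eq, Module.End.mul_apply, show N u = 0 from hu.2, map_zero]⟩)
    (fun u hu => hker u hu.1)
  have hI0 : U.map N ≠ ⊥ := fun h => hne fun u hu => by
    have : N u ∈ U.map N := Submodule.mem_map_of_mem hu
    rw [h] at this
    simpa using this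
  have hId := natDegree_le_finrank_of_invariant f hg (U.map N) hI0
    (fun w ⟨u, hu, hw⟩ => ⟨f u, hUinv u hu, by
      rw [← hw, ← Module.End.mul_apply, ← hc.eq, Module.End.mul_apply]⟩)
    (fun w ⟨u, hu, hw⟩ => hker w (hw ▸ hUN u hu))
  have hrk := LinearMap.finrank_range_add_finrank_ker (N.domRestrict U)
  rw [LinearMap.range_domRestrict, LinearMap.ker_domRestrict] at hrk
  have hcomap : finrank F ((LinearMap.ker N).comap U.subtype) = finrank F (U ⊓ LinearMap.ker N : Submodule F V) := by
    rw [← Submodule.finrank_map_subtype_eq, Submodule.map_comap_subtype]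
  omega

theorem two_mul_natDegree_add_two_le (f N : End F V) (hn : 4 ≤ finrank F V) (hN : IsNilpotent N)
    (hN0 : N ≠ 0) (hc : Commute f N) {g₁ g₂ : F[X]} (hg₁ : Irreducible g₁) (hg₂ : Irreducible g₂)
    (hd₁ : g₁ ∣ minpoly F f) (hd₂ : g₂ ∣ minpoly F f) (hcop : IsCoprime g₁ g₂)
    (hle : g₁.natDegree ≤ g₂.natDegree) : 2 * g₁.natDegree + 2 ≤ finrank F V := by
  by_cases h1 : g₁.natDegree = 1
  · omega
  have hpos := hg₁.natDegree_pos
  have inv : ∀ g : F[X], (∀ u ∈ LinearMap.ker (aeval f g), f u ∈ LinearMap.ker (aeval f g)) ∧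
      ∀ u ∈ LinearMap.ker (aeval f g), N u ∈ LinearMap.ker (aeval f g) := fun g =>
    ⟨fun u hu => by
      show aeval f g (f u) = 0
      rw [← Module.End.mul_apply, (commute_aeval_of_commute (Commute.refl f) g).eq, Module.End.mul_apply,
        show aeval f g u = 0 from hu, map_zero],
    fun u hu => by
      show aeval f g (N u) = 0
      have h1 : Commute (aeval f g) N := commute_aeval_of_commute hc g
      rw [← Module.End.mul_apply, h1.eq, Module.End.mul_apply, show aeval f g u = 0 from hu, map_zero]⟩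
  set U₁ := LinearMap.ker (aeval f g₁) with hU₁
  set U₂ := LinearMap.ker (aeval f g₂) with hU₂
  have hk₁ := natDegree_le_finrank_of_invariant f hg₁ U₁ (ker_aeval_ne_bot_of_dvd_minpoly f hg₁ hd₁)
    (inv g₁).1 fun u hu => hu
  have hk₂ := natDegree_le_finrank_of_invariant f hg₂ U₂ (ker_aeval_ne_bot_of_dvd_minpoly f hg₂ hd₂)
    (inv g₂).1 fun u hu => hu
  have hdisj : Disjoint U₁ U₂ := by
    rw [Submodule.disjoint_def]
    intro u hu1 hu2
    obtain ⟨a, b, hab⟩ := hcop
    have h3 := congrArg (fun q => aeval f q u) hab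
    simp only [map_add, map_mul, map_one, LinearMap.add_apply, Module.End.mul_apply,
      Module.End.one_apply] at h3
    rw [show aeval f g₁ u = 0 from hu1, show aeval f g₂ u = 0 from hu2, map_zero, map_zero, add_zero] at h3
    exact h3.symm
  have hsum := Submodule.finrank_sup_add_finrank_inf_eq U₁ U₂
  rw [hdisj.eq_bot, finrank_bot, add_zero] at hsum
  have hV := Submodule.finrank_le (U₁ ⊔ U₂)
  by_cases hN1 : U₁ ≤ LinearMap.ker N
  swap
  · have := two_mul_natDegree_le_finrank f N hN hc hg₁ U₁ (inv g₁).1 (inv g₁).2 (fun u hu => hu) hN1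
    omega
  by_cases hN2 : U₂ ≤ LinearMap.ker N
  swap
  · have := two_mul_natDegree_le_finrank f N hN hc hg₂ U₂ (inv g₂).1 (inv g₂).2 (fun u hu => hu) hN2
    omega
  by_contra hlt
  push Not at hlt
  have hrk := LinearMap.finrank_range_add_finrank_ker N
  have hKU : U₁ ⊔ U₂ ≤ LinearMap.ker N := sup_le hN1 hN2
  have hK := Submodule.finrank_mono hKU
  have hKlt : finrank F (LinearMap.ker N) < finrank F V :=
    Submodule.finrank_lt fun h => hN0 (LinearMap.ker_eq_top.1 h)
  have hR : finrank F (LinearMap.range N) = 1 := by omega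
  have heq : LinearMap.ker N = U₁ ⊔ U₂ := (Submodule.eq_of_le_of_finrank_le hKU (by omega)).symm
  -- the image is an invariant line in the kernel
  have hRK : LinearMap.range N ≤ LinearMap.ker N := by
    by_contra hnle
    obtain ⟨w, hw, hwK⟩ := SetLike.not_le_iff_exists.1 hnle
    have hw0 : w ≠ 0 := fun h => hwK (h ▸ Submodule.zero_mem _)
    obtain ⟨a, ha⟩ := (finrank_eq_one_iff_of_nonzero' (⟨w, hw⟩ : LinearMap.range N)
      (fun h => hw0 (congrArg Subtype.val h))).1 hR ⟨N w, LinearMap.mem_range_self N w⟩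
    have ha' : N w = a • w := (congrArg Subtype.val ha).symm
    obtain ⟨k, hk⟩ := hN
    have : ∀ j : ℕ, (N ^ j) w = a ^ j • w := by
      intro j
      induction j with
      | zero => simp
      | succ j ih => rw [pow_succ', Module.End.mul_apply, ih, map_smul, ha', smul_smul, pow_succ]
    have h3 := this k
    rw [hk, LinearMap.zero_apply, eq_comm, smul_eq_zero] at h3
    rcases h3 with h3 | h3
    · exact hwK (show N w = 0 by rw [ha', (pow_eq_zero_iff'.1 h3).1, zero_smul])
    · exact hw0 h3
  obtain ⟨w, hw, hw0⟩ := (LinearMap.range N).exists_mem_ne_zero_of_ne_bot fun h => by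
    rw [h, finrank_bot] at hR
    exact zero_ne_one hR
  obtain ⟨u₁, hu₁, u₂, hu₂, hu⟩ := Submodule.mem_sup.1 (heq ▸ hRK hw : w ∈ U₁ ⊔ U₂)
  obtain ⟨a, ha⟩ : ∃ a : F, a • w = f w := by
    have hfw : f w ∈ LinearMap.range N := by
      obtain ⟨x, rfl⟩ := hw
      exact ⟨f x, by rw [← Module.End.mul_apply, ← hc.eq, Module.End.mul_apply]⟩
    obtain ⟨a, ha⟩ := (finrank_eq_one_iff_of_nonzero' (⟨w, hw⟩ : LinearMap.range N)
      (fun h => hw0 (congrArg Subtype.val h))).1 hR ⟨f w, hfw⟩
    exact ⟨a, congrArg Subtype.val ha⟩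
  have hev : ∀ q : F[X], aeval f q w = q.eval a • w := fun q => by
    induction q using Polynomial.induction_on' with
    | add p q hp hq => rw [map_add, LinearMap.add_apply, hp, hq, eval_add, add_smul]
    | monomial k c =>
      have hp : ∀ j : ℕ, (f ^ j) w = a ^ j • w := fun j => by
        induction j with
        | zero => simp
        | succ j ih => rw [pow_succ', Module.End.mul_apply, ih, map_smul, ← ha, smul_smul, pow_succ]
      rw [aeval_monomial, Module.End.mul_apply, Module.algebraMap_end_apply, hp, smul_smul, eval_monomial]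
  have h3 : aeval f (g₁ * g₂) w = 0 := by
    rw [← hu, map_add]
    have e1 : aeval f (g₁ * g₂) u₁ = 0 := by
      rw [mul_comm, map_mul, Module.End.mul_apply, show aeval f g₁ u₁ = 0 from hu₁, map_zero]
    have e2 : aeval f (g₁ * g₂) u₂ = 0 := by
      rw [map_mul, Module.End.mul_apply, show aeval f g₂ u₂ = 0 from hu₂, map_zero]
    rw [e1, e2, add_zero]
  rw [hev, smul_eq_zero, eval_mul, mul_eq_zero] at h3
  rcases h3 with (h3 | h3) | h3
  · have := natDegree_le_of_dvd ((irreducible_X_sub_C a).dvd_symm hg₁ (dvd_iff_isRoot.2 h3))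
      (X_sub_C_ne_zero a)
    rw [natDegree_X_sub_C] at this
    omega
  · have := natDegree_le_of_dvd ((irreducible_X_sub_C a).dvd_symm hg₂ (dvd_iff_isRoot.2 h3))
      (X_sub_C_ne_zero a)
    rw [natDegree_X_sub_C] at this
    omega
  · exact hw0 h3

end Cfsg.Agent.GL
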