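import Cfsg.Agent.Lib.GL.ClassNumber
import Cfsg.Agent.Lib.GL.Basic

/-!
The class data of an invertible matrix (`ClassNumber.Seq`): uniqueness, the determinant, determinants of
centralising elements and the effect of multiplication by a scalar.
-/

set_option autoImplicit false

open Polynomial Module
open scoped Classical Matrix

namespace Cfsg.Agent.GL.ClassData

open Cfsg.Agent.GL.ClassNumber

universe u

variable {F : Type u} [Field F]

/-- `(-1) ^ deg P * P 0`: the product of the roots. -/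
noncomputable def sd (P : F[X]) : F := (-1) ^ P.natDegree * P.coeff 0

theorem sd_one : sd (1 : F[X]) = 1 := by simp [sd]

theorem sd_mul {P P' : F[X]} (hP : P ≠ 0) (hP' : P' ≠ 0) : sd (P * P') = sd P * sd P' := by
  rw [sd, sd, sd, natDegree_mul hP hP', mul_coeff_zero, pow_add]; ring

theorem sd_prod {κ : Type*} (s : Finset κ) (P : κ → F[X]) (hP : ∀ i, P i ≠ 0) :
    sd (∏ i ∈ s, P i) = ∏ i ∈ s, sd (P i) := by
  classical
  induction s using Finset.induction_on with
  | empty => simp [sd_one]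
  | insert i s hi ih =>
    rw [Finset.prod_insert hi, Finset.prod_insert hi, sd_mul (hP i) (Finset.prod_ne_zero_iff.2 fun j _ => hP j), ih]

theorem det_blockDiag {R : Type*} [CommRing R] {κ : Type*} [Fintype κ] [LinearOrder κ] {m : κ → Type*}
    [∀ i, Fintype (m i)] [∀ i, DecidableEq (m i)] (d : ∀ i, Matrix (m i) (m i) R) :
    (Matrix.blockDiagonal' d).det = ∏ i, (d i).det := by
  rw [(Matrix.blockTriangular_blockDiagonal' d).det_fintype]
  refine Finset.prod_congr rfl fun a _ => ?_
  rw [← Matrix.det_reindex_self (Equiv.sigmaSubtype a) ((Matrix.blockDiagonal' d).toSquareBlock Sigma.fst a)]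
  congr 1
  ext i j
  simp [Matrix.toSquareBlock, Matrix.toSquareBlockProp, Equiv.sigmaSubtype, Matrix.blockDiagonal'_apply_eq]

theorem det_pi_dep {κ : Type*} [Fintype κ] {M : κ → Type*} [∀ i, AddCommGroup (M i)] [∀ i, Module F (M i)]
    [∀ i, FiniteDimensional F (M i)] (f : ∀ i, M i →ₗ[F] M i) :
    LinearMap.det (LinearMap.pi fun i => (f i).comp (LinearMap.proj i)) = ∏ i, LinearMap.det (f i) := by
  let : LinearOrder κ := LinearOrder.lift' (Fintype.equivFin κ) (Fintype.equivFin κ).injective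
  let b := fun i => Module.finBasis F (M i)
  rw [← LinearMap.det_toMatrix (Pi.basis b)]
  have : LinearMap.toMatrix (Pi.basis b) (Pi.basis b) (LinearMap.pi fun i => (f i).comp (LinearMap.proj i)) =
      Matrix.blockDiagonal' fun i => LinearMap.toMatrix (b i) (b i) (f i) := by
    ext ⟨i, a⟩ ⟨j, c⟩
    rw [LinearMap.toMatrix_apply, Pi.basis_repr, Pi.basis_apply]
    by_cases hij : i = j
    · subst hij
      simp [Matrix.blockDiagonal'_apply_eq, LinearMap.toMatrix_apply]
    · rw [Matrix.blockDiagonal'_apply_ne _ _ _ hij]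
      simp [Pi.single_eq_of_ne hij]
  rw [this, det_blockDiag]
  simp [LinearMap.det_toMatrix]

theorem finiteDimensional_Q {P : F[X]} (hP : P.Monic) (k : ℕ) : FiniteDimensional F (Q (P ^ k)) :=
  (hP.pow k).finite_quotient

/-- Multiplication by `u` on a cyclic piece, over `F`. -/
noncomputable def mulOn (u P : F[X]) : Q P →ₗ[F] Q P := (LinearMap.lsmul F[X] (Q P) u).restrictScalars F

theorem det_mulOn_eq {f : F[X]} (hf : f.Monic) (u : F[X]) :
    LinearMap.det (mulOn u f) = (aeval (Algebra.leftMulMatrix (AdjoinRoot.powerBasis' hf).basis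
      (AdjoinRoot.powerBasis' hf).gen) u).det := by
  rw [aeval_algHom_apply, AdjoinRoot.powerBasis'_gen, AdjoinRoot.aeval_eq, ← Algebra.norm_eq_matrix_det,
    Algebra.norm_apply]
  refine congrArg LinearMap.det (LinearMap.ext fun v => ?_)
  obtain ⟨w, rfl⟩ := Submodule.Quotient.mk_surjective _ v
  show (u • Submodule.Quotient.mk w : Q f) = _
  rw [← Submodule.Quotient.mk_smul]
  rfl

theorem charpoly_companion {f : F[X]} (hf : f.Monic) :
    (Algebra.leftMulMatrix (AdjoinRoot.powerBasis' hf).basis (AdjoinRoot.powerBasis' hf).gen).charpoly = f := by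
  rw [charpoly_leftMulMatrix, AdjoinRoot.powerBasis'_gen, AdjoinRoot.minpoly_root hf.ne_zero,
    hf.leadingCoeff, inv_one, C_1, mul_one]

theorem det_aeval_X_sub_C {K : Type*} [Field K] {ν : Type*} [Fintype ν] [DecidableEq ν] (N : Matrix ν ν K) (r : K) :
    (aeval N (X - C r)).det = (-1) ^ Fintype.card ν * N.charpoly.eval r := by
  rw [Matrix.eval_charpoly, map_sub, aeval_X, aeval_C, Algebra.algebraMap_eq_smul_one, ← Matrix.det_neg,
    neg_sub, Matrix.scalar_apply, Matrix.smul_one_eq_diagonal]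

theorem det_aeval_of_charpoly_pow {K : Type*} [Field K] [IsAlgClosed K] {n m : Type*} [Fintype n] [DecidableEq n]
    [Fintype m] [DecidableEq m] (M : Matrix n n K) (M' : Matrix m m K) (k : ℕ)
    (h : M'.charpoly = M.charpoly ^ k) (u : K[X]) : (aeval M' u).det = (aeval M u).det ^ k := by
  have hcard : Fintype.card m = k * Fintype.card n := by
    rw [← Matrix.charpoly_natDegree_eq_dim M', h, natDegree_pow, Matrix.charpoly_natDegree_eq_dim]
  rw [(IsAlgClosed.splits u).eq_prod_roots, map_mul, map_mul, Matrix.det_mul, Matrix.det_mul, mul_pow]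
  congr 1
  · simp only [aeval_C, Algebra.algebraMap_eq_smul_one, Matrix.det_smul, Matrix.det_one, mul_one, ← pow_mul]
    rw [hcard, mul_comm]
  · generalize u.roots = s
    induction s using Multiset.induction_on with
    | empty => simp
    | cons r s ih =>
      simp only [Multiset.map_cons, Multiset.prod_cons, map_mul, Matrix.det_mul, ih, mul_pow]
      congr 1
      rw [det_aeval_X_sub_C, det_aeval_X_sub_C, h, eval_pow, hcard, mul_pow, ← pow_mul, mul_comm k]

/-- The norm of `u` modulo `P ^ k` is the `k`-th power of its norm modulo `P`. -/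
theorem det_mulOn_pow {P : F[X]} (hP : P.Monic) (k : ℕ) (u : F[X]) :
    LinearMap.det (mulOn u (P ^ k)) = LinearMap.det (mulOn u P) ^ k := by
  rw [det_mulOn_eq (hP.pow k), det_mulOn_eq hP]
  let K := AlgebraicClosure F
  let ι := algebraMap F K
  apply ι.injective
  rw [map_pow, RingHom.map_det, RingHom.map_det]
  have e : ∀ (ν : Type u) [Fintype ν] [DecidableEq ν] (N : Matrix ν ν F),
      ι.mapMatrix (aeval N u) = aeval (N.map ι) (u.map ι) := by
    intro ν _ _ N
    rw [aeval_map_algebraMap]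
    exact (aeval_algHom_apply ((Algebra.ofId F K).mapMatrix) N u).symm
  have e' : ∀ (a : ℕ) (N : Matrix (Fin a) (Fin a) F),
      ι.mapMatrix (aeval N u) = aeval (N.map ι) (u.map ι) := by
    intro a N
    rw [aeval_map_algebraMap]
    exact (aeval_algHom_apply ((Algebra.ofId F K).mapMatrix) N u).symm
  rw [e', e']
  refine det_aeval_of_charpoly_pow _ _ k ?_ _
  rw [Matrix.charpoly_map, Matrix.charpoly_map, charpoly_companion, charpoly_companion, Polynomial.map_pow]

theorem det_mulOn_X {P : F[X]} (hP : P.Monic) : LinearMap.det (mulOn X P) = sd P := by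
  rw [det_mulOn_eq hP, aeval_X, Matrix.det_eq_sign_charpoly_coeff, charpoly_companion hP, sd, Fintype.card_fin,
    AdjoinRoot.powerBasis'_dim]

theorem exists_det_mulOn_eq [Finite F] {P : F[X]} (hP : P.Monic) (hPi : Irreducible P) (t : F) :
    ∃ u, LinearMap.det (mulOn u P) = t := by
  have : Fact (Irreducible P) := ⟨hPi⟩
  have : Module.Finite F (AdjoinRoot P) := hP.finite_adjoinRoot
  have : Finite (AdjoinRoot P) := Module.finite_of_finite F
  obtain ⟨y, hy⟩ := FiniteField.norm_surjective F (AdjoinRoot P) t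
  obtain ⟨u, rfl⟩ := AdjoinRoot.mk_surjective (g := P) y
  refine ⟨u, ?_⟩
  rw [det_mulOn_eq hP, aeval_algHom_apply, AdjoinRoot.powerBasis'_gen, AdjoinRoot.aeval_eq,
    ← Algebra.norm_eq_matrix_det, hy]

section Pieces

variable {κ : Type u} [Fintype κ] (P : κ → F[X]) (k : κ → ℕ)

theorem finrank_range_smul {P P' : F[X]} (hP' : P'.Monic) (j k : ℕ)
    (h : P = P' ∨ IsCoprime P P') (hP : P.Monic) :
    Module.finrank F (LinearMap.range (mulOn (P ^ j) (P' ^ k))) =
      (if P = P' then k - j else k) * P'.natDegree := by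
  classical
  set k₀ := if P = P' then k - j else k with hk₀
  let L : F[X] →ₗ[F[X]] Q (P' ^ k) :=
    (LinearMap.lsmul F[X] (Q (P' ^ k)) (P ^ j)).comp (Submodule.mkQ _)
  have hker : LinearMap.ker L = (F[X] ∙ P' ^ k₀ : Submodule F[X] F[X]) := by
    ext y
    show (P ^ j) • (Submodule.Quotient.mk y : Q (P' ^ k)) = 0 ↔ y ∈ F[X] ∙ P' ^ k₀
    rw [← Submodule.Quotient.mk_smul, Submodule.Quotient.mk_eq_zero, smul_eq_mul, Ideal.mem_span_singleton,
      Ideal.mem_span_singleton, hk₀]
    by_cases hPP : P = P'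
    · subst hPP
      rw [if_pos rfl]
      rcases Nat.lt_or_ge k j with hkj | hkj
      · rw [Nat.sub_eq_zero_of_le hkj.le, pow_zero]
        exact iff_of_true ((pow_dvd_pow _ hkj.le).trans (dvd_mul_right _ _)) (one_dvd _)
      · conv_lhs => rw [← Nat.add_sub_cancel' hkj, pow_add]
        exact mul_dvd_mul_iff_left (pow_ne_zero _ hP.ne_zero)
    · rw [if_neg hPP]
      exact ⟨fun hd => ((h.resolve_left hPP).symm.pow (m := k) (n := j)).dvd_of_dvd_mul_left hd,
        fun hd => hd.mul_left _⟩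
  have hrange : (LinearMap.range L).restrictScalars F = LinearMap.range (mulOn (P ^ j) (P' ^ k)) := by
    ext v
    constructor
    · rintro ⟨y, rfl⟩; exact ⟨Submodule.Quotient.mk y, rfl⟩
    · rintro ⟨y, rfl⟩
      obtain ⟨w, rfl⟩ := Submodule.Quotient.mk_surjective _ y
      exact ⟨w, rfl⟩
  rw [← hrange]
  change Module.finrank F (LinearMap.range L) = _
  rw [← ((L.quotKerEquivRange).restrictScalars F).finrank_eq,
    ((Submodule.quotEquivOfEq _ _ hker).restrictScalars F).finrank_eq]
  exact (finrank_quotient_span_eq_natDegree (f := P' ^ k₀)).trans (natDegree_pow _ _)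

theorem finrank_range_pi (hP : ∀ i, (P i).Monic ∧ Irreducible (P i)) {R : F[X]} (hR : R.Monic)
    (hRi : Irreducible R) (j : ℕ) :
    Module.finrank F (LinearMap.range ((LinearMap.lsmul F[X] ((i : κ) → Q (P i ^ k i)) (R ^ j)).restrictScalars F)) =
      ∑ i, (if R = P i then k i - j else k i) * (P i).natDegree := by
  have := fun i => finiteDimensional_Q (hP i).1 (k i)
  let S := LinearMap.range ((LinearMap.lsmul F[X] ((i : κ) → Q (P i ^ k i)) (R ^ j)).restrictScalars F)
  let r : S →ₗ[F] ((i : κ) → LinearMap.range (mulOn (R ^ j) (P i ^ k i))) := LinearMap.pi fun i =>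
    LinearMap.codRestrict _ ((LinearMap.proj i).comp (Submodule.subtype S)) fun v => by
      obtain ⟨w, hw⟩ := v.2
      exact ⟨w i, congrFun hw i⟩
  have hr : Function.Bijective r := by
    refine ⟨fun v w h => Subtype.ext (funext fun i => congrArg Subtype.val (congrFun h i)), fun w => ?_⟩
    choose y hy using fun i => (w i).2
    exact ⟨⟨fun i => (w i).1, y, funext hy⟩, funext fun i => Subtype.ext rfl⟩
  let e := LinearEquiv.ofBijective r hr
  have := fun i => Module.Free.of_divisionRing (K := F) (V := LinearMap.range (mulOn (R ^ j) (P i ^ k i)))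
  rw [show Module.finrank F S = _ from e.finrank_eq, Module.finrank_pi_fintype]
  refine Finset.sum_congr rfl fun i _ => finrank_range_smul (hP i).1 j (k i) ?_ hR
  by_cases h : R = P i
  · exact Or.inl h
  · refine Or.inr ((hRi.coprime_iff_not_dvd).2 fun hd => h ?_)
    exact eq_of_monic_of_associated hR (hP i).1 (hRi.associated_of_dvd (hP i).2 hd)

variable {P k}

/-- Isomorphic sums of cyclic pieces have the same products. -/
theorem products_unique {κ' : Type u} [Fintype κ'] {P' : κ' → F[X]} {k' : κ' → ℕ}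
    (hP : ∀ i, (P i).Monic ∧ Irreducible (P i)) (hP' : ∀ i, (P' i).Monic ∧ Irreducible (P' i))
    (e : ((i : κ) → Q (P i ^ k i)) ≃ₗ[F[X]] ((i : κ') → Q (P' i ^ k' i))) {a : ℕ} (ha : 1 ≤ a) :
    ∏ i ∈ Finset.univ.filter (fun i => k i = a), P i = ∏ i ∈ Finset.univ.filter (fun i => k' i = a), P' i := by
  classical
  have hrk : ∀ (R : F[X]), R.Monic → Irreducible R → ∀ j,
      ∑ i, (if R = P i then k i - j else k i) * (P i).natDegree =
        ∑ i, (if R = P' i then k' i - j else k' i) * (P' i).natDegree := by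
    intro R hR hRi j
    rw [← finrank_range_pi P k hP hR hRi j, ← finrank_range_pi P' k' hP' hR hRi j]
    set S := LinearMap.range ((LinearMap.lsmul F[X] ((i : κ) → Q (P i ^ k i)) (R ^ j)).restrictScalars F)
    rw [← LinearEquiv.finrank_map_eq (e.restrictScalars F) S]
    suffices hS : Submodule.map (e.restrictScalars F : _ →ₗ[F] _) S =
        LinearMap.range ((LinearMap.lsmul F[X] ((i : κ') → Q (P' i ^ k' i)) (R ^ j)).restrictScalars F) by rw [hS]
    ext v
    simp only [S, Submodule.mem_map, LinearMap.mem_range]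
    constructor
    · rintro ⟨w, ⟨y, rfl⟩, rfl⟩
      exact ⟨e y, (map_smul e _ _).symm⟩
    · rintro ⟨y, rfl⟩
      exact ⟨_, ⟨e.symm y, rfl⟩, (map_smul e _ _).trans (by rw [e.apply_symm_apply]; rfl)⟩
  -- the number of pieces `R` with exponent `a`
  have hdiff : ∀ (ι : Type u) [Fintype ι] (R : F[X]) (S : ι → F[X]) (l : ι → ℕ) (j : ℕ),
      ∑ i, (if R = S i then l i - j else l i) * (S i).natDegree =
        ∑ i, (if R = S i then l i - (j + 1) else l i) * (S i).natDegree +
          (Finset.univ.filter fun i => S i = R ∧ j < l i).card * R.natDegree := by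
    intro ι _ R S l j
    rw [Finset.card_filter, Finset.sum_mul, ← Finset.sum_add_distrib]
    refine Finset.sum_congr rfl fun i _ => ?_
    by_cases h : R = S i
    · subst h
      by_cases hj : j < l i
      · simp only [if_pos, hj, and_self]
        rw [← add_mul]
        congr 1
        omega
      · simp [hj, Nat.sub_eq_zero_of_le (not_lt.1 hj), Nat.sub_eq_zero_of_le (show l i ≤ j + 1 by omega)]
    · simp [h, Ne.symm h]
  have hcnt : ∀ (R : F[X]), R.Monic → Irreducible R → ∀ j,
      (Finset.univ.filter fun i => P i = R ∧ j < k i).card = (Finset.univ.filter fun i => P' i = R ∧ j < k' i).card := by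
    intro R hR hRi j
    have h1 := hdiff κ R P k j
    have h2 := hdiff κ' R P' k' j
    rw [hrk R hR hRi j] at h1
    rw [hrk R hR hRi (j + 1)] at h1
    exact Nat.eq_of_mul_eq_mul_right hRi.natDegree_pos (by omega)
  have hsplit : ∀ (ι : Type u) [Fintype ι] (R : F[X]) (S : ι → F[X]) (l : ι → ℕ),
      (Finset.univ.filter fun i => S i = R ∧ a - 1 < l i).card =
        (Finset.univ.filter fun i => S i = R ∧ a < l i).card +
          Multiset.count R ((Finset.univ.filter (fun i => l i = a)).val.map S) := by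
    intro ι _ R S l
    rw [Multiset.count_map, ← Finset.filter_val, Finset.filter_filter, ← Finset.card_def, ← Finset.card_union_of_disjoint]
    · congr 1
      ext i
      simp only [Finset.mem_filter, Finset.mem_union, Finset.mem_univ, true_and]
      constructor
      · rintro ⟨h1, h2⟩
        rcases Nat.lt_or_ge a (l i) with h | h
        · exact Or.inl ⟨h1, h⟩
        · exact Or.inr ⟨by omega, h1.symm⟩
      · rintro (⟨h1, h2⟩ | ⟨h1, h2⟩)
        · exact ⟨h1, by omega⟩
        · exact ⟨h2.symm, by omega⟩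
    · rw [Finset.disjoint_filter]
      rintro i - ⟨_, h⟩ ⟨h', _⟩
      omega
  rw [Finset.prod_eq_multiset_prod, Finset.prod_eq_multiset_prod]
  refine congrArg Multiset.prod (Multiset.ext.2 fun R => ?_)
  by_cases hR : R.Monic ∧ Irreducible R
  · have h1 := hsplit κ R P k
    have h2 := hsplit κ' R P' k'
    rw [hcnt R hR.1 hR.2 (a - 1), hcnt R hR.1 hR.2 a] at h1
    omega
  · rw [Multiset.count_eq_zero.2, Multiset.count_eq_zero.2] <;> intro h <;>
      obtain ⟨i, -, rfl⟩ := Multiset.mem_map.1 h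
    · exact hR (hP' i)
    · exact hR (hP i)

end Pieces

variable {n : ℕ}

/-- `Fits` for a matrix. -/
abbrev FitsM (A : Matrix (Fin n) (Fin n) F) (g : Seq F n n) : Prop := Fits (Matrix.toLin' A) g

theorem fits_unique {A : Matrix (Fin n) (Fin n) F} {g g' : Seq F n n} (h : FitsM A g) (h' : FitsM A g') : g = g' := by
  obtain ⟨κ, _, P, k, hP, -, hg, ⟨ψ⟩⟩ := h
  obtain ⟨κ', _, P', k', hP', -, hg', ⟨ψ'⟩⟩ := h'
  refine Subtype.ext (funext fun e => ?_)
  rw [← hg e, ← hg' e]
  exact products_unique hP hP' (ψ.symm.trans ψ') (Nat.succ_pos _)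

theorem fits_of_isConj {A B : GL (Fin n) F} (h : IsConj A B) {g : Seq F n n}
    (hA : FitsM (A : Matrix (Fin n) (Fin n) F) g) : FitsM (B : Matrix (Fin n) (Fin n) F) g := by
  obtain ⟨κ, _, P, k, hP, hk, hg, ⟨ψ⟩⟩ := hA
  obtain ⟨c, hc⟩ := isConj_iff.1 h
  let T : (Fin n → F) ≃ₗ[F] (Fin n → F) :=
    LinearMap.GeneralLinearGroup.generalLinearEquiv F _ (Matrix.GeneralLinearGroup.toLin c⁻¹)
  have hT : ∀ v, T v = (↑c⁻¹ : Matrix (Fin n) (Fin n) F) *ᵥ v := fun v => rfl
  let Φ := LinearEquiv.ofAEval (Matrix.toLin' (B : Matrix (Fin n) (Fin n) F))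
    (T.trans (Module.AEval'.of (Matrix.toLin' (A : Matrix (Fin n) (Fin n) F)))) fun v => by
    show Module.AEval'.of _ (T ((B : Matrix (Fin n) (Fin n) F) *ᵥ v)) =
      (X : F[X]) • Module.AEval'.of (Matrix.toLin' (A : Matrix (Fin n) (Fin n) F)) (T v)
    rw [Module.AEval'.X_smul_of, hT, hT, Matrix.toLin'_apply, Matrix.mulVec_mulVec, Matrix.mulVec_mulVec,
      ← Units.val_mul, ← Units.val_mul, ← hc]
    congr 3
    group
  exact ⟨κ, inferInstance, P, k, hP, hk, hg, ⟨Φ.trans ψ⟩⟩

/-- Conjugation of an `F`-linear map on the pieces. -/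
theorem det_eq_prod {A : Matrix (Fin n) (Fin n) F} {g : Seq F n n} (h : FitsM A g) :
    A.det = ∏ e, sd (g.1 e) ^ ((e : ℕ) + 1) := by
  classical
  obtain ⟨κ, _, P, k, hP, hk, hg, ⟨ψ⟩⟩ := h
  have := fun i => finiteDimensional_Q (hP i).1 (k i)
  let T := (Module.AEval'.of (Matrix.toLin' A)).trans (ψ.restrictScalars F)
  have hconj : T.toLinearMap ∘ₗ Matrix.toLin' A ∘ₗ T.symm.toLinearMap =
      LinearMap.pi fun i => (mulOn X (P i ^ k i)).comp (LinearMap.proj i) := by
    refine LinearMap.ext fun w => ?_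
    obtain ⟨v, rfl⟩ := T.surjective w
    simp only [LinearMap.comp_apply, LinearEquiv.coe_coe, LinearEquiv.symm_apply_apply]
    show ψ (Module.AEval'.of _ (Matrix.toLin' A v)) = (X : F[X]) • ψ (Module.AEval'.of _ v)
    rw [← map_smul, Module.AEval'.X_smul_of]
  have h1 : A.det = ∏ i, sd (P i) ^ k i := by
    rw [← LinearMap.det_toLin', ← LinearMap.det_conj (Matrix.toLin' A) T, hconj, det_pi_dep]
    exact Finset.prod_congr rfl fun i _ => by rw [det_mulOn_pow (hP i).1, det_mulOn_X (hP i).1]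
  rw [h1]
  let j : κ → Fin n := fun i => ⟨k i - 1, by have := hk i; omega⟩
  rw [← Finset.prod_fiberwise Finset.univ j]
  refine Finset.prod_congr rfl fun e _ => ?_
  rw [← hg e, sd_prod _ _ (fun i => (hP i).1.ne_zero), ← Finset.prod_pow]
  refine Finset.prod_congr ?_ fun i hi => ?_
  · ext i
    simp only [Finset.mem_filter, Finset.mem_univ, true_and, j, Fin.ext_iff]
    have := hk i
    omega
  · rw [Finset.mem_filter] at hi
    rw [hi.2]

/-- The centraliser contains every `e+1`-st power as a determinant when `g e ≠ 1`. -/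
theorem exists_commute_det [Finite F] {A : Matrix (Fin n) (Fin n) F} {g : Seq F n n} (h : FitsM A g) {e : Fin n}
    (he : 0 < (g.1 e).natDegree) {t : F} (ht : t ≠ 0) :
    ∃ C : GL (Fin n) F, Commute (C : Matrix (Fin n) (Fin n) F) A ∧
      (C : Matrix (Fin n) (Fin n) F).det = t ^ ((e : ℕ) + 1) := by
  classical
  obtain ⟨κ, _, P, k, hP, hk, hg, ⟨ψ⟩⟩ := h
  obtain ⟨i₀, hi₀⟩ : ∃ i, k i = (e : ℕ) + 1 := by
    by_contra hall
    push Not at hall
    rw [← hg e, Finset.filter_false_of_mem (fun i _ => hall i), Finset.prod_empty, natDegree_one] at he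
    omega
  obtain ⟨u, hu⟩ := exists_det_mulOn_eq (hP i₀).1 (hP i₀).2 t
  have := fun i => finiteDimensional_Q (hP i).1 (k i)
  let w : κ → F[X] := fun i => if i = i₀ then u else 1
  let Mw : ((i : κ) → Q (P i ^ k i)) →ₗ[F[X]] ((i : κ) → Q (P i ^ k i)) :=
    LinearMap.pi fun i => (LinearMap.lsmul F[X] _ (w i)).comp (LinearMap.proj i)
  let T := (Module.AEval'.of (Matrix.toLin' A)).trans (ψ.restrictScalars F)
  let Cl : (Fin n → F) →ₗ[F] (Fin n → F) := T.symm.toLinearMap ∘ₗ Mw.restrictScalars F ∘ₗ T.toLinearMap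
  have hdet : (LinearMap.toMatrix' Cl).det = t ^ ((e : ℕ) + 1) := by
    rw [LinearMap.det_toMatrix']
    show LinearMap.det (T.symm.toLinearMap ∘ₗ Mw.restrictScalars F ∘ₗ T.symm.symm.toLinearMap) = _
    rw [LinearMap.det_conj]
    show LinearMap.det (LinearMap.pi fun i => (mulOn (w i) (P i ^ k i)).comp (LinearMap.proj i)) = _
    rw [det_pi_dep, Finset.prod_eq_single i₀]
    · rw [det_mulOn_pow (hP i₀).1, show w i₀ = u from if_pos rfl, hu, hi₀]
    · intro i _ hi
      rw [show w i = 1 from if_neg hi, show mulOn (1 : F[X]) (P i ^ k i) = LinearMap.id from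
        LinearMap.ext fun v => show (1 : F[X]) • v = v from one_smul _ v, LinearMap.det_id]
    · simp
  refine ⟨Matrix.GeneralLinearGroup.mkOfDetNeZero _ (hdet ▸ pow_ne_zero _ ht), ?_, hdet⟩
  show LinearMap.toMatrix' Cl * A = A * LinearMap.toMatrix' Cl
  apply Matrix.toLin'.injective
  rw [Matrix.toLin'_mul, Matrix.toLin'_mul, Matrix.toLin'_toMatrix']
  refine LinearMap.ext fun v => T.injective ?_
  have hX : ∀ v, T (Matrix.toLin' A v) = (X : F[X]) • T v := fun v => by
    show ψ (Module.AEval'.of _ (Matrix.toLin' A v)) = (X : F[X]) • ψ (Module.AEval'.of _ v)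
    rw [← map_smul, Module.AEval'.X_smul_of]
  simp only [Cl, LinearMap.comp_apply, LinearEquiv.coe_coe, hX, LinearEquiv.apply_symm_apply,
    LinearMap.coe_restrictScalars, map_smul]

theorem scaleRoots_eq_comp {P : F[X]} {z : F} (hz : z ≠ 0) :
    (P.scaleRoots z).comp (C z * X) = C (z ^ P.natDegree) * P := by
  ext i
  rw [comp_C_mul_X_coeff, coeff_scaleRoots, coeff_C_mul]
  rcases le_or_gt i P.natDegree with h | h
  · rw [mul_assoc, ← pow_add, Nat.sub_add_cancel h]; ring
  · rw [coeff_eq_zero_of_natDegree_lt h]; ring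

theorem fits_smul {A : Matrix (Fin n) (Fin n) F} {g g' : Seq F n n} (h : FitsM A g) {z : F} (hz : z ≠ 0)
    (hg' : ∀ e, g'.1 e = (g.1 e).scaleRoots z) : FitsM (z • A) g' := by
  classical
  obtain ⟨κ, _, P, k, hP, hk, hg, ⟨ψ⟩⟩ := h
  let σ : F[X] ≃ₐ[F] F[X] := Polynomial.algEquivOfCompEqX (C z * X) (C z⁻¹ * X)
    (by rw [mul_comp, C_comp, X_comp, ← mul_assoc, ← C_mul, mul_inv_cancel₀ hz, C_1, one_mul])
    (by rw [mul_comp, C_comp, X_comp, ← mul_assoc, ← C_mul, inv_mul_cancel₀ hz, C_1, one_mul])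
  have hσ : ∀ f, σ f = f.comp (C z * X) := fun f => rfl
  let P' : κ → F[X] := fun i => (P i).scaleRoots z
  have hP' : ∀ i, (P' i).Monic ∧ Irreducible (P' i) := by
    intro i
    refine ⟨(monic_scaleRoots_iff z).2 (hP i).1, ?_⟩
    rw [← MulEquiv.irreducible_iff σ.toMulEquiv]
    show Irreducible (σ (P' i))
    rw [hσ, scaleRoots_eq_comp hz]
    exact (associated_unit_mul_left (P i) _ (isUnit_C.2 (isUnit_iff_ne_zero.2 (pow_ne_zero _ hz)))).symm.irreducible (hP i).2
  have hIJ : ∀ i, (Ideal.span {P i ^ k i} : Ideal F[X]) = (Ideal.span {P' i ^ k i}).map (σ : F[X] →+* F[X]) := by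
    intro i
    rw [Ideal.map_span, Set.image_singleton, Ideal.span_singleton_eq_span_singleton]
    show Associated (P i ^ k i) (σ (P' i ^ k i))
    rw [map_pow, hσ, scaleRoots_eq_comp hz]
    exact (associated_unit_mul_left (P i) _ (isUnit_C.2 (isUnit_iff_ne_zero.2 (pow_ne_zero _ hz)))).symm.pow_pow
  let E : ∀ i, (F[X] ⧸ Ideal.span {P' i ^ k i}) ≃ₐ[F] (F[X] ⧸ Ideal.span {P i ^ k i}) := fun i =>
    Ideal.quotientEquivAlg _ _ σ (hIJ i)
  let T : (Fin n → F) ≃ₗ[F] ((i : κ) → Q (P' i ^ k i)) :=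
    ((Module.AEval'.of (Matrix.toLin' A)).trans (ψ.restrictScalars F)).trans
      (LinearEquiv.piCongrRight fun i => (E i).symm.toLinearEquiv)
  let Φ := LinearEquiv.ofAEval (Matrix.toLin' (z • A)) T fun v => by
    funext i
    show (E i).symm (ψ (Module.AEval'.of _ (Matrix.toLin' (z • A) v)) i) =
      Ideal.Quotient.mk _ X * (E i).symm (ψ (Module.AEval'.of _ v) i)
    apply (E i).injective
    rw [map_mul, AlgEquiv.apply_symm_apply, AlgEquiv.apply_symm_apply, map_smul, LinearMap.smul_apply, map_smul,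
      ← Module.AEval'.X_smul_of, ← algebraMap_smul F[X] z, smul_smul, map_smul]
    obtain ⟨y, hy⟩ := Ideal.Quotient.mk_surjective (ψ (Module.AEval'.of (Matrix.toLin' A) v) i)
    rw [Pi.smul_apply]
    show _ = E i (Ideal.Quotient.mk _ X) * _
    rw [show E i (Ideal.Quotient.mk _ X) = Ideal.Quotient.mk _ (σ X) from
      rfl, hσ, X_comp, ← hy]
    rfl
  refine ⟨κ, inferInstance, P', k, hP', hk, fun e => ?_, ⟨Φ⟩⟩
  rw [hg', ← hg e]
  clear hIJ E T Φ hP'
  have hne : ∀ i, P i ≠ 0 := fun i => (hP i).1.ne_zero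
  generalize Finset.univ.filter (fun i => k i = (e : ℕ) + 1) = s
  induction s using Finset.induction_on with
  | empty => simp [P']
  | insert i s hi ih =>
    rw [Finset.prod_insert hi, Finset.prod_insert hi, mul_scaleRoots_of_noZeroDivisors, ih]

end Cfsg.Agent.GL.ClassData
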