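import Cfsg.Agent.Lib.Semisimple.Classes

/-!
The number of conjugacy classes of `GL n F` over a finite field lies between `q ^ n - q ^ (n - 1)` and `q ^ n`.
-/

set_option autoImplicit false

open Polynomial Module

namespace Cfsg.Agent.GL.ClassNumber

universe u

variable {F : Type u} [Field F]

/-! ### Numerical part -/

theorem geom_le (q m : ℕ) (f : ℕ → ℕ) (h1 : ∀ j, f j ≤ q ^ j)
    (h2 : ∀ j, m ≤ j → f j + q ^ (j + 1 - m) ≤ q ^ j) :
    ∀ A j, m * A ≤ j → ∑ a ∈ Finset.range (A + 1), q ^ a * f (j - m * a) ≤ q ^ j := by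
  intro A
  induction A with
  | zero => intro j _; simpa using h1 j
  | succ A ih =>
    intro j hj
    rw [Nat.mul_succ] at hj
    rw [Finset.sum_range_succ']
    have h := ih (j - m) (by omega)
    have e : ∑ a ∈ Finset.range (A + 1), q ^ (a + 1) * f (j - m * (a + 1)) =
        q * ∑ a ∈ Finset.range (A + 1), q ^ a * f (j - m - m * a) := by
      rw [Finset.mul_sum]
      refine Finset.sum_congr rfl fun a _ => ?_
      rw [pow_succ, show j - m * (a + 1) = j - m - m * a by rw [Nat.mul_succ]; omega]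
      ring
    rw [e]
    simp only [pow_zero, one_mul, Nat.mul_zero, Nat.sub_zero]
    have hh := h2 j (by omega)
    rw [show j + 1 - m = (j - m) + 1 by omega, pow_succ] at hh
    have := Nat.mul_le_mul_left q h
    rw [Nat.mul_comm (q ^ (j - m)) q] at hh
    omega

/-- Monic polynomials of degree `a` with nonzero constant coefficient. -/
abbrev Piece (F : Type u) [Field F] (a : ℕ) : Type u :=
  {P : F[X] // (P.Monic ∧ P.natDegree = a) ∧ P.coeff 0 ∈ ({0}ᶜ : Set F)}

theorem piece_zero (P : Piece F 0) : P.1 = 1 :=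
  P.2.1.1.natDegree_eq_zero.1 P.2.1.2

theorem card_piece [Fintype F] (a : ℕ) :
    Nat.card (Piece F (a + 1)) = (Fintype.card F - 1) * Fintype.card F ^ a := by
  classical
  rw [Semisimple.card_monic _ _ (Nat.succ_pos a), Nat.card_coe_set_eq, Set.ncard_compl,
    Set.ncard_singleton, Nat.card_eq_fintype_card, Nat.succ_eq_add_one, Nat.add_sub_cancel]

instance piece_finite [Fintype F] (a : ℕ) : Finite (Piece F a) := by
  cases a with
  | zero => exact Finite.of_injective (fun _ => ()) fun P Q _ => Subtype.ext ((piece_zero P).trans (piece_zero Q).symm)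
  | succ a =>
    refine Nat.finite_of_card_ne_zero ?_
    rw [card_piece]
    have := Fintype.one_lt_card (α := F)
    exact Nat.mul_ne_zero (by omega) (pow_ne_zero _ (by omega))

/-- Sequences `g 0, g 1, …` of monic polynomials with nonzero constant term and weighted degree `n`. -/
def Seq (F : Type u) [Field F] (m n : ℕ) : Type u :=
  {g : Fin m → F[X] // (∀ i, (g i).Monic ∧ (g i).coeff 0 ≠ 0) ∧ ∑ i : Fin m, ((i : ℕ) + 1) * (g i).natDegree = n}

theorem seq_bound [Fintype F] (m : ℕ) : ∀ n, Finite (Seq F m n) ∧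
    Nat.card (Seq F m n) ≤ Fintype.card F ^ n ∧
    (1 ≤ n → m ≤ n → Nat.card (Seq F m n) + Fintype.card F ^ (n - m) ≤ Fintype.card F ^ n) := by
  have hq : 2 ≤ Fintype.card F := Fintype.one_lt_card
  induction m with
  | zero =>
    intro n
    have : Subsingleton (Seq F 0 n) := ⟨fun a b => Subtype.ext (Subsingleton.elim _ _)⟩
    refine ⟨inferInstance, le_trans (Finite.card_le_one_iff_subsingleton.2 this) (Nat.one_le_pow _ _ (by omega)), ?_⟩
    intro hn _
    have : IsEmpty (Seq F 0 n) := ⟨fun g => by have := g.2.2; simp at this; omega⟩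
    simp
  | succ m ih =>
    intro n
    let A := n / (m + 1)
    let T := Σ a : Fin (A + 1), Piece F a × Seq F m (n - (m + 1) * a)
    have := fun j => (ih j).1
    have : Finite T := inferInstance
    have hlast : ∀ g : Seq F (m + 1) n, (m + 1) * (g.1 (Fin.last m)).natDegree ≤ n := by
      intro g
      conv_rhs => rw [← g.2.2]
      exact Finset.single_le_sum (f := fun i : Fin (m + 1) => ((i : ℕ) + 1) * (g.1 i).natDegree)
        (fun i _ => Nat.zero_le _) (Finset.mem_univ (Fin.last m))
    let φ : Seq F (m + 1) n → T := fun g =>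
      ⟨⟨(g.1 (Fin.last m)).natDegree, Nat.lt_succ_of_le ((Nat.le_div_iff_mul_le (Nat.succ_pos m)).2
          (by rw [Nat.mul_comm]; exact hlast g))⟩,
        ⟨g.1 (Fin.last m), ⟨(g.2.1 _).1, rfl⟩, (g.2.1 _).2⟩,
        ⟨fun i => g.1 i.castSucc, fun i => g.2.1 _, by
          have h := g.2.2
          rw [Fin.sum_univ_castSucc] at h
          simp only [Fin.val_castSucc, Fin.val_last] at h
          show ∑ i : Fin m, ((i : ℕ) + 1) * (g.1 i.castSucc).natDegree = n - (m + 1) * (g.1 (Fin.last m)).natDegree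
          omega⟩⟩
    have hφ : Function.Injective φ := by
      intro g g' h
      have h1 := congrArg (fun t : T => t.2.1.1) h
      have h2 := congrArg (fun t : T => t.2.2.1) h
      refine Subtype.ext (funext fun i => ?_)
      induction i using Fin.lastCases with
      | last => exact h1
      | cast i => exact congrFun h2 i
    refine ⟨Finite.of_injective φ hφ, ?_⟩
    let f : ℕ → ℕ := fun j => Nat.card (Seq F m j)
    have hsum : Nat.card T = f n + ∑ a ∈ Finset.range A,
        (Fintype.card F - 1) * Fintype.card F ^ a * f (n - (m + 1) * (a + 1)) := by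
      rw [Nat.card_sigma, Fin.sum_univ_eq_sum_range
        (fun a => Nat.card (Piece F a × Seq F m (n - (m + 1) * a))), Finset.sum_range_succ']
      simp only [Nat.card_prod, card_piece]
      have h0 : Nat.card (Piece F 0) = 1 := by
        refine Nat.card_eq_one_iff_unique.2 ⟨⟨fun P Q => Subtype.ext ((piece_zero P).trans (piece_zero Q).symm)⟩, ?_⟩
        exact ⟨⟨1, ⟨monic_one, natDegree_one⟩, by simp⟩⟩
      rw [h0, one_mul, Nat.mul_zero, Nat.sub_zero, Nat.add_comm]
    have hle := Nat.card_le_card_of_injective φ hφ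
    rw [hsum] at hle
    rcases Nat.lt_or_ge n (m + 1) with hnm | hnm
    · have : A = 0 := Nat.div_eq_of_lt hnm
      rw [this] at hle
      simp only [Finset.range_zero, Finset.sum_empty, Nat.add_zero] at hle
      exact ⟨hle.trans (ih n).2.1, fun _ h => absurd h (by omega)⟩
    · obtain ⟨B, hB⟩ : ∃ B, A = B + 1 := ⟨A - 1, by
        have : 1 ≤ A := (Nat.le_div_iff_mul_le (Nat.succ_pos m)).2 (by omega)
        omega⟩
      have hAn : (m + 1) * (B + 1) ≤ n := by rw [← hB]; exact Nat.mul_div_le n (m + 1)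
      rw [Nat.mul_succ] at hAn
      have hg := geom_le (Fintype.card F) (m + 1) f (fun j => (ih j).2.1)
        (fun j hj => by
          rw [show j + 1 - (m + 1) = j - m by omega]
          exact (ih j).2.2 (by omega) (by omega))
        B (n - (m + 1)) (by omega)
      have e : ∑ a ∈ Finset.range A, (Fintype.card F - 1) * Fintype.card F ^ a * f (n - (m + 1) * (a + 1)) =
          (Fintype.card F - 1) *
            ∑ a ∈ Finset.range (B + 1), Fintype.card F ^ a * f (n - (m + 1) - (m + 1) * a) := by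
        rw [hB, Finset.mul_sum]
        refine Finset.sum_congr rfl fun a _ => ?_
        rw [show n - (m + 1) * (a + 1) = n - (m + 1) - (m + 1) * a by rw [Nat.mul_succ]; omega, mul_assoc]
      rw [e] at hle
      have hb := (ih n).2.2 (by omega) (by omega)
      rw [show n - m = (n - (m + 1)) + 1 by omega, pow_succ] at hb
      have hc := Nat.mul_le_mul_left (Fintype.card F - 1) hg
      have hd : (Fintype.card F - 1) * Fintype.card F ^ (n - (m + 1)) + Fintype.card F ^ (n - (m + 1)) =
          Fintype.card F ^ (n - (m + 1)) * Fintype.card F := by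
        rw [← Nat.succ_mul, Nat.succ_eq_add_one, Nat.sub_add_cancel (by omega), Nat.mul_comm]
      have key : Nat.card (Seq F (m + 1) n) + Fintype.card F ^ (n - (m + 1)) ≤ Fintype.card F ^ n := by
        have hf : Nat.card (Seq F m n) = f n := rfl
        omega
      exact ⟨by omega, fun _ _ => key⟩

/-! ### Module structure -/

/-- A cyclic primary piece. -/
abbrev Q (P : F[X]) : Type u := F[X] ⧸ (F[X] ∙ P)

theorem span_eq_of_associated {P P' : F[X]} (h : Associated P P') :
    (F[X] ∙ P : Submodule F[X] F[X]) = F[X] ∙ P' :=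
  Ideal.span_singleton_eq_span_singleton.2 h

theorem decomposition {n : ℕ} (f : Module.End F (Fin n → F)) :
    ∃ (κ : Type u) (_ : Fintype κ) (P : κ → F[X]) (k : κ → ℕ),
      (∀ i, (P i).Monic ∧ Irreducible (P i)) ∧ (∀ i, 1 ≤ k i) ∧ ∑ i, k i * (P i).natDegree = n ∧
      Nonempty (Module.AEval' f ≃ₗ[F[X]] ((i : κ) → Q (P i ^ k i))) := by
  classical
  obtain ⟨ι, _, p, hp, e, ⟨φ⟩⟩ := Module.equiv_directSum_of_isTorsion
    (R := F[X]) (M := Module.AEval' f) (Module.AEval.isTorsion_of_finiteDimensional F (Fin n → F) f)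
  let P : {i // e i ≠ 0} → F[X] := fun i => normalize (p i)
  have hP : ∀ i, (P i).Monic ∧ Irreducible (P i) := fun i =>
    ⟨Polynomial.monic_normalize (hp _).ne_zero, (normalize_associated _).symm.irreducible (hp _)⟩
  let r : ((i : ι) → Q (p i ^ e i)) →ₗ[F[X]] ((i : {i // e i ≠ 0}) → Q (P i ^ e i)) :=
    LinearMap.pi fun i =>
      ((Submodule.quotEquivOfEq _ _ (span_eq_of_associated ((normalize_associated (p i)).symm.pow_pow))).toLinearMap).comp
        (LinearMap.proj i.1)
  have hr : Function.Bijective r := by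
    constructor
    · rw [← LinearMap.ker_eq_bot, LinearMap.ker_eq_bot']
      intro v hv
      funext i
      by_cases he : e i = 0
      · obtain ⟨a, ha⟩ := Submodule.Quotient.mk_surjective _ (v i)
        rw [← ha]
        show _ = (0 : Q (p i ^ e i))
        rw [Submodule.Quotient.mk_eq_zero, he, pow_zero]
        exact Submodule.mem_span_singleton.2 ⟨a, mul_one a⟩
      · have := congrFun hv ⟨i, he⟩
        simpa [r] using this
    · intro w
      refine ⟨fun i => if he : e i ≠ 0 then
        (Submodule.quotEquivOfEq _ _ (span_eq_of_associated ((normalize_associated (p i)).symm.pow_pow))).symm (w ⟨i, he⟩)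
        else 0, funext fun i => ?_⟩
      simp [r, i.2]
  let ψ : Module.AEval' f ≃ₗ[F[X]] ((i : {i // e i ≠ 0}) → Q (P i ^ e i)) :=
    (φ.trans (DirectSum.linearEquivFunOnFintype F[X] ι _)).trans (LinearEquiv.ofBijective r hr)
  refine ⟨{i // e i ≠ 0}, inferInstance, P, fun i => e i, hP, fun i => Nat.pos_of_ne_zero i.2, ?_, ⟨ψ⟩⟩
  have h1 := LinearEquiv.finrank_eq (((Module.AEval'.of f).trans (ψ.restrictScalars F)))
  have : ∀ i : {i // e i ≠ 0}, FiniteDimensional F (Q (P i ^ e i)) := fun i =>
    ((hP i).1.pow _).finite_quotient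
  rw [finrank_fin_fun, Module.finrank_pi_fintype] at h1
  refine Eq.trans (Finset.sum_congr rfl fun i _ => ?_) h1.symm
  exact ((finrank_quotient_span_eq_natDegree (f := P i ^ e i)).trans (natDegree_pow _ _)).symm

theorem coeff_zero_ne {n : ℕ} {f : Module.End F (Fin n → F)} (hf : Function.Surjective f)
    {κ : Type u} [Fintype κ] {P : κ → F[X]} {k : κ → ℕ}
    (hk : ∀ i, 1 ≤ k i) (ψ : Module.AEval' f ≃ₗ[F[X]] ((i : κ) → Q (P i ^ k i))) (i : κ) :
    (P i).coeff 0 ≠ 0 := by
  classical
  intro h0
  obtain ⟨v, hv⟩ := (Module.AEval'.of f).surjective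
    (ψ.symm (Pi.single i (Submodule.Quotient.mk (1 : F[X]))))
  obtain ⟨w, rfl⟩ := hf v
  rw [← Module.AEval'.X_smul_of, ← ψ.injective.eq_iff, map_smul, LinearEquiv.apply_symm_apply] at hv
  have hi := congrFun hv i
  rw [Pi.single_eq_same, Pi.smul_apply] at hi
  obtain ⟨y, hy⟩ := Submodule.Quotient.mk_surjective _ (ψ (Module.AEval'.of f w) i)
  rw [← hy, ← Submodule.Quotient.mk_smul, Submodule.Quotient.eq, Submodule.mem_span_singleton] at hi
  obtain ⟨c, hc⟩ := hi
  have h := congrArg (fun p : F[X] => p.coeff 0) hc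
  simp only [smul_eq_mul, mul_coeff_zero, coeff_sub, coeff_X_zero, zero_mul, coeff_one_zero] at h
  rw [coeff_zero_eq_eval_zero (P i ^ k i), eval_pow, ← coeff_zero_eq_eval_zero, h0,
    zero_pow (by have := hk i; omega), mul_zero] at h
  exact zero_ne_one (α := F) (by linear_combination -h)

theorem exists_equiv_of_products {κ κ' : Type u} [Fintype κ] [Fintype κ'] (P : κ → F[X]) (k : κ → ℕ)
    (P' : κ' → F[X]) (k' : κ' → ℕ) (hP : ∀ i, (P i).Monic ∧ Irreducible (P i))
    (hP' : ∀ i, (P' i).Monic ∧ Irreducible (P' i))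
    (h : ∀ e, ∏ i ∈ Finset.univ.filter (fun i => k i = e), P i =
      ∏ i ∈ Finset.univ.filter (fun i => k' i = e), P' i) :
    ∃ σ : κ ≃ κ', ∀ i, P' (σ i) = P i ∧ k' (σ i) = k i := by
  classical
  have hm : ∀ e, (Finset.univ.filter (fun i => k i = e)).val.map P =
      (Finset.univ.filter (fun i => k' i = e)).val.map P' := by
    intro e
    have h1 : ∀ (ι : Type u) (s : Finset ι) (R : ι → F[X]), (∀ i, (R i).Monic ∧ Irreducible (R i)) →
        UniqueFactorizationMonoid.normalizedFactors (∏ i ∈ s, R i) = s.val.map R := by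
      intro ι s R hR
      rw [Finset.prod_eq_multiset_prod, UniqueFactorizationMonoid.normalizedFactors_prod_eq _
        (fun a ha => by obtain ⟨i, -, rfl⟩ := Multiset.mem_map.1 ha; exact (hR i).2), Multiset.map_map]
      exact Multiset.map_congr rfl fun i _ => (hR i).1.normalize_eq_self
    rw [← h1 _ _ P hP, h, h1 _ _ P' hP']
  have hcard : ∀ c : F[X] × ℕ, Fintype.card {i // (P i, k i) = c} = Fintype.card {i // (P' i, k' i) = c} := by
    intro c
    have key : ∀ (ι : Type u) [Fintype ι] (R : ι → F[X]) (l : ι → ℕ),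
        Fintype.card {i // (R i, l i) = c} =
          Multiset.count c.1 ((Finset.univ.filter (fun i => l i = c.2)).val.map R) := by
      intro ι _ R l
      rw [Multiset.count_map, ← Finset.filter_val, Finset.filter_filter, Fintype.card_subtype]
      refine congrArg Finset.card (Finset.ext fun i => ?_)
      simp only [Finset.mem_filter, Prod.ext_iff]
      tauto
    rw [key, key, hm]
  refine ⟨Equiv.ofFiberEquiv (f := fun i => (P i, k i)) (g := fun i => (P' i, k' i))
    fun c => Fintype.equivOfCardEq (hcard c), fun i => ?_⟩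
  have := Equiv.ofFiberEquiv_map (f := fun i => (P i, k i)) (g := fun i => (P' i, k' i))
    (fun c => Fintype.equivOfCardEq (hcard c)) i
  exact ⟨congrArg Prod.fst this, congrArg Prod.snd this⟩

/-- The data of the primary decomposition belonging to a sequence. -/
def Fits {n : ℕ} (f : Module.End F (Fin n → F)) (g : Seq F n n) : Prop :=
  ∃ (κ : Type u) (_ : Fintype κ) (P : κ → F[X]) (k : κ → ℕ),
    (∀ i, (P i).Monic ∧ Irreducible (P i)) ∧ (∀ i, 1 ≤ k i ∧ k i ≤ n) ∧
    (∀ e : Fin n, ∏ i ∈ Finset.univ.filter (fun i => k i = (e : ℕ) + 1), P i = g.1 e) ∧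
    Nonempty (Module.AEval' f ≃ₗ[F[X]] ((i : κ) → Q (P i ^ k i)))

theorem exists_fits {n : ℕ} {f : Module.End F (Fin n → F)} (hf : Function.Surjective f) :
    ∃ g, Fits f g := by
  classical
  obtain ⟨κ, _, P, k, hP, hk, hdim, ⟨ψ⟩⟩ := decomposition f
  have hkn : ∀ i, k i ≤ n := fun i => by
    refine le_trans ?_ (le_trans (Finset.single_le_sum (f := fun i => k i * (P i).natDegree)
      (fun j _ => Nat.zero_le _) (Finset.mem_univ i)) hdim.le)
    exact Nat.le_mul_of_pos_right _ (hP i).2.natDegree_pos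
  refine ⟨⟨fun e => ∏ i ∈ Finset.univ.filter (fun i => k i = (e : ℕ) + 1), P i, fun e => ⟨?_, ?_⟩, ?_⟩,
    κ, inferInstance, P, k, hP, fun i => ⟨hk i, hkn i⟩, fun e => rfl, ⟨ψ⟩⟩
  · exact monic_prod_of_monic _ _ fun i _ => (hP i).1
  · rw [coeff_zero_eq_eval_zero, eval_prod]
    exact Finset.prod_ne_zero_iff.2 fun i _ => by
      rw [← coeff_zero_eq_eval_zero]; exact coeff_zero_ne hf hk ψ i
  · simp only [natDegree_prod_of_monic _ _ (fun i _ => (hP i).1), Finset.mul_sum]
    conv_rhs => rw [← hdim]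
    let j : κ → Fin n := fun i => ⟨k i - 1, by have := hk i; have := hkn i; omega⟩
    rw [← Finset.sum_fiberwise Finset.univ j (fun i => k i * (P i).natDegree)]
    refine Finset.sum_congr rfl fun e _ => Finset.sum_congr ?_ fun i hi => ?_
    · ext i
      simp only [Finset.mem_filter, Finset.mem_univ, true_and, j, Fin.ext_iff]
      have := hk i
      omega
    · rw [Finset.mem_filter] at hi
      have := hk i
      have := congrArg Fin.val hi.2
      simp only [j] at this
      rw [show (e : ℕ) + 1 = k i by omega]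

theorem isConj_of_fits {n : ℕ} (A B : GL (Fin n) F) (g : Seq F n n)
    (hA : Fits (Matrix.toLin' (A : Matrix (Fin n) (Fin n) F)) g)
    (hB : Fits (Matrix.toLin' (B : Matrix (Fin n) (Fin n) F)) g) : IsConj A B := by
  classical
  obtain ⟨κ, _, P, k, hP, hk, hg, ⟨ψ⟩⟩ := hA
  obtain ⟨κ', _, P', k', hP', hk', hg', ⟨ψ'⟩⟩ := hB
  obtain ⟨σ, hσ⟩ := exists_equiv_of_products P k P' k' hP hP' fun e => by
    by_cases he : 1 ≤ e ∧ e ≤ n
    · have := (hg ⟨e - 1, by omega⟩).trans (hg' ⟨e - 1, by omega⟩).symm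
      rwa [show e - 1 + 1 = e by omega] at this
    · rw [Finset.filter_false_of_mem, Finset.filter_false_of_mem]
      · simp
      · intro i _ hi; exact he (hi ▸ hk' i)
      · intro i _ hi; exact he (hi ▸ hk i)
  let E : ((i : κ) → Q (P i ^ k i)) ≃ₗ[F[X]] ((i : κ') → Q (P' i ^ k' i)) :=
    (LinearEquiv.piCongrRight fun i =>
      Submodule.quotEquivOfEq _ _ (by rw [(hσ i).1, (hσ i).2])).trans
      (LinearEquiv.piCongrLeft F[X] (fun i => Q (P' i ^ k' i)) σ)
  let Φ := (ψ.trans E).trans ψ'.symm
  let T : (Fin n → F) ≃ₗ[F] (Fin n → F) :=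
    ((Module.AEval'.of _).trans (Φ.restrictScalars F)).trans (Module.AEval'.of _).symm
  have hT : ∀ v, T (Matrix.toLin' (A : Matrix (Fin n) (Fin n) F) v) =
      Matrix.toLin' (B : Matrix (Fin n) (Fin n) F) (T v) := by
    intro v
    simp only [T, LinearEquiv.trans_apply, LinearEquiv.restrictScalars_apply]
    rw [← Module.AEval'.X_smul_of, map_smul]
    obtain ⟨w, hw⟩ := (Module.AEval'.of (Matrix.toLin' (B : Matrix (Fin n) (Fin n) F))).surjective
      (Φ (Module.AEval'.of (Matrix.toLin' (A : Matrix (Fin n) (Fin n) F)) v))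
    rw [← hw, Module.AEval'.X_smul_of, LinearEquiv.symm_apply_apply, LinearEquiv.symm_apply_apply]
  let U : GL (Fin n) F := Matrix.GeneralLinearGroup.toLin.symm (LinearMap.GeneralLinearGroup.ofLinearEquiv T)
  refine isConj_iff.2 ⟨U, mul_inv_eq_iff_eq_mul.2 ?_⟩
  apply Matrix.GeneralLinearGroup.toLin.injective
  rw [map_mul, map_mul]
  simp only [U, MulEquiv.apply_symm_apply]
  exact Units.ext (LinearMap.ext hT)

theorem class_number_le [Fintype F] (n : ℕ) :
    Nat.card (ConjClasses (GL (Fin n) F)) ≤ Fintype.card F ^ n := by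
  have := (seq_bound (F := F) n n).1
  refine le_trans ?_ (seq_bound (F := F) n n).2.1
  have hs : ∀ A : GL (Fin n) F, Function.Surjective (Matrix.toLin' (A : Matrix (Fin n) (Fin n) F)) :=
    fun A v => ⟨Matrix.toLin' (↑A⁻¹ : Matrix (Fin n) (Fin n) F) v, by
      rw [← Matrix.toLin'_mul_apply, Units.mul_inv, Matrix.toLin'_one]; rfl⟩
  refine Nat.card_le_card_of_injective (fun c => (exists_fits (hs (Quotient.out c))).choose) ?_
  intro c d h
  have h1 := (exists_fits (hs (Quotient.out c))).choose_spec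
  have h2 := (exists_fits (hs (Quotient.out d))).choose_spec
  rw [← Quotient.out_eq c, ← Quotient.out_eq d]
  dsimp only at h
  rw [h] at h1
  exact Quotient.sound (isConj_of_fits _ _ _ h1 h2)

theorem le_class_number [Fintype F] (n : ℕ) (hn : 1 ≤ n) :
    Fintype.card F ^ n - Fintype.card F ^ (n - 1) ≤ Nat.card (ConjClasses (GL (Fin n) F)) := by
  classical
  let φ : GL (Fin n) F →* Matrix (Fin n) (Fin n) F := Units.coeHom _
  have hcount : Nat.card (Piece F n) = Fintype.card F ^ n - Fintype.card F ^ (n - 1) := by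
    obtain ⟨m, rfl⟩ : ∃ m, n = m + 1 := ⟨n - 1, by omega⟩
    rw [card_piece, Nat.add_sub_cancel, pow_succ, Nat.sub_mul, one_mul, Nat.mul_comm]
  have hex : ∀ P : Piece F n, ∃ A : GL (Fin n) F, (A : Matrix (Fin n) (Fin n) F).charpoly = P.1 := by
    intro P
    obtain ⟨f, ⟨hf, hdeg⟩, h0⟩ := P
    subst hdeg
    let pb := AdjoinRoot.powerBasis' hf
    have hc : (Algebra.leftMulMatrix pb.basis pb.gen).charpoly = f := by
      rw [charpoly_leftMulMatrix, AdjoinRoot.powerBasis'_gen, AdjoinRoot.minpoly_root hf.ne_zero,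
        hf.leadingCoeff, inv_one, C_1, mul_one]
    let M := Matrix.reindex (finCongr (AdjoinRoot.powerBasis'_dim hf)) (finCongr (AdjoinRoot.powerBasis'_dim hf))
      (Algebra.leftMulMatrix pb.basis pb.gen)
    have hM : M.charpoly = f := by rw [Matrix.charpoly_reindex, hc]
    have hu : IsUnit M := by
      rw [Matrix.isUnit_iff_isUnit_det, Matrix.det_eq_sign_charpoly_coeff, hM, isUnit_iff_ne_zero]
      exact mul_ne_zero (pow_ne_zero _ (by simp)) h0
    exact ⟨hu.unit, hM⟩
  rw [← hcount]
  refine Nat.card_le_card_of_injective (fun P => ConjClasses.mk (hex P).choose) ?_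
  intro P P' h
  have := Semisimple.charpoly_eq_of_isConj φ _ _ (ConjClasses.mk_eq_mk_iff_isConj.1 h)
  exact Subtype.ext ((hex P).choose_spec.symm.trans (this.trans (hex P').choose_spec))

end Cfsg.Agent.GL.ClassNumber
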