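import Mathlib
import Cfsg.Agent.Lib.GL.Basic
import Cfsg.Agent.Lib.GL.Simple

/-!
`SL_{n+1}` is generated by the root group `(0,1)` and the signed cycle matrix.
-/

set_option autoImplicit false

open Matrix

namespace Cfsg.Agent.GL.CycleGen

variable {F : Type*} [Field F] {n : ℕ}

local notation "tv" => Matrix.SpecialLinearGroup.transvection

theorem trans_mem {H : Subgroup (SpecialLinearGroup (Fin (n + 1)) F)} {i j k : Fin (n + 1)}
    (hij : i ≠ j) (hjk : j ≠ k) (hik : i ≠ k)
    (h1 : ∀ t : F, tv hij t ∈ H) (h2 : ∀ t : F, tv hjk t ∈ H) (t : F) : tv hik t ∈ H := by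
  rw [← mul_one t, ← Cfsg.Agent.GL.commutator_transvection hij hjk hik t 1, commutatorElement_def]
  exact mul_mem (mul_mem (mul_mem (h1 t) (h2 1)) (inv_mem (h1 t))) (inv_mem (h2 1))

/-- Conjugating a root group one step along the cycle. -/
theorem shift (w : SpecialLinearGroup (Fin (n + 1)) F)
    (hw : (w : Matrix (Fin (n + 1)) (Fin (n + 1)) F) =
      Matrix.of (fun i j => if j.val = i.val + 1 then 1 else if i.val = n ∧ j.val = 0 then (-1) ^ n else 0))
    (a b c : Fin (n + 1)) (hab : a ≠ b) (hbc : b ≠ c) (h1 : b.val = a.val + 1) (t s : F)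
    (h2 : (c.val = b.val + 1 ∧ s = t) ∨ (b.val = n ∧ c.val = 0 ∧ s = (-1) ^ n * t)) :
    w * tv hbc t = tv hab s * w := by
  apply SpecialLinearGroup.coeMonoidHom_injective
  simp only [map_mul, SpecialLinearGroup.coeMonoidHom_apply, SpecialLinearGroup.transvection_coe,
    mul_add, add_mul, mul_one, one_mul]
  congr 1
  ext r q
  simp only [hw, Matrix.mul_apply, Matrix.single_apply, Matrix.of_apply]
  rw [Finset.sum_eq_single b (by intro k _ hk; simp [Ne.symm hk]) (by simp),
    Finset.sum_eq_single b (by intro k _ hk; simp [Ne.symm hk]) (by simp)]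
  have hsq : ((-1 : F) ^ n) * (-1) ^ n = 1 := by rw [← pow_add, ← two_mul]; simp [pow_mul]
  have hr := r.isLt
  have hq := q.isLt
  simp only [Fin.ext_iff, true_and, and_true]
  rcases h2 with ⟨h2, rfl⟩ | ⟨h2, h3, rfl⟩ <;> (split_ifs <;> first | (exfalso; omega) | (simp_all <;> linear_combination (-t) * hsq))

/-- A subgroup containing the root group (0,1) and the signed cycle contains all of `SL`. -/
theorem eq_top (hn : 1 ≤ n) {H : Subgroup (SpecialLinearGroup (Fin (n + 1)) F)}
    (w : SpecialLinearGroup (Fin (n + 1)) F)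
    (hw : (w : Matrix (Fin (n + 1)) (Fin (n + 1)) F) =
      Matrix.of (fun i j => if j.val = i.val + 1 then 1 else if i.val = n ∧ j.val = 0 then (-1) ^ n else 0))
    (hwH : w ∈ H) (h01 : (0 : Fin (n + 1)) ≠ 1) (hT : ∀ t : F, tv h01 t ∈ H) : H = ⊤ := by
  have hone : ((1 : Fin (n + 1)) : ℕ) = 1 := by simp; omega
  let M : Fin (n + 1) → Fin (n + 1) → Prop := fun i j => ∀ (h : i ≠ j) (t : F), tv h t ∈ H
  have trans' : ∀ i j k : Fin (n + 1), i ≠ j → j ≠ k → M i j → M j k → M i k :=
    fun i j k hij hjk a b hik t => trans_mem hij hjk hik (a hij) (b hjk) t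
  have step : ∀ (m : ℕ) (i j : Fin (n + 1)), i.val = m → j.val = m + 1 → M i j := by
    intro m
    induction m with
    | zero =>
      intro i j hi hj
      obtain rfl : i = 0 := Fin.ext hi
      obtain rfl : j = 1 := Fin.ext (by omega)
      exact fun _ t => hT t
    | succ m ih =>
      intro i j hi hj h t
      have e := shift w hw ⟨m, by omega⟩ i j (fun e => by simp [Fin.ext_iff] at e; omega) h
        (by simp; omega) t t (Or.inl ⟨by omega, rfl⟩)
      rw [← eq_inv_mul_iff_mul_eq] at e
      rw [e]
      exact mul_mem (inv_mem hwH) (mul_mem (ih ⟨m, by omega⟩ i rfl hi _ t) hwH)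
  have wrap : ∀ i : Fin (n + 1), i.val = n → M i 0 := by
    intro i hi h t
    have e := shift w hw ⟨n - 1, by omega⟩ i 0 (fun e => by simp [Fin.ext_iff] at e; omega) h
      (by simp; omega) t ((-1) ^ n * t) (Or.inr ⟨hi, by simp, rfl⟩)
    rw [← eq_inv_mul_iff_mul_eq] at e
    rw [e]
    exact mul_mem (inv_mem hwH) (mul_mem (step (n - 1) _ i rfl (by omega) _ _) hwH)
  have up : ∀ (d : ℕ) (i j : Fin (n + 1)), j.val = i.val + d + 1 → M i j := by
    intro d
    induction d with
    | zero => intro i j hj; exact step i.val i j rfl hj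
    | succ d ih =>
      intro i j hj
      have := j.isLt
      refine trans' i ⟨i.val + d + 1, by omega⟩ j (fun e => ?_) (fun e => ?_) (ih i _ rfl)
        (step (i.val + d + 1) _ j rfl (by omega))
      · have := congrArg Fin.val e; simp at this; omega
      · have := congrArg Fin.val e; simp at this; omega
  have up' : ∀ i j : Fin (n + 1), i.val < j.val → M i j :=
    fun i j h => up (j.val - i.val - 1) i j (by omega)
  have col : ∀ i : Fin (n + 1), M i 0 := by
    intro i hi
    by_cases h : i.val = n
    · exact wrap i h hi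
    · have := i.isLt
      refine trans' i ⟨n, by omega⟩ 0 (fun e => h (by simp [e])) (fun e => ?_)
        (up' _ _ (by simp; omega)) (wrap _ rfl) hi
      simp [Fin.ext_iff] at e; omega
  refine Cfsg.Agent.GL.SL_eq_top_of_transvection_mem fun i j hij t => ?_
  rcases lt_or_gt_of_ne (Fin.val_injective.ne hij) with h | h
  · exact up' i j h hij t
  · by_cases hj : j = 0
    · subst hj; exact col i hij t
    · refine trans' i 0 j (fun e => ?_) (Ne.symm hj) (col i) (up' 0 j ?_) hij t
      · subst e; simp at h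
      · show 0 < j.val
        rcases Nat.eq_zero_or_pos j.val with h0 | h0
        · exact absurd (Fin.ext h0) hj
        · exact h0

end Cfsg.Agent.GL.CycleGen
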