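import Cfsg.Agent.Lib.GL.ElementOrders
import Mathlib.NumberTheory.Padics.PadicVal.Basic

/-!
When does `N` divide `N * J / gcd (N * J, e)`, for `N ≡ ±2`, `J ≡ ±m` modulo `e`; exponents from factor degrees.
-/

set_option autoImplicit false

open Matrix Polynomial

namespace Cfsg.Agent.GL

theorem gcd_two_mul_dvd_iff {m e : ℕ} (hm : 0 < m) (he : 0 < e) :
    Nat.gcd (2 * m) e ∣ m ↔ padicValNat 2 e < padicValNat 2 (2 * m) := by
  have : Fact (Nat.Prime 2) := ⟨Nat.prime_two⟩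
  rw [padicValNat.mul two_ne_zero hm.ne', padicValNat.self one_lt_two]
  set a := padicValNat 2 e with ha
  constructor
  · intro h
    by_contra hlt
    have h1 : 2 ^ (padicValNat 2 m + 1) ∣ Nat.gcd (2 * m) e := by
      refine Nat.dvd_gcd ?_ ((pow_dvd_pow 2 (by omega)).trans pow_padicValNat_dvd)
      rw [pow_succ']
      exact mul_dvd_mul_left 2 pow_padicValNat_dvd
    exact pow_succ_padicValNat_not_dvd hm.ne' (h1.trans h)
  · intro h
    obtain ⟨m', hm'⟩ : 2 ^ a ∣ m := (pow_dvd_pow 2 (by omega)).trans pow_padicValNat_dvd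
    obtain ⟨e', he'⟩ : 2 ^ a ∣ e := pow_padicValNat_dvd
    have hodd : ¬ 2 ∣ e' := fun hd => pow_succ_padicValNat_not_dvd (p := 2) he.ne' (by
      rw [← ha, pow_succ]; exact he' ▸ mul_dvd_mul_left _ hd)
    rw [hm', he', show 2 * (2 ^ a * m') = 2 ^ a * (2 * m') by ring, Nat.gcd_mul_left,
      ((Nat.prime_two.coprime_iff_not_dvd.2 hodd)).gcd_mul_left_cancel m']
    exact mul_dvd_mul_left _ (Nat.gcd_dvd_left _ _)

/-- `N` divides `I / (I, e)` for `I = N * J`. -/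
theorem dvd_div_gcd_iff {N J e m : ℕ} (hN : 0 < N) (he : 0 < e) (hm : 0 < m)
    (hI : (((N * J : ℕ) : ZMod e) = ((2 * m : ℕ) : ZMod e)) ∨ (((N * J : ℕ) : ZMod e) = -((2 * m : ℕ) : ZMod e)))
    (hJ : ((J : ZMod e) = (m : ZMod e)) ∨ ((J : ZMod e) = -(m : ZMod e))) :
    N ∣ N * J / Nat.gcd (N * J) e ↔ padicValNat 2 e < padicValNat 2 (2 * m) := by
  have key : ∀ (g x y : ℕ), g ∣ e → ((x : ZMod e) = (y : ZMod e) ∨ (x : ZMod e) = -(y : ZMod e)) →
      (g ∣ x ↔ g ∣ y) := by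
    intro g x y hg h
    rw [← ZMod.natCast_eq_zero_iff, ← ZMod.natCast_eq_zero_iff]
    have h' := h.imp (congrArg (ZMod.castHom hg (ZMod g))) (congrArg (ZMod.castHom hg (ZMod g)))
    simp only [map_natCast, map_neg] at h'
    rcases h' with h' | h' <;> simp [h']
  have hgcd : Nat.gcd (N * J) e = Nat.gcd (2 * m) e :=
    Nat.dvd_antisymm
      (Nat.dvd_gcd ((key _ _ _ (Nat.gcd_dvd_right _ _) hI).1 (Nat.gcd_dvd_left _ _)) (Nat.gcd_dvd_right _ _))
      (Nat.dvd_gcd ((key _ _ _ (Nat.gcd_dvd_right _ _) hI).2 (Nat.gcd_dvd_left _ _)) (Nat.gcd_dvd_right _ _))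
  rw [Nat.dvd_div_iff_mul_dvd (Nat.gcd_dvd_left _ _), mul_comm (Nat.gcd (N * J) e), Nat.mul_dvd_mul_iff_left hN,
    hgcd, key _ _ _ (Nat.gcd_dvd_right _ _) hJ, gcd_two_mul_dvd_iff hm he]

/-- All irreducible factors of the minimal polynomial divide `X ^ L - 1`. -/
theorem pow_eq_one_of_factors_dvd {F : Type*} [Field F] (p : ℕ) [Fact p.Prime] [CharP F p] {ι : Type*}
    [Fintype ι] [DecidableEq ι] (A : Matrix ι ι F) {L : ℕ}
    (h : ∀ g : F[X], Irreducible g → g ∣ minpoly F A → g ∣ X ^ L - 1) : ∃ e, A ^ (L * p ^ e) = 1 := by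
  refine ⟨Nat.clog p (minpoly F A).natDegree, ?_⟩
  have h1 : minpoly F A ∣ X ^ (L * p ^ Nat.clog p (minpoly F A).natDegree) - 1 := by
    refine (dvd_pow_natDegree_of_irreducible_factors _ (minpoly.ne_zero (Algebra.IsIntegral.isIntegral A)) _ h).trans
      ((pow_dvd_pow _ (Nat.le_pow_clog (Fact.out : p.Prime).one_lt _)).trans ?_)
    rw [sub_pow_char_pow, ← pow_mul, one_pow]
  obtain ⟨u, hu⟩ := h1
  have h3 := congrArg (aeval A) hu
  rw [map_mul, minpoly.aeval, zero_mul, map_sub, map_pow, aeval_X, map_one, sub_eq_zero] at h3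
  exact h3

end Cfsg.Agent.GL
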