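import Mathlib

/-!
A bound on least common multiples of numbers `q ^ a + 1`, and on the exponent of a `p`-power.
-/

set_option autoImplicit false

namespace Cfsg.Agent.GL.LcmBound

open Finset

variable {ι : Type*}

theorem pow_two_pow_add_one_dvd {q a : ℕ} (ha : a ≠ 0) :
    q ^ 2 ^ a.factorization 2 + 1 ∣ q ^ a + 1 := by
  have h := Nat.ordProj_mul_ordCompl_eq_self a 2
  have hodd : Odd (a / 2 ^ a.factorization 2) := by
    rw [← Nat.not_even_iff_odd, even_iff_two_dvd]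
    exact Nat.not_dvd_ordCompl Nat.prime_two ha
  conv_rhs => rw [← h, pow_mul]
  simpa using hodd.nat_add_dvd_pow_add_pow (q ^ 2 ^ a.factorization 2) 1

/-- The invariant: one factor `1 + q ^ (-2 ^ v)` for each `2`-adic valuation `v`. -/
theorem lcm_step [DecidableEq ι] {q : ℕ} (hq : 1 ≤ q) (T : Finset ι) (a : ι → ℕ) (ha : ∀ i ∈ T, 0 < a i) :
    ∃ V : Finset ℕ, (∀ v ∈ V, ∃ i ∈ T, (a i).factorization 2 = v) ∧
      (∀ i ∈ T, (a i).factorization 2 ∈ V) ∧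
      (T.lcm fun i => q ^ a i + 1) * ∏ v ∈ V, q ^ 2 ^ v ≤
        q ^ (∑ i ∈ T, a i) * ∏ v ∈ V, (q ^ 2 ^ v + 1) := by
  induction T using Finset.induction with
  | empty => exact ⟨∅, by simp, by simp, by simp⟩
  | insert i T hi ih =>
    obtain ⟨V, hV, hV', h⟩ := ih fun j hj => ha j (mem_insert_of_mem hj)
    have hai : a i ≠ 0 := (ha i (mem_insert_self i T)).ne'
    set v := (a i).factorization 2 with hv
    have hle : q ^ 2 ^ v ≤ q ^ a i :=
      Nat.pow_le_pow_right hq (Nat.le_of_dvd (Nat.pos_of_ne_zero hai) (Nat.ordProj_dvd _ _))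
    rw [Finset.lcm_insert, Finset.sum_insert hi, pow_add]
    by_cases hvV : v ∈ V
    · obtain ⟨j, hj, hjv⟩ := hV v hvV
      refine ⟨V, fun w hw => (hV w hw).imp fun k hk => ⟨mem_insert_of_mem hk.1, hk.2⟩, fun k hk => ?_, ?_⟩
      · rcases mem_insert.1 hk with rfl | hk
        · exact hvV
        · exact hV' k hk
      set M := T.lcm fun i => q ^ a i + 1
      set d := q ^ 2 ^ v + 1 with hd
      have hdM : d ∣ M := by
        refine dvd_trans ?_ (Finset.dvd_lcm hj)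
        rw [hd, ← hjv]
        exact pow_two_pow_add_one_dvd (ha j (mem_insert_of_mem hj)).ne'
      have hdg : d ≤ Nat.gcd (q ^ a i + 1) M :=
        Nat.le_of_dvd (Nat.gcd_pos_of_pos_left _ (Nat.succ_pos _))
          (Nat.dvd_gcd (pow_two_pow_add_one_dvd hai) hdM)
      have h1 : q ^ a i + 1 ≤ q ^ a i * d := by
        rw [hd, mul_add, mul_one, add_comm]
        exact Nat.add_le_add_right (Nat.mul_pos (pow_pos hq _) (pow_pos hq _)) _
      have h2 : lcm (q ^ a i + 1) M * d ≤ q ^ a i * M * d := by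
        calc lcm (q ^ a i + 1) M * d ≤ Nat.gcd (q ^ a i + 1) M * Nat.lcm (q ^ a i + 1) M := by
              rw [mul_comm]; exact Nat.mul_le_mul_right _ hdg
          _ = (q ^ a i + 1) * M := Nat.gcd_mul_lcm _ _
          _ ≤ q ^ a i * d * M := Nat.mul_le_mul_right _ h1
          _ = q ^ a i * M * d := by ring
      have h3 := Nat.le_of_mul_le_mul_right h2 (Nat.succ_pos _)
      calc _ ≤ q ^ a i * M * ∏ v ∈ V, q ^ 2 ^ v := Nat.mul_le_mul_right _ h3
        _ ≤ q ^ a i * (q ^ (∑ i ∈ T, a i) * ∏ v ∈ V, (q ^ 2 ^ v + 1)) := by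
            rw [mul_assoc]; exact Nat.mul_le_mul_left _ h
        _ = _ := by ring
    · refine ⟨insert v V, fun w hw => ?_, fun k hk => ?_, ?_⟩
      · rcases mem_insert.1 hw with rfl | hw
        · exact ⟨i, mem_insert_self i T, rfl⟩
        · exact (hV w hw).imp fun k hk => ⟨mem_insert_of_mem hk.1, hk.2⟩
      · rcases mem_insert.1 hk with rfl | hk
        · exact mem_insert_self _ _
        · exact mem_insert_of_mem (hV' k hk)
      rw [prod_insert hvV, prod_insert hvV]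
      set M := T.lcm fun i => q ^ a i + 1
      have h1 : (q ^ a i + 1) * q ^ 2 ^ v ≤ q ^ a i * (q ^ 2 ^ v + 1) := by
        rw [add_mul, mul_add, one_mul, mul_one]
        exact Nat.add_le_add_left hle _
      have h2 : lcm (q ^ a i + 1) M ≤ (q ^ a i + 1) * M := by
        rcases Nat.eq_zero_or_pos ((q ^ a i + 1) * M) with h0 | h0
        · have : M = 0 := by simpa using h0
          simp [this]
        · exact Nat.le_of_dvd h0 (Nat.lcm_dvd_mul _ _)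
      calc _ ≤ (q ^ a i + 1) * M * (q ^ 2 ^ v * ∏ v ∈ V, q ^ 2 ^ v) := Nat.mul_le_mul_right _ h2
        _ = ((q ^ a i + 1) * q ^ 2 ^ v) * (M * ∏ v ∈ V, q ^ 2 ^ v) := by ring
        _ ≤ (q ^ a i * (q ^ 2 ^ v + 1)) * (q ^ (∑ i ∈ T, a i) * ∏ v ∈ V, (q ^ 2 ^ v + 1)) :=
            Nat.mul_le_mul h1 h
        _ = _ := by ring

theorem prod_range_fermat (q : ℕ) (hq : 1 ≤ q) (K : ℕ) :
    (q - 1) * ∏ v ∈ range K, (q ^ 2 ^ v + 1) ≤ q * ∏ v ∈ range K, q ^ 2 ^ v := by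
  have h1 : ∀ K, (q - 1) * ∏ v ∈ range K, (q ^ 2 ^ v + 1) = q ^ 2 ^ K - 1 := by
    intro K
    induction K with
    | zero => simp
    | succ K ih =>
      rw [prod_range_succ, ← mul_assoc, ih, pow_succ 2 K, pow_mul, mul_comm,
        ← Nat.sq_sub_sq, one_pow]
  have h2 : ∀ K, q * ∏ v ∈ range K, q ^ 2 ^ v = q ^ 2 ^ K := by
    intro K
    induction K with
    | zero => simp
    | succ K ih => rw [prod_range_succ, ← mul_assoc, ih, ← pow_add, pow_succ 2 K, mul_two]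
  rw [h1, h2]
  exact Nat.sub_le _ _

theorem prod_fermat (q : ℕ) (hq : 1 ≤ q) (V : Finset ℕ) :
    (q - 1) * ∏ v ∈ V, (q ^ 2 ^ v + 1) ≤ q * ∏ v ∈ V, q ^ 2 ^ v := by
  have hsub : V ⊆ range (V.sup id + 1) := fun v hv =>
    mem_range.2 (Nat.lt_succ_of_le (Finset.le_sup (f := id) hv))
  set R := range (V.sup id + 1)
  refine Nat.le_of_mul_le_mul_right (c := ∏ v ∈ R \ V, q ^ 2 ^ v) ?_ (Finset.prod_pos fun v _ => pow_pos hq _)
  calc ((q - 1) * ∏ v ∈ V, (q ^ 2 ^ v + 1)) * ∏ v ∈ R \ V, q ^ 2 ^ v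
      ≤ (q - 1) * ((∏ v ∈ V, (q ^ 2 ^ v + 1)) * ∏ v ∈ R \ V, (q ^ 2 ^ v + 1)) := by
        rw [mul_assoc]
        exact Nat.mul_le_mul_left _ (Nat.mul_le_mul_left _ (Finset.prod_le_prod' fun v _ => Nat.le_succ _))
    _ = (q - 1) * ∏ v ∈ R, (q ^ 2 ^ v + 1) := by rw [mul_comm (∏ v ∈ V, _), prod_sdiff hsub]
    _ ≤ q * ∏ v ∈ R, q ^ 2 ^ v := prod_range_fermat q hq _
    _ = _ := by rw [← prod_sdiff hsub]; ring

/-- The least common multiple of `q ^ a ± 1` is at most `q ^ (∑ a + 1) / (q - 1)`. -/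
theorem lcm_bound {q : ℕ} (hq : 2 ≤ q) (T₁ T₂ : Finset ι) (a : ι → ℕ) (h₁ : ∀ i ∈ T₁, 0 < a i) :
    (q - 1) * Nat.lcm (T₁.lcm fun i => q ^ a i + 1) (T₂.lcm fun i => q ^ a i - 1) ≤
      q ^ (∑ i ∈ T₁, a i + ∑ i ∈ T₂, a i + 1) := by
  classical
  obtain ⟨V, -, -, h⟩ := lcm_step (by omega : 1 ≤ q) T₁ a h₁
  set M := T₁.lcm fun i => q ^ a i + 1
  set N := T₂.lcm fun i => q ^ a i - 1
  have hN : N ≤ q ^ (∑ i ∈ T₂, a i) := by
    rw [← Finset.prod_pow_eq_pow_sum]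
    have hle : ∏ i ∈ T₂, (q ^ a i - 1) ≤ ∏ i ∈ T₂, q ^ a i :=
      Finset.prod_le_prod' fun i _ => Nat.sub_le _ _
    refine le_trans ?_ hle
    by_cases h0 : ∃ i ∈ T₂, q ^ a i - 1 = 0
    · obtain ⟨i, hi, hi0⟩ := h0
      have : N = 0 := Finset.lcm_eq_zero_iff.2 (by exact ⟨i, hi, hi0⟩)
      rw [this]; exact Nat.zero_le _
    · exact Nat.le_of_dvd (Finset.prod_pos fun i hi => Nat.pos_of_ne_zero fun e => h0 ⟨i, hi, e⟩)
        (Finset.lcm_dvd fun i hi => Finset.dvd_prod_of_mem (fun i => q ^ a i - 1) hi)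
  have hM : (q - 1) * M ≤ q * q ^ (∑ i ∈ T₁, a i) := by
    refine Nat.le_of_mul_le_mul_right (c := ∏ v ∈ V, q ^ 2 ^ v) ?_ (Finset.prod_pos fun v _ => pow_pos (by omega) _)
    calc (q - 1) * M * ∏ v ∈ V, q ^ 2 ^ v ≤ (q - 1) * (q ^ (∑ i ∈ T₁, a i) * ∏ v ∈ V, (q ^ 2 ^ v + 1)) := by
          rw [mul_assoc]; exact Nat.mul_le_mul_left _ h
      _ = q ^ (∑ i ∈ T₁, a i) * ((q - 1) * ∏ v ∈ V, (q ^ 2 ^ v + 1)) := by ring
      _ ≤ q ^ (∑ i ∈ T₁, a i) * (q * ∏ v ∈ V, q ^ 2 ^ v) :=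
          Nat.mul_le_mul_left _ (prod_fermat q (by omega) V)
      _ = _ := by ring
  calc (q - 1) * Nat.lcm M N ≤ (q - 1) * (M * N) := by
        refine Nat.mul_le_mul_left _ ?_
        rcases Nat.eq_zero_or_pos (M * N) with h0 | h0
        · rcases Nat.mul_eq_zero.1 h0 with e | e <;> simp [e]
        · exact Nat.le_of_dvd h0 (Nat.lcm_dvd_mul _ _)
    _ = (q - 1) * M * N := (mul_assoc _ _ _).symm
    _ ≤ q * q ^ (∑ i ∈ T₁, a i) * q ^ (∑ i ∈ T₂, a i) := Nat.mul_le_mul hM hN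
    _ = _ := by ring

theorem two_mul_le_two_pow : ∀ s : ℕ, 2 * s ≤ 2 ^ s
  | 0 => by simp
  | s + 1 => by
    have h1 := two_mul_le_two_pow s
    have h2 : 0 < 2 ^ s := pow_pos two_pos s
    rw [pow_succ]
    rcases Nat.eq_zero_or_pos s with rfl | hs
    · simp
    · omega

theorem two_mul_add_one_le_three_pow : ∀ s : ℕ, 2 * s + 1 ≤ 3 ^ s
  | 0 => by simp
  | s + 1 => by
    have h1 := two_mul_add_one_le_three_pow s
    rw [pow_succ]
    omega

theorem clog_le_slack {p K s : ℕ} (hp : 2 ≤ p) (hK : K ≤ 2 * s + 1) (hK2 : p = 2 → K ≤ 2 * s) :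
    Nat.clog p K ≤ s := by
  refine (Nat.clog_le_iff_le_pow hp).2 ?_
  rcases eq_or_lt_of_le hp with rfl | h3
  · exact (hK2 rfl).trans (two_mul_le_two_pow s)
  · exact hK.trans ((two_mul_add_one_le_three_pow s).trans (Nat.pow_le_pow_left h3 s))

theorem clog_le_pred {p K : ℕ} (hp : 2 ≤ p) (hK : 1 ≤ K) : Nat.clog p K ≤ K - 1 := by
  refine (Nat.clog_le_iff_le_pow hp).2 ?_
  have := (Nat.lt_two_pow_self (n := K - 1)).trans_le (Nat.pow_le_pow_left hp (K - 1))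
  omega

theorem clog_le_sub_one {p K m : ℕ} (hp : 3 ≤ p) (hm : 2 ≤ m) (hK : K ≤ 2 * m) (hK2 : m = 2 → K ≤ 2) :
    Nat.clog p K ≤ m - 1 := by
  refine (Nat.clog_le_iff_le_pow (by omega)).2 ?_
  refine le_trans ?_ (Nat.pow_le_pow_left hp _)
  rcases eq_or_lt_of_le hm with rfl | h3
  · have := hK2 rfl
    norm_num
    omega
  · obtain ⟨k, rfl⟩ : ∃ k, m = k + 3 := ⟨m - 3, by omega⟩
    rw [show k + 3 - 1 = k + 2 by omega, pow_add]
    have := two_mul_add_one_le_three_pow k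
    omega

end Cfsg.Agent.GL.LcmBound
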