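import Cfsg.Agent.Lib.GL.IsometryOrders
import Cfsg.Agent.Lib.GL.LcmBound

/-!
The element order bound `(q - 1) E ≤ q ^ (m + 1)` for isometries in dimension `2 m` or `2 m + 1`.
-/

set_option autoImplicit false

open Matrix Polynomial UniqueFactorizationMonoid

namespace Cfsg.Agent.GL

variable {F : Type*} [Field F]

local notation "rev" => conjRev (RingHom.id F)

theorem associated_conjRev {f g : F[X]} (h : Associated f g) : Associated (rev f) (rev g) :=
  associated_of_dvd_dvd (conjRev_dvd _ h.dvd) (conjRev_dvd _ h.symm.dvd)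

variable [Fintype F]

/-- A self-reciprocal monic irreducible polynomial. -/
theorem selfRev_facts {f : F[X]} (hfm : f.Monic) (hf : Irreducible f) (h0 : f.coeff 0 ≠ 0)
    (hrev : f ∣ rev f) :
    (∃ c : F, c * c = 1 ∧ f = X - C c) ∨
      ∃ a, 0 < a ∧ f.natDegree = 2 * a ∧ f ∣ X ^ (Fintype.card F ^ a + 1) - 1 := by
  classical
  haveI : Fact (Irreducible f) := ⟨hf⟩
  let K := AdjoinRoot f
  haveI : Module.Finite F K := (AdjoinRoot.powerBasis hf.ne_zero).finite
  haveI : Finite K := Module.finite_of_finite F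
  set x : K := AdjoinRoot.root f with hxdef
  have hdvd : ∀ P : F[X], f ∣ P ↔ aeval x P = 0 := fun P => by
    rw [hxdef, AdjoinRoot.aeval_eq, AdjoinRoot.mk_eq_zero]
  have hx0 : x ≠ 0 := by
    intro hx
    have h := (hdvd f).1 dvd_rfl
    rw [hx, ← coeff_zero_eq_aeval_zero', map_eq_zero] at h
    exact h0 h
  have hxi : aeval x⁻¹ f = 0 := by
    have h1 := (hdvd _).1 hrev
    rw [conjRev, Polynomial.map_id, aeval_def] at h1
    letI : Invertible x⁻¹ := invertibleOfNonzero (inv_ne_zero hx0)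
    have h2 : eval₂ (algebraMap F K) (⅟(x⁻¹)) f.reverse = 0 := by
      rw [invOf_eq_inv, inv_inv]; exact h1
    rw [aeval_def]
    exact (eval₂_reverse_eq_zero_iff _ _ _).1 h2
  let φ : K →ₐ[F] K := AdjoinRoot.liftAlgHom f (Algebra.ofId F K) x⁻¹ hxi
  have hφ : φ x = x⁻¹ := AdjoinRoot.lift_root hxi
  obtain ⟨i, hi⟩ := (FiniteField.bijective_frobeniusAlgEquivOfAlgebraic_pow F K).2
    (AlgEquiv.ofBijective φ (Algebra.IsAlgebraic.algHom_bijective φ))
  have hpow : x ^ Fintype.card F ^ (i : ℕ) = x⁻¹ := by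
    have h := congrArg (fun e : K ≃ₐ[F] K => e x) hi
    simp only [AlgEquiv.coe_ofBijective, hφ] at h
    rw [← h, AlgEquiv.coe_pow, FiniteField.coe_frobeniusAlgEquivOfAlgebraic_iterate]
  have hd : f.natDegree = Module.finrank F K := by
    rw [PowerBasis.finrank (AdjoinRoot.powerBasis hf.ne_zero), AdjoinRoot.powerBasis_dim]
  rcases Nat.eq_zero_or_pos (i : ℕ) with hi0 | hi0
  · rw [hi0, pow_zero, pow_one] at hpow
    have hsq : x * x = 1 := by
      conv_lhs => arg 2; rw [hpow]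
      exact mul_inv_cancel₀ hx0
    obtain ⟨c, hc, hxc⟩ : ∃ c : F, c * c = 1 ∧ x = algebraMap F K c := by
      rcases mul_self_eq_one_iff.1 hsq with h | h
      · exact ⟨1, one_mul 1, by rw [map_one, h]⟩
      · exact ⟨-1, by rw [neg_mul_neg, one_mul], by rw [map_neg, map_one, h]⟩
    refine Or.inl ⟨c, hc, ?_⟩
    have h : f ∣ X - C c := (hdvd _).2 (by rw [map_sub, aeval_X, aeval_C, hxc, sub_self])
    exact Polynomial.eq_of_monic_of_associated hfm (monic_X_sub_C c)
      (hf.associated_of_dvd (irreducible_X_sub_C c) h)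
  · refine Or.inr ⟨i, hi0, ?_, (hdvd _).2 ?_⟩
    · have h2 : x ^ Fintype.card F ^ (2 * (i : ℕ)) = x := by
        rw [two_mul, pow_add, pow_mul, hpow, inv_pow, hpow, inv_inv]
      have h3 : f ∣ X ^ Fintype.card F ^ (2 * (i : ℕ)) - X := (hdvd _).2 (by
        rw [map_sub, map_pow, aeval_X, h2, sub_self])
      rw [Fintype.card_eq_nat_card] at h3
      have h4 := hf.natDegree_dvd_iff_dvd_X_pow_card_pow_sub_X.2 h3
      have h5 : (i : ℕ) < f.natDegree := by rw [hd]; exact i.isLt
      obtain ⟨c, hc⟩ := h4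
      rcases c with _ | _ | c
      · omega
      · omega
      · nlinarith [Nat.zero_le (f.natDegree * c)]
    · rw [map_sub, map_pow, aeval_X, map_one, pow_succ, hpow, inv_mul_cancel₀ hx0, sub_self]

variable {ι : Type*} [Fintype ι] [DecidableEq ι]

/-- The element order bound for isometries of a nondegenerate bilinear form. -/
theorem exists_exponent {p : ℕ} [Fact p.Prime] [CharP F p] {h : (ι → F) → (ι → F) → F}
    (hh : IsReflexiveSesq (RingHom.id F) h) {A : Matrix ι ι F} (hA : Preserves h A) (hdet : A.det ≠ 0)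
    {m : ℕ} (hm : 2 ≤ m) (hN : Fintype.card ι ≤ 2 * m + 1) (hN2 : p = 2 → Fintype.card ι ≤ 2 * m)
    (hm2 : m = 2 → Fintype.card ι = 4 ∧ A.det = 1) :
    ∃ E, 0 < E ∧ (Fintype.card F - 1) * E ≤ Fintype.card F ^ (m + 1) ∧ ∃ c : F, A ^ E = c • 1 := by
  classical
  have hp : p.Prime := Fact.out
  haveI : Nonempty ι ∨ IsEmpty ι := (isEmpty_or_nonempty ι).symm
  rcases isEmpty_or_nonempty ι with hι | hι
  · exact ⟨1, one_pos, by
      rw [mul_one]
      exact (Nat.sub_le _ _).trans (Nat.le_self_pow (Nat.succ_ne_zero m) _), 1, Subsingleton.elim _ _⟩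
  set q := Fintype.card F with hqdef
  obtain ⟨n, -, hqp⟩ := FiniteField.card F p
  have hq : 2 ≤ q := Fintype.one_lt_card
  have hpq : p ≤ q := by
    rw [hqdef, hqp]; exact Nat.le_self_pow n.ne_zero p
  have hint : IsIntegral F A := Algebra.IsIntegral.isIntegral A
  set μ := minpoly F A with hμdef
  have hμ0 : μ ≠ 0 := minpoly.ne_zero hint
  have hμm : μ.Monic := minpoly.monic hint
  have hμχ : μ ∣ A.charpoly := Matrix.minpoly_dvd_charpoly A
  have hχ0 : A.charpoly.coeff 0 ≠ 0 := fun h0 => hdet (by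
    rw [Matrix.det_eq_sign_charpoly_coeff, h0, mul_zero])
  have hdeg : μ.natDegree ≤ Fintype.card ι :=
    (natDegree_le_of_dvd hμχ (Matrix.charpoly_monic A).ne_zero).trans (Matrix.charpoly_natDegree_eq_dim A).le
  have hc0 : ∀ P, P ∣ μ → P.coeff 0 ≠ 0 := fun P hP h0 => hχ0 (by
    obtain ⟨c, hc⟩ := hP.trans hμχ
    rw [hc, mul_coeff_zero, h0, zero_mul])
  have hsymm : ∀ P, P ∣ μ → rev P ∣ μ := by
    intro P hP
    refine (conjRev_dvd _ hP).trans ?_
    have := conjRev_dvd (RingHom.id F) (minpoly_dvd_conjRev hh hA)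
    rwa [conjRev_conjRev hh.invol (hc0 μ dvd_rfl)] at this
  -- the irreducible factors and their multiplicities
  set S := (normalizedFactors μ).toFinset with hS
  let ν : F[X] → ℕ := fun f => (normalizedFactors μ).count f
  have hmem : ∀ f ∈ S, Irreducible f ∧ f.Monic ∧ f ∣ μ ∧ 1 ≤ ν f := by
    intro f hf
    rw [hS, Multiset.mem_toFinset] at hf
    have hi := irreducible_of_normalized_factor f hf
    refine ⟨hi, ?_, dvd_of_mem_normalizedFactors hf, Multiset.one_le_count_iff_mem.2 hf⟩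
    rw [← normalize_normalized_factor f hf]
    exact Polynomial.monic_normalize hi.ne_zero
  have hprod : Associated (∏ f ∈ S, f ^ ν f) μ := by
    rw [hS, ← Finset.prod_multiset_count]
    exact prod_normalizedFactors hμ0
  have hsum : ∑ f ∈ S, f.natDegree * ν f ≤ Fintype.card ι := by
    refine le_trans (le_of_eq ?_) hdeg
    rw [← natDegree_eq_of_degree_eq (degree_eq_degree_of_associated hprod),
      natDegree_prod _ _ fun f hf => pow_ne_zero _ (hmem f hf).1.ne_zero]
    exact Finset.sum_congr rfl fun f _ => by rw [natDegree_pow, mul_comm]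
  have hcount : ∀ g : F[X], Irreducible g → ∀ k, g ^ k ∣ μ → k ≤ ν (normalize g) := by
    intro g hg k hk
    rw [dvd_iff_normalizedFactors_le_normalizedFactors (pow_ne_zero _ hg.ne_zero) hμ0,
      normalizedFactors_pow, normalizedFactors_irreducible hg, Multiset.nsmul_singleton] at hk
    exact Multiset.le_count_iff_replicate_le.2 hk
  let r : F[X] → F[X] := fun f => normalize (rev f)
  have hrev : ∀ f ∈ S, r f ∈ S ∧ r (r f) = f ∧ (r f).natDegree = f.natDegree ∧ ν f ≤ ν (r f) := by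
    intro f hf
    obtain ⟨hi, hmo, hd, h1⟩ := hmem f hf
    have h0 := hc0 f hd
    have hg := irreducible_conjRev hh.invol hi h0
    have hpd : rev f ^ ν f ∣ μ := by
      rw [← conjRev_pow]
      refine hsymm _ ((Finset.dvd_prod_of_mem (fun f => f ^ ν f) hf).trans hprod.dvd)
    have hle := hcount _ hg _ hpd
    refine ⟨?_, ?_, ?_, hle⟩
    · rw [hS, Multiset.mem_toFinset, ← Multiset.one_le_count_iff_mem]
      exact h1.trans hle
    · have h2 := associated_conjRev (normalize_associated (rev f))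
      rw [conjRev_conjRev hh.invol h0] at h2
      show normalize (rev (normalize (rev f))) = f
      rw [normalize_eq_normalize h2.dvd h2.symm.dvd, hmo.normalize_eq_self]
    · show (normalize (rev f)).natDegree = _
      rw [natDegree_eq_of_degree_eq (degree_eq_degree_of_associated (normalize_associated _)),
        natDegree_conjRev _ h0]
  have hνr : ∀ f ∈ S, ν (r f) = ν f := fun f hf => by
    obtain ⟨h1, h2, -, h4⟩ := hrev f hf
    have h5 := (hrev _ h1).2.2.2
    rw [h2] at h5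
    omega
  have hself : ∀ f ∈ S, r f = f → (∃ c : F, c * c = 1 ∧ f = X - C c) ∨
      ∃ a, 0 < a ∧ f.natDegree = 2 * a ∧ f ∣ X ^ (q ^ a + 1) - 1 := by
    intro f hf he
    obtain ⟨hi, hmo, hd, -⟩ := hmem f hf
    refine selfRev_facts hmo hi (hc0 f hd) ?_
    calc f = normalize (rev f) := he.symm
      _ ∣ rev f := (normalize_associated _).dvd
  -- representatives: self-reciprocal of even degree, one from each pair
  let idx : F[X] → ℕ := fun f => S.toList.idxOf f
  have hidx : ∀ f ∈ S, ∀ g, idx f = idx g → f = g := fun f hf g h =>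
    (List.idxOf_inj (Finset.mem_toList.2 hf)).1 h
  let T₁ := S.filter fun f => r f = f ∧ ¬ ∃ c : F, c * c = 1 ∧ f = X - C c
  let T₂ := S.filter fun f => idx f < idx (r f)
  let T₃ := S.filter fun f => r f = f ∧ ∃ c : F, c * c = 1 ∧ f = X - C c
  let T₂' := S.filter fun f => idx (r f) < idx f
  have hcases : ∀ f ∈ S, f ∈ T₁ ∨ f ∈ T₂ ∨ f ∈ T₂' ∨ f ∈ T₃ := by
    intro f hf
    rcases lt_trichotomy (idx f) (idx (r f)) with h | h | h
    · exact Or.inr (Or.inl (Finset.mem_filter.2 ⟨hf, h⟩))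
    · have he := (hidx f hf _ h).symm
      by_cases hc : ∃ c : F, c * c = 1 ∧ f = X - C c
      · exact Or.inr (Or.inr (Or.inr (Finset.mem_filter.2 ⟨hf, he, hc⟩)))
      · exact Or.inl (Finset.mem_filter.2 ⟨hf, he, hc⟩)
    · exact Or.inr (Or.inr (Or.inl (Finset.mem_filter.2 ⟨hf, h⟩)))
  have hT1 : ∀ f ∈ T₁, 0 < f.natDegree / 2 ∧ f.natDegree = 2 * (f.natDegree / 2) ∧
      f ∣ X ^ (q ^ (f.natDegree / 2) + 1) - 1 := by
    intro f hf
    obtain ⟨hfS, he, hno⟩ := Finset.mem_filter.1 hf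
    obtain ⟨a, ha, hda, hdv⟩ := (hself f hfS he).resolve_left hno
    rw [hda, Nat.mul_div_cancel_left _ two_pos]
    exact ⟨ha, rfl, hdv⟩
  let a : F[X] → ℕ := fun f => if r f = f then f.natDegree / 2 else f.natDegree
  have ha1 : ∀ f ∈ T₁, a f = f.natDegree / 2 := fun f hf => if_pos (Finset.mem_filter.1 hf).2.1
  have ha2 : ∀ f ∈ T₂, a f = f.natDegree := fun f hf => if_neg fun he => by
    have := (Finset.mem_filter.1 hf).2
    rw [he] at this
    exact lt_irrefl _ this
  -- the weights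
  have hweight : 2 * ∑ f ∈ T₁, a f * ν f + 2 * ∑ f ∈ T₂, a f * ν f + ∑ f ∈ T₃, ν f ≤
      Fintype.card ι := by
    refine le_trans ?_ hsum
    have hd₁ : Disjoint T₁ T₂ := Finset.disjoint_filter.2 fun f _ h1 h2 => by
      rw [h1.1] at h2; exact lt_irrefl _ h2
    have hd₂ : Disjoint (T₁ ∪ T₂) T₂' := by
      refine Finset.disjoint_union_left.2 ⟨Finset.disjoint_filter.2 fun f _ h1 h2 => ?_,
        Finset.disjoint_filter.2 fun f _ h1 h2 => lt_asymm h1 h2⟩
      rw [h1.1] at h2; exact lt_irrefl _ h2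
    have hd₃ : Disjoint (T₁ ∪ T₂ ∪ T₂') T₃ := by
      refine Finset.disjoint_union_left.2 ⟨Finset.disjoint_union_left.2
        ⟨Finset.disjoint_filter.2 fun f _ h1 h2 => h1.2 h2.2,
          Finset.disjoint_filter.2 fun f _ h1 h2 => ?_⟩, Finset.disjoint_filter.2 fun f _ h1 h2 => ?_⟩
      · rw [h2.1] at h1; exact lt_irrefl _ h1
      · rw [h2.1] at h1; exact lt_irrefl _ h1
    refine le_trans (le_of_eq ?_) (Finset.sum_le_sum_of_subset (f := fun f => f.natDegree * ν f)
      (s := T₁ ∪ T₂ ∪ T₂' ∪ T₃) fun f hf => ?_)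
    · rw [Finset.sum_union hd₃, Finset.sum_union hd₂, Finset.sum_union hd₁]
      have e1 : ∑ f ∈ T₁, f.natDegree * ν f = 2 * ∑ f ∈ T₁, a f * ν f := by
        rw [Finset.mul_sum]
        exact Finset.sum_congr rfl fun f hf => by
          rw [ha1 f hf, ← mul_assoc, ← (hT1 f hf).2.1]
      have e2 : ∑ f ∈ T₂, f.natDegree * ν f = ∑ f ∈ T₂, a f * ν f :=
        Finset.sum_congr rfl fun f hf => by rw [ha2 f hf]
      have e3 : ∑ f ∈ T₂', f.natDegree * ν f = ∑ f ∈ T₂, a f * ν f := by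
        rw [← e2]
        refine Finset.sum_nbij' r r (fun f hf => ?_) (fun f hf => ?_) (fun f hf => ?_) (fun f hf => ?_)
          (fun f hf => ?_) <;> obtain ⟨hfS, hlt⟩ := Finset.mem_filter.1 hf
        · exact Finset.mem_filter.2 ⟨(hrev f hfS).1, by rw [(hrev f hfS).2.1]; exact hlt⟩
        · exact Finset.mem_filter.2 ⟨(hrev f hfS).1, by rw [(hrev f hfS).2.1]; exact hlt⟩
        · exact (hrev f hfS).2.1
        · exact (hrev f hfS).2.1
        · rw [(hrev f hfS).2.2.1, hνr f hfS]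
      have e4 : ∑ f ∈ T₃, f.natDegree * ν f = ∑ f ∈ T₃, ν f :=
        Finset.sum_congr rfl fun f hf => by
          obtain ⟨-, -, c, -, rfl⟩ := Finset.mem_filter.1 hf
          rw [natDegree_X_sub_C, one_mul]
      rw [e1, e2, e3, e4]; ring
    · simp only [Finset.mem_union] at hf
      rcases hf with ((h | h) | h) | h <;> exact (Finset.mem_filter.1 h).1
  -- the exponent
  have hSne : S.Nonempty := by
    rw [hS, Multiset.toFinset_nonempty]
    intro h0
    have h1 := prod_normalizedFactors hμ0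
    rw [h0, Multiset.prod_zero] at h1
    exact minpoly.not_isUnit F A (h1.isUnit isUnit_one)
  obtain ⟨f₀, hf₀, hmax⟩ := Finset.exists_max_image S ν hSne
  set e := Nat.clog p (ν f₀) with hedef
  have hνe : ∀ f ∈ S, ν f ≤ p ^ e := fun f hf => (hmax f hf).trans (Nat.le_pow_clog hp.one_lt _)
  have hfinal : ∀ L, 0 < L → ∀ c : F, (∀ f ∈ S, f ∣ X ^ L - C c) →
      ∃ c' : F, A ^ (L * p ^ e) = c' • 1 := by
    intro L hL c hdv
    have h1 : μ ∣ (X ^ L - C c) ^ p ^ e := by
      refine hprod.symm.dvd.trans (Finset.prod_dvd_of_coprime (fun f hf g hg hfg => ?_) fun f hf => ?_)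
      · refine IsCoprime.pow ((hmem f hf).1.coprime_iff_not_dvd.2 fun hd => hfg ?_)
        exact Polynomial.eq_of_monic_of_associated (hmem f hf).2.1 (hmem g hg).2.1
          ((hmem f hf).1.associated_of_dvd (hmem g hg).1 hd)
      · exact (pow_dvd_pow _ (hνe f hf)).trans (pow_dvd_pow_of_dvd (hdv f hf) _)
    rw [sub_pow_char_pow, ← pow_mul, ← map_pow] at h1
    obtain ⟨u, hu⟩ := h1
    have h3 := congrArg (aeval A) hu
    rw [map_mul, minpoly.aeval, zero_mul, map_sub, map_pow, aeval_X, aeval_C, sub_eq_zero] at h3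
    exact ⟨c ^ p ^ e, by rw [h3, Algebra.algebraMap_eq_smul_one]⟩
  have hpe : ∀ s, e ≤ s → p ^ e ≤ q ^ s := fun s hs =>
    (Nat.pow_le_pow_left hpq e).trans (Nat.pow_le_pow_right (by omega) hs)
  by_cases hT : T₁ = ∅ ∧ T₂ = ∅
  · -- only the eigenvalues `±1`
    have hall : ∀ f ∈ S, ∃ c : F, c * c = 1 ∧ f = X - C c := by
      intro f hf
      rcases hcases f hf with h | h | h | h
      · rw [hT.1] at h; simp at h
      · rw [hT.2] at h; simp at h
      · obtain ⟨hfS, hlt⟩ := Finset.mem_filter.1 h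
        have : r f ∈ T₂ := Finset.mem_filter.2 ⟨(hrev f hfS).1, by rw [(hrev f hfS).2.1]; exact hlt⟩
        rw [hT.2] at this; simp at this
      · exact (Finset.mem_filter.1 h).2.2
    by_cases hone : S.card ≤ 1
    · obtain ⟨c, hc, hfc⟩ := hall f₀ hf₀
      refine ⟨1 * p ^ e, Nat.mul_pos one_pos (pow_pos hp.pos e), ?_, hfinal 1 one_pos c fun f hf => ?_⟩
      · rw [one_mul]
        have hle : e ≤ m := by
          have h1 : ν f₀ ≤ Fintype.card ι := by
            refine le_trans ?_ (le_trans (Finset.single_le_sum (f := fun f => f.natDegree * ν f)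
              (fun _ _ => Nat.zero_le _) hf₀) hsum)
            simp only [hfc, natDegree_X_sub_C, one_mul, le_refl]
          exact LcmBound.clog_le_slack hp.two_le (h1.trans hN) fun h => h1.trans (hN2 h)
        calc (q - 1) * p ^ e ≤ q * q ^ m := Nat.mul_le_mul (Nat.sub_le _ _) (hpe m hle)
          _ = q ^ (m + 1) := (pow_succ' q m).symm
      · rw [Finset.card_le_one.1 hone f hf f₀ hf₀, hfc, pow_one]
    · obtain ⟨f₁, hf₁, hne⟩ := Finset.exists_mem_ne (s := S) (by omega) f₀
      obtain ⟨c, hc, hfc⟩ := hall f₀ hf₀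
      obtain ⟨c₁, hc₁, hfc₁⟩ := hall f₁ hf₁
      have hcc : c₁ = -c ∧ c ≠ -c := by
        have hd : c₁ ≠ c := fun h => hne (by rw [hfc, hfc₁, h])
        rcases mul_self_eq_one_iff.1 hc with rfl | rfl <;>
          rcases mul_self_eq_one_iff.1 hc₁ with rfl | rfl
        · exact absurd rfl hd
        · exact ⟨rfl, fun h => hd h.symm⟩
        · exact ⟨(neg_neg _).symm, fun h => hd (by rw [neg_neg] at h; exact h.symm)⟩
        · exact absurd rfl hd
      have hp3 : 3 ≤ p := by
        by_contra hlt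
        have h2 : p = 2 := le_antisymm (by omega) hp.two_le
        subst h2
        exact hcc.2 (CharTwo.neg_eq c).symm
      have hpair : ν f₀ + ν f₁ ≤ Fintype.card ι := by
        refine le_trans ?_ hsum
        have hsub : ({f₀, f₁} : Finset F[X]) ⊆ S := by
          intro g hg
          rcases Finset.mem_insert.1 hg with rfl | hg
          · exact hf₀
          · rw [Finset.mem_singleton.1 hg]; exact hf₁
        refine le_trans (le_of_eq ?_) (Finset.sum_le_sum_of_subset (f := fun f => f.natDegree * ν f) hsub)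
        rw [Finset.sum_pair hne.symm, hfc, hfc₁, natDegree_X_sub_C, natDegree_X_sub_C, one_mul, one_mul]
      have hν₁ := (hmem f₁ hf₁).2.2.2
      have hle : e ≤ m - 1 := by
        refine LcmBound.clog_le_sub_one hp3 hm (by omega) fun h2 => ?_
        obtain ⟨hcard, hdet1⟩ := hm2 h2
        by_contra hbig
        have hν : ν f₀ = 3 ∧ ν f₁ = 1 := by omega
        have hdvd : f₀ ^ 3 * f₁ ∣ μ := by
          refine dvd_trans ?_ hprod.dvd
          have h := Finset.prod_dvd_prod_of_subset ({f₀, f₁} : Finset F[X]) S (fun f => f ^ ν f)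
            (by
              intro g hg
              rcases Finset.mem_insert.1 hg with rfl | hg
              · exact hf₀
              · rw [Finset.mem_singleton.1 hg]; exact hf₁)
          rwa [Finset.prod_pair hne.symm, hν.1, hν.2, pow_one] at h
        have hχ : A.charpoly = f₀ ^ 3 * f₁ := by
          refine (Polynomial.eq_of_monic_of_dvd_of_natDegree_le ((hmem f₀ hf₀).2.1.pow 3 |>.mul (hmem f₁ hf₁).2.1)
            (Matrix.charpoly_monic A) (hdvd.trans hμχ) ?_)
          rw [Matrix.charpoly_natDegree_eq_dim, hcard, natDegree_mul (pow_ne_zero _ (hmem f₀ hf₀).1.ne_zero)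
            (hmem f₁ hf₁).1.ne_zero, natDegree_pow, hfc, hfc₁, natDegree_X_sub_C, natDegree_X_sub_C]
        have h4 := Matrix.det_eq_sign_charpoly_coeff A
        rw [hdet1, hχ, hfc, hfc₁, hcard, coeff_zero_eq_eval_zero, hcc.1] at h4
        simp only [eval_mul, eval_pow, eval_sub, eval_X, eval_C] at h4
        apply hcc.2
        have h5 : (1 : F) = -((c * c) * (c * c)) := by linear_combination h4
        rw [hc, one_mul] at h5
        linear_combination c * h5
      refine ⟨2 * p ^ e, Nat.mul_pos two_pos (pow_pos hp.pos e), ?_, hfinal 2 two_pos 1 fun f hf => ?_⟩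
      · calc (q - 1) * (2 * p ^ e) ≤ q * (q * q ^ (m - 1)) :=
            Nat.mul_le_mul (Nat.sub_le _ _) (Nat.mul_le_mul hq (hpe _ hle))
          _ = q ^ (m + 1) := by rw [← pow_succ', ← pow_succ', Nat.sub_add_cancel (by omega)]
      · obtain ⟨d, hd, rfl⟩ := hall f hf
        refine ⟨X + C d, ?_⟩
        rw [← hd, map_mul]; ring
  -- some factor other than `X ± 1`
  set L := Nat.lcm (T₁.lcm fun f => q ^ a f + 1) (T₂.lcm fun f => q ^ a f - 1) with hLdef
  have hapos : ∀ f ∈ T₁, 0 < a f := fun f hf => by rw [ha1 f hf]; exact (hT1 f hf).1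
  have hapos₂ : ∀ f ∈ T₂, 0 < a f := fun f hf => by
    rw [ha2 f hf]; exact (hmem f (Finset.mem_filter.1 hf).1).1.natDegree_pos
  have hL0 : 0 < L := by
    rw [hLdef]
    refine Nat.pos_of_ne_zero (Nat.lcm_ne_zero ?_ ?_)
    · rw [Ne, Finset.lcm_eq_zero_iff]; rintro ⟨f, -, h⟩; exact Nat.succ_ne_zero _ h
    · rw [Ne, Finset.lcm_eq_zero_iff]
      rintro ⟨f, hf, h⟩
      have := Nat.one_lt_pow (hapos₂ f hf).ne' (by omega : 1 < q)
      omega
  have heven : Odd q → 2 ∣ L := by
    intro hodd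
    rcases Finset.eq_empty_or_nonempty T₁ with h1 | ⟨f, hf⟩
    · obtain ⟨f, hf⟩ := Finset.nonempty_iff_ne_empty.2 fun h2 => hT ⟨h1, h2⟩
      refine dvd_trans ?_ (dvd_trans (Finset.dvd_lcm (f := fun f => q ^ a f - 1) hf) (Nat.dvd_lcm_right _ _))
      exact even_iff_two_dvd.1 (Nat.Odd.sub_odd hodd.pow odd_one)
    · refine dvd_trans ?_ (dvd_trans (Finset.dvd_lcm (f := fun f => q ^ a f + 1) hf) (Nat.dvd_lcm_left _ _))
      exact even_iff_two_dvd.1 (hodd.pow.add_odd odd_one)
  have hdvL : ∀ f ∈ S, f ∣ X ^ L - C 1 := by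
    intro f hf
    have hup : ∀ {k : ℕ}, k ∣ L → (X ^ k - 1 : F[X]) ∣ X ^ L - C 1 := by
      rintro k ⟨j, hj⟩
      rw [hj, map_one, pow_mul]
      exact sub_one_dvd_pow_sub_one _ _
    have hX : ¬ f ∣ X := fun hd => by
      have h1 := Polynomial.eq_of_monic_of_associated (hmem f hf).2.1 monic_X
        ((hmem f hf).1.associated_of_dvd irreducible_X hd)
      exact hc0 f (hmem f hf).2.2.1 (by rw [h1, coeff_X_zero])
    have hminus : ∀ g ∈ T₂, g.natDegree = f.natDegree → f ∣ X ^ L - C 1 := by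
      intro g hg he
      refine (irreducible_dvd_X_pow_sub_one (hmem f hf).1 hX (L := q ^ a g - 1) ?_).trans
        (hup (dvd_trans (Finset.dvd_lcm (f := fun f => q ^ a f - 1) hg) (Nat.dvd_lcm_right _ _)))
      rw [ha2 g hg, he]
    rcases hcases f hf with h | h | h | h
    · have h2 := (hT1 f h).2.2
      rw [← ha1 f h] at h2
      exact h2.trans (hup (dvd_trans (Finset.dvd_lcm (f := fun f => q ^ a f + 1) h) (Nat.dvd_lcm_left _ _)))
    · exact hminus f h rfl
    · obtain ⟨hfS, hlt⟩ := Finset.mem_filter.1 h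
      exact hminus (r f) (Finset.mem_filter.2 ⟨(hrev f hfS).1, by rw [(hrev f hfS).2.1]; exact hlt⟩)
        (hrev f hfS).2.2.1
    · obtain ⟨-, -, c, hc, rfl⟩ := Finset.mem_filter.1 h
      refine dvd_iff_isRoot.2 ?_
      rw [IsRoot.def, eval_sub, eval_pow, eval_X, eval_C, sub_eq_zero]
      by_cases hodd : Odd q
      · obtain ⟨j, hj⟩ := heven hodd
        rw [hj, pow_mul, sq, hc, one_pow]
      · have h2 : p = 2 := by
          rw [Nat.not_odd_iff_even, even_iff_two_dvd, hqdef, hqp] at hodd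
          exact ((Nat.prime_dvd_prime_iff_eq Nat.prime_two hp).1 (Nat.prime_two.dvd_of_dvd_pow hodd)).symm
        subst h2
        rcases mul_self_eq_one_iff.1 hc with rfl | rfl
        · exact one_pow L
        · rw [CharTwo.neg_eq, one_pow]
  refine ⟨L * p ^ e, Nat.mul_pos hL0 (pow_pos hp.pos e), ?_, hfinal L hL0 1 hdvL⟩
  set As := ∑ f ∈ T₁, a f + ∑ f ∈ T₂, a f with hAs
  have hW : As ≤ ∑ f ∈ T₁, a f * ν f + ∑ f ∈ T₂, a f * ν f :=
    Nat.add_le_add
      (Finset.sum_le_sum fun f hf => Nat.le_mul_of_pos_right _ (hmem f (Finset.mem_filter.1 hf).1).2.2.2)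
      (Finset.sum_le_sum fun f hf => Nat.le_mul_of_pos_right _ (hmem f (Finset.mem_filter.1 hf).1).2.2.2)
  have hAm : As ≤ m := by omega
  -- the unipotent exponent fits into the slack
  have hslack : e ≤ m - As := by
    have hterm : ∀ T : Finset F[X], (∀ f ∈ T, f ∈ S ∧ 0 < a f) → ∀ g ∈ T,
        (ν g - 1) + ∑ f ∈ T, a f ≤ ∑ f ∈ T, a f * ν f := by
      intro T hTS g hg
      rw [← Finset.add_sum_erase T _ hg, ← Finset.add_sum_erase T (fun f => a f * ν f) hg, ← add_assoc]
      refine Nat.add_le_add ?_ (Finset.sum_le_sum fun f hf =>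
        Nat.le_mul_of_pos_right _ (hmem f (hTS f (Finset.mem_of_mem_erase hf)).1).2.2.2)
      obtain ⟨k, hk⟩ : ∃ k, ν g = k + 1 := ⟨ν g - 1, by have := (hmem g (hTS g hg).1).2.2.2; omega⟩
      rw [hk, Nat.add_sub_cancel, mul_add, mul_one]
      exact Nat.add_le_add_right (Nat.le_mul_of_pos_left _ (hTS g hg).2) _
    have hbig : ν f₀ - 1 + As ≤ ∑ f ∈ T₁, a f * ν f + ∑ f ∈ T₂, a f * ν f → e ≤ m - As := by
      intro hle
      refine (LcmBound.clog_le_pred hp.two_le (hmem f₀ hf₀).2.2.2).trans ?_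
      omega
    rcases hcases f₀ hf₀ with h | h | h | h
    · refine hbig ?_
      have h1 := hterm T₁ (fun f hf => ⟨(Finset.mem_filter.1 hf).1, hapos f hf⟩) f₀ h
      have h2 : ∑ f ∈ T₂, a f ≤ ∑ f ∈ T₂, a f * ν f :=
        Finset.sum_le_sum fun f hf => Nat.le_mul_of_pos_right _ (hmem f (Finset.mem_filter.1 hf).1).2.2.2
      omega
    · refine hbig ?_
      have h1 := hterm T₂ (fun f hf => ⟨(Finset.mem_filter.1 hf).1, hapos₂ f hf⟩) f₀ h
      have h2 : ∑ f ∈ T₁, a f ≤ ∑ f ∈ T₁, a f * ν f :=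
        Finset.sum_le_sum fun f hf => Nat.le_mul_of_pos_right _ (hmem f (Finset.mem_filter.1 hf).1).2.2.2
      omega
    · refine hbig ?_
      obtain ⟨hfS, hlt⟩ := Finset.mem_filter.1 h
      have h1 := hterm T₂ (fun f hf => ⟨(Finset.mem_filter.1 hf).1, hapos₂ f hf⟩) (r f₀)
        (Finset.mem_filter.2 ⟨(hrev f₀ hfS).1, by rw [(hrev f₀ hfS).2.1]; exact hlt⟩)
      rw [hνr f₀ hfS] at h1
      have h2 : ∑ f ∈ T₁, a f ≤ ∑ f ∈ T₁, a f * ν f :=
        Finset.sum_le_sum fun f hf => Nat.le_mul_of_pos_right _ (hmem f (Finset.mem_filter.1 hf).1).2.2.2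
      omega
    · have h1 : ν f₀ ≤ ∑ f ∈ T₃, ν f := Finset.single_le_sum (fun _ _ => Nat.zero_le _) h
      refine LcmBound.clog_le_slack hp.two_le (by omega) fun h2 => ?_
      have := hN2 h2
      omega
  calc (q - 1) * (L * p ^ e) = ((q - 1) * L) * p ^ e := (mul_assoc _ _ _).symm
    _ ≤ q ^ (As + 1) * q ^ (m - As) := Nat.mul_le_mul (LcmBound.lcm_bound hq T₁ T₂ a hapos) (hpe _ hslack)
    _ = q ^ (m + 1) := by rw [← pow_add]; congr 1; omega

/-- The bound in a quotient by the centre. -/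
theorem orderOf_mk_le {G : Type*} [Group G] (τ : G →* Matrix ι ι F) (hτ : Function.Injective τ)
    {p : ℕ} [Fact p.Prime] [CharP F p] {h : (ι → F) → (ι → F) → F}
    (hh : IsReflexiveSesq (RingHom.id F) h) (hA : ∀ x, Preserves h (τ x))
    {m : ℕ} (hm : 2 ≤ m) (hN : Fintype.card ι ≤ 2 * m + 1) (hN2 : p = 2 → Fintype.card ι ≤ 2 * m)
    (hm2 : m = 2 → Fintype.card ι = 4 ∧ ∀ x, (τ x).det = 1) (g : G ⧸ Subgroup.center G) :
    (Fintype.card F - 1) * orderOf g ≤ Fintype.card F ^ (m + 1) := by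
  obtain ⟨x, rfl⟩ := QuotientGroup.mk'_surjective _ g
  have hu : IsUnit (τ x) := ⟨Units.map τ (toUnits x), rfl⟩
  obtain ⟨E, hE, hle, c, hc⟩ := exists_exponent hh (hA x)
    ((Matrix.isUnit_iff_isUnit_det _).1 hu).ne_zero hm hN hN2 fun h => ⟨(hm2 h).1, (hm2 h).2 x⟩
  refine le_trans (Nat.mul_le_mul_left _ (Nat.le_of_dvd hE (orderOf_dvd_of_pow_eq_one ?_))) hle
  rw [← map_pow, QuotientGroup.mk'_apply, QuotientGroup.eq_one_iff, Subgroup.mem_center_iff]
  intro y
  apply hτ
  rw [map_mul, map_mul, map_pow, hc, mul_smul_comm, smul_mul_assoc, mul_one, one_mul]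

end Cfsg.Agent.GL
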