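import Cfsg.Agent.Lib.GL.PSLOrders

/-!
Element orders of isometries of a nondegenerate reflexive sesquilinear form (unitary and symplectic groups):
the conjugate-reversed minimal polynomial, orthogonal splitting along it, scalar powers.
-/

set_option autoImplicit false

open Matrix Polynomial

namespace Cfsg.Agent.GL

variable {F : Type*} [Field F]

section ConjRev

variable (σ : F →+* F)

/-- The conjugate reversed polynomial. -/
noncomputable def conjRev (P : F[X]) : F[X] := (P.map σ).reverse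

theorem conjRev_mul (P Q : F[X]) : conjRev σ (P * Q) = conjRev σ P * conjRev σ Q := by
  rw [conjRev, Polynomial.map_mul, reverse_mul_of_domain]; rfl

theorem conjRev_pow (P : F[X]) (k : ℕ) : conjRev σ (P ^ k) = conjRev σ P ^ k := by
  induction k with
  | zero => simp [conjRev, reverse]
  | succ k ih => rw [pow_succ, conjRev_mul, ih, pow_succ]

theorem conjRev_dvd {P Q : F[X]} (h : P ∣ Q) : conjRev σ P ∣ conjRev σ Q := by
  obtain ⟨c, rfl⟩ := h
  exact ⟨conjRev σ c, conjRev_mul σ P c⟩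

theorem coeff_zero_conjRev (P : F[X]) : (conjRev σ P).coeff 0 = σ P.leadingCoeff := by
  rw [conjRev, coeff_zero_reverse, leadingCoeff_map]

theorem natDegree_conjRev {P : F[X]} (h : P.coeff 0 ≠ 0) : (conjRev σ P).natDegree = P.natDegree := by
  rw [conjRev, reverse_natDegree, natDegree_map, natTrailingDegree_eq_zero.2 (Or.inr ?_), Nat.sub_zero]
  rw [coeff_map]
  exact (map_ne_zero σ).2 h

variable {σ} (hσ : ∀ x, σ (σ x) = x)
include hσ

theorem conjRev_conjRev {P : F[X]} (h : P.coeff 0 ≠ 0) : conjRev σ (conjRev σ P) = P := by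
  have hmm : (P.map σ).map σ = P := by ext i; simp [coeff_map, hσ]
  have hd := natDegree_conjRev σ h
  have e : (conjRev σ P).map σ = reflect P.natDegree P := by
    rw [conjRev, reverse, natDegree_map, ← reflect_map, hmm]
  rw [conjRev, reverse, natDegree_map, e, hd, reflect_reflect]

theorem irreducible_conjRev {f : F[X]} (hf : Irreducible f) (h : f.coeff 0 ≠ 0) :
    Irreducible (conjRev σ f) := by
  have hd := natDegree_conjRev σ h
  have hne : conjRev σ f ≠ 0 := fun h0 => by
    rw [h0, natDegree_zero] at hd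
    exact hf.natDegree_pos.ne hd
  refine ⟨fun hu => hf.natDegree_pos.ne' (hd ▸ natDegree_eq_zero_of_isUnit hu), fun a b hab => ?_⟩
  have h0 : a.coeff 0 * b.coeff 0 ≠ 0 := by
    rw [← mul_coeff_zero, ← hab, coeff_zero_conjRev]
    exact (map_ne_zero σ).2 (leadingCoeff_ne_zero.2 hf.ne_zero)
  have := congrArg (conjRev σ) hab
  rw [conjRev_conjRev hσ h, conjRev_mul] at this
  have hunit : ∀ c : F[X], c.coeff 0 ≠ 0 → IsUnit (conjRev σ c) → IsUnit c := fun c hc hu => by
    have h1 := natDegree_eq_zero_of_isUnit hu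
    rw [natDegree_conjRev σ hc] at h1
    rw [eq_C_of_natDegree_eq_zero h1]
    exact isUnit_C.2 (isUnit_iff_ne_zero.2 hc)
  rcases hf.isUnit_or_isUnit this with hu | hu
  · exact Or.inl (hunit a (left_ne_zero_of_mul h0) hu)
  · exact Or.inr (hunit b (right_ne_zero_of_mul h0) hu)

theorem conjRev_dvd_X_pow_sub_C {f : F[X]} {L : ℕ} (hL : 0 < L) {c : F} (hc : c * σ c = 1)
    (h : f ∣ X ^ L - C c) : conjRev σ f ∣ X ^ L - C c := by
  refine (conjRev_dvd σ h).trans ?_
  have hmap : (X ^ L - C c : F[X]).map σ = X ^ L - C (σ c) := by simp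
  have hrev : conjRev σ (X ^ L - C c) = 1 - C (σ c) * X ^ L := by
    rw [conjRev, hmap, reverse, natDegree_X_pow_sub_C, reflect_sub, reflect_monomial, reflect_C,
      revAt_le le_rfl, Nat.sub_self, pow_zero]
  rw [hrev]
  refine ⟨-C c, ?_⟩
  have : (C c : F[X]) * C (σ c) = 1 := by rw [← map_mul, hc, map_one]
  linear_combination (-(X : F[X]) ^ L) * this

end ConjRev

variable {ι : Type*} [Fintype ι] [DecidableEq ι]

/-- A nondegenerate reflexive `σ`-sesquilinear form, linear in the first variable. -/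
structure IsReflexiveSesq (σ : F →+* F) (h : (ι → F) → (ι → F) → F) : Prop where
  invol : ∀ x, σ (σ x) = x
  add_left : ∀ u u' v, h (u + u') v = h u v + h u' v
  smul_left : ∀ (c : F) u v, h (c • u) v = c * h u v
  add_right : ∀ u v v', h u (v + v') = h u v + h u v'
  smul_right : ∀ (c : F) u v, h u (c • v) = σ c * h u v
  refl : ∀ u v, h u v = 0 → h v u = 0
  nondeg : ∀ v, (∀ u, h u v = 0) → v = 0

/-- `A` is an isometry. -/
def Preserves (h : (ι → F) → (ι → F) → F) (A : Matrix ι ι F) : Prop :=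
  ∀ u v, h (A *ᵥ u) (A *ᵥ v) = h u v

variable {σ : F →+* F} {h : (ι → F) → (ι → F) → F}

theorem Preserves.pow {A : Matrix ι ι F} (hA : Preserves h A) (k : ℕ) : Preserves h (A ^ k) := by
  induction k with
  | zero => intro u v; simp
  | succ k ih =>
    intro u v
    rw [pow_succ, ← Matrix.mulVec_mulVec, ← Matrix.mulVec_mulVec, ih, hA]

theorem IsReflexiveSesq.zero_left (hh : IsReflexiveSesq σ h) (v : ι → F) : h 0 v = 0 := by
  simpa using hh.smul_left 0 0 v

theorem IsReflexiveSesq.zero_right (hh : IsReflexiveSesq σ h) (u : ι → F) : h u 0 = 0 := by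
  simpa using hh.smul_right 0 u 0

/-- The adjoint of a polynomial in an isometry. -/
theorem apply_aeval_left (hh : IsReflexiveSesq σ h) {A : Matrix ι ι F} (hA : Preserves h A) (N : ℕ)
    (u v : ι → F) : ∀ P : F[X], P.natDegree ≤ N →
      h (aeval A P *ᵥ u) (A ^ N *ᵥ v) = h u (aeval A (reflect N (P.map σ)) *ᵥ v) := by
  refine induction_with_natDegree_le _ N ?_ ?_ ?_
  · simp [hh.zero_left, hh.zero_right]
  · intro i r _ hi
    rw [Polynomial.map_mul, Polynomial.map_C, Polynomial.map_pow, Polynomial.map_X, reflect_C_mul_X_pow,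
      revAt_le hi, map_mul, map_mul, aeval_C, aeval_C, map_pow, map_pow, aeval_X, ← Algebra.smul_def,
      ← Algebra.smul_def, Matrix.smul_mulVec, Matrix.smul_mulVec, hh.smul_left, hh.smul_right, hh.invol]
    congr 1
    conv_lhs => rw [← Nat.add_sub_cancel' hi, pow_add, ← Matrix.mulVec_mulVec]
    exact hA.pow i _ _
  · intro f g _ _ hf hg
    rw [Polynomial.map_add, reflect_add, map_add, map_add, Matrix.add_mulVec, Matrix.add_mulVec,
      hh.add_left, hh.add_right, hf, hg]

theorem aeval_conjRev (hh : IsReflexiveSesq σ h) {A : Matrix ι ι F} (hA : Preserves h A) (P : F[X])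
    (u v : ι → F) : h (aeval A P *ᵥ u) (A ^ P.natDegree *ᵥ v) = h u (aeval A (conjRev σ P) *ᵥ v) := by
  rw [apply_aeval_left hh hA _ u v P le_rfl, conjRev, reverse, natDegree_map]

theorem minpoly_dvd_conjRev (hh : IsReflexiveSesq σ h) {A : Matrix ι ι F} (hA : Preserves h A) :
    minpoly F A ∣ conjRev σ (minpoly F A) := by
  refine minpoly.dvd F A (Matrix.toLin'.injective (LinearMap.ext fun v => ?_))
  rw [Matrix.toLin'_apply, map_zero, LinearMap.zero_apply]
  refine hh.nondeg _ fun u => ?_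
  rw [← aeval_conjRev hh hA, minpoly.aeval, Matrix.zero_mulVec, hh.zero_left]

theorem orthogonal_of_coprime (hh : IsReflexiveSesq σ h) {A : Matrix ι ι F} (hA : Preserves h A)
    {P Q : F[X]} (hPQ : IsCoprime (conjRev σ P) Q) {u v : ι → F} (hu : aeval A P *ᵥ u = 0)
    (hv : aeval A Q *ᵥ v = 0) : h u v = 0 := by
  obtain ⟨a, b, hab⟩ := hPQ
  have e : v = aeval A (conjRev σ P) *ᵥ (aeval A a *ᵥ v) := by
    have := congrArg (fun p => aeval A p *ᵥ v) hab
    simp only [map_add, map_mul, map_one, Matrix.add_mulVec, Matrix.one_mulVec] at this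
    rw [← Matrix.mulVec_mulVec v (aeval A b) (aeval A Q), hv, Matrix.mulVec_zero, add_zero] at this
    conv_lhs => rw [← this]
    rw [Matrix.mulVec_mulVec, ← map_mul, mul_comm, map_mul]
  rw [e, ← aeval_conjRev hh hA, hu, hh.zero_left]

/-- Determinant of a combination of an idempotent and its complement. -/
theorem det_idempotent_combination {V : Type*} [AddCommGroup V] [Module F V] [FiniteDimensional F V]
    (E : Module.End F V) (hE : IsIdempotentElem E) (a b : F) :
    LinearMap.det (a • E + b • (1 - E)) =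
      a ^ Module.finrank F (LinearMap.range E) * b ^ Module.finrank F (LinearMap.ker E) := by
  have hc := LinearMap.IsIdempotentElem.isCompl hE
  let e := Submodule.prodEquivOfIsCompl _ _ hc
  let r : Module.End F (LinearMap.range E × LinearMap.ker E) :=
    LinearMap.prodMap (a • LinearMap.id) (b • LinearMap.id)
  have key : a • E + b • (1 - E) = e.toLinearMap ∘ₗ r ∘ₗ e.symm.toLinearMap := by
    refine LinearMap.ext fun v => ?_
    obtain ⟨⟨⟨x, hx⟩, ⟨y, hy⟩⟩, rfl⟩ := e.surjective v
    obtain ⟨z, rfl⟩ := hx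
    rw [LinearMap.mem_ker] at hy
    have hEE : E (E z) = E z := LinearMap.congr_fun hE z
    simp only [LinearMap.comp_apply, LinearEquiv.coe_coe, LinearEquiv.symm_apply_apply]
    have e1 : ∀ (s : LinearMap.range E) (t : LinearMap.ker E), e (s, t) = (s : V) + (t : V) := fun s t => rfl
    simp only [r, LinearMap.prodMap_apply, LinearMap.smul_apply, LinearMap.id_coe, id_eq, e1,
      LinearMap.add_apply, LinearMap.sub_apply, Module.End.one_apply, Submodule.coe_smul]
    rw [map_add, hEE, hy, add_zero, add_sub_cancel_left]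
  rw [key, LinearMap.det_conj r e, LinearMap.det_prodMap, LinearMap.det_smul, LinearMap.det_id, mul_one,
    LinearMap.det_smul, LinearMap.det_id, mul_one]

/-- Orthogonal splitting along a coprime factorisation of the minimal polynomial. -/
theorem exists_isometry_commute (hh : IsReflexiveSesq σ h) {A : Matrix ι ι F} (hA : Preserves h A)
    {P Q : F[X]} (hPQ : IsCoprime P Q) (hPQ' : IsCoprime (conjRev σ P) Q) (hμ : minpoly F A = P * Q)
    (hP : ¬ IsUnit P) (hQ : ¬ IsUnit Q) :
    ∃ d₁ d₂ : ℕ, 0 < d₁ ∧ 0 < d₂ ∧ d₁ + d₂ = Fintype.card ι ∧ ∀ a b : F, a * σ a = 1 → b * σ b = 1 →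
      ∃ R : Matrix ι ι F, R * A = A * R ∧ Preserves h R ∧ R.det = a ^ d₁ * b ^ d₂ ∧
        (∀ c : F, R = c • 1 → a = b) ∧ ∀ k : ℕ, a ^ k = 1 → b ^ k = 1 → R ^ k = 1 := by
  obtain ⟨x, y, hxy⟩ := hPQ
  set E : Matrix ι ι F := aeval A (y * Q) with hE
  have hμ0 : minpoly F A ≠ 0 := minpoly.ne_zero (Algebra.IsIntegral.isIntegral A)
  have hne : ∀ R₀ : F[X], aeval A R₀ = 0 → P * Q ∣ R₀ := fun R₀ hR₀ => hμ ▸ minpoly.dvd F A hR₀
  have hE1 : 1 - E = aeval A (x * P) := by
    have := congrArg (aeval A) hxy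
    rw [map_add, map_one, ← hE] at this
    rw [← this, add_sub_cancel_right]
  have hPE : aeval A P * E = 0 := by
    rw [hE, ← map_mul, show P * (y * Q) = y * (P * Q) by ring, ← hμ, map_mul, minpoly.aeval, mul_zero]
  have hQE : aeval A Q * (1 - E) = 0 := by
    rw [hE1, ← map_mul, show Q * (x * P) = x * (P * Q) by ring, ← hμ, map_mul, minpoly.aeval, mul_zero]
  have hidem : E * E = E := by
    have : E * (1 - E) = 0 := by
      rw [hE1, hE, ← map_mul, show y * Q * (x * P) = y * x * (P * Q) by ring, ← hμ, map_mul, minpoly.aeval,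
        mul_zero]
    rw [mul_sub, mul_one, sub_eq_zero] at this
    exact this.symm
  have hE0 : E ≠ 0 := fun h0 => by
    obtain ⟨c, hc⟩ := hne _ h0
    refine hP (IsUnit.of_mul_eq_one (x + c * Q) ?_)
    linear_combination hxy - hc
  have hE1' : 1 - E ≠ 0 := fun h0 => by
    rw [hE1] at h0
    obtain ⟨c, hc⟩ := hne _ h0
    refine hQ (IsUnit.of_mul_eq_one (y + c * P) ?_)
    linear_combination hxy - hc
  set e := Matrix.toLinAlgEquiv' E with he
  have hei : IsIdempotentElem e := (map_mul Matrix.toLinAlgEquiv' E E).symm.trans (by rw [hidem])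
  refine ⟨Module.finrank F (LinearMap.range e), Module.finrank F (LinearMap.ker e), ?_, ?_, ?_, ?_⟩
  · refine Nat.pos_of_ne_zero fun h0 => hE0 (Matrix.toLinAlgEquiv'.injective ?_)
    rw [map_zero]
    exact LinearMap.range_eq_bot.1 (Submodule.finrank_eq_zero.1 h0)
  · refine Nat.pos_of_ne_zero fun h0 => hE1' ?_
    have hinj := LinearMap.ker_eq_bot.1 (Submodule.finrank_eq_zero.1 h0)
    apply Matrix.toLinAlgEquiv'.injective
    rw [map_zero, map_sub, map_one]
    refine LinearMap.ext fun v => hinj ?_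
    have hEE : e (e v) = e v := LinearMap.congr_fun hei v
    change e (v - e v) = e 0
    rw [map_sub, hEE, sub_self, map_zero]
  · rw [LinearMap.finrank_range_add_finrank_ker, Module.finrank_fintype_fun_eq_card]
  intro a b ha hb
  refine ⟨a • E + b • (1 - E), ?_, ?_, ?_, ?_, ?_⟩
  · have hc : E * A = A * E := by
      conv_lhs => arg 2; rw [← aeval_X (R := F) A]
      rw [hE, ← map_mul, mul_comm, map_mul, aeval_X]
    simp only [add_mul, mul_add, smul_mul_assoc, mul_smul_comm, sub_mul, mul_sub, one_mul, mul_one, hc]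
  · intro u v
    have hsum : ∀ w : ι → F, w = E *ᵥ w + (1 - E) *ᵥ w := fun w => by
      rw [← Matrix.add_mulVec, add_sub_cancel, Matrix.one_mulVec]
    have hx : ∀ w, aeval A P *ᵥ (E *ᵥ w) = 0 := fun w => by
      rw [Matrix.mulVec_mulVec, hPE, Matrix.zero_mulVec]
    have hy : ∀ w, aeval A Q *ᵥ ((1 - E) *ᵥ w) = 0 := fun w => by
      rw [Matrix.mulVec_mulVec, hQE, Matrix.zero_mulVec]
    have o1 : ∀ s t, h (E *ᵥ s) ((1 - E) *ᵥ t) = 0 := fun s t =>
      orthogonal_of_coprime hh hA hPQ' (hx s) (hy t)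
    have o2 : ∀ s t, h ((1 - E) *ᵥ t) (E *ᵥ s) = 0 := fun s t => hh.refl _ _ (o1 s t)
    conv_rhs => rw [hsum u, hsum v]
    simp only [Matrix.add_mulVec, Matrix.smul_mulVec, hh.add_left, hh.add_right, hh.smul_left,
      hh.smul_right, o1, o2, mul_zero, zero_add, add_zero]
    linear_combination (h (E *ᵥ u) (E *ᵥ v)) * ha + (h ((1 - E) *ᵥ u) ((1 - E) *ᵥ v)) * hb
  · rw [← LinearMap.det_toLin', ← det_idempotent_combination e hei a b]
    congr 1
    change Matrix.toLinAlgEquiv' _ = _
    rw [map_add, map_smul, map_smul, map_sub, map_one]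
  · intro c hc
    have h1 := congrArg (· * E) hc
    have h2 := congrArg (· * (1 - E)) hc
    have hz : (1 - E) * E = 0 := by rw [sub_mul, one_mul, hidem, sub_self]
    have hz' : E * (1 - E) = 0 := by rw [mul_sub, mul_one, hidem, sub_self]
    have hi : (1 - E) * (1 - E) = 1 - E := by rw [sub_mul, one_mul, hz', sub_zero]
    simp only [add_mul, smul_mul_assoc, hidem, hz, hz', hi, smul_zero, add_zero, zero_add, one_mul] at h1 h2
    exact (smul_left_injective F hE0 h1).trans (smul_left_injective F hE1' h2).symm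
  · intro k hka hkb
    have hz : (1 - E) * E = 0 := by rw [sub_mul, one_mul, hidem, sub_self]
    have hz' : E * (1 - E) = 0 := by rw [mul_sub, mul_one, hidem, sub_self]
    have hi : (1 - E) * (1 - E) = 1 - E := by rw [sub_mul, one_mul, hz', sub_zero]
    have hpow : ∀ j, (a • E + b • (1 - E)) ^ j = a ^ j • E + b ^ j • (1 - E) := by
      intro j
      induction j with
      | zero => simp
      | succ j ih =>
        rw [pow_succ, ih]
        simp only [add_mul, mul_add, smul_mul_assoc, mul_smul_comm, hidem, hz, hz', hi, smul_zero, add_zero,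
          zero_add, smul_smul, pow_succ]
        congr 1 <;> rw [mul_comm]
    rw [hpow, hka, hkb, one_smul, one_smul, add_sub_cancel]

/-- Either an orthogonal splitting is available, or the minimal polynomial belongs to one orbit `{f, f*}`. -/
theorem isometry_cases [Nonempty ι] (hh : IsReflexiveSesq σ h) {A : Matrix ι ι F} (hA : Preserves h A)
    (hdet : A.det ≠ 0) :
    (∃ d₁ d₂ : ℕ, 0 < d₁ ∧ 0 < d₂ ∧ d₁ + d₂ = Fintype.card ι ∧ ∀ a b : F, a * σ a = 1 → b * σ b = 1 →
      ∃ R : Matrix ι ι F, R * A = A * R ∧ Preserves h R ∧ R.det = a ^ d₁ * b ^ d₂ ∧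
        (∀ c : F, R = c • 1 → a = b) ∧ ∀ k : ℕ, a ^ k = 1 → b ^ k = 1 → R ^ k = 1) ∨
    ∃ (f : F[X]) (m : ℕ), f.Monic ∧ Irreducible f ∧ f.coeff 0 ≠ 0 ∧ 0 < m ∧ f ∣ A.charpoly ∧
      ((f ∣ conjRev σ f ∧ minpoly F A ∣ f ^ m ∧ f.natDegree * m ≤ Fintype.card ι) ∨
       (IsCoprime f (conjRev σ f) ∧ minpoly F A ∣ (f * conjRev σ f) ^ m ∧
          (f * conjRev σ f) ^ m ∣ A.charpoly ∧ 2 * f.natDegree * m ≤ Fintype.card ι)) := by
  classical
  have hint : IsIntegral F A := Algebra.IsIntegral.isIntegral A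
  set μ := minpoly F A with hμdef
  have hμ0 : μ ≠ 0 := minpoly.ne_zero hint
  have hμχ : μ ∣ A.charpoly := Matrix.minpoly_dvd_charpoly A
  have hχ0 : A.charpoly.coeff 0 ≠ 0 := fun h0 => hdet (by rw [Matrix.det_eq_sign_charpoly_coeff, h0, mul_zero])
  have hc0 : ∀ P, P ∣ μ → P.coeff 0 ≠ 0 := fun P hP h0 => hχ0 (by
    obtain ⟨c, hc⟩ := hP.trans hμχ
    rw [hc, mul_coeff_zero, h0, zero_mul])
  have hsymm : ∀ P, P ∣ μ → conjRev σ P ∣ μ := by
    intro P hP
    refine (conjRev_dvd σ hP).trans ?_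
    have := conjRev_dvd σ (minpoly_dvd_conjRev hh hA)
    rwa [conjRev_conjRev hh.invol (hc0 μ dvd_rfl)] at this
  have hdeg : μ.natDegree ≤ Fintype.card ι :=
    (natDegree_le_of_dvd hμχ (Matrix.charpoly_monic A).ne_zero).trans (Matrix.charpoly_natDegree_eq_dim A).le
  obtain ⟨f, hfm, hf, hfμ⟩ := Polynomial.exists_monic_irreducible_factor μ (minpoly.not_isUnit F A)
  have hf0 := hc0 f hfμ
  have hg := irreducible_conjRev hh.invol hf hf0
  have hgg := conjRev_conjRev hh.invol hf0
  set g := conjRev σ f with hgdef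
  obtain ⟨b, hb, hfb⟩ := (FiniteMultiplicity.of_prime_left hf.prime hμ0).exists_eq_pow_mul_and_not_dvd
  set m := multiplicity f μ with hm
  have hm0 : 0 < m := by
    by_contra h0
    rw [Nat.eq_zero_of_not_pos h0, pow_zero, one_mul] at hb
    exact hfb (hb ▸ hfμ)
  by_cases hfg : f ∣ g
  · by_cases hbu : IsUnit b
    · right
      refine ⟨f, m, hfm, hf, hf0, hm0, hfμ.trans hμχ,
        Or.inl ⟨hfg, hb ▸ (IsUnit.mul_right_dvd hbu).2 dvd_rfl, ?_⟩⟩
      rw [mul_comm, ← natDegree_pow]
      exact (natDegree_le_of_dvd (hb ▸ dvd_mul_right _ _) hμ0).trans hdeg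
    · left
      have hco : IsCoprime f b := (hf.coprime_iff_not_dvd).2 hfb
      have hco' : IsCoprime g b := (hg.coprime_iff_not_dvd).2 fun h1 => hfb (hfg.trans h1)
      refine exists_isometry_commute hh hA hco.pow_left ?_ hb
        (fun h0 => hf.not_isUnit ((isUnit_pow_iff hm0.ne').1 h0)) hbu
      rw [conjRev_pow]
      exact hco'.pow_left
  · have hco : IsCoprime f g := (hf.coprime_iff_not_dvd).2 hfg
    have hgm : g ^ m ∣ b := by
      have h1 : g ^ m ∣ f ^ m * b := by
        rw [← hb, ← conjRev_pow]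
        exact hsymm _ (by rw [hb]; exact dvd_mul_right _ _)
      exact IsCoprime.dvd_of_dvd_mul_left (hco.symm.pow (m := m) (n := m)) h1
    obtain ⟨c, hc⟩ := hgm
    have hgc : ¬ g ∣ c := by
      intro h0
      have h1 : g ^ (m + 1) ∣ μ := by
        rw [hb, hc, pow_succ]
        exact (mul_dvd_mul_left _ h0).trans (dvd_mul_left _ _)
      have h2 := hsymm _ h1
      rw [conjRev_pow, hgg, hb, pow_succ] at h2
      exact hfb ((mul_dvd_mul_iff_left (pow_ne_zero _ hf.ne_zero)).1 h2)
    have hfc : ¬ f ∣ c := fun h0 => hfb (hc ▸ h0.mul_left _)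
    have hμeq : μ = (f * g) ^ m * c := by rw [hb, hc, mul_pow, mul_assoc]
    by_cases hcu : IsUnit c
    · right
      have hdvd : (f * g) ^ m ∣ μ := hμeq ▸ dvd_mul_right _ _
      refine ⟨f, m, hfm, hf, hf0, hm0, hfμ.trans hμχ,
        Or.inr ⟨hco, hμeq ▸ (IsUnit.mul_right_dvd hcu).2 dvd_rfl, hdvd.trans hμχ, ?_⟩⟩
      refine le_trans (le_of_eq ?_) ((natDegree_le_of_dvd hdvd hμ0).trans hdeg)
      rw [natDegree_pow, natDegree_mul hf.ne_zero hg.ne_zero, hgdef, natDegree_conjRev σ hf0]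
      ring
    · left
      have h1 : IsCoprime ((f * g) ^ m) c :=
        (IsCoprime.mul_left ((hf.coprime_iff_not_dvd).2 hfc) ((hg.coprime_iff_not_dvd).2 hgc)).pow_left
      refine exists_isometry_commute hh hA h1 ?_ hμeq (fun h0 => hf.not_isUnit
        (isUnit_of_mul_isUnit_left ((isUnit_pow_iff hm0.ne').1 h0))) hcu
      rw [conjRev_pow, conjRev_mul, hgg, ← hgdef, mul_comm]
      exact h1

/-- Scalar powers of an isometry whose minimal polynomial belongs to one orbit. -/
theorem isometry_pow_eq_scalar {p : ℕ} [Fact p.Prime] [CharP F p] (hh : IsReflexiveSesq σ h)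
    {A : Matrix ι ι F} {f : F[X]} {m e L : ℕ} (hL : 0 < L) (hm : m ≤ p ^ e)
    (horb : minpoly F A ∣ f ^ m ∨ (IsCoprime f (conjRev σ f) ∧ minpoly F A ∣ (f * conjRev σ f) ^ m))
    {c : F} (hc : c * σ c = 1) (hf : f ∣ X ^ L - C c) :
    ∃ c' : F, A ^ (L * p ^ e) = c' • 1 := by
  have h1 : minpoly F A ∣ (X ^ L - C c) ^ m := by
    rcases horb with h1 | ⟨hco, h1⟩
    · exact h1.trans (pow_dvd_pow_of_dvd hf m)
    · exact h1.trans (pow_dvd_pow_of_dvd (hco.mul_dvd hf (conjRev_dvd_X_pow_sub_C hh.invol hL hc hf)) m)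
  have h2 : minpoly F A ∣ X ^ (L * p ^ e) - C (c ^ p ^ e) := by
    refine h1.trans ((pow_dvd_pow _ hm).trans ?_)
    rw [sub_pow_char_pow, ← pow_mul, ← map_pow]
  obtain ⟨u, hu⟩ := h2
  have h3 := congrArg (aeval A) hu
  rw [map_mul, minpoly.aeval, zero_mul, map_sub, map_pow, aeval_X, aeval_C, sub_eq_zero] at h3
  exact ⟨c ^ p ^ e, by rw [h3, Algebra.algebraMap_eq_smul_one]⟩

end Cfsg.Agent.GL
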