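/-
The class data of a unitary matrix: it is self-dual, and the centraliser in the unitary group has the expected
determinants.
-/
import Cfsg.Agent.Lib.GL.ClassData
import Cfsg.Agent.Lib.Semisimple.UnitaryPoly
import Cfsg.Agent.Lib.Semisimple.UnitaryConj

set_option autoImplicit false

open Polynomial Module
open scoped Classical Matrix

namespace Cfsg.Agent.GL.UnitaryData

open Cfsg.Agent.GL.ClassNumber Cfsg.Agent.GL.ClassData UnitaryConj
open Semisimple (udual)

universe u

variable {F : Type u} [Field F] [Fintype F] {q : ℕ} (hF : Fintype.card F = q ^ 2) {n : ℕ}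

local notation "σ" => Forms.qEnd hF

theorem udual_one : udual hF (1 : F[X]) = 1 := by
  rw [udual, show (1 : F[X]) = C 1 from C_1.symm, reverse_C]
  simp

theorem udual_pow (P : F[X]) (j : ℕ) : udual hF (P ^ j) = udual hF P ^ j := by
  induction j with
  | zero => rw [pow_zero, pow_zero, udual_one]
  | succ j ih => rw [pow_succ, pow_succ, Semisimple.udual_mul, ih]

theorem udual_prod {κ : Type*} (s : Finset κ) (P : κ → F[X]) :
    udual hF (∏ i ∈ s, P i) = ∏ i ∈ s, udual hF (P i) := by
  induction s using Finset.induction_on with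
  | empty => rw [Finset.prod_empty, Finset.prod_empty, udual_one]
  | insert i s hi ih => rw [Finset.prod_insert hi, Finset.prod_insert hi, Semisimple.udual_mul, ih]

theorem udual_irreducible {P : F[X]} (hm : P.Monic) (h0 : P.coeff 0 ≠ 0) (hi : Irreducible P) :
    Irreducible (udual hF P) := by
  rw [(Semisimple.udual_monic hF h0).irreducible_iff_natDegree]
  refine ⟨fun h => ?_, fun f g hf hg hfg => ?_⟩
  · have := Semisimple.udual_natDegree hF h0
    rw [h, natDegree_one] at this
    have := hi.natDegree_pos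
    omega
  · have hc : (f * g).coeff 0 ≠ 0 := by rw [hfg]; exact Semisimple.udual_coeff_zero hF hm h0
    rw [mul_coeff_zero, mul_ne_zero_iff] at hc
    have h := congrArg (udual hF) hfg
    rw [Semisimple.udual_mul, Semisimple.udual_udual hF hm h0] at h
    rcases (hm.irreducible_iff_natDegree.1 hi).2 _ _ (Semisimple.udual_monic hF hc.1)
      (Semisimple.udual_monic hF hc.2) h with h' | h'
    · left; rwa [Semisimple.udual_natDegree hF hc.1] at h'
    · right; rwa [Semisimple.udual_natDegree hF hc.2] at h'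

/-! ### Adjoints of polynomials in a unitary matrix -/

theorem adj_pow (A : Matrix (Fin n) (Fin n) F) (k : ℕ) : adj hF (A ^ k) = adj hF A ^ k := by
  induction k with
  | zero => rw [pow_zero, pow_zero, adj_one]
  | succ k ih => rw [pow_succ, pow_succ', adj_mul, ih]

theorem adj_aeval (A : Matrix (Fin n) (Fin n) F) (P : F[X]) :
    adj hF (aeval A P) = aeval (adj hF A) (P.map σ) := by
  induction P using Polynomial.induction_on' with
  | add P P' hP hP' => rw [map_add, adj_add, hP, hP', Polynomial.map_add, map_add]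
  | monomial k c =>
    rw [aeval_monomial, Polynomial.map_monomial, aeval_monomial, Algebra.algebraMap_eq_smul_one,
      Algebra.algebraMap_eq_smul_one, smul_mul_assoc, smul_mul_assoc, one_mul, one_mul, adj_smul, adj_pow]

omit [Fintype F] in
theorem aeval_reverse {R : Type*} [Ring R] [Algebra F R] {a b : R} (h : a * b = 1) (P : F[X]) :
    aeval a P.reverse = a ^ P.natDegree * aeval b P := by
  rw [aeval_eq_sum_range' (n := P.natDegree + 1) (Nat.lt_succ_of_le (reverse_natDegree_le P)),
    aeval_eq_sum_range, Finset.mul_sum, ← Finset.sum_range_reflect _ (P.natDegree + 1)]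
  refine Finset.sum_congr rfl fun i hi => ?_
  have hi' : i ≤ P.natDegree := Nat.lt_succ_iff.1 (Finset.mem_range.1 hi)
  rw [show P.natDegree + 1 - 1 - i = P.natDegree - i by omega, coeff_reverse, revAt_le (Nat.sub_le _ _),
    Nat.sub_sub_self hi', mul_smul_comm]
  congr 1
  have hab : ∀ l : ℕ, a ^ l * b ^ l = 1 := fun l => by
    induction l with
    | zero => simp
    | succ l ih =>
      calc a ^ (l + 1) * b ^ (l + 1) = a ^ l * (a * b) * b ^ l := by rw [pow_succ, pow_succ']; simp only [mul_assoc]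
        _ = 1 := by rw [h, mul_one, ih]
  conv_rhs => rw [← Nat.sub_add_cancel hi', pow_add, mul_assoc, hab, mul_one]

variable {A : Matrix (Fin n) (Fin n) F} (hA : adj hF A * A = 1)

include hA in
/-- The dual polynomial at a unitary matrix. -/
theorem aeval_udual (P : F[X]) :
    aeval A (udual hF P) = σ (P.coeff 0)⁻¹ • (A ^ P.natDegree * adj hF (aeval A P)) := by
  have hrev : (P.map σ).reverse = P.reverse.map σ := by
    ext i
    rw [coeff_reverse, coeff_map, coeff_map, coeff_reverse, natDegree_map]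
  rw [udual, Polynomial.map_mul, map_C, map_mul, aeval_C, ← Algebra.smul_def, ← hrev,
    aeval_reverse (mul_eq_one_comm.1 hA), natDegree_map, ← adj_aeval]

theorem card_range_map (M : Matrix (Fin n) (Fin n) F) :
    Nat.card (LinearMap.range (M.map σ).mulVecLin) = Nat.card (LinearMap.range M.mulVecLin) := by
  have hσ : Function.Bijective (fun v : Fin n → F => fun i => σ (v i)) :=
    ⟨fun v w h => funext fun i => (σ).injective (congrFun h i),
      fun v => ⟨fun i => σ (v i), funext fun i => Forms.qEnd_qEnd hF _⟩⟩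
  have hmap : ∀ v : Fin n → F, (fun i => σ ((M *ᵥ v) i)) = M.map σ *ᵥ fun i => σ (v i) :=
    fun v => funext fun i => RingHom.map_mulVec _ M v i
  refine (Nat.card_congr ((Equiv.ofBijective _ hσ).subtypeEquiv fun v => ?_)).symm
  simp only [Equiv.ofBijective_apply, LinearMap.mem_range, Matrix.mulVecLin_apply]
  constructor
  · rintro ⟨w, rfl⟩
    exact ⟨_, (hmap w).symm⟩
  · rintro ⟨w, hw⟩
    obtain ⟨w', rfl⟩ := hσ.2 w
    exact ⟨w', hσ.1 ((hmap w').trans hw)⟩

theorem rank_adj (M : Matrix (Fin n) (Fin n) F) : (adj hF M).rank = M.rank := by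
  rw [adj, Matrix.rank_transpose]
  have h := card_range_map hF M
  rw [Module.natCard_eq_pow_finrank (K := F) (V := LinearMap.range (M.map σ).mulVecLin),
    Module.natCard_eq_pow_finrank (K := F) (V := LinearMap.range M.mulVecLin)] at h
  exact Nat.pow_right_injective (Nat.card_eq_fintype_card (α := F) ▸ Fintype.one_lt_card) h

include hA in
theorem rank_udual (P : F[X]) (h0 : P.coeff 0 ≠ 0) :
    (aeval A (udual hF P)).rank = (aeval A P).rank := by
  have hu : ∀ k : ℕ, IsUnit (A ^ k).det := fun k =>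
    (Matrix.isUnit_iff_isUnit_det _).1 (((IsUnit.of_mul_eq_one_right _ hA)).pow k)
  rw [aeval_udual hF hA, ← smul_mul_assoc, Matrix.rank_mul_eq_right_of_isUnit_det, rank_adj]
  rw [Matrix.det_smul]
  exact (IsUnit.mk0 _ (pow_ne_zero _ ((_root_.map_ne_zero _).2 (inv_ne_zero h0)))).mul (hu _)

include hA in
/-- The data of a unitary matrix are self-dual. -/
theorem udual_data {g : Seq F n n} (h : FitsM A g) (e : Fin n) : udual hF (g.1 e) = g.1 e := by
  obtain ⟨κ, _, P, k, hP, hk, hg, ⟨ψ⟩⟩ := h
  have hsurj : Function.Surjective (Matrix.toLin' A) := fun v => ⟨Matrix.toLin' (adj hF A) v, by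
    rw [← Matrix.toLin'_mul_apply, mul_eq_one_comm.1 hA, Matrix.toLin'_one]; rfl⟩
  have h0 : ∀ i, (P i).coeff 0 ≠ 0 := coeff_zero_ne hsurj (fun i => (hk i).1) ψ
  let T := (Module.AEval'.of (Matrix.toLin' A)).trans (ψ.restrictScalars F)
  have hX : ∀ (R : F[X]) v, T (aeval A R *ᵥ v) = R • T v := fun R v => by
    show ψ (Module.AEval'.of _ (aeval A R *ᵥ v)) = R • ψ (Module.AEval'.of _ v)
    rw [← map_smul, ← Module.AEval.of_aeval_smul]
    congr 2
    show _ = aeval (Matrix.toLin' A) R v
    rw [show aeval (Matrix.toLin' A) R = Matrix.toLinAlgEquiv' (aeval A R) from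
      aeval_algHom_apply (Matrix.toLinAlgEquiv' : Matrix (Fin n) (Fin n) F ≃ₐ[F] _).toAlgHom A R]
    rfl
  have hrank : ∀ R : F[X], R.Monic → Irreducible R → ∀ j,
      (aeval A (R ^ j)).rank = ∑ i, (if R = P i then k i - j else k i) * (P i).natDegree := by
    intro R hR hRi j
    rw [← finrank_range_pi P k hP hR hRi j, Matrix.rank, ← LinearEquiv.finrank_map_eq T (LinearMap.range _)]
    refine (congrArg (fun S : Submodule F ((i : κ) → Q (P i ^ k i)) => finrank F S) ?_)
    · ext v
      simp only [Submodule.mem_map, LinearMap.mem_range, Matrix.mulVecLin_apply]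
      constructor
      · rintro ⟨_, ⟨w, rfl⟩, rfl⟩
        exact ⟨T w, (hX _ w).symm⟩
      · rintro ⟨w, rfl⟩
        exact ⟨_, ⟨T.symm w, rfl⟩, by
          show T (aeval A (R ^ j) *ᵥ T.symm w) = _
          rw [hX, LinearEquiv.apply_symm_apply]; rfl⟩
  -- the number of pieces with a given polynomial and exponent
  let cnt : F[X] → ℕ → ℕ := fun R j => (Finset.univ.filter fun i => P i = R ∧ j < k i).card
  have hdiff : ∀ R : F[X], ∀ j,
      ∑ i, (if R = P i then k i - j else k i) * (P i).natDegree =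
        ∑ i, (if R = P i then k i - (j + 1) else k i) * (P i).natDegree + cnt R j * R.natDegree := by
    intro R j
    simp only [cnt]
    rw [Finset.card_filter, Finset.sum_mul, ← Finset.sum_add_distrib]
    refine Finset.sum_congr rfl fun i _ => ?_
    by_cases h : R = P i
    · subst h
      by_cases hj : j < k i
      · simp only [if_pos, hj, and_self]
        rw [← add_mul]
        congr 1
        omega
      · simp [hj, Nat.sub_eq_zero_of_le (not_lt.1 hj), Nat.sub_eq_zero_of_le (show k i ≤ j + 1 by omega)]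
    · simp [h, Ne.symm h]
  have hcnt : ∀ R : F[X], R.Monic → Irreducible R → R.coeff 0 ≠ 0 → ∀ j, cnt (udual hF R) j = cnt R j := by
    intro R hR hRi hR0 j
    have hR' := Semisimple.udual_monic hF hR0
    have hRi' := udual_irreducible hF hR hR0 hRi
    have hs : ∀ l, ∑ i, (if udual hF R = P i then k i - l else k i) * (P i).natDegree =
        ∑ i, (if R = P i then k i - l else k i) * (P i).natDegree := fun l => by
      rw [← hrank _ hR hRi, ← hrank _ hR' hRi', ← udual_pow]
      refine rank_udual hF hA _ ?_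
      rw [coeff_zero_eq_eval_zero, eval_pow, ← coeff_zero_eq_eval_zero]
      exact pow_ne_zero _ hR0
    have h1 := hdiff R j
    have h2 := hdiff (udual hF R) j
    rw [hs, hs, Semisimple.udual_natDegree hF hR0] at h2
    exact Nat.eq_of_mul_eq_mul_right hRi.natDegree_pos (by omega)
  rw [← hg e, udual_prod, Finset.prod_eq_multiset_prod, Finset.prod_eq_multiset_prod]
  refine congrArg Multiset.prod (Multiset.ext.2 fun R => ?_)
  have hsplit : ∀ S : F[X], cnt S (e : ℕ) = cnt S ((e : ℕ) + 1) +
      ((Finset.univ.filter (fun i => k i = (e : ℕ) + 1)).val.map P).count S := by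
    intro S
    simp only [cnt]
    rw [Multiset.count_map, ← Finset.filter_val, Finset.filter_filter, ← Finset.card_def, ← Finset.card_union_of_disjoint]
    · congr 1
      ext i
      simp only [Finset.mem_filter, Finset.mem_union, Finset.mem_univ, true_and]
      constructor
      · rintro ⟨h1, h2⟩
        rcases Nat.lt_or_ge ((e : ℕ) + 1) (k i) with h | h
        · exact Or.inl ⟨h1, h⟩
        · exact Or.inr ⟨by omega, h1.symm⟩
      · rintro (⟨h1, h2⟩ | ⟨h1, h2⟩)
        · exact ⟨h1, by omega⟩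
        · exact ⟨h2.symm, by omega⟩
    · rw [Finset.disjoint_filter]
      rintro i - ⟨_, h⟩ ⟨h', _⟩
      omega
  by_cases hR : ∃ i, udual hF (P i) = R
  · obtain ⟨i₀, rfl⟩ := hR
    have e1 : ((Finset.univ.filter (fun i => k i = (e : ℕ) + 1)).val.map fun i => udual hF (P i)).count (udual hF (P i₀)) =
        ((Finset.univ.filter (fun i => k i = (e : ℕ) + 1)).val.map P).count (P i₀) := by
      rw [Multiset.count_map, Multiset.count_map]
      refine congrArg Multiset.card (Multiset.filter_congr fun i _ => ⟨fun h => ?_, fun h => by rw [h]⟩)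
      have := congrArg (udual hF) h
      rwa [Semisimple.udual_udual hF (hP i).1 (h0 i), Semisimple.udual_udual hF (hP i₀).1 (h0 i₀)] at this
    have h1 := hsplit (P i₀)
    have h2 := hsplit (udual hF (P i₀))
    rw [hcnt _ (hP i₀).1 (hP i₀).2 (h0 i₀), hcnt _ (hP i₀).1 (hP i₀).2 (h0 i₀)] at h2
    omega
  · rw [Multiset.count_eq_zero.2, Multiset.count_eq_zero.2]
    · rintro hmem
      obtain ⟨i, hi, rfl⟩ := Multiset.mem_map.1 hmem
      refine hR ?_
      by_contra hne
      push Not at hne
      have hpos : ∀ j, 0 < cnt (P i) j ↔ ∃ l, P l = P i ∧ j < k l := fun j => by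
        simp [cnt, Finset.card_pos, Finset.filter_nonempty_iff]
      have hzero : ∀ j, cnt (udual hF (P i)) j = 0 → cnt (P i) j = 0 := fun j hj => by
        rw [← hcnt _ (hP i).1 (hP i).2 (h0 i) j, hj]
      have hci : 0 < cnt (P i) 0 := (hpos 0).2 ⟨i, rfl, by have := hk i; omega⟩
      rw [hzero 0 (Finset.card_eq_zero.2 (Finset.filter_false_of_mem fun l _ hl => hne l (by
        rw [hl.1, Semisimple.udual_udual hF (hP i).1 (h0 i)])))] at hci
      exact absurd hci (lt_irrefl 0)
    · exact fun hmem => hR (by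
        obtain ⟨i, -, hi⟩ := Multiset.mem_map.1 hmem
        exact ⟨i, hi⟩)

/-! ### Determinants of unitary centralisers -/

section Det

theorem hermForm_mulVec (M : Matrix (Fin n) (Fin n) F) (u v : Fin n → F) :
    hermForm n F q (M *ᵥ u) v = hermForm n F q u (adj hF M *ᵥ v) := by
  have hform : ∀ u v : Fin n → F, hermForm n F q u v = u ⬝ᵥ (fun i => σ (v i)) := fun u v => rfl
  rw [hform, hform, ← Matrix.vecMul_transpose, ← Matrix.dotProduct_mulVec]
  congr 1
  funext i
  rw [RingHom.map_mulVec]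
  simp [adj, Matrix.map_map, Function.comp_def, Forms.qEnd_qEnd, Matrix.mulVec, dotProduct]

include hF in
theorem hermForm_nondeg {v : Fin n → F} (h : ∀ w, hermForm n F q w v = 0) : v = 0 := by
  funext i
  have hq : q ≠ 0 := by have := Forms.one_lt_q hF; omega
  have := h (Pi.single i 1)
  simpa [hermForm, Pi.single_apply, pow_eq_zero_iff hq] using this

/-- A vector orthogonal to the kernel of the adjoint lies in the range. -/
theorem mem_range_of_orth {M : Matrix (Fin n) (Fin n) F} {v : Fin n → F}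
    (h : ∀ w, adj hF M *ᵥ w = 0 → hermForm n F q v w = 0) : v ∈ LinearMap.range M.mulVecLin := by
  by_contra hv
  obtain ⟨φ, hφv, hφ⟩ := Submodule.exists_dual_map_eq_bot_of_notMem hv inferInstance
  let w : Fin n → F := fun i => σ (φ (Pi.single i 1))
  have hw : ∀ u, hermForm n F q u w = φ u := fun u => by
    show ∑ i, u i * σ (σ (φ (Pi.single i 1))) = φ u
    conv_rhs => rw [pi_eq_sum_univ' u, map_sum]
    refine Finset.sum_congr rfl fun i _ => ?_
    rw [Forms.qEnd_qEnd, map_smul, smul_eq_mul]
  refine hφv ?_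
  rw [← hw]
  refine h w (hermForm_nondeg hF fun z => ?_)
  rw [← hermForm_mulVec, hw]
  have : φ (M *ᵥ z) ∈ (LinearMap.range M.mulVecLin).map φ := Submodule.mem_map_of_mem ⟨z, rfl⟩
  rwa [hφ, Submodule.mem_bot] at this

include hA in
theorem hermForm_isom (u v : Fin n → F) : hermForm n F q (A *ᵥ u) (A *ᵥ v) = hermForm n F q u v :=
  (adj_mul_self_eq_one_iff hF A).1 hA u v

include hA in
theorem hermForm_isom_pow (m : ℕ) (u v : Fin n → F) :
    hermForm n F q (A ^ m *ᵥ u) (A ^ m *ᵥ v) = hermForm n F q u v := by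
  induction m with
  | zero => simp
  | succ m ih => rw [pow_succ', ← Matrix.mulVec_mulVec, ← Matrix.mulVec_mulVec, hermForm_isom hF hA, ih]

include hA in
/-- A nondegenerate invariant block gives unitary centralising elements. -/
theorem exists_unitary_of_block {W : Type*} [AddCommGroup W] [Module F W] [FiniteDimensional F W]
    (ι : W →ₗ[F] (Fin n → F)) (hι : ∀ a, (∀ b, hermForm n F q (ι a) (ι b) = 0) → a = 0)
    (x c c' : W →ₗ[F] W) (hx : ∀ a, ι (x a) = A *ᵥ ι a) (hcx : Commute c x) (hcx' : Commute c' x)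
    (hcc : Commute c c') (hadj : ∀ a b, hermForm n F q (ι (c a)) (ι b) = hermForm n F q (ι a) (ι (c' b)))
    (hc : LinearMap.det c ≠ 0) :
    ∃ C : GL (Fin n) F, C ∈ GU n F q ∧ Commute (C : Matrix (Fin n) (Fin n) F) A ∧
      (C : Matrix (Fin n) (Fin n) F).det = LinearMap.det c / σ (LinearMap.det c) := by
  have hq : q ≠ 0 := by have := Forms.one_lt_q hF; omega
  have hswap : ∀ u v : Fin n → F, σ (hermForm n F q u v) = hermForm n F q v u := Forms.hermForm_swap hF
  let β := Module.finBasis F W
  have haddr : ∀ u v w : Fin n → F, hermForm n F q u (v + w) = hermForm n F q u v + hermForm n F q u w :=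
    fun u v w => by simp only [hermForm, Pi.add_apply, ← Forms.qEnd_apply hF, map_add, mul_add, Finset.sum_add_distrib]
  have hsmulr : ∀ (a : F) (u v : Fin n → F), hermForm n F q u (a • v) = σ a * hermForm n F q u v :=
    fun a u v => by
      simp only [hermForm, Pi.smul_apply, smul_eq_mul, ← Forms.qEnd_apply hF, map_mul, Finset.mul_sum]
      exact Finset.sum_congr rfl fun i _ => mul_left_comm _ _ _
  have haddl : ∀ u v w : Fin n → F, hermForm n F q (u + v) w = hermForm n F q u w + hermForm n F q v w :=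
    fun u v w => by simp [hermForm, add_mul, Finset.sum_add_distrib]
  have hsmull : ∀ (a : F) (u v : Fin n → F), hermForm n F q (a • u) v = a * hermForm n F q u v :=
    fun a u v => by simp [hermForm, Finset.mul_sum, mul_assoc]
  let Φ : (Fin n → F) →ₗ[F] (Fin (finrank F W) → F) :=
    { toFun := fun v i => hermForm n F q v (ι (β i))
      map_add' := fun u v => funext fun i => haddl _ _ _
      map_smul' := fun a v => funext fun i => hsmull _ _ _ }
  have hΦ : ∀ v, Φ v = 0 ↔ ∀ b, hermForm n F q v (ι b) = 0 := by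
    intro v
    refine ⟨fun h b => ?_, fun h => funext fun i => h _⟩
    conv_lhs => rw [← β.sum_repr b, map_sum]
    induction (Finset.univ : Finset (Fin (finrank F W))) using Finset.induction_on with
    | empty => simp [hermForm, zero_pow hq]
    | insert i s hi ih =>
      rw [Finset.sum_insert hi, haddr, ih, map_smul, hsmulr, show hermForm n F q v (ι (β i)) = 0 from congrFun h i,
        mul_zero, add_zero]
  have hinj : Function.Injective (Φ ∘ₗ ι) := by
    rw [← LinearMap.ker_eq_bot, LinearMap.ker_eq_bot']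
    exact fun a ha => hι a ((hΦ _).1 ha)
  let Ψ := LinearEquiv.ofBijective (Φ ∘ₗ ι)
    ⟨hinj, (LinearMap.injective_iff_surjective_of_finrank_eq_finrank (by simp)).1 hinj⟩
  let π : (Fin n → F) →ₗ[F] W := Ψ.symm.toLinearMap ∘ₗ Φ
  have hπι : ∀ a, π (ι a) = a := fun a => Ψ.symm_apply_apply a
  have hπ0 : ∀ v b, hermForm n F q (v - ι (π v)) (ι b) = 0 := fun v => (hΦ _).1 (by
    rw [map_sub, sub_eq_zero]
    exact (Ψ.apply_symm_apply (Φ v)).symm)
  -- determinant of the adjoint
  have hι_inj : Function.Injective ι := fun a b h => hinj (by simp [h])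
  have hdet : LinearMap.det c = σ (LinearMap.det c') := by
    let M := LinearMap.toMatrix β β c
    let M' := LinearMap.toMatrix β β c'
    let G : Matrix (Fin (finrank F W)) (Fin (finrank F W)) F := Matrix.of fun i j => hermForm n F q (ι (β i)) (ι (β j))
    have hsum : ∀ (s : Finset (Fin (finrank F W))) (f : Fin (finrank F W) → F) u,
        hermForm n F q (∑ i ∈ s, f i • ι (β i)) u = ∑ i ∈ s, f i * hermForm n F q (ι (β i)) u := by
      intro s f u
      induction s using Finset.induction_on with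
      | empty => simp [hermForm]
      | insert i s hi ih => rw [Finset.sum_insert hi, Finset.sum_insert hi, haddl, hsmull, ih]
    have hsum' : ∀ (s : Finset (Fin (finrank F W))) (f : Fin (finrank F W) → F) u,
        hermForm n F q u (∑ i ∈ s, f i • ι (β i)) = ∑ i ∈ s, σ (f i) * hermForm n F q u (ι (β i)) := by
      intro s f u
      induction s using Finset.induction_on with
      | empty => simp [hermForm, zero_pow hq]
      | insert i s hi ih => rw [Finset.sum_insert hi, Finset.sum_insert hi, haddr, hsmulr, ih]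
    have hMG : Mᵀ * G = G * M'.map σ := by
      ext i j
      have h := hadj (β i) (β j)
      conv_lhs at h => rw [← β.sum_repr (c (β i)), map_sum]; simp only [map_smul]; rw [hsum]
      conv_rhs at h => rw [← β.sum_repr (c' (β j)), map_sum]; simp only [map_smul]; rw [hsum']
      rw [Matrix.mul_apply, Matrix.mul_apply]
      simp only [M, M', G, Matrix.transpose_apply, LinearMap.toMatrix_apply, Matrix.of_apply, Matrix.map_apply]
      rw [h]
      exact Finset.sum_congr rfl fun l _ => mul_comm _ _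
    have hG : G.det ≠ 0 := by
      intro hG
      obtain ⟨f, hf, hfG⟩ := Matrix.exists_vecMul_eq_zero_iff.2 hG
      apply hf
      have hzero : (Φ ∘ₗ ι) (∑ i, f i • β i) = 0 := funext fun j => by
        show hermForm n F q (ι (∑ i, f i • β i)) (ι (β j)) = 0
        rw [map_sum]
        simp only [map_smul]
        rw [hsum]
        exact congrFun hfG j
      have := hinj (hzero.trans (map_zero _).symm)
      exact funext fun i => Fintype.linearIndependent_iff.1 β.linearIndependent f this i
    have h := congrArg Matrix.det hMG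
    rw [Matrix.det_mul, Matrix.det_mul, Matrix.det_transpose, mul_comm] at h
    rw [← LinearMap.det_toMatrix β c, ← LinearMap.det_toMatrix β c', RingHom.map_det]
    exact mul_left_cancel₀ hG h
  have hc' : LinearMap.det c' ≠ 0 := fun h => hc (by rw [hdet, h, map_zero])
  let c'e : W ≃ₗ[F] W := LinearEquiv.ofIsUnitDet (v := β) (v' := β) (f := c') (by
    rw [LinearMap.det_toMatrix]; exact IsUnit.mk0 _ hc')
  let u : W →ₗ[F] W := c ∘ₗ c'e.symm.toLinearMap
  have hu : ∀ a b, hermForm n F q (ι (u a)) (ι (u b)) = hermForm n F q (ι a) (ι b) := by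
    intro a b
    obtain ⟨a, rfl⟩ := c'e.surjective a
    obtain ⟨b, rfl⟩ := c'e.surjective b
    simp only [u, LinearMap.comp_apply, LinearEquiv.coe_coe, LinearEquiv.symm_apply_apply]
    show hermForm n F q (ι (c a)) (ι (c b)) = hermForm n F q (ι (c' a)) (ι (c' b))
    rw [hadj, show c' (c b) = c (c' b) from (LinearMap.congr_fun hcc.eq b).symm, ← hswap (ι (c (c' b))) (ι a),
      hadj, hswap]
  have hux : ∀ a, u (x a) = x (u a) := by
    intro a
    obtain ⟨a, rfl⟩ := c'e.surjective a
    have : x (c'e a) = c'e (x a) := (LinearMap.congr_fun hcx'.eq a).symm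
    simp only [u, LinearMap.comp_apply, LinearEquiv.coe_coe, this, LinearEquiv.symm_apply_apply]
    exact LinearMap.congr_fun hcx.eq a
  let Y : (Fin n → F) →ₗ[F] W := (u - 1) ∘ₗ π
  let Cl : (Fin n → F) →ₗ[F] (Fin n → F) := LinearMap.id + ι ∘ₗ Y
  have hCl : ∀ v, Cl v = (v - ι (π v)) + ι (u (π v)) := fun v => by
    simp only [Cl, Y, LinearMap.add_apply, LinearMap.id_apply, LinearMap.comp_apply, LinearMap.sub_apply,
      Module.End.one_apply, map_sub]
    abel
  have hCdet : LinearMap.det Cl = LinearMap.det c / LinearMap.det c' := by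
    let b₀ := Pi.basisFun F (Fin n)
    rw [← LinearMap.det_toMatrix b₀, map_add, LinearMap.toMatrix_id,
      LinearMap.toMatrix_comp b₀ β b₀, Matrix.det_one_add_mul_comm,
      ← LinearMap.toMatrix_comp β b₀ β, ← LinearMap.toMatrix_id β, ← map_add, LinearMap.det_toMatrix]
    have : LinearMap.id + Y ∘ₗ ι = u := LinearMap.ext fun a => by
      simp [Y, hπι]
    rw [this, LinearMap.det_comp, LinearEquiv.det_coe_symm, ← div_eq_mul_inv]
    rfl
  have hCne : (LinearMap.toMatrix' Cl).det ≠ 0 := by
    rw [LinearMap.det_toMatrix', hCdet]; exact div_ne_zero hc hc'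
  refine ⟨Matrix.GeneralLinearGroup.mkOfDetNeZero _ hCne, fun v w => ?_, ?_, ?_⟩
  · show hermForm n F q (LinearMap.toMatrix' Cl *ᵥ v) (LinearMap.toMatrix' Cl *ᵥ w) = _
    rw [LinearMap.toMatrix'_mulVec, LinearMap.toMatrix'_mulVec, hCl, hCl]
    have e : ∀ v a, hermForm n F q (ι a) (v - ι (π v)) = 0 := fun v a => by
      rw [← hswap, hπ0, map_zero]
    conv_rhs => rw [← sub_add_cancel v (ι (π v)), ← sub_add_cancel w (ι (π w))]
    rw [haddl, haddr, haddr, haddl, haddr, haddr, hπ0, hπ0, e, e, hu]
  · show LinearMap.toMatrix' Cl * A = A * LinearMap.toMatrix' Cl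
    apply Matrix.toLin'.injective
    rw [Matrix.toLin'_mul, Matrix.toLin'_mul, Matrix.toLin'_toMatrix']
    refine LinearMap.ext fun v => ?_
    simp only [LinearMap.comp_apply, Matrix.toLin'_apply, hCl]
    have hπA : π (A *ᵥ v) = x (π v) := by
      have h0 : Φ (A *ᵥ (v - ι (π v))) = 0 := (hΦ _).2 fun b => by
        have hxs : Function.Surjective x := by
          refine LinearMap.injective_iff_surjective.1 fun a b h => hι_inj ?_
          have := congrArg (adj hF A *ᵥ ·) (congrArg ι h)
          simp only [hx, Matrix.mulVec_mulVec, hA, Matrix.one_mulVec] at this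
          exact this
        obtain ⟨b, rfl⟩ := hxs b
        rw [hx, hermForm_isom hF hA, hπ0]
      rw [Matrix.mulVec_sub, ← hx, map_sub, sub_eq_zero] at h0
      show Ψ.symm (Φ (A *ᵥ v)) = _
      rw [h0]
      exact hπι _
    rw [hπA, hux, hx, hx, Matrix.mulVec_add, Matrix.mulVec_sub]
  · show (LinearMap.toMatrix' Cl).det = _
    rw [LinearMap.det_toMatrix', hCdet]
    congr 1
    rw [hdet, Forms.qEnd_qEnd]

theorem exists_combination {R P : F[X]} (hR : Irreducible R) {k : ℕ} (h : ¬ R ^ k ∣ P) :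
    ∃ b, R ^ k ∣ b * P - R ^ (k - 1) := by
  obtain ⟨a, b, hab⟩ := Submodule.mem_span_pair.1 (show EuclideanDomain.gcd P (R ^ k) ∈ Ideal.span {P, R ^ k} by
    rw [Ideal.mem_span_pair]
    exact ⟨EuclideanDomain.gcdA P (R ^ k), EuclideanDomain.gcdB P (R ^ k), by
      rw [EuclideanDomain.gcd_eq_gcd_ab P (R ^ k)]; ring⟩)
  obtain ⟨i, hi, hu⟩ := (dvd_prime_pow hR.prime k).1 (EuclideanDomain.gcd_dvd_right P (R ^ k))
  have hik : i < k := by
    rcases hi.lt_or_eq with h' | rfl
    · exact h'
    · exact absurd (hu.symm.dvd.trans (EuclideanDomain.gcd_dvd_left P _)) h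
  obtain ⟨c, hc⟩ := hu.dvd.trans (pow_dvd_pow R (show i ≤ k - 1 by omega))
  refine ⟨a * c, ⟨-(b * c), ?_⟩⟩
  rw [hc, ← hab, smul_eq_mul, smul_eq_mul]
  ring

theorem mulOn_congr {u v P : F[X]} (h : P ∣ u - v) : mulOn u P = mulOn v P := by
  refine LinearMap.ext fun a => ?_
  obtain ⟨w, rfl⟩ := Submodule.Quotient.mk_surjective _ a
  show (u • Submodule.Quotient.mk w : Q P) = v • Submodule.Quotient.mk w
  rw [← Submodule.Quotient.mk_smul, ← Submodule.Quotient.mk_smul, Submodule.Quotient.eq,
    Submodule.mem_span_singleton]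
  obtain ⟨c, hc⟩ := h
  exact ⟨c * w, by rw [smul_eq_mul, smul_eq_mul, smul_eq_mul, ← sub_mul, hc]; ring⟩

/-- The map of a cyclic piece attached to a vector. -/
theorem exists_cyclic_map (A : Matrix (Fin n) (Fin n) F) {P : F[X]} {z : Fin n → F} (hz : aeval A P *ᵥ z = 0) :
    ∃ ι : Q P →ₗ[F] (Fin n → F),
      ∀ U : F[X], ι (Submodule.Quotient.mk U) = aeval A U *ᵥ z := by
  let M := Module.AEval' (Matrix.toLin' A)
  let o := Module.AEval'.of (Matrix.toLin' A)
  have hsm : ∀ (U : F[X]) v, o.symm (U • o v) = aeval A U *ᵥ v := fun U v => by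
    rw [← Module.AEval.of_aeval_smul, LinearEquiv.symm_apply_apply]
    show aeval (Matrix.toLin' A) U v = _
    rw [show aeval (Matrix.toLin' A) U = Matrix.toLinAlgEquiv' (aeval A U) from
      aeval_algHom_apply (Matrix.toLinAlgEquiv' : Matrix (Fin n) (Fin n) F ≃ₐ[F] _).toAlgHom A U]
    rfl
  let L : Q P →ₗ[F[X]] M := Submodule.liftQ _ (LinearMap.toSpanSingleton F[X] M (o z)) (by
    rw [Submodule.span_singleton_le_iff_mem, LinearMap.mem_ker, LinearMap.toSpanSingleton_apply]
    refine o.symm.injective ?_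
    rw [hsm, hz, map_zero])
  exact ⟨o.symm.toLinearMap ∘ₗ L.restrictScalars F, fun U => hsm U z⟩

include hA in
/-- A nondegenerate sum of cyclic pieces gives unitary centralising elements. -/
theorem exists_unitary_of_action {W : Type*} [AddCommGroup W] [Module F W] [FiniteDimensional F W]
    (ι : W →ₗ[F] (Fin n → F)) (hι : ∀ a, (∀ b, hermForm n F q (ι a) (ι b) = 0) → a = 0)
    (act : F[X] → (W →ₗ[F] W)) (hact : ∀ P a, ι (act P a) = aeval A P *ᵥ ι a) (P : F[X])
    (hP : LinearMap.det (act P) ≠ 0) :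
    ∃ C : GL (Fin n) F, C ∈ GU n F q ∧ Commute (C : Matrix (Fin n) (Fin n) F) A ∧
      (C : Matrix (Fin n) (Fin n) F).det = LinearMap.det (act P) / σ (LinearMap.det (act P)) := by
  have hinj : Function.Injective ι := by
    rw [← LinearMap.ker_eq_bot, LinearMap.ker_eq_bot']
    exact fun a ha => hι a fun b => by rw [ha]; simp [hermForm]
  have hcomm : ∀ U V, Commute (act U) (act V) := fun U V => LinearMap.ext fun a => hinj (by
    show ι (act U (act V a)) = ι (act V (act U a))
    rw [hact, hact, hact, hact, Matrix.mulVec_mulVec, Matrix.mulVec_mulVec, ← map_mul, ← map_mul, mul_comm])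
  obtain ⟨N, hN, hN'⟩ : ∃ N, 0 < N ∧ A ^ N = 1 := by
    obtain ⟨w, hw⟩ := IsUnit.of_mul_eq_one_right _ hA
    exact ⟨orderOf w, orderOf_pos w, by rw [← hw, ← Units.val_pow_eq_pow_val, pow_orderOf_eq_one, Units.val_one]⟩
  have hadjA : adj hF A = A ^ (N - 1) := by
    have h : A * A ^ (N - 1) = 1 := by rw [← pow_succ', Nat.sub_add_cancel hN, hN']
    calc adj hF A = adj hF A * (A * A ^ (N - 1)) := by rw [h, mul_one]
      _ = A ^ (N - 1) := by rw [← mul_assoc, hA, one_mul]
  refine exists_unitary_of_block hF hA ι hι (act X) (act P) (act ((P.map σ).comp (X ^ (N - 1))))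
    (fun a => by rw [hact, aeval_X]) (hcomm _ _) (hcomm _ _) (hcomm _ _) (fun a b => ?_) hP
  rw [hact, hact, hermForm_mulVec hF, adj_aeval, aeval_comp, map_pow, aeval_X, hadjA]

include hA in
/-- For every exponent carried by the data the unitary centraliser has the powers of the norm one scalars as
determinants. -/
theorem exists_commute_det_U {g : Seq F n n} (h : FitsM A g) {e : Fin n} (he : 0 < (g.1 e).natDegree) {s : F}
    (hs : s ≠ 0) :
    ∃ C : GL (Fin n) F, C ∈ GU n F q ∧ Commute (C : Matrix (Fin n) (Fin n) F) A ∧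
      (C : Matrix (Fin n) (Fin n) F).det = (s / σ s) ^ ((e : ℕ) + 1) := by
  obtain ⟨κ, _, P, k, hP, hk, hg, ⟨ψ⟩⟩ := h
  obtain ⟨i₀, hi₀⟩ : ∃ i, k i = (e : ℕ) + 1 := by
    by_contra hall
    push Not at hall
    rw [← hg e, Finset.filter_false_of_mem (fun i _ => hall i), Finset.prod_empty, natDegree_one] at he
    omega
  have hsurj : Function.Surjective (Matrix.toLin' A) := fun v => ⟨Matrix.toLin' (adj hF A) v, by
    rw [← Matrix.toLin'_mul_apply, mul_eq_one_comm.1 hA, Matrix.toLin'_one]; rfl⟩
  set R := P i₀ with hRdef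
  set K := (e : ℕ) + 1 with hK
  have hR0 : R.coeff 0 ≠ 0 := coeff_zero_ne hsurj (fun i => (hk i).1) ψ i₀
  set R' := udual hF R with hR'def
  have hR'm : R'.Monic := Semisimple.udual_monic hF hR0
  have hR'i : Irreducible R' := udual_irreducible hF (hP i₀).1 hR0 (hP i₀).2
  obtain ⟨u, hu⟩ := exists_det_mulOn_eq (hP i₀).1 (hP i₀).2 s
  -- a vector generating a piece
  let o := Module.AEval'.of (Matrix.toLin' A)
  let T := o.trans (ψ.restrictScalars F)
  have hX : ∀ (U : F[X]) v, T (aeval A U *ᵥ v) = U • T v := fun U v => by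
    show ψ (o (aeval A U *ᵥ v)) = U • ψ (o v)
    rw [← map_smul, ← Module.AEval.of_aeval_smul]
    congr 2
    show _ = aeval (Matrix.toLin' A) U v
    rw [show aeval (Matrix.toLin' A) U = Matrix.toLinAlgEquiv' (aeval A U) from
      aeval_algHom_apply (Matrix.toLinAlgEquiv' : Matrix (Fin n) (Fin n) F ≃ₐ[F] _).toAlgHom A U]
    rfl
  let x : Fin n → F := T.symm (Pi.single i₀ (Submodule.Quotient.mk 1))
  have hx : ∀ U : F[X], T (aeval A U *ᵥ x) = Pi.single i₀ (Submodule.Quotient.mk U) := fun U => by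
    rw [hX, LinearEquiv.apply_symm_apply, ← Pi.single_smul, ← Submodule.Quotient.mk_smul, smul_eq_mul, mul_one]
  have hxk : aeval A (R ^ K) *ᵥ x = 0 := T.injective (by
    rw [hx, map_zero, show (Submodule.Quotient.mk (R ^ K) : Q (P i₀ ^ k i₀)) = 0 from by
      rw [Submodule.Quotient.mk_eq_zero, hi₀]; exact Submodule.mem_span_singleton_self _, Pi.single_zero])
  have hnot : aeval A (R ^ (K - 1)) *ᵥ x ∉ LinearMap.range (aeval A (R ^ K)).mulVecLin := by
    rintro ⟨z, hz⟩
    rw [Matrix.mulVecLin_apply] at hz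
    have h1 := congrFun (congrArg T hz) i₀
    rw [hX, hx, Pi.single_eq_same, Pi.smul_apply] at h1
    obtain ⟨w, hw⟩ := Submodule.Quotient.mk_surjective _ (T z i₀)
    rw [← hw, ← Submodule.Quotient.mk_smul, Submodule.Quotient.eq, Submodule.mem_span_singleton] at h1
    obtain ⟨c, hc⟩ := h1
    rw [smul_eq_mul, smul_eq_mul, hi₀] at hc
    have hd : R ^ K ∣ R ^ (K - 1) := ⟨w - c, by linear_combination hc⟩
    have := (pow_dvd_pow_iff (hP i₀).1.ne_zero (hP i₀).2.not_isUnit).1 hd
    omega
  obtain ⟨w, hw, hxw⟩ : ∃ w, aeval A (R' ^ K) *ᵥ w = 0 ∧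
      hermForm n F q (aeval A (R ^ (K - 1)) *ᵥ x) w ≠ 0 := by
    by_contra hcon
    push Not at hcon
    refine hnot (mem_range_of_orth hF fun w hw => hcon w ?_)
    rw [hR'def, ← udual_pow, aeval_udual hF hA, Matrix.smul_mulVec, ← Matrix.mulVec_mulVec, hw, Matrix.mulVec_zero,
      smul_zero]
  have haddr : ∀ u v w : Fin n → F, hermForm n F q u (v + w) = hermForm n F q u v + hermForm n F q u w :=
    fun u v w => by simp only [hermForm, Pi.add_apply, ← Forms.qEnd_apply hF, map_add, mul_add, Finset.sum_add_distrib]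
  have haddl : ∀ u v w : Fin n → F, hermForm n F q (u + v) w = hermForm n F q u w + hermForm n F q v w :=
    fun u v w => by simp [hermForm, add_mul, Finset.sum_add_distrib]
  have hsmulr : ∀ (a : F) (u v : Fin n → F), hermForm n F q u (a • v) = σ a * hermForm n F q u v := fun a u v => by
    simp only [hermForm, Pi.smul_apply, smul_eq_mul, ← Forms.qEnd_apply hF, map_mul, Finset.mul_sum]
    exact Finset.sum_congr rfl fun i _ => mul_left_comm _ _ _
  have hsmull : ∀ (a : F) (u v : Fin n → F), hermForm n F q (a • u) v = a * hermForm n F q u v :=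
    fun a u v => by simp [hermForm, Finset.mul_sum, mul_assoc]
  have hdiv : (s / σ s) ^ K = s ^ K / σ (s ^ K) := by rw [div_pow, map_pow]
  rw [hdiv]
  have hsK : s ^ K ≠ 0 := pow_ne_zero _ hs
  by_cases hRR : R' = R
  · rw [hRR] at hw
    -- a single anisotropic piece
    obtain ⟨z, hz, hzz⟩ : ∃ z, aeval A (R ^ K) *ᵥ z = 0 ∧ hermForm n F q (aeval A (R ^ (K - 1)) *ᵥ z) z ≠ 0 := by
      by_contra hcon
      push Not at hcon
      obtain ⟨a, ha⟩ : ∃ l : F, σ l ≠ l := by
        by_contra hc
        push Not at hc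
        exact Forms.qEnd_ne_id hF (RingHom.ext hc)
      have hB : ∀ b : F, σ b * hermForm n F q (aeval A (R ^ (K - 1)) *ᵥ x) w +
          b * hermForm n F q (aeval A (R ^ (K - 1)) *ᵥ w) x = 0 := by
        intro b
        have := hcon (x + b • w) (by rw [Matrix.mulVec_add, Matrix.mulVec_smul, hxk, hw, smul_zero, add_zero])
        rw [Matrix.mulVec_add, Matrix.mulVec_smul, haddl, haddr, haddr, hsmull, hsmull, hsmulr, hsmulr,
          hcon x hxk, hcon w hw] at this
        linear_combination this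
      have h1 := hB 1
      rw [map_one] at h1
      refine hxw (mul_left_cancel₀ (sub_ne_zero.2 ha) ?_)
      rw [mul_zero]
      linear_combination hB a - a * h1
    obtain ⟨ι, hι⟩ := exists_cyclic_map A hz
    have hdet : LinearMap.det (mulOn u (R ^ K)) = s ^ K := by rw [det_mulOn_pow (hP i₀).1, hu]
    have := finiteDimensional_Q (hP i₀).1 K
    refine Exists.elim (exists_unitary_of_action hF hA (W := Q (R ^ K))
      ι (fun a ha => ?_) (fun U => mulOn U (R ^ K)) (fun U a => ?_) u
      (by rw [hdet]; exact hsK)) fun C hC => ⟨C, hC.1, hC.2.1, by rw [hC.2.2, hdet]⟩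
    · obtain ⟨U, rfl⟩ := Submodule.Quotient.mk_surjective _ a
      rw [Submodule.Quotient.mk_eq_zero, Submodule.mem_span_singleton]
      by_contra hU
      obtain ⟨b, c, hb⟩ := exists_combination (hP i₀).2 (k := K) (P := U) fun ⟨d, hd⟩ =>
        hU ⟨d, by rw [smul_eq_mul, hd, mul_comm]⟩
      refine hzz ?_
      have h2 : aeval A (b * U) *ᵥ z = aeval A (R ^ (K - 1)) *ᵥ z := by
        rw [show b * U = c * R ^ K + R ^ (K - 1) by linear_combination hb, map_add, map_mul, Matrix.add_mulVec,
          ← Matrix.mulVec_mulVec, hz, Matrix.mulVec_zero, zero_add]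
      rw [← h2, map_mul, ← Matrix.mulVec_mulVec, hermForm_mulVec hF, adj_aeval]
      obtain ⟨N, hN⟩ : ∃ N, adj hF A = A ^ N := by
        obtain ⟨v, hv⟩ := IsUnit.of_mul_eq_one_right _ hA
        refine ⟨orderOf v - 1, ?_⟩
        have h3 : A * A ^ (orderOf v - 1) = 1 := by
          rw [← pow_succ', Nat.sub_add_cancel (orderOf_pos v), ← hv, ← Units.val_pow_eq_pow_val, pow_orderOf_eq_one,
            Units.val_one]
        calc adj hF A = adj hF A * (A * A ^ (orderOf v - 1)) := by rw [h3, mul_one]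
          _ = _ := by rw [← mul_assoc, hA, one_mul]
      have h4 := ha (Submodule.Quotient.mk ((b.map σ).comp (X ^ N)))
      rw [hι, hι, aeval_comp, map_pow, aeval_X, ← hN] at h4
      exact h4
    · obtain ⟨V, rfl⟩ := Submodule.Quotient.mk_surjective _ a
      show ι (U • Submodule.Quotient.mk V) = _
      rw [← Submodule.Quotient.mk_smul, hι, hι, smul_eq_mul, map_mul, ← Matrix.mulVec_mulVec]
  · -- a pair of pieces
    obtain ⟨ι₁, hι₁⟩ := exists_cyclic_map A hxk
    obtain ⟨ι₂, hι₂⟩ := exists_cyclic_map A hw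
    obtain ⟨c₁, c₂, hc⟩ : IsCoprime (R ^ K) (R' ^ K) := by
      refine IsCoprime.pow ((hP i₀).2.coprime_iff_not_dvd.2 fun hd => hRR ?_)
      exact (eq_of_monic_of_associated (hP i₀).1 hR'm ((hP i₀).2.associated_of_dvd hR'i hd)).symm
    set E := c₂ * R' ^ K with hE
    have hE1 : R ^ K ∣ E - 1 := ⟨-c₁, by rw [hE]; linear_combination hc⟩
    have hE2 : R' ^ K ∣ E := ⟨c₂, mul_comm _ _⟩
    have := finiteDimensional_Q (hP i₀).1 K
    have := finiteDimensional_Q hR'm K
    let act : F[X] → ((Q (R ^ K) × Q (R' ^ K)) →ₗ[F] (Q (R ^ K) × Q (R' ^ K))) := fun U =>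
      (mulOn U (R ^ K)).prodMap (mulOn U (R' ^ K))
    have hsm₁ : ∀ U a, ι₁ (mulOn U (R ^ K) a) = aeval A U *ᵥ ι₁ a := fun U a => by
      obtain ⟨V, rfl⟩ := Submodule.Quotient.mk_surjective _ a
      show ι₁ (U • Submodule.Quotient.mk V) = _
      rw [← Submodule.Quotient.mk_smul, hι₁, hι₁, smul_eq_mul, map_mul, ← Matrix.mulVec_mulVec]
    have hsm₂ : ∀ U a, ι₂ (mulOn U (R' ^ K) a) = aeval A U *ᵥ ι₂ a := fun U a => by
      obtain ⟨V, rfl⟩ := Submodule.Quotient.mk_surjective _ a
      show ι₂ (U • Submodule.Quotient.mk V) = _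
      rw [← Submodule.Quotient.mk_smul, hι₂, hι₂, smul_eq_mul, map_mul, ← Matrix.mulVec_mulVec]
    have hdet : LinearMap.det (act (1 + E * (u - 1))) = s ^ K := by
      show LinearMap.det ((mulOn _ (R ^ K)).prodMap (mulOn _ (R' ^ K))) = _
      rw [LinearMap.det_prodMap, mulOn_congr (u := 1 + E * (u - 1)) (v := u) (P := R ^ K)
        (by rw [show 1 + E * (u - 1) - u = (E - 1) * (u - 1) by ring]; exact hE1.mul_right _),
        mulOn_congr (u := 1 + E * (u - 1)) (v := 1) (P := R' ^ K) (by rw [add_sub_cancel_left]; exact hE2.mul_right _),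
        det_mulOn_pow (hP i₀).1, hu,
        show mulOn (1 : F[X]) (R' ^ K) = LinearMap.id from LinearMap.ext fun v => show (1 : F[X]) • v = v from one_smul _ v,
        LinearMap.det_id, mul_one]
    refine Exists.elim (exists_unitary_of_action hF hA (ι₁.coprod ι₂) (fun a ha => ?_) act
      (fun U a => by
        show ι₁ (mulOn U _ a.1) + ι₂ (mulOn U _ a.2) = _
        rw [hsm₁, hsm₂, LinearMap.coprod_apply, Matrix.mulVec_add])
      (1 + E * (u - 1)) (by rw [hdet]; exact hsK)) fun C hC => ⟨C, hC.1, hC.2.1, by rw [hC.2.2, hdet]⟩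
    · obtain ⟨N, hN⟩ : ∃ N, adj hF A = A ^ N := by
        obtain ⟨v, hv⟩ := IsUnit.of_mul_eq_one_right _ hA
        refine ⟨orderOf v - 1, ?_⟩
        have h3 : A * A ^ (orderOf v - 1) = 1 := by
          rw [← pow_succ', Nat.sub_add_cancel (orderOf_pos v), ← hv, ← Units.val_pow_eq_pow_val, pow_orderOf_eq_one,
            Units.val_one]
        calc adj hF A = adj hF A * (A * A ^ (orderOf v - 1)) := by rw [h3, mul_one]
          _ = _ := by rw [← mul_assoc, hA, one_mul]
      -- multiples of `a` are orthogonal to the block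
      have horth : ∀ (U : F[X]) b, hermForm n F q (ι₁.coprod ι₂ (act U a)) (ι₁.coprod ι₂ b) = 0 := by
        intro U b
        have h5 : ∀ (V : F[X]) b, ι₁.coprod ι₂ (act V b) = aeval A V *ᵥ ι₁.coprod ι₂ b := fun V b => by
          show ι₁ (mulOn V _ b.1) + ι₂ (mulOn V _ b.2) = _
          rw [hsm₁, hsm₂, ← Matrix.mulVec_add]; rfl
        rw [h5, hermForm_mulVec hF, adj_aeval]
        have h6 := ha (act ((U.map σ).comp (X ^ N)) b)
        rw [h5, aeval_comp, map_pow, aeval_X, ← hN] at h6
        exact h6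
      obtain ⟨⟨a₁, a₂⟩⟩ : Nonempty {p : F[X] × F[X] //
          a = (Submodule.Quotient.mk p.1, Submodule.Quotient.mk p.2)} := by
        obtain ⟨a₁, h₁⟩ := Submodule.Quotient.mk_surjective _ a.1
        obtain ⟨a₂, h₂⟩ := Submodule.Quotient.mk_surjective _ a.2
        exact ⟨⟨(a₁, a₂), Prod.ext h₁.symm h₂.symm⟩⟩
      obtain ⟨p₁, p₂⟩ := a₁
      subst a₂
      have happ : ∀ U : F[X], ι₁.coprod ι₂ (act U (Submodule.Quotient.mk p₁, Submodule.Quotient.mk p₂)) =
          aeval A (U * p₁) *ᵥ x + aeval A (U * p₂) *ᵥ w := fun U => by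
        show ι₁ (mulOn U _ (Submodule.Quotient.mk p₁)) + ι₂ (mulOn U _ (Submodule.Quotient.mk p₂)) = _
        rw [hsm₁, hsm₂, hι₁, hι₂, Matrix.mulVec_mulVec, Matrix.mulVec_mulVec, ← map_mul, ← map_mul]
      have hkillx : ∀ U : F[X], R ^ K ∣ U → aeval A U *ᵥ x = 0 := by
        rintro _ ⟨c, rfl⟩
        rw [mul_comm, map_mul, ← Matrix.mulVec_mulVec, hxk, Matrix.mulVec_zero]
      have hkillw : ∀ U : F[X], R' ^ K ∣ U → aeval A U *ᵥ w = 0 := by
        rintro _ ⟨c, rfl⟩
        rw [mul_comm, map_mul, ← Matrix.mulVec_mulVec, hw, Matrix.mulVec_zero]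
      have hp₁ : R ^ K ∣ p₁ := by
        by_contra hd
        obtain ⟨b, hb⟩ := exists_combination (hP i₀).2 hd
        have h7 := horth (E * b) (0, Submodule.Quotient.mk 1)
        rw [happ, show ι₁.coprod ι₂ (0, Submodule.Quotient.mk 1) = w by
          rw [LinearMap.coprod_apply, map_zero, zero_add, hι₂, map_one, Matrix.one_mulVec], hkillw (E * b * p₂) ((hE2.mul_right b).mul_right p₂), add_zero] at h7
        refine hxw ?_
        have h8 : aeval A (E * b * p₁) *ᵥ x = aeval A (R ^ (K - 1)) *ᵥ x := by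
          rw [← sub_eq_zero, ← Matrix.sub_mulVec, ← map_sub]
          refine hkillx _ ?_
          rw [show E * b * p₁ - R ^ (K - 1) = (E - 1) * (b * p₁) + (b * p₁ - R ^ (K - 1)) by ring]
          exact dvd_add (hE1.mul_right _) hb
        rwa [h8] at h7
      have hp₂ : R' ^ K ∣ p₂ := by
        by_contra hd
        obtain ⟨b, hb⟩ := exists_combination hR'i hd
        set m := (R ^ (K - 1)).natDegree
        have h7 := horth ((1 - E) * b) (Submodule.Quotient.mk (X ^ m), 0)
        rw [happ, show ι₁.coprod ι₂ (Submodule.Quotient.mk (X ^ m), 0) = A ^ m *ᵥ x by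
          rw [LinearMap.coprod_apply, map_zero, add_zero, hι₁, map_pow, aeval_X], hkillx ((1 - E) * b * p₁) (by
            rw [show (1 - E) * b * p₁ = (E - 1) * (-(b * p₁)) by ring]; exact hE1.mul_right _), zero_add] at h7
        have h8 : aeval A ((1 - E) * b * p₂) *ᵥ w = aeval A (R' ^ (K - 1)) *ᵥ w := by
          rw [← sub_eq_zero, ← Matrix.sub_mulVec, ← map_sub]
          refine hkillw _ ?_
          rw [show (1 - E) * b * p₂ - R' ^ (K - 1) = E * (-(b * p₂)) + (b * p₂ - R' ^ (K - 1)) by ring]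
          exact dvd_add (hE2.mul_right _) hb
        rw [h8, hR'def, ← udual_pow, aeval_udual hF hA, Matrix.smul_mulVec, ← Matrix.mulVec_mulVec, hsmull,
          hermForm_isom_pow hF hA] at h7
        have hne : σ ((R ^ (K - 1)).coeff 0)⁻¹ ≠ 0 := by
          refine (_root_.map_ne_zero _).2 (inv_ne_zero ?_)
          rw [coeff_zero_eq_eval_zero, eval_pow, ← coeff_zero_eq_eval_zero]
          exact pow_ne_zero _ hR0
        refine hxw ?_
        rw [hermForm_mulVec hF, ← Forms.hermForm_swap hF, (mul_eq_zero.1 h7).resolve_left hne, map_zero]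
      show ((Submodule.Quotient.mk p₁, Submodule.Quotient.mk p₂) : Q (R ^ K) × Q (R' ^ K)) = 0
      rw [Prod.mk_eq_zero, Submodule.Quotient.mk_eq_zero, Submodule.Quotient.mk_eq_zero]
      exact ⟨Ideal.mem_span_singleton.2 hp₁, Ideal.mem_span_singleton.2 hp₂⟩

end Det

end Cfsg.Agent.GL.UnitaryData
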