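/-
The class data of an isometry of a nondegenerate bilinear form are self-reciprocal.
-/
import Cfsg.Agent.Lib.GL.ClassData
import Cfsg.Agent.Lib.GL.UnitaryData

set_option autoImplicit false

open Polynomial Module
open scoped Classical Matrix

namespace Cfsg.Agent.GL.SpData

open Cfsg.Agent.GL.ClassNumber Cfsg.Agent.GL.ClassData

universe u

variable {F : Type u} [Field F] {n : ℕ}

/-- The monic polynomial whose roots are the inverses of the roots of `P`. -/
noncomputable def rdual (P : F[X]) : F[X] := C (P.coeff 0)⁻¹ * P.reverse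

theorem rdual_coeff (P : F[X]) (j : ℕ) :
    (rdual P).coeff j = (P.coeff 0)⁻¹ * P.coeff (revAt P.natDegree j) := by
  rw [rdual, coeff_C_mul, coeff_reverse]

theorem rdual_one : rdual (1 : F[X]) = 1 := by
  rw [rdual, show (1 : F[X]) = C 1 from C_1.symm, reverse_C]
  simp

theorem rdual_mul (P Q : F[X]) : rdual (P * Q) = rdual P * rdual Q := by
  rw [rdual, rdual, rdual, reverse_mul_of_domain, mul_coeff_zero, mul_inv, map_mul]
  ring

theorem rdual_pow (P : F[X]) (j : ℕ) : rdual (P ^ j) = rdual P ^ j := by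
  induction j with
  | zero => rw [pow_zero, pow_zero, rdual_one]
  | succ j ih => rw [pow_succ, pow_succ, rdual_mul, ih]

theorem rdual_prod {κ : Type*} (s : Finset κ) (P : κ → F[X]) :
    rdual (∏ i ∈ s, P i) = ∏ i ∈ s, rdual (P i) := by
  induction s using Finset.induction_on with
  | empty => rw [Finset.prod_empty, Finset.prod_empty, rdual_one]
  | insert i s hi ih => rw [Finset.prod_insert hi, Finset.prod_insert hi, rdual_mul, ih]

theorem rdual_natDegree {P : F[X]} (hP : P.coeff 0 ≠ 0) : (rdual P).natDegree = P.natDegree := by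
  rw [rdual, natDegree_C_mul (inv_ne_zero hP), reverse_natDegree,
    natTrailingDegree_eq_zero.2 (Or.inr hP), Nat.sub_zero]

theorem rdual_monic {P : F[X]} (hP : P.coeff 0 ≠ 0) : (rdual P).Monic := by
  show (rdual P).leadingCoeff = 1
  rw [leadingCoeff, rdual_natDegree hP, rdual_coeff, revAt_le le_rfl, Nat.sub_self, inv_mul_cancel₀ hP]

theorem rdual_coeff_zero {P : F[X]} (hm : P.Monic) (hP : P.coeff 0 ≠ 0) : (rdual P).coeff 0 ≠ 0 := by
  rw [rdual_coeff, revAt_le (Nat.zero_le _), Nat.sub_zero, hm.coeff_natDegree, mul_one]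
  exact inv_ne_zero hP

theorem rdual_rdual {P : F[X]} (hm : P.Monic) (hP : P.coeff 0 ≠ 0) : rdual (rdual P) = P := by
  ext j
  rw [rdual_coeff, rdual_natDegree hP, rdual_coeff, rdual_coeff, revAt_le (Nat.zero_le _), Nat.sub_zero,
    hm.coeff_natDegree, mul_one, inv_inv, revAt_invol, mul_inv_cancel_left₀ hP]

theorem rdual_irreducible {P : F[X]} (hm : P.Monic) (h0 : P.coeff 0 ≠ 0) (hi : Irreducible P) :
    Irreducible (rdual P) := by
  rw [(rdual_monic h0).irreducible_iff_natDegree]
  refine ⟨fun h => ?_, fun f g hf hg hfg => ?_⟩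
  · have := rdual_natDegree h0
    rw [h, natDegree_one] at this
    have := hi.natDegree_pos
    omega
  · have hc : (f * g).coeff 0 ≠ 0 := by rw [hfg]; exact rdual_coeff_zero hm h0
    rw [mul_coeff_zero, mul_ne_zero_iff] at hc
    have h := congrArg rdual hfg
    rw [rdual_mul, rdual_rdual hm h0] at h
    rcases (hm.irreducible_iff_natDegree.1 hi).2 _ _ (rdual_monic hc.1) (rdual_monic hc.2) h with h' | h'
    · left; rwa [rdual_natDegree hc.1] at h'
    · right; rwa [rdual_natDegree hc.2] at h'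

variable {A Y : Matrix (Fin n) (Fin n) F} (hA : Y.det ≠ 0 ∧ Aᵀ * Y * A = Y)

include hA in
theorem isUnit_det : IsUnit A.det := by
  refine isUnit_iff_ne_zero.2 fun h0 => hA.1 ?_
  rw [← hA.2, Matrix.det_mul, h0, mul_zero]

include hA in
/-- A polynomial and its reciprocal have the same rank at `A`. -/
theorem rank_rdual (P : F[X]) (h0 : P.coeff 0 ≠ 0) : (aeval A (rdual P)).rank = (aeval A P).rank := by
  have hu := isUnit_det hA
  have hYu : IsUnit Y.det := isUnit_iff_ne_zero.2 hA.1
  have hsemi : A⁻¹ * Y⁻¹ = Y⁻¹ * Aᵀ := by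
    calc A⁻¹ * Y⁻¹ = Y⁻¹ * (Aᵀ * Y * A) * A⁻¹ * Y⁻¹ := by rw [hA.2, Matrix.nonsing_inv_mul _ hYu, one_mul]
      _ = Y⁻¹ * Aᵀ * (Y * (A * A⁻¹) * Y⁻¹) := by simp only [mul_assoc]
      _ = Y⁻¹ * Aᵀ := by rw [Matrix.mul_nonsing_inv _ hu, mul_one, Matrix.mul_nonsing_inv _ hYu, mul_one]
  have hpow : ∀ k : ℕ, A⁻¹ ^ k * Y⁻¹ = Y⁻¹ * (A ^ k)ᵀ := fun k => by
    induction k with
    | zero => simp
    | succ k ih =>
      calc A⁻¹ ^ (k + 1) * Y⁻¹ = A⁻¹ ^ k * (A⁻¹ * Y⁻¹) := by rw [pow_succ, mul_assoc]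
        _ = Y⁻¹ * ((A ^ k)ᵀ * Aᵀ) := by rw [hsemi, ← mul_assoc, ih, mul_assoc]
        _ = Y⁻¹ * (A ^ (k + 1))ᵀ := by rw [← Matrix.transpose_mul, pow_succ']
  have hP : aeval A⁻¹ P * Y⁻¹ = Y⁻¹ * (aeval A P)ᵀ := by
    clear h0
    induction P using Polynomial.induction_on' with
    | add P Q hP hQ => rw [map_add, map_add, Matrix.transpose_add, add_mul, mul_add, hP, hQ]
    | monomial k c =>
      rw [aeval_monomial, aeval_monomial, ← Algebra.smul_def, ← Algebra.smul_def, Matrix.smul_mul, hpow,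
        Matrix.transpose_smul, Matrix.mul_smul]
  rw [rdual, map_mul, aeval_C, ← Algebra.smul_def, UnitaryData.aeval_reverse (Matrix.mul_nonsing_inv _ hu),
    ← smul_mul_assoc, Matrix.rank_mul_eq_right_of_isUnit_det]
  · have hY' : IsUnit (Y⁻¹).det := Matrix.isUnit_nonsing_inv_det _ hYu
    have := congrArg Matrix.rank hP
    rwa [Matrix.rank_mul_eq_left_of_isUnit_det _ _ hY', Matrix.rank_mul_eq_right_of_isUnit_det _ _ hY',
      Matrix.rank_transpose] at this
  · rw [Matrix.det_smul, Matrix.det_pow]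
    exact ((IsUnit.mk0 _ (inv_ne_zero h0)).pow _).mul (hu.pow _)

include hA in
/-- The data of an isometry of a nondegenerate bilinear form are self-reciprocal. -/
theorem rdual_data {g : Seq F n n} (h : FitsM A g) (e : Fin n) : rdual (g.1 e) = g.1 e := by
  obtain ⟨κ, _, P, k, hP, hk, hg, ⟨ψ⟩⟩ := h
  have hsurj : Function.Surjective (Matrix.toLin' A) := fun v => ⟨Matrix.toLin' A⁻¹ v, by
    rw [← Matrix.toLin'_mul_apply, Matrix.mul_nonsing_inv _ (isUnit_det hA), Matrix.toLin'_one]; rfl⟩
  have h0 : ∀ i, (P i).coeff 0 ≠ 0 := coeff_zero_ne hsurj (fun i => (hk i).1) ψ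
  let T := (Module.AEval'.of (Matrix.toLin' A)).trans (ψ.restrictScalars F)
  have hX : ∀ (R : F[X]) v, T (aeval A R *ᵥ v) = R • T v := fun R v => by
    show ψ (Module.AEval'.of _ (aeval A R *ᵥ v)) = R • ψ (Module.AEval'.of _ v)
    rw [← map_smul, ← Module.AEval.of_aeval_smul]
    congr 2
    show _ = aeval (Matrix.toLin' A) R v
    rw [show aeval (Matrix.toLin' A) R = Matrix.toLinAlgEquiv' (aeval A R) from
      aeval_algHom_apply (Matrix.toLinAlgEquiv' : Matrix (Fin n) (Fin n) F ≃ₐ[F] _).toAlgHom A R]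
    rfl
  have hrank : ∀ R : F[X], R.Monic → Irreducible R → ∀ j,
      (aeval A (R ^ j)).rank = ∑ i, (if R = P i then k i - j else k i) * (P i).natDegree := by
    intro R hR hRi j
    rw [← finrank_range_pi P k hP hR hRi j, Matrix.rank, ← LinearEquiv.finrank_map_eq T (LinearMap.range _)]
    refine (congrArg (fun S : Submodule F ((i : κ) → Q (P i ^ k i)) => finrank F S) ?_)
    · ext v
      simp only [Submodule.mem_map, LinearMap.mem_range, Matrix.mulVecLin_apply]
      constructor
      · rintro ⟨_, ⟨w, rfl⟩, rfl⟩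
        exact ⟨T w, (hX _ w).symm⟩
      · rintro ⟨w, rfl⟩
        exact ⟨_, ⟨T.symm w, rfl⟩, by
          show T (aeval A (R ^ j) *ᵥ T.symm w) = _
          rw [hX, LinearEquiv.apply_symm_apply]; rfl⟩
  -- the number of pieces with a given polynomial and exponent
  let cnt : F[X] → ℕ → ℕ := fun R j => (Finset.univ.filter fun i => P i = R ∧ j < k i).card
  have hdiff : ∀ R : F[X], ∀ j,
      ∑ i, (if R = P i then k i - j else k i) * (P i).natDegree =
        ∑ i, (if R = P i then k i - (j + 1) else k i) * (P i).natDegree + cnt R j * R.natDegree := by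
    intro R j
    simp only [cnt]
    rw [Finset.card_filter, Finset.sum_mul, ← Finset.sum_add_distrib]
    refine Finset.sum_congr rfl fun i _ => ?_
    by_cases h : R = P i
    · subst h
      by_cases hj : j < k i
      · simp only [if_pos, hj, and_self]
        rw [← add_mul]
        congr 1
        omega
      · simp [hj, Nat.sub_eq_zero_of_le (not_lt.1 hj), Nat.sub_eq_zero_of_le (show k i ≤ j + 1 by omega)]
    · simp [h, Ne.symm h]
  have hcnt : ∀ R : F[X], R.Monic → Irreducible R → R.coeff 0 ≠ 0 → ∀ j, cnt (rdual R) j = cnt R j := by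
    intro R hR hRi hR0 j
    have hR' := rdual_monic hR0
    have hRi' := rdual_irreducible hR hR0 hRi
    have hs : ∀ l, ∑ i, (if rdual R = P i then k i - l else k i) * (P i).natDegree =
        ∑ i, (if R = P i then k i - l else k i) * (P i).natDegree := fun l => by
      rw [← hrank _ hR hRi, ← hrank _ hR' hRi', ← rdual_pow]
      refine rank_rdual hA _ ?_
      rw [coeff_zero_eq_eval_zero, eval_pow, ← coeff_zero_eq_eval_zero]
      exact pow_ne_zero _ hR0
    have h1 := hdiff R j
    have h2 := hdiff (rdual R) j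
    rw [hs, hs, rdual_natDegree hR0] at h2
    exact Nat.eq_of_mul_eq_mul_right hRi.natDegree_pos (by omega)
  rw [← hg e, rdual_prod, Finset.prod_eq_multiset_prod, Finset.prod_eq_multiset_prod]
  refine congrArg Multiset.prod (Multiset.ext.2 fun R => ?_)
  have hsplit : ∀ S : F[X], cnt S (e : ℕ) = cnt S ((e : ℕ) + 1) +
      ((Finset.univ.filter (fun i => k i = (e : ℕ) + 1)).val.map P).count S := by
    intro S
    simp only [cnt]
    rw [Multiset.count_map, ← Finset.filter_val, Finset.filter_filter, ← Finset.card_def, ← Finset.card_union_of_disjoint]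
    · congr 1
      ext i
      simp only [Finset.mem_filter, Finset.mem_union, Finset.mem_univ, true_and]
      constructor
      · rintro ⟨h1, h2⟩
        rcases Nat.lt_or_ge ((e : ℕ) + 1) (k i) with h | h
        · exact Or.inl ⟨h1, h⟩
        · exact Or.inr ⟨by omega, h1.symm⟩
      · rintro (⟨h1, h2⟩ | ⟨h1, h2⟩)
        · exact ⟨h1, by omega⟩
        · exact ⟨h2.symm, by omega⟩
    · rw [Finset.disjoint_filter]
      rintro i - ⟨_, h⟩ ⟨h', _⟩
      omega
  by_cases hR : ∃ i, rdual (P i) = R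
  · obtain ⟨i₀, rfl⟩ := hR
    have e1 : ((Finset.univ.filter (fun i => k i = (e : ℕ) + 1)).val.map fun i => rdual (P i)).count (rdual (P i₀)) =
        ((Finset.univ.filter (fun i => k i = (e : ℕ) + 1)).val.map P).count (P i₀) := by
      rw [Multiset.count_map, Multiset.count_map]
      refine congrArg Multiset.card (Multiset.filter_congr fun i _ => ⟨fun h => ?_, fun h => by rw [h]⟩)
      have := congrArg (rdual) h
      rwa [rdual_rdual (hP i).1 (h0 i), rdual_rdual (hP i₀).1 (h0 i₀)] at this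
    have h1 := hsplit (P i₀)
    have h2 := hsplit (rdual (P i₀))
    rw [hcnt _ (hP i₀).1 (hP i₀).2 (h0 i₀), hcnt _ (hP i₀).1 (hP i₀).2 (h0 i₀)] at h2
    omega
  · rw [Multiset.count_eq_zero.2, Multiset.count_eq_zero.2]
    · rintro hmem
      obtain ⟨i, hi, rfl⟩ := Multiset.mem_map.1 hmem
      refine hR ?_
      by_contra hne
      push Not at hne
      have hpos : ∀ j, 0 < cnt (P i) j ↔ ∃ l, P l = P i ∧ j < k l := fun j => by
        simp [cnt, Finset.card_pos, Finset.filter_nonempty_iff]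
      have hzero : ∀ j, cnt (rdual (P i)) j = 0 → cnt (P i) j = 0 := fun j hj => by
        rw [← hcnt _ (hP i).1 (hP i).2 (h0 i) j, hj]
      have hci : 0 < cnt (P i) 0 := (hpos 0).2 ⟨i, rfl, by have := hk i; omega⟩
      rw [hzero 0 (Finset.card_eq_zero.2 (Finset.filter_false_of_mem fun l _ hl => hne l (by
        rw [hl.1, rdual_rdual (hP i).1 (h0 i)])))] at hci
      exact absurd hci (lt_irrefl 0)
    · exact fun hmem => hR (by
        obtain ⟨i, -, hi⟩ := Multiset.mem_map.1 hmem
        exact ⟨i, hi⟩)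

end Cfsg.Agent.GL.SpData
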