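/-
Class data of the isometries of a symmetric form (odd `q`): coordinates, decomposition by the eigenvalues `1`, `-1`.
-/
import Cfsg.Agent.Lib.GL.SpData
import Cfsg.Agent.Lib.UnipForms.SympDecomp
import Cfsg.Agent.Lib.UnipForms.SymLeading

set_option autoImplicit false
set_option linter.unusedSectionVars false

open Matrix Polynomial

namespace Cfsg.Agent.GL.OrthData

open Cfsg.Agent.GL.ClassNumber Cfsg.Agent.GL.ClassData Cfsg.Agent.UnipCentralizer
open Cfsg.Agent.UnipCentralizer.Leading Cfsg.Agent.UnipForms.SympUnipotent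
open Cfsg.Agent.UnipForms.SympDecomp Cfsg.Agent.UnipForms.SymLeading

universe u

variable {F : Type u} [Field F] {ι : Type*} [Fintype ι] [DecidableEq ι]

/-- The isometries of a Gram matrix. -/
def orthMat (S : Matrix ι ι F) : Subgroup (GL ι F) where
  carrier := {g | (g : Matrix ι ι F)ᵀ * S * (g : Matrix ι ι F) = S}
  mul_mem' {a b} ha hb := by
    show ((a : Matrix ι ι F) * (b : Matrix ι ι F))ᵀ * S * ((a : Matrix ι ι F) * (b : Matrix ι ι F)) = S
    calc _ = (b : Matrix ι ι F)ᵀ * ((a : Matrix ι ι F)ᵀ * S * (a : Matrix ι ι F)) * (b : Matrix ι ι F) := by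
          rw [transpose_mul]; simp only [Matrix.mul_assoc]
      _ = S := by rw [show (a : Matrix ι ι F)ᵀ * S * (a : Matrix ι ι F) = S from ha]; exact hb
  one_mem' := by simp
  inv_mem' {a} ha := by
    show (↑a⁻¹ : Matrix ι ι F)ᵀ * S * (↑a⁻¹ : Matrix ι ι F) = S
    conv_lhs => rw [← (ha : (a : Matrix ι ι F)ᵀ * S * (a : Matrix ι ι F) = S)]
    calc (↑a⁻¹ : Matrix ι ι F)ᵀ * ((a : Matrix ι ι F)ᵀ * S * (a : Matrix ι ι F)) * (↑a⁻¹ : Matrix ι ι F)
        = ((a : Matrix ι ι F) * (↑a⁻¹ : Matrix ι ι F))ᵀ * S * ((a : Matrix ι ι F) * (↑a⁻¹ : Matrix ι ι F)) := by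
          rw [transpose_mul]; simp only [Matrix.mul_assoc]
      _ = S := by rw [Units.mul_inv, transpose_one, Matrix.one_mul, Matrix.mul_one]

theorem mem_orthMat {S : Matrix ι ι F} {g : GL ι F} :
    g ∈ orthMat S ↔ (g : Matrix ι ι F)ᵀ * S * (g : Matrix ι ι F) = S := Iff.rfl

variable {S : Matrix ι ι F} {κ : Type*} [Fintype κ] [DecidableEq κ]

/-- Coordinates in which a matrix has shape `G`. -/
structure Coord (A : Matrix ι ι F) (G : Matrix κ κ F) where
  T : Matrix ι κ F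
  T' : Matrix κ ι F
  hTT' : T * T' = 1
  hT'T : T' * T = 1
  hG : A * T = T * G

/-- The form in the coordinates. -/
def Coord.form {A : Matrix ι ι F} {G : Matrix κ κ F} (C : Coord A G) (S : Matrix ι ι F) : Matrix κ κ F :=
  C.Tᵀ * S * C.T

/-- Change of coordinates. -/
def Coord.conj' {A : Matrix ι ι F} {G G' : Matrix κ κ F} (C : Coord A G) (U : (Matrix κ κ F)ˣ)
    (hU : (U : Matrix κ κ F) * G' = G * U) : Coord A G' where
  T := C.T * (U : Matrix κ κ F)
  T' := (↑U⁻¹ : Matrix κ κ F) * C.T'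
  hTT' := by
    rw [Matrix.mul_assoc, ← Matrix.mul_assoc (U : Matrix κ κ F), Units.mul_inv, Matrix.one_mul, C.hTT']
  hT'T := by
    rw [Matrix.mul_assoc, ← Matrix.mul_assoc C.T', C.hT'T, Matrix.one_mul, Units.inv_mul]
  hG := by rw [← Matrix.mul_assoc, C.hG, Matrix.mul_assoc, ← hU, ← Matrix.mul_assoc]

theorem Coord.card_eq {A : Matrix ι ι F} {G : Matrix κ κ F} (C : Coord A G) :
    Fintype.card κ = Fintype.card ι := by
  have e : (κ → F) ≃ₗ[F] (ι → F) := Matrix.toLin'OfInv C.hT'T C.hTT'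
  have := e.finrank_eq
  rwa [Module.finrank_fintype_fun_eq_card, Module.finrank_fintype_fun_eq_card] at this

variable {g h : orthMat S} {G : Matrix κ κ F}

theorem form_inv (C : Coord ((g : GL ι F) : Matrix ι ι F) G) : Gᵀ * C.form S * G = C.form S := by
  calc Gᵀ * C.form S * G = (C.T * G)ᵀ * S * (C.T * G) := by
        rw [Coord.form, transpose_mul]; simp only [Matrix.mul_assoc]
    _ = C.Tᵀ * (((g : GL ι F) : Matrix ι ι F)ᵀ * S * ((g : GL ι F) : Matrix ι ι F)) * C.T := by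
        rw [← C.hG, transpose_mul]; simp only [Matrix.mul_assoc]
    _ = C.form S := by rw [mem_orthMat.1 g.2]; rfl

theorem form_transpose (hS : Sᵀ = S) {A : Matrix ι ι F} (C : Coord A G) : (C.form S)ᵀ = C.form S := by
  rw [Coord.form, transpose_mul, transpose_mul, transpose_transpose, hS, Matrix.mul_assoc]

theorem form_det (hSd : S.det ≠ 0) {A : Matrix ι ι F} (C : Coord A G) : (C.form S).det ≠ 0 := by
  intro h0
  obtain ⟨v, hv, hMv⟩ := Matrix.exists_mulVec_eq_zero_iff.2 h0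
  apply hv
  have h1 : S *ᵥ (C.T *ᵥ v) = 0 := by
    have h := congrArg (fun w => C.T'ᵀ *ᵥ w) hMv
    simp only [Coord.form, Matrix.mulVec_mulVec, Matrix.mulVec_zero, ← Matrix.mul_assoc, ← transpose_mul,
      C.hTT', transpose_one, Matrix.one_mul] at h
    rwa [Matrix.mulVec_mulVec]
  have h2 : C.T *ᵥ v = 0 := by
    by_contra h
    exact hSd (Matrix.exists_mulVec_eq_zero_iff.1 ⟨_, h, h1⟩)
  have := congrArg (fun w => C.T' *ᵥ w) h2
  simpa [Matrix.mulVec_mulVec, C.hT'T] using this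

/-- The discriminant in coordinates is that of the form, up to a square. -/
theorem exists_det_form {A : Matrix ι ι F} (C : Coord A G) :
    ∃ x : F, x ≠ 0 ∧ (C.form S).det = x ^ 2 * S.det := by
  let e : ι ≃ κ := Fintype.equivOfCardEq C.card_eq.symm
  refine ⟨(C.T.submatrix id e).det, ?_, ?_⟩
  · have h : C.T.submatrix id e * C.T'.submatrix e id = 1 := by
      rw [← Matrix.submatrix_mul _ _ _ e _ e.bijective, C.hTT', Matrix.submatrix_id_id]
    exact left_ne_zero_of_mul_eq_one (by rw [← det_mul, h, det_one])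
  · rw [← Matrix.det_submatrix_equiv_self e (C.form S), Coord.form,
      Matrix.submatrix_mul _ _ _ id _ Function.bijective_id, Matrix.submatrix_mul _ _ _ id _ Function.bijective_id,
      Matrix.submatrix_id_id, det_mul, det_mul, ← Matrix.transpose_submatrix, det_transpose]
    ring

/-- Congruent forms give conjugate elements. -/
theorem isConj_of_congr (C : Coord ((g : GL ι F) : Matrix ι ι F) G) (D : Coord ((h : GL ι F) : Matrix ι ι F) G)
    (c : Matrix κ κ F) (hc : c * G = G * c) (hcdet : c.det ≠ 0) (hcong : cᵀ * C.form S * c = D.form S) :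
    IsConj g h := by
  have hu : IsUnit c.det := isUnit_iff_ne_zero.2 hcdet
  let U : GL ι F := ⟨C.T * c * D.T', D.T * c⁻¹ * C.T',
    by
      calc C.T * c * D.T' * (D.T * c⁻¹ * C.T') = C.T * (c * (D.T' * D.T) * c⁻¹) * C.T' := by
            simp only [Matrix.mul_assoc]
        _ = 1 := by rw [D.hT'T, Matrix.mul_one, Matrix.mul_nonsing_inv _ hu, Matrix.mul_one, C.hTT'],
    by
      calc D.T * c⁻¹ * C.T' * (C.T * c * D.T') = D.T * (c⁻¹ * (C.T' * C.T) * c) * D.T' := by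
            simp only [Matrix.mul_assoc]
        _ = 1 := by rw [C.hT'T, Matrix.mul_one, Matrix.nonsing_inv_mul _ hu, Matrix.mul_one, D.hTT']⟩
  have hmem : U ∈ orthMat S := by
    show (C.T * c * D.T')ᵀ * S * (C.T * c * D.T') = S
    calc _ = D.T'ᵀ * (cᵀ * C.form S * c) * D.T' := by
          rw [Coord.form, transpose_mul, transpose_mul]; simp only [Matrix.mul_assoc]
      _ = (D.T * D.T')ᵀ * S * (D.T * D.T') := by
          rw [hcong, Coord.form, transpose_mul]; simp only [Matrix.mul_assoc]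
      _ = S := by rw [D.hTT', transpose_one, Matrix.one_mul, Matrix.mul_one]
  refine IsConj.symm (isConj_iff.2 ⟨⟨U, hmem⟩, ?_⟩)
  rw [mul_inv_eq_iff_eq_mul]
  refine Subtype.ext (Units.ext ?_)
  show C.T * c * D.T' * ((h : GL ι F) : Matrix ι ι F) = ((g : GL ι F) : Matrix ι ι F) * (C.T * c * D.T')
  have hh : D.T' * ((h : GL ι F) : Matrix ι ι F) = G * D.T' := by
    calc D.T' * ((h : GL ι F) : Matrix ι ι F)
        = D.T' * (((h : GL ι F) : Matrix ι ι F) * D.T) * D.T' := by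
          rw [Matrix.mul_assoc, Matrix.mul_assoc, D.hTT', Matrix.mul_one]
      _ = G * D.T' := by rw [D.hG, ← Matrix.mul_assoc D.T', D.hT'T, Matrix.one_mul]
  calc C.T * c * D.T' * ((h : GL ι F) : Matrix ι ι F) = C.T * (c * G) * D.T' := by
        rw [Matrix.mul_assoc, hh]; simp only [Matrix.mul_assoc]
    _ = _ := by
        rw [hc, ← Matrix.mul_assoc C.T, ← C.hG]; simp only [Matrix.mul_assoc]

/-! ### The decomposition -/

/-- Decomposition by the eigenvalues `1` and `-1`. -/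
theorem exists_decomp (h2 : (2 : F) ≠ 0) (A : Matrix ι ι F) :
    ∃ (μ ν : Multiset ℕ) (c : ℕ) (G : Matrix (Fin c) (Fin c) F), (∀ a ∈ μ, 0 < a) ∧ (∀ a ∈ ν, 0 < a) ∧
      (G - 1).det ≠ 0 ∧ (G + 1).det ≠ 0 ∧ Nonempty (Coord A (std (blocks μ) (blocks ν) G)) := by
  classical
  obtain ⟨μ, c₁, B₁, e₁, hμ, hB₁, he₁⟩ := exists_split (Matrix.toLinAlgEquiv' (A - 1))
  obtain ⟨ν, c₂, B₂, e₂, hν, hB₂, he₂⟩ := exists_split (Matrix.toLinAlgEquiv' (-(B₁ + 2)))
  set G : Matrix (Fin c₂) (Fin c₂) F := -(B₂ + 1) with hG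
  have hGm : (G - 1).det ≠ 0 := by
    intro h0
    obtain ⟨w, hw, hw0⟩ := Matrix.exists_mulVec_eq_zero_iff.2 h0
    have hw2 : B₂ *ᵥ w = -(2 : F) • w := by
      rw [hG, Matrix.sub_mulVec, Matrix.neg_mulVec, Matrix.add_mulVec, Matrix.one_mulVec] at hw0
      rw [neg_smul, two_smul]
      rw [sub_eq_zero] at hw0
      calc B₂ *ᵥ w = -(-(B₂ *ᵥ w + w)) - w := by abel
        _ = _ := by rw [hw0]; abel
    obtain ⟨v, hv⟩ := e₂.surjective (0, w)
    have h1 := he₂ v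
    rw [hv, Matrix.mulVec_zero, hw2, Matrix.toLinAlgEquiv'_apply, Matrix.neg_mulVec, Matrix.add_mulVec] at h1
    have h1' : (-(B₁ *ᵥ v + (2 : F) • v)) = -(2 : F) • v := by
      apply e₂.injective
      rw [map_smul e₂, hv, Prod.smul_mk, smul_zero, ← h1]
      congr 2
      rw [show (2 : Matrix (Fin c₁) (Fin c₁) F) = (2 : F) • 1 by rw [two_smul]; norm_num, Matrix.smul_mulVec,
        Matrix.one_mulVec]
    have hB1 : B₁ *ᵥ v = 0 := by
      rw [neg_smul, neg_inj] at h1'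
      exact add_eq_right.1 h1'
    refine hB₁ (Matrix.exists_mulVec_eq_zero_iff.1 ⟨v, fun hv0 => hw ?_, hB1⟩)
    rw [hv0, map_zero] at hv
    exact (congrArg Prod.snd hv).symm
  have hGp : (G + 1).det ≠ 0 := by
    rw [hG, show -(B₂ + 1) + 1 = -B₂ by abel, det_neg]
    exact mul_ne_zero (pow_ne_zero _ (by simp)) hB₂
  let E : (ι → F) ≃ₗ[F] (((Pos (blocks μ) ⊕ Pos (blocks ν)) ⊕ Fin c₂) → F) :=
    ((e₁.trans ((LinearEquiv.refl F _).prodCongr e₂)).trans (LinearEquiv.prodAssoc F _ _ _).symm).trans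
      (((LinearEquiv.sumArrowLequivProdArrow _ _ F F).symm.prodCongr (LinearEquiv.refl F _)).trans
        (LinearEquiv.sumArrowLequivProdArrow _ _ F F).symm)
  have hE : ∀ v, E (A *ᵥ v) =
      big (jordanTypeMatrix (blocks μ) F) (-jordanTypeMatrix (blocks ν) F) G *ᵥ E v := by
    intro v
    have h1 : e₁ (A *ᵥ v) = (jordanTypeMatrix (blocks μ) F *ᵥ (e₁ v).1, (B₁ + 1) *ᵥ (e₁ v).2) := by
      have h := he₁ v
      rw [Matrix.toLinAlgEquiv'_apply, Matrix.sub_mulVec, Matrix.one_mulVec, map_sub, sub_eq_iff_eq_add] at h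
      rw [h]
      refine Prod.ext ?_ ?_
      · show (jordanTypeMatrix (blocks μ) F - 1) *ᵥ (e₁ v).1 + (e₁ v).1 = _
        rw [Matrix.sub_mulVec, Matrix.one_mulVec, sub_add_cancel]
      · show B₁ *ᵥ (e₁ v).2 + (e₁ v).2 = _
        rw [Matrix.add_mulVec, Matrix.one_mulVec]
    have h3 : ∀ w, e₂ ((B₁ + 1) *ᵥ w) =
        ((-jordanTypeMatrix (blocks ν) F) *ᵥ (e₂ w).1, G *ᵥ (e₂ w).2) := by
      intro w
      have h := he₂ w
      rw [Matrix.toLinAlgEquiv'_apply] at h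
      have e : (B₁ + 1) *ᵥ w = -((-(B₁ + 2)) *ᵥ w) - w := by
        have hh : (B₁ + 2) *ᵥ w = B₁ *ᵥ w + w + w := by
          rw [← one_add_one_eq_two, Matrix.add_mulVec, Matrix.add_mulVec, Matrix.one_mulVec]
          abel
        rw [Matrix.neg_mulVec, neg_neg, hh, Matrix.add_mulVec, Matrix.one_mulVec]
        abel
      rw [e, map_sub, map_neg, h]
      refine Prod.ext ?_ ?_
      · show -((jordanTypeMatrix (blocks ν) F - 1) *ᵥ (e₂ w).1) - (e₂ w).1 = _
        rw [Matrix.sub_mulVec, Matrix.one_mulVec, Matrix.neg_mulVec]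
        abel
      · show -(B₂ *ᵥ (e₂ w).2) - (e₂ w).2 = G *ᵥ (e₂ w).2
        rw [hG, Matrix.neg_mulVec, Matrix.add_mulVec, Matrix.one_mulVec]
        abel
    simp only [E, LinearEquiv.trans_apply, LinearEquiv.prodCongr_apply, LinearEquiv.refl_apply, h1, h3, big]
    funext i
    rcases i with (i | i) | i <;>
      simp [Matrix.fromBlocks_mulVec, LinearEquiv.prodAssoc, LinearEquiv.sumArrowLequivProdArrow,
        Equiv.sumArrowEquivProdArrow, Function.comp_def]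
  refine ⟨μ, ν, c₂, G, hμ, hν, hGm, hGp, ?_⟩
  obtain ⟨W, hW⟩ := exists_conj_cay h2 (blocks μ) (F := F)
  obtain ⟨W', hW'⟩ := exists_conj_cay h2 (blocks ν) (F := F)
  let C : Coord A (big (jordanTypeMatrix (blocks μ) F) (-jordanTypeMatrix (blocks ν) F) G) :=
    { T := LinearMap.toMatrix' E.symm.toLinearMap
      T' := LinearMap.toMatrix' E.toLinearMap
      hTT' := by rw [← LinearMap.toMatrix'_comp, LinearEquiv.symm_comp, LinearMap.toMatrix'_id]
      hT'T := by rw [← LinearMap.toMatrix'_comp, LinearEquiv.comp_symm, LinearMap.toMatrix'_id]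
      hG := by
        refine Matrix.ext_iff_mulVec.2 fun w => ?_
        rw [← Matrix.mulVec_mulVec, ← Matrix.mulVec_mulVec, LinearMap.toMatrix'_mulVec, LinearMap.toMatrix'_mulVec]
        obtain ⟨v, rfl⟩ := E.surjective w
        show A *ᵥ E.symm (E v) = E.symm _
        rw [E.symm_apply_apply, ← hE, E.symm_apply_apply] }
  let U : (Matrix ((Pos (blocks μ) ⊕ Pos (blocks ν)) ⊕ Fin c₂) ((Pos (blocks μ) ⊕ Pos (blocks ν)) ⊕ Fin c₂) F)ˣ :=
    ⟨big (W : Matrix (Pos (blocks μ)) (Pos (blocks μ)) F) (W' : Matrix (Pos (blocks ν)) (Pos (blocks ν)) F) 1,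
      big (↑W⁻¹ : Matrix (Pos (blocks μ)) (Pos (blocks μ)) F) (↑W'⁻¹ : Matrix (Pos (blocks ν)) (Pos (blocks ν)) F) 1,
      by rw [big_mul, Units.mul_inv, Units.mul_inv, Matrix.one_mul, big_one],
      by rw [big_mul, Units.inv_mul, Units.inv_mul, Matrix.one_mul, big_one]⟩
  refine ⟨Coord.conj' C U ?_⟩
  show big (W : Matrix (Pos (blocks μ)) (Pos (blocks μ)) F) (W' : Matrix (Pos (blocks ν)) (Pos (blocks ν)) F) 1 * std _ _ _ = _ * big (W : Matrix (Pos (blocks μ)) (Pos (blocks μ)) F) (W' : Matrix (Pos (blocks ν)) (Pos (blocks ν)) F) 1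
  rw [std, big_mul, big_mul, hW, Matrix.mul_neg, hW', Matrix.neg_mul, Matrix.one_mul, Matrix.mul_one]

/-- An invariant symmetric form is block diagonal. -/
theorem form_blocks (h2 : (2 : F) ≠ 0) {t s c : ℕ} {d : Fin t → ℕ} {d' : Fin s → ℕ} {G : Matrix (Fin c) (Fin c) F}
    (hm : (G - 1).det ≠ 0) (hp : (G + 1).det ≠ 0)
    {Y : Matrix ((Pos d ⊕ Pos d') ⊕ Fin c) ((Pos d ⊕ Pos d') ⊕ Fin c) F} (hY : Yᵀ = Y) (hYd : Y.det ≠ 0)
    (hinv : (std d d' G)ᵀ * Y * std d d' G = Y) :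
    ∃ (Yp : Matrix (Pos d) (Pos d) F) (Ym : Matrix (Pos d') (Pos d') F) (Y₀ : Matrix (Fin c) (Fin c) F),
      Y = big Yp Ym Y₀ ∧ IsSymForm d Yp ∧ IsSymForm d' Ym ∧ Y₀ᵀ = Y₀ ∧ Y₀.det ≠ 0 ∧ Gᵀ * Y₀ * G = Y₀ := by
  obtain ⟨P, Q, R, T, rfl⟩ : ∃ P Q R T, Y = fromBlocks P Q R T :=
    ⟨_, _, _, _, (fromBlocks_toBlocks Y).symm⟩
  obtain ⟨P₁, P₂, P₃, P₄, rfl⟩ : ∃ P₁ P₂ P₃ P₄, P = fromBlocks P₁ P₂ P₃ P₄ :=
    ⟨_, _, _, _, (fromBlocks_toBlocks P).symm⟩
  obtain ⟨Q₁, Q₂, rfl⟩ : ∃ (Q₁ : Matrix (Pos d) (Fin c) F) (Q₂ : Matrix (Pos d') (Fin c) F), Q = fromRows Q₁ Q₂ :=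
    ⟨_, _, (fromRows_toRows Q).symm⟩
  rw [std, big, fromBlocks_transpose, fromBlocks_transpose, fromBlocks_multiply, fromBlocks_multiply] at hinv
  simp only [transpose_zero, Matrix.zero_mul, Matrix.mul_zero, add_zero, zero_add, fromBlocks_multiply,
    fromBlocks_mul_fromRows, fromBlocks_inj] at hinv
  obtain ⟨⟨h11, h12, h21, h22⟩, h13, -, h33⟩ := hinv
  rw [fromRows_mul] at h13
  replace h13 := fromRows_inj h13
  have hP2 : P₂ = 0 := eq_zero_of_invariant (isNilpotent_cay_sub_one h2 d) (isUnit_det_neg_cay_sub_one h2 d') h12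
  have hQ1 : Q₁ = 0 := eq_zero_of_invariant (isNilpotent_cay_sub_one h2 d) (isUnit_iff_ne_zero.2 hm) h13.1
  have hQ2 : Q₂ = 0 := by
    refine eq_zero_of_invariant (A₂ := -G) (isNilpotent_cay_sub_one h2 d') ?_ ?_
    · rw [show -G - 1 = -(G + 1) by abel, det_neg]
      exact isUnit_iff_ne_zero.2 (mul_ne_zero (pow_ne_zero _ (by simp)) hp)
    · have := h13.2
      rw [transpose_neg, Matrix.neg_mul, Matrix.neg_mul] at this
      rwa [Matrix.mul_neg]
  rw [fromBlocks_transpose, fromBlocks_transpose, fromBlocks_inj, fromBlocks_inj] at hY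
  obtain ⟨⟨hY1, hY2, hY3, hY4⟩, hY5, hY6, hY7⟩ := hY
  have hP3 : P₃ = 0 := by
    have := congrArg transpose hY2
    rw [transpose_transpose, hP2, transpose_zero] at this
    exact this
  have hR : R = 0 := by
    have := congrArg transpose hY5
    rw [transpose_transpose, hQ1, hQ2, fromRows_zero, transpose_zero] at this
    exact this
  subst hP2 hP3 hQ1 hQ2 hR
  rw [fromRows_zero] at hYd ⊢
  rw [show fromBlocks (fromBlocks P₁ 0 0 P₄) 0 0 T = big P₁ P₄ T from rfl] at hYd ⊢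
  rw [big_det] at hYd
  obtain ⟨⟨hd1, hd4⟩, hdS⟩ : (P₁.det ≠ 0 ∧ P₄.det ≠ 0) ∧ T.det ≠ 0 := by
    rw [mul_ne_zero_iff, mul_ne_zero_iff] at hYd; exact hYd
  exact ⟨P₁, P₄, T, rfl, ⟨hY1, hd1, (cay_invariant_iff d h2 _).1 h11⟩,
    ⟨hY4, hd4, (cay_invariant_iff d' h2 _).1 (by simpa using h22)⟩, hY7, hdS, h33⟩

/-- Without eigenvalues `1` and `-1`, all invariant forms are congruent under the centraliser. -/
theorem exists_congr_noUnit' [Fintype F] (h2 : (2 : F) ≠ 0) {G Y Y' : Matrix κ κ F} (hm : (G - 1).det ≠ 0)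
    (hp : (G + 1).det ≠ 0) (hY : Yᵀ = Y) (hYd : Y.det ≠ 0) (hG : Gᵀ * Y * G = Y) (hY' : Y'ᵀ = Y')
    (hY'd : Y'.det ≠ 0) (hG' : Gᵀ * Y' * G = Y') :
    ∃ c, c * G = G * c ∧ c.det ≠ 0 ∧ cᵀ * Y * c = Y' := by
  have hGu : IsUnit G.det := isUnit_iff_ne_zero.2 fun h0 => hYd (by rw [← hG, det_mul, h0, mul_zero])
  set z := G - G⁻¹ with hz
  have hzu : IsUnit z.det := by
    have e : z = G⁻¹ * ((G - 1) * (G + 1)) := by
      rw [hz, sub_mul, Matrix.one_mul, mul_add, Matrix.mul_one, mul_sub, mul_add, Matrix.nonsing_inv_mul _ hGu,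
        ← Matrix.mul_assoc, Matrix.nonsing_inv_mul _ hGu, Matrix.one_mul, mul_add, Matrix.mul_one,
        Matrix.nonsing_inv_mul _ hGu]
      abel
    rw [e, det_mul, det_mul]
    exact (Matrix.isUnit_nonsing_inv_det _ hGu).mul
      ((isUnit_iff_ne_zero.2 hm).mul (isUnit_iff_ne_zero.2 hp))
  have hcomm : G⁻¹ * G = G * G⁻¹ := by rw [Matrix.nonsing_inv_mul _ hGu, Matrix.mul_nonsing_inv _ hGu]
  have skew : ∀ Z : Matrix κ κ F, Zᵀ = Z → Gᵀ * Z * G = Z →
      (Z * z)ᵀ = -(Z * z) ∧ Gᵀ * (Z * z) * G = Z * z := by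
    intro Z hZ hZG
    have h1 : Gᵀ * Z = Z * G⁻¹ := by
      calc Gᵀ * Z = Gᵀ * Z * G * G⁻¹ := by rw [Matrix.mul_assoc _ G, Matrix.mul_nonsing_inv _ hGu, Matrix.mul_one]
        _ = Z * G⁻¹ := by rw [hZG]
    have h3 : G⁻¹ᵀ * Z = Z * G := by
      calc G⁻¹ᵀ * Z = G⁻¹ᵀ * (Gᵀ * Z * G) := by rw [hZG]
        _ = (G * G⁻¹)ᵀ * Z * G := by rw [transpose_mul]; simp only [Matrix.mul_assoc]
        _ = Z * G := by rw [Matrix.mul_nonsing_inv _ hGu, transpose_one, Matrix.one_mul]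
    refine ⟨?_, ?_⟩
    · rw [hz, transpose_mul, transpose_sub, hZ, Matrix.sub_mul, h1, h3, mul_sub, neg_sub]
    · have hzG : z * G = G * z := by rw [hz, sub_mul, mul_sub, hcomm]
      calc Gᵀ * (Z * z) * G = Gᵀ * Z * (z * G) := by simp only [Matrix.mul_assoc]
        _ = Gᵀ * Z * G * z := by rw [hzG]; simp only [Matrix.mul_assoc]
        _ = Z * z := by rw [hZG]
  obtain ⟨a1, a2⟩ := skew Y hY hG
  obtain ⟨b1, b2⟩ := skew Y' hY' hG'
  obtain ⟨c, hc, hcz⟩ := Cfsg.Agent.UnipForms.SympDecomp.exists_congr_noUnit h2 hm hp a1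
    (by rw [det_mul]; exact mul_ne_zero hYd hzu.ne_zero) a2 b1
    (by rw [det_mul]; exact mul_ne_zero hY'd hzu.ne_zero) b2
  have hci : c * G⁻¹ = G⁻¹ * c := by
    calc c * G⁻¹ = G⁻¹ * (G * c) * G⁻¹ := by rw [← Matrix.mul_assoc, Matrix.nonsing_inv_mul _ hGu, Matrix.one_mul]
      _ = G⁻¹ * c := by rw [← hc, Matrix.mul_assoc, Matrix.mul_assoc, Matrix.mul_nonsing_inv _ hGu, Matrix.mul_one]
  have hzc : z * c = c * z := by rw [hz, sub_mul, mul_sub, ← hc, hci]
  have heq : cᵀ * Y * c = Y' := by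
    have h3 : cᵀ * Y * c * z = Y' * z := by
      calc cᵀ * Y * c * z = cᵀ * Y * (z * c) := by rw [hzc, Matrix.mul_assoc]
        _ = Y' * z := by rw [← hcz]; simp only [Matrix.mul_assoc]
    have h4 := congrArg (fun X => X * z⁻¹) h3
    simpa only [Matrix.mul_assoc, Matrix.mul_nonsing_inv _ hzu, Matrix.mul_one] using h4
  refine ⟨c, hc, fun h0 => hY'd ?_, heq⟩
  rw [← heq, det_mul, h0, mul_zero]

end Cfsg.Agent.GL.OrthData
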