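/-
Classes of `Sp_{2m}(q)`, `q` odd, inject into weighted self-reciprocal class data.
-/
import Cfsg.Agent.Lib.GL.SpData
import Cfsg.Agent.Lib.UnipForms.SympDecomp

set_option autoImplicit false
set_option linter.unusedSectionVars false

open Polynomial
open scoped Classical Matrix

namespace Cfsg.Agent.GL.SpClassBound

open Cfsg.Agent.GL.ClassNumber Cfsg.Agent.GL.ClassData Cfsg.Agent.UnipCentralizer
open Cfsg.Agent.UnipCentralizer.Leading Cfsg.Agent.UnipForms.SympUnipotent Cfsg.Agent.UnipForms.SympDecomp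

universe u

variable {F : Type u} [Field F]

/-- Monic self-reciprocal polynomials, of either sign. -/
def SDual (P : F[X]) : Prop := P.Monic ∧ P.reverse = C (P.coeff 0) * P

theorem SDual.coeff_zero_sq {P : F[X]} (h : SDual P) : P.coeff 0 * P.coeff 0 = 1 := by
  have e := congrArg (fun R => coeff R 0) h.2
  simp only [coeff_zero_reverse, h.1.leadingCoeff, coeff_C_mul] at e
  exact e.symm

theorem SDual.coeff_zero_cases {P : F[X]} (h : SDual P) : P.coeff 0 = 1 ∨ P.coeff 0 = -1 :=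
  mul_self_eq_one_iff.1 h.coeff_zero_sq

theorem SDual.coeff_zero_ne {P : F[X]} (h : SDual P) : P.coeff 0 ≠ 0 :=
  left_ne_zero_of_mul_eq_one h.coeff_zero_sq

theorem SDual.coeff_sub {P : F[X]} (h : SDual P) {i : ℕ} (hi : i ≤ P.natDegree) :
    P.coeff (P.natDegree - i) = P.coeff 0 * P.coeff i := by
  have e := congrArg (fun R => coeff R i) h.2
  simp only [coeff_reverse, revAt_le hi, coeff_C_mul] at e
  exact e

theorem sdual_one : SDual (1 : F[X]) := ⟨monic_one, by
  rw [show (1 : F[X]) = C 1 from C_1.symm, reverse_C]; simp⟩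

theorem SDual.mul {P Q : F[X]} (hP : SDual P) (hQ : SDual Q) : SDual (P * Q) :=
  ⟨hP.1.mul hQ.1, by rw [reverse_mul_of_domain, hP.2, hQ.2, mul_coeff_zero, C_mul]; ring⟩

theorem SDual.pow {P : F[X]} (hP : SDual P) : ∀ k : ℕ, SDual (P ^ k)
  | 0 => by rw [pow_zero]; exact sdual_one
  | k + 1 => by rw [pow_succ]; exact (hP.pow k).mul hP

theorem sdual_linear {r : F} (hr : r * r = 1) : SDual (X - C r) := by
  refine ⟨monic_X_sub_C r, ?_⟩
  ext i
  rw [coeff_reverse, natDegree_X_sub_C, coeff_C_mul, coeff_sub, coeff_sub, coeff_sub, coeff_X_zero, coeff_C_zero,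
    zero_sub]
  rcases i with _ | _ | i
  · rw [revAt_le zero_le_one, Nat.sub_zero, coeff_X_one, coeff_X_zero, coeff_C_zero,
      coeff_C_ne_zero (n := 1) one_ne_zero]
    linear_combination -hr
  · rw [revAt_le le_rfl, Nat.sub_self, coeff_X_one, coeff_X_zero, coeff_C_zero,
      coeff_C_ne_zero (n := 1) one_ne_zero]
    ring
  · rw [revAt_eq_self_of_lt (by omega), coeff_X_of_ne_one (by omega), coeff_C_ne_zero (by omega)]
    ring

theorem SDual.of_mul {P Q : F[X]} (hP : SDual P) (h : SDual (P * Q)) (hQ : Q.Monic) : SDual Q := by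
  refine ⟨hQ, ?_⟩
  have e := h.2
  rw [reverse_mul_of_domain, hP.2, mul_coeff_zero, C_mul] at e
  refine mul_left_cancel₀ (mul_ne_zero (C_ne_zero.2 hP.coeff_zero_ne) hP.1.ne_zero) (e.trans ?_)
  ring

theorem SDual.eval_one {P : F[X]} (h : SDual P) (h1 : P.eval 1 ≠ 0) : P.coeff 0 = 1 := by
  have e := congrArg (fun R => aeval (1 : F) R) h.2
  simp only [UnitaryData.aeval_reverse (a := (1 : F)) (b := 1) (mul_one 1), map_mul, aeval_C, one_pow, one_mul,
    Algebra.algebraMap_self, RingHom.id_apply, coe_aeval_eq_eval] at e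
  exact (mul_eq_right₀ h1).1 e.symm

theorem SDual.even_natDegree {P : F[X]} (h : SDual P) (h2 : (2 : F) ≠ 0) (h1 : P.eval 1 ≠ 0)
    (hm : P.eval (-1) ≠ 0) : Even P.natDegree := by
  have e := congrArg (fun R => aeval (-1 : F) R) h.2
  simp only [UnitaryData.aeval_reverse (a := (-1 : F)) (b := -1) (by norm_num), map_mul, aeval_C, h.eval_one h1,
    Algebra.algebraMap_self, RingHom.id_apply, coe_aeval_eq_eval, one_mul] at e
  rcases Nat.even_or_odd P.natDegree with hd | hd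
  · exact hd
  · rw [hd.neg_one_pow] at e
    have : (2 : F) * P.eval (-1) = 0 := by linear_combination -e
    exact absurd this (mul_ne_zero h2 hm)

/-- Admissible entries for blocks of size `i`. -/
def Good (i : ℕ) (x : F[X] × (Bool × Bool)) : Prop :=
  SDual x.1 ∧ (Odd i → Even x.1.natDegree ∧ x.1.coeff 0 = 1 ∧ x.2 = (false, false)) ∧
    (x.2.1 = true → x.1.eval 1 = 0) ∧ (x.2.2 = true → x.1.eval (-1) = 0)

/-- Weighted data of total degree `n`. -/
def WS (F : Type u) [Field F] (M n : ℕ) : Type u :=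
  {f : Fin M → F[X] × (Bool × Bool) //
    (∀ e : Fin M, Good ((e : ℕ) + 1) (f e)) ∧ ∑ e : Fin M, ((e : ℕ) + 1) * (f e).1.natDegree = n}

theorem sum_count (μ : Multiset ℕ) (N : ℕ) (h : ∀ a ∈ μ, 0 < a ∧ a ≤ N) :
    ∑ e : Fin N, ((e : ℕ) + 1) * μ.count ((e : ℕ) + 1) = μ.sum := by
  induction μ using Multiset.induction with
  | empty => simp
  | cons a μ ih =>
    have ha := h a (Multiset.mem_cons_self a μ)
    rw [Multiset.sum_cons, ← ih fun b hb => h b (Multiset.mem_cons_of_mem hb)]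
    simp only [Multiset.count_cons, mul_add, Finset.sum_add_distrib]
    rw [add_comm a]
    congr 1
    rw [Finset.sum_eq_single (⟨a - 1, by omega⟩ : Fin N)]
    · rw [if_pos (show (a - 1) + 1 = a by omega), mul_one]; show a - 1 + 1 = a; omega
    · intro b _ hb
      rw [if_neg (fun e => hb (Fin.ext (show (b : ℕ) = a - 1 by omega))), mul_zero]
    · simp

variable {m : ℕ}

/-- The data of an element. -/
structure Datum (g : Matrix.symplecticGroup (Fin m) F) where
  μ : Multiset ℕ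
  ν : Multiset ℕ
  c : ℕ
  G : Matrix (Fin c) (Fin c) F
  r : Seq F c c
  hμ : ∀ a ∈ μ, 0 < a
  hν : ∀ a ∈ ν, 0 < a
  hm : (G - 1).det ≠ 0
  hp : (G + 1).det ≠ 0
  hr : FitsM G r
  co : Coords g (std (blocks μ) (blocks ν) G)
  Yp : Matrix (Pos (blocks μ)) (Pos (blocks μ)) F
  Ym : Matrix (Pos (blocks ν)) (Pos (blocks ν)) F
  Y₀ : Matrix (Fin c) (Fin c) F
  hform : co.form = big Yp Ym Y₀
  hYp : IsForm (blocks μ) Yp
  hYm : IsForm (blocks ν) Ym
  hY₀ : Y₀ᵀ = -Y₀
  hY₀d : Y₀.det ≠ 0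
  hG : Gᵀ * Y₀ * G = Y₀

theorem exists_datum (h2 : (2 : F) ≠ 0) (g : Matrix.symplecticGroup (Fin m) F) : Nonempty (Datum g) := by
  obtain ⟨μ, ν, c, G, hμ, hν, hm, hp, ⟨C⟩⟩ := exists_decomp h2 g
  obtain ⟨Yp, Ym, Y₀, hform, hYp, hYm, hY₀, hY₀d, hG⟩ :=
    form_blocks h2 hm hp C.form_transpose C.form_det C.form_inv
  have hu := SpData.isUnit_det (A := G) ⟨hY₀d, hG⟩
  obtain ⟨r, hr⟩ := exists_fits (f := Matrix.toLin' G) fun v => ⟨Matrix.toLin' G⁻¹ v, by
    rw [← Matrix.toLin'_mul_apply, Matrix.mul_nonsing_inv _ hu, Matrix.toLin'_one]; rfl⟩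
  exact ⟨⟨μ, ν, c, G, r, hμ, hν, hm, hp, hr, C, Yp, Ym, Y₀, hform, hYp, hYm, hY₀, hY₀d, hG⟩⟩

variable {g : Matrix.symplecticGroup (Fin m) F}

theorem Datum.sum_eq (D : Datum g) : D.μ.sum + D.ν.sum + D.c = 2 * m := by
  have h := D.co.card_eq
  simp only [Fintype.card_sum, Fintype.card_sigma, Fintype.card_fin, sum_blocks] at h
  omega

/-- The part of the data without eigenvalues `1` and `-1`. -/
noncomputable def Datum.rest (D : Datum g) (e : ℕ) : F[X] := if h : e < D.c then D.r.1 ⟨e, h⟩ else 1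

theorem Datum.rest_spec (D : Datum g) (h2 : (2 : F) ≠ 0) (e : ℕ) :
    SDual (D.rest e) ∧ (D.rest e).eval 1 ≠ 0 ∧ (D.rest e).eval (-1) ≠ 0 ∧ (D.rest e).coeff 0 = 1 ∧
      Even (D.rest e).natDegree := by
  by_cases h : e < D.c
  · rw [Datum.rest, dif_pos h]
    obtain ⟨hm, h0⟩ := D.r.2.1 ⟨e, h⟩
    have hd := SpData.rdual_data (⟨D.hY₀d, D.hG⟩ : D.Y₀.det ≠ 0 ∧ D.Gᵀ * D.Y₀ * D.G = D.Y₀) D.hr ⟨e, h⟩
    have hs : SDual (D.r.1 ⟨e, h⟩) := ⟨hm, by
      conv_rhs => arg 2; rw [← hd]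
      rw [SpData.rdual, ← mul_assoc, ← C_mul, mul_inv_cancel₀ h0, C_1, one_mul]⟩
    have key : ∀ s : F, (D.G - s • 1).det ≠ 0 → (D.r.1 ⟨e, h⟩).eval s ≠ 0 := by
      intro s hs hev
      obtain ⟨κ, _, P, k, hP, hk, hg, ⟨ψ⟩⟩ := D.hr
      rw [← hg ⟨e, h⟩, eval_prod, Finset.prod_eq_zero_iff] at hev
      obtain ⟨i, -, hi⟩ := hev
      have hPi : P i = X - C s := by
        refine (eq_of_monic_of_associated (monic_X_sub_C s) (hP i).1 ?_).symm
        exact (irreducible_X_sub_C s).associated_of_dvd (hP i).2 (dvd_iff_isRoot.2 hi)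
      -- an eigenvector for `s`
      obtain ⟨v, hv⟩ := (Module.AEval'.of (Matrix.toLin' D.G)).surjective
        (ψ.symm (Pi.single i (Submodule.Quotient.mk ((X - C s) ^ (k i - 1)))))
      refine hs (Matrix.exists_mulVec_eq_zero_iff.1 ⟨v, ?_, ?_⟩)
      · intro hv0
        rw [hv0, map_zero, eq_comm, LinearEquiv.map_eq_zero_iff, Pi.single_eq_zero_iff,
          Submodule.Quotient.mk_eq_zero, Submodule.mem_span_singleton] at hv
        obtain ⟨a, ha⟩ := hv
        rw [smul_eq_mul, hPi, ← Nat.sub_add_cancel (hk i).1, pow_succ, ← mul_assoc, Nat.add_sub_cancel] at ha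
        have hne : ((X - C s) ^ (k i - 1)) ≠ 0 := pow_ne_zero _ (X_sub_C_ne_zero s)
        have : (a * (X - C s)) = 1 := mul_left_cancel₀ hne (by linear_combination ha)
        exact (irreducible_X_sub_C s).not_isUnit (IsUnit.of_mul_eq_one_right _ this)
      · refine (Module.AEval'.of (Matrix.toLin' D.G)).injective ?_
        have e2 : (D.G - s • 1) *ᵥ v = Matrix.toLin' D.G v - s • v := by
          rw [Matrix.sub_mulVec, Matrix.smul_mulVec, Matrix.one_mulVec]; rfl
        rw [e2, map_sub, map_smul, map_zero, ← Module.AEval'.X_smul_of, hv, ← algebraMap_smul F[X] s, ← sub_smul,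
          ← map_smul, LinearEquiv.map_eq_zero_iff, ← Pi.single_smul, Pi.single_eq_zero_iff,
          ← Submodule.Quotient.mk_smul, Submodule.Quotient.mk_eq_zero, Submodule.mem_span_singleton]
        refine ⟨1, ?_⟩
        rw [one_smul, smul_eq_mul, hPi, show algebraMap F F[X] s = C s from rfl, ← pow_succ', Nat.sub_add_cancel (hk i).1]
    have e1 := key 1 (by rw [one_smul]; exact D.hm)
    have e2 := key (-1) (by rw [neg_one_smul, sub_neg_eq_add]; exact D.hp)
    exact ⟨hs, e1, e2, hs.eval_one e1, hs.even_natDegree h2 e1 e2⟩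
  · rw [Datum.rest, dif_neg h]
    exact ⟨sdual_one, by simp, by simp, by simp, by simp⟩

theorem Datum.sum_rest (D : Datum g) :
    ∑ e : Fin (2 * m), ((e : ℕ) + 1) * (D.rest (e : ℕ)).natDegree = D.c := by
  have hc : D.c ≤ 2 * m := by have := D.sum_eq; omega
  rw [Fin.sum_univ_eq_sum_range (fun e => (e + 1) * (D.rest e).natDegree),
    ← Finset.sum_subset (Finset.range_subset_range.2 hc) (fun e _ he => ?_),
    ← Fin.sum_univ_eq_sum_range (fun e => (e + 1) * (D.rest e).natDegree)]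
  · conv_rhs => rw [← D.r.2.2]
    exact Finset.sum_congr rfl fun e _ => by rw [Datum.rest, dif_pos e.2]
  · rw [Finset.mem_range] at he
    rw [Datum.rest, dif_neg he, natDegree_one, mul_zero]

/-- The polynomial entry of size `e + 1`. -/
noncomputable def Datum.poly (D : Datum g) (e : ℕ) : F[X] :=
  (X - C 1) ^ D.μ.count (e + 1) * ((X - C (-1)) ^ D.ν.count (e + 1) * D.rest e)

/-- The two bits of size `e + 1`. -/
noncomputable def Datum.bits (D : Datum g) (e : ℕ) : Bool × Bool :=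
  (decide (Even (e + 1) ∧ e + 1 ∈ D.μ ∧
      IsSquare (leadForm _ (one_le_blocks D.hμ) D.Yp (e + 1)).det),
    decide (Even (e + 1) ∧ e + 1 ∈ D.ν ∧
      IsSquare (leadForm _ (one_le_blocks D.hν) D.Ym (e + 1)).det))

theorem Datum.poly_monic (D : Datum g) (h2 : (2 : F) ≠ 0) (e : ℕ) :
    ((X - C (1 : F)) ^ D.μ.count (e + 1)).Monic ∧ ((X - C (-1 : F)) ^ D.ν.count (e + 1)).Monic ∧ (D.rest e).Monic :=
  ⟨(monic_X_sub_C _).pow _, (monic_X_sub_C _).pow _, (D.rest_spec h2 e).1.1⟩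

theorem Datum.natDegree_poly (D : Datum g) (h2 : (2 : F) ≠ 0) (e : ℕ) :
    (D.poly e).natDegree = D.μ.count (e + 1) + D.ν.count (e + 1) + (D.rest e).natDegree := by
  obtain ⟨h1, h3, h4⟩ := D.poly_monic h2 e
  rw [Datum.poly, h1.natDegree_mul (h3.mul h4), h3.natDegree_mul h4, natDegree_pow, natDegree_pow,
    natDegree_X_sub_C, natDegree_X_sub_C, mul_one, mul_one, add_assoc]

theorem Datum.good (D : Datum g) (h2 : (2 : F) ≠ 0) (e : ℕ) : Good (e + 1) (D.poly e, D.bits e) := by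
  obtain ⟨hs, -, -, hr0, hre⟩ := D.rest_spec h2 e
  refine ⟨((sdual_linear (by norm_num)).pow _).mul (((sdual_linear (by norm_num)).pow _).mul hs), ?_, ?_, ?_⟩
  · intro ho
    have hμe : Even (D.μ.count (e + 1)) := by
      rw [← card_blk_blocks]; exact even_card_blk _ (one_le_blocks D.hμ) h2 D.hYp ho
    have hνe : Even (D.ν.count (e + 1)) := by
      rw [← card_blk_blocks]; exact even_card_blk _ (one_le_blocks D.hν) h2 D.hYm ho
    refine ⟨?_, ?_, ?_⟩
    · rw [D.natDegree_poly h2]; exact (hμe.add hνe).add hre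
    · show (D.poly e).coeff 0 = 1
      rw [Datum.poly, mul_coeff_zero, mul_coeff_zero, coeff_zero_eq_eval_zero, coeff_zero_eq_eval_zero (_ ^ _),
        eval_pow, eval_pow, eval_sub, eval_sub, eval_X, eval_C, eval_C, hr0, zero_sub, zero_sub, neg_neg, one_pow,
        hμe.neg_one_pow]
      ring
    · show D.bits e = (false, false)
      simp only [Datum.bits, Prod.mk.injEq, decide_eq_false_iff_not]
      exact ⟨fun h => Nat.not_even_iff_odd.2 ho h.1, fun h => Nat.not_even_iff_odd.2 ho h.1⟩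
  · intro hb
    simp only [Datum.bits, decide_eq_true_eq] at hb
    show (D.poly e).eval 1 = 0
    rw [Datum.poly, eval_mul, eval_pow, eval_sub, eval_X, eval_C, sub_self,
      zero_pow (Multiset.count_ne_zero.2 hb.2.1), zero_mul]
  · intro hb
    simp only [Datum.bits, decide_eq_true_eq] at hb
    show (D.poly e).eval (-1) = 0
    rw [Datum.poly, eval_mul, eval_mul, eval_pow (p := X - C (-1 : F)), eval_sub, eval_X, eval_C, sub_self,
      zero_pow (Multiset.count_ne_zero.2 hb.2.1), zero_mul, mul_zero]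

/-- The weighted data of an element. -/
noncomputable def Datum.key (D : Datum g) (h2 : (2 : F) ≠ 0) : WS F (2 * m) (2 * m) :=
  ⟨fun e => (D.poly (e : ℕ), D.bits (e : ℕ)), fun e => D.good h2 e, by
    simp only [D.natDegree_poly h2, mul_add, Finset.sum_add_distrib]
    rw [sum_count, sum_count, D.sum_rest]
    · exact D.sum_eq
    · exact fun a ha => ⟨D.hν a ha, (Multiset.le_sum_of_mem ha).trans (by have := D.sum_eq; omega)⟩
    · exact fun a ha => ⟨D.hμ a ha, (Multiset.le_sum_of_mem ha).trans (by have := D.sum_eq; omega)⟩⟩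

theorem Datum.rootMultiplicity (D : Datum g) (h2 : (2 : F) ≠ 0) (e : ℕ) :
    (D.poly e).rootMultiplicity 1 = D.μ.count (e + 1) ∧
      (D.poly e).rootMultiplicity (-1) = D.ν.count (e + 1) := by
  obtain ⟨h1, h3, h4⟩ := D.poly_monic h2 e
  obtain ⟨-, hv1, hvm, -, -⟩ := D.rest_spec h2 e
  have hne : (X - C 1) ^ D.μ.count (e + 1) * ((X - C (-1)) ^ D.ν.count (e + 1) * D.rest e) ≠ 0 :=
    (h1.mul (h3.mul h4)).ne_zero
  have hne' : (X - C (-1)) ^ D.ν.count (e + 1) * D.rest e ≠ 0 := (h3.mul h4).ne_zero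
  have h11 : (1 : F) ≠ -1 := fun h => h2 (by linear_combination h)
  constructor
  · rw [Datum.poly, rootMultiplicity_mul hne, rootMultiplicity_mul hne', rootMultiplicity_X_sub_C_pow,
      rootMultiplicity_eq_zero (by rw [IsRoot.def, eval_pow, eval_sub, eval_X, eval_C]; exact pow_ne_zero _ (sub_ne_zero.2 h11)),
      rootMultiplicity_eq_zero (show ¬ (D.rest e).IsRoot 1 from hv1), add_zero, add_zero]
  · rw [Datum.poly, rootMultiplicity_mul hne, rootMultiplicity_mul hne', rootMultiplicity_X_sub_C_pow,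
      rootMultiplicity_eq_zero (by rw [IsRoot.def, eval_pow, eval_sub, eval_X, eval_C]; exact pow_ne_zero _ (sub_ne_zero.2 h11.symm)),
      rootMultiplicity_eq_zero (show ¬ (D.rest e).IsRoot (-1) from hvm), add_zero, zero_add]

theorem eq_of_count {N : ℕ} {μ μ' : Multiset ℕ} (h : ∀ a ∈ μ, 0 < a ∧ a ≤ N) (h' : ∀ a ∈ μ', 0 < a ∧ a ≤ N)
    (hc : ∀ e : Fin N, μ.count ((e : ℕ) + 1) = μ'.count ((e : ℕ) + 1)) : μ = μ' := by
  refine Multiset.ext.2 fun a => ?_
  by_cases ha : 0 < a ∧ a ≤ N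
  · have := hc ⟨a - 1, by omega⟩
    rwa [show ((⟨a - 1, by omega⟩ : Fin N) : ℕ) + 1 = a by show a - 1 + 1 = a; omega] at this
  · rw [Multiset.count_eq_zero_of_notMem fun hm => ha (h a hm),
      Multiset.count_eq_zero_of_notMem fun hm => ha (h' a hm)]

/-- Elements with the same data are conjugate. -/
theorem isConj_of_key_eq [Fintype F] (p : ℕ) [Fact p.Prime] [CharP F p] (hp2 : p ≠ 2) (h2 : (2 : F) ≠ 0)
    {h : Matrix.symplecticGroup (Fin m) F} (D : Datum g) (D' : Datum h) (hk : D.key h2 = D'.key h2) :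
    IsConj g h := by
  have hf : ∀ e : Fin (2 * m), D.poly e = D'.poly e ∧ D.bits e = D'.bits e := fun e => by
    have := congrFun (congrArg Subtype.val hk) e
    exact ⟨congrArg Prod.fst this, congrArg Prod.snd this⟩
  have hsum := D.sum_eq
  have hsum' := D'.sum_eq
  have hμμ : D.μ = D'.μ := eq_of_count (N := 2 * m)
    (fun a ha => ⟨D.hμ a ha, (Multiset.le_sum_of_mem ha).trans (by omega)⟩)
    (fun a ha => ⟨D'.hμ a ha, (Multiset.le_sum_of_mem ha).trans (by omega)⟩)
    fun e => by rw [← (D.rootMultiplicity h2 e).1, (hf e).1, (D'.rootMultiplicity h2 e).1]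
  have hνν : D.ν = D'.ν := eq_of_count (N := 2 * m)
    (fun a ha => ⟨D.hν a ha, (Multiset.le_sum_of_mem ha).trans (by omega)⟩)
    (fun a ha => ⟨D'.hν a ha, (Multiset.le_sum_of_mem ha).trans (by omega)⟩)
    fun e => by rw [← (D.rootMultiplicity h2 e).2, (hf e).1, (D'.rootMultiplicity h2 e).2]
  have hrest : ∀ e : Fin (2 * m), D.rest e = D'.rest e := fun e => by
    have := (hf e).1
    rw [Datum.poly, Datum.poly, hμμ, hνν] at this
    exact mul_left_cancel₀ (pow_ne_zero _ (X_sub_C_ne_zero _)) (mul_left_cancel₀ (pow_ne_zero _ (X_sub_C_ne_zero _)) this)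
  obtain ⟨μ, ν, c, G, r, hμ, hν, hm, hp, hr, C, Yp, Ym, Y₀, hform, hYp, hYm, hY₀, hY₀d, hG⟩ := D
  obtain ⟨μ', ν', c', G', r', hμ', hν', hm', hp', hr', C', Yp', Ym', Y₀', hform', hYp', hYm', hY₀', hY₀'d, hG'⟩ := D'
  dsimp only at hμμ hνν hsum hsum'
  subst hμμ hνν
  obtain rfl : c = c' := by omega
  obtain rfl : r = r' := Subtype.ext (funext fun e => by
    have := hrest ⟨e, by omega⟩
    simp only [Datum.rest, e.2, dif_pos, Fin.eta] at this
    exact this)
  have hu := isUnit_iff_ne_zero.1 (SpData.isUnit_det (A := G) ⟨hY₀d, hG⟩)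
  have hu' := isUnit_iff_ne_zero.1 (SpData.isUnit_det (A := G') ⟨hY₀'d, hG'⟩)
  obtain ⟨U, hU⟩ := isConj_of_fits (Matrix.GeneralLinearGroup.mkOfDetNeZero G hu)
    (Matrix.GeneralLinearGroup.mkOfDetNeZero G' hu') r hr hr'
  have hU' : (U : GL (Fin c) F) * Matrix.GeneralLinearGroup.mkOfDetNeZero G hu =
      Matrix.GeneralLinearGroup.mkOfDetNeZero G' hu' * (U : GL (Fin c) F) := hU
  have hUm : ((U : GL (Fin c) F) : Matrix (Fin c) (Fin c) F) * G = G' * ((U : GL (Fin c) F) : Matrix (Fin c) (Fin c) F) :=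
    congrArg Units.val hU'
  set V : GL (Fin c) F := (U : GL (Fin c) F) with hV
  let S : (Matrix ((Pos (blocks μ) ⊕ Pos (blocks ν)) ⊕ Fin c) ((Pos (blocks μ) ⊕ Pos (blocks ν)) ⊕ Fin c) F)ˣ :=
    ⟨big 1 1 (V : Matrix (Fin c) (Fin c) F), big 1 1 (↑V⁻¹ : Matrix (Fin c) (Fin c) F),
      by rw [big_mul, Matrix.one_mul, Matrix.one_mul, Units.mul_inv, big_one],
      by rw [big_mul, Matrix.one_mul, Matrix.one_mul, Units.inv_mul, big_one]⟩
  let C'' : Coords h (std (blocks μ) (blocks ν) G) := Coords.conj' C' S (by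
    show big 1 1 (V : Matrix (Fin c) (Fin c) F) * std _ _ G = std _ _ G' * big 1 1 (V : Matrix (Fin c) (Fin c) F)
    rw [std, std, big_mul, big_mul, hUm, Matrix.one_mul, Matrix.one_mul, Matrix.mul_one, Matrix.mul_one])
  have hform'' : C''.form = big Yp' Ym' ((V : Matrix (Fin c) (Fin c) F)ᵀ * Y₀' * (V : Matrix (Fin c) (Fin c) F)) := by
    show (C'.T * big 1 1 (V : Matrix (Fin c) (Fin c) F))ᵀ * _ * (C'.T * big 1 1 (V : Matrix (Fin c) (Fin c) F)) = _
    calc _ = (big 1 1 (V : Matrix (Fin c) (Fin c) F))ᵀ * C'.form * big 1 1 (V : Matrix (Fin c) (Fin c) F) := by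
          rw [Coords.form, Matrix.transpose_mul]; simp only [Matrix.mul_assoc]
      _ = _ := by
          rw [hform', big_transpose, big_mul, big_mul]
          simp only [Matrix.transpose_one, Matrix.one_mul, Matrix.mul_one]
  obtain ⟨Yp₂, Ym₂, Y₂, hform₂, -, -, hY₂, hY₂d, hG₂⟩ :=
    form_blocks h2 hm hp C''.form_transpose C''.form_det C''.form_inv
  have hblk : ∀ (μ : Multiset ℕ) (hμ : ∀ a ∈ μ, 0 < a) (Y Y' : Matrix (Pos (blocks μ)) (Pos (blocks μ)) F)
      (_ : ∀ a, 0 < a → Even a → a ∈ μ →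
        (IsSquare (leadForm _ (one_le_blocks hμ) Y a).det ↔ IsSquare (leadForm _ (one_le_blocks hμ) Y' a).det)),
      ∀ a, Even a → (IsSquare (leadForm _ (one_le_blocks hμ) Y a).det ↔ IsSquare (leadForm _ (one_le_blocks hμ) Y' a).det) := by
    intro μ hμ Y Y' hyp a ha
    by_cases hmem : a ∈ μ
    · exact hyp a (hμ a hmem) ha hmem
    · haveI : IsEmpty (Blk (blocks μ) a) := Fintype.card_eq_zero_iff.1 (by
        rw [card_blk_blocks, Multiset.count_eq_zero]; exact hmem)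
      rw [Matrix.det_isEmpty, Matrix.det_isEmpty]
  have hinj := hform''.symm.trans hform₂
  simp only [big, Matrix.fromBlocks_inj] at hinj
  obtain ⟨⟨rfl, -, -, rfl⟩, -, -, rfl⟩ := hinj
  refine isConj_of_sq p hp2 h2 (one_le_blocks hμ) (one_le_blocks hν) hm hp C C'' hform hform'' hYp hYp' hYm hYm'
    hY₀ hY₀d hG hY₂ hY₂d hG₂ (hblk μ hμ Yp Yp' fun a ha0 ha hmem => ?_) (hblk ν hν Ym Ym' fun a ha0 ha hmem => ?_)
  · have hle : a ≤ μ.sum := Multiset.le_sum_of_mem hmem
    obtain ⟨b, rfl⟩ : ∃ b, a = b + 1 := ⟨a - 1, by omega⟩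
    have := congrArg Prod.fst (hf ⟨b, by omega⟩).2
    simp only [Datum.bits] at this
    simpa [ha, hmem] using this
  · have hle : a ≤ ν.sum := Multiset.le_sum_of_mem hmem
    obtain ⟨b, rfl⟩ : ∃ b, a = b + 1 := ⟨a - 1, by omega⟩
    have := congrArg Prod.snd (hf ⟨b, by omega⟩).2
    simp only [Datum.bits] at this
    simpa [ha, hmem] using this

theorem card_classes_le [Fintype F] (p : ℕ) [Fact p.Prime] [CharP F p] (hp2 : p ≠ 2) [Finite (WS F (2 * m) (2 * m))] :
    Nat.card (ConjClasses (Matrix.symplecticGroup (Fin m) F)) ≤ Nat.card (WS F (2 * m) (2 * m)) := by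
  have h2 : (2 : F) ≠ 0 := fun h => hp2 ((Nat.prime_dvd_prime_iff_eq (Fact.out : p.Prime) Nat.prime_two).1
    ((CharP.cast_eq_zero_iff F p 2).1 (by exact_mod_cast h)))
  choose rep hrep using fun K : ConjClasses (Matrix.symplecticGroup (Fin m) F) => ConjClasses.exists_rep K
  refine Nat.card_le_card_of_injective (fun K => (exists_datum h2 (rep K)).some.key h2) fun K K' h => ?_
  rw [← hrep K, ← hrep K']
  exact ConjClasses.mk_eq_mk_iff_isConj.2 (isConj_of_key_eq p hp2 h2 _ _ h)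

end Cfsg.Agent.GL.SpClassBound
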