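/-
Classes of the isometry group of a symmetric form (odd `q`) against weighted self-reciprocal data: twice their
number is at most the number of all data plus the data carrying no discriminant bit.
-/
import Cfsg.Agent.Lib.GL.SpClassBound
import Cfsg.Agent.Lib.GL.OrthData

set_option autoImplicit false
set_option linter.unusedSectionVars false

open Polynomial
open scoped Classical Matrix

namespace Cfsg.Agent.GL.OrthClassBound

open Cfsg.Agent.GL.ClassNumber Cfsg.Agent.GL.ClassData Cfsg.Agent.UnipCentralizer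
open Cfsg.Agent.GL.SpClassBound Cfsg.Agent.GL.OrthData Cfsg.Agent.UnipForms.SymLeading
open Cfsg.Agent.UnipCentralizer.Leading Cfsg.Agent.UnipForms.SympUnipotent Cfsg.Agent.UnipForms.SympDecomp

universe u

variable {F : Type u} [Field F]

/-- The entries of the data. -/
abbrev Entry (F : Type u) [Field F] : Type u := F[X] × (Bool × Bool)

/-- Weighted data of total degree `n` with admissible entries `ok`. -/
def WD (F : Type u) [Field F] (ok : ℕ → Entry F → Prop) (M n : ℕ) : Type u :=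
  {f : Fin M → Entry F //
    (∀ e : Fin M, ok ((e : ℕ) + 1) (f e)) ∧ ∑ e : Fin M, ((e : ℕ) + 1) * (f e).1.natDegree = n}

/-- Admissible entries: as for symplectic groups with the parities exchanged. -/
def GoodO (i : ℕ) (x : Entry F) : Prop := Good (i + 1) x

/-- Entries without discriminant bit. -/
def Good0 (_i : ℕ) (x : Entry F) : Prop :=
  SDual x.1 ∧ Even x.1.natDegree ∧ x.1.coeff 0 = 1 ∧ x.2 = (false, false)

/-- A canonical matrix for given class data. -/
noncomputable def canon {c : ℕ} (r : Seq F c c) : Matrix (Fin c) (Fin c) F :=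
  if h : ∃ G : Matrix (Fin c) (Fin c) F, G.det ≠ 0 ∧ FitsM G r then h.choose else 1

theorem exists_conj_canon {c : ℕ} {G : Matrix (Fin c) (Fin c) F} (hG : G.det ≠ 0) {r : Seq F c c}
    (hr : FitsM G r) :
    FitsM (canon r) r ∧ ∃ U : (Matrix (Fin c) (Fin c) F)ˣ,
      (U : Matrix (Fin c) (Fin c) F) * canon r = G * (U : Matrix (Fin c) (Fin c) F) := by
  have h : ∃ G : Matrix (Fin c) (Fin c) F, G.det ≠ 0 ∧ FitsM G r := ⟨G, hG, hr⟩
  rw [canon, dif_pos h]
  refine ⟨h.choose_spec.2, ?_⟩
  obtain ⟨U, hU⟩ := isConj_of_fits (Matrix.GeneralLinearGroup.mkOfDetNeZero h.choose h.choose_spec.1)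
    (Matrix.GeneralLinearGroup.mkOfDetNeZero G hG) r h.choose_spec.2 hr
  exact ⟨(U : GL (Fin c) F), congrArg Units.val hU⟩

variable {ι : Type*} [Fintype ι] [DecidableEq ι] {S : Matrix ι ι F}

/-- The data of an isometry. -/
structure Datum (g : orthMat S) where
  μ : Multiset ℕ
  ν : Multiset ℕ
  c : ℕ
  r : Seq F c c
  hμ : ∀ a ∈ μ, 0 < a
  hν : ∀ a ∈ ν, 0 < a
  hm : (canon r - 1).det ≠ 0
  hp : (canon r + 1).det ≠ 0
  hr : FitsM (canon r) r
  co : Coord ((g : GL ι F) : Matrix ι ι F) (std (blocks μ) (blocks ν) (canon r))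
  Yp : Matrix (Pos (blocks μ)) (Pos (blocks μ)) F
  Ym : Matrix (Pos (blocks ν)) (Pos (blocks ν)) F
  Y₀ : Matrix (Fin c) (Fin c) F
  hform : co.form S = big Yp Ym Y₀
  hYp : IsSymForm (blocks μ) Yp
  hYm : IsSymForm (blocks ν) Ym
  hY₀ : Y₀ᵀ = Y₀
  hY₀d : Y₀.det ≠ 0
  hG : (canon r)ᵀ * Y₀ * canon r = Y₀

theorem exists_datum (h2 : (2 : F) ≠ 0) (hS : Sᵀ = S) (hSd : S.det ≠ 0) (g : orthMat S) : Nonempty (Datum g) := by
  obtain ⟨μ, ν, c, G, hμ, hν, hm, hp, ⟨C⟩⟩ := OrthData.exists_decomp h2 ((g : GL ι F) : Matrix ι ι F)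
  obtain ⟨-, -, Y₁, -, -, -, -, hY₁d, hG₁⟩ :=
    OrthData.form_blocks h2 hm hp (OrthData.form_transpose hS C) (OrthData.form_det hSd C) (OrthData.form_inv C)
  have hu := SpData.isUnit_det (A := G) ⟨hY₁d, hG₁⟩
  obtain ⟨r, hr⟩ := exists_fits (f := Matrix.toLin' G) fun v => ⟨Matrix.toLin' G⁻¹ v, by
    rw [← Matrix.toLin'_mul_apply, Matrix.mul_nonsing_inv _ hu, Matrix.toLin'_one]; rfl⟩
  obtain ⟨hrK, U, hU⟩ := exists_conj_canon hu.ne_zero hr
  let W : (Matrix ((Pos (blocks μ) ⊕ Pos (blocks ν)) ⊕ Fin c) ((Pos (blocks μ) ⊕ Pos (blocks ν)) ⊕ Fin c) F)ˣ :=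
    ⟨big 1 1 (U : Matrix (Fin c) (Fin c) F), big 1 1 (↑U⁻¹ : Matrix (Fin c) (Fin c) F),
      by rw [big_mul, Matrix.one_mul, Matrix.one_mul, Units.mul_inv, big_one],
      by rw [big_mul, Matrix.one_mul, Matrix.one_mul, Units.inv_mul, big_one]⟩
  let C' : Coord ((g : GL ι F) : Matrix ι ι F) (std (blocks μ) (blocks ν) (canon r)) := C.conj' W (by
    show big 1 1 (U : Matrix (Fin c) (Fin c) F) * std _ _ (canon r) = std _ _ G * big 1 1 (U : Matrix (Fin c) (Fin c) F)
    rw [std, std, big_mul, big_mul, hU, Matrix.one_mul, Matrix.one_mul, Matrix.mul_one, Matrix.mul_one])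
  have hsim : ∀ s : F, (G + s • 1).det ≠ 0 → (canon r + s • 1).det ≠ 0 := fun s hs h0 => by
    have e : (U : Matrix (Fin c) (Fin c) F) * (canon r + s • 1) = (G + s • 1) * (U : Matrix (Fin c) (Fin c) F) := by
      rw [Matrix.mul_add, Matrix.add_mul, hU, Matrix.mul_smul, Matrix.smul_mul, Matrix.mul_one, Matrix.one_mul]
    have e' := congrArg Matrix.det e
    rw [Matrix.det_mul, Matrix.det_mul, h0, mul_zero] at e'
    exact mul_ne_zero hs ((Matrix.isUnit_iff_isUnit_det _).1 U.isUnit).ne_zero e'.symm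
  have hm' : (canon r - 1).det ≠ 0 := by
    have := hsim (-1) (by rwa [neg_one_smul, ← sub_eq_add_neg])
    rwa [neg_one_smul, ← sub_eq_add_neg] at this
  have hp' : (canon r + 1).det ≠ 0 := by
    have := hsim 1 (by rwa [one_smul])
    rwa [one_smul] at this
  obtain ⟨Yp, Ym, Y₀, hform, hYp, hYm, hY₀, hY₀d, hG⟩ :=
    OrthData.form_blocks h2 hm' hp' (OrthData.form_transpose hS C') (OrthData.form_det hSd C') (OrthData.form_inv C')
  exact ⟨⟨μ, ν, c, r, hμ, hν, hm', hp', hrK, C', Yp, Ym, Y₀, hform, hYp, hYm, hY₀, hY₀d, hG⟩⟩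

variable {g : orthMat S}

theorem Datum.sum_eq (D : Datum g) : D.μ.sum + D.ν.sum + D.c = Fintype.card ι := by
  have h := D.co.card_eq
  simpa only [Fintype.card_sum, Fintype.card_sigma, Fintype.card_fin, sum_blocks] using h

/-- The part of the data without eigenvalues `1` and `-1`. -/
noncomputable def Datum.rest (D : Datum g) (e : ℕ) : F[X] := if h : e < D.c then D.r.1 ⟨e, h⟩ else 1

theorem Datum.rest_spec (D : Datum g) (h2 : (2 : F) ≠ 0) (e : ℕ) :
    SDual (D.rest e) ∧ (D.rest e).eval 1 ≠ 0 ∧ (D.rest e).eval (-1) ≠ 0 ∧ (D.rest e).coeff 0 = 1 ∧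
      Even (D.rest e).natDegree := by
  by_cases h : e < D.c
  · rw [Datum.rest, dif_pos h]
    obtain ⟨hm, h0⟩ := D.r.2.1 ⟨e, h⟩
    have hd := SpData.rdual_data (⟨D.hY₀d, D.hG⟩ : D.Y₀.det ≠ 0 ∧ (canon D.r)ᵀ * D.Y₀ * canon D.r = D.Y₀) D.hr ⟨e, h⟩
    have hs : SDual (D.r.1 ⟨e, h⟩) := ⟨hm, by
      conv_rhs => arg 2; rw [← hd]
      rw [SpData.rdual, ← mul_assoc, ← C_mul, mul_inv_cancel₀ h0, C_1, one_mul]⟩
    have key : ∀ s : F, (canon D.r - s • 1).det ≠ 0 → (D.r.1 ⟨e, h⟩).eval s ≠ 0 := by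
      intro s hs hev
      obtain ⟨κ, _, P, k, hP, hk, hg, ⟨ψ⟩⟩ := D.hr
      rw [← hg ⟨e, h⟩, eval_prod, Finset.prod_eq_zero_iff] at hev
      obtain ⟨i, -, hi⟩ := hev
      have hPi : P i = X - C s := by
        refine (eq_of_monic_of_associated (monic_X_sub_C s) (hP i).1 ?_).symm
        exact (irreducible_X_sub_C s).associated_of_dvd (hP i).2 (dvd_iff_isRoot.2 hi)
      obtain ⟨v, hv⟩ := (Module.AEval'.of (Matrix.toLin' (canon D.r))).surjective
        (ψ.symm (Pi.single i (Submodule.Quotient.mk ((X - C s) ^ (k i - 1)))))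
      refine hs (Matrix.exists_mulVec_eq_zero_iff.1 ⟨v, ?_, ?_⟩)
      · intro hv0
        rw [hv0, map_zero, eq_comm, LinearEquiv.map_eq_zero_iff, Pi.single_eq_zero_iff,
          Submodule.Quotient.mk_eq_zero, Submodule.mem_span_singleton] at hv
        obtain ⟨a, ha⟩ := hv
        rw [smul_eq_mul, hPi, ← Nat.sub_add_cancel (hk i).1, pow_succ, ← mul_assoc, Nat.add_sub_cancel] at ha
        have hne : ((X - C s) ^ (k i - 1)) ≠ 0 := pow_ne_zero _ (X_sub_C_ne_zero s)
        have : (a * (X - C s)) = 1 := mul_left_cancel₀ hne (by linear_combination ha)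
        exact (irreducible_X_sub_C s).not_isUnit (IsUnit.of_mul_eq_one_right _ this)
      · refine (Module.AEval'.of (Matrix.toLin' (canon D.r))).injective ?_
        have e2 : (canon D.r - s • 1) *ᵥ v = Matrix.toLin' (canon D.r) v - s • v := by
          rw [Matrix.sub_mulVec, Matrix.smul_mulVec, Matrix.one_mulVec]; rfl
        rw [e2, map_sub, map_smul, map_zero, ← Module.AEval'.X_smul_of, hv, ← algebraMap_smul F[X] s, ← sub_smul,
          ← map_smul, LinearEquiv.map_eq_zero_iff, ← Pi.single_smul, Pi.single_eq_zero_iff,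
          ← Submodule.Quotient.mk_smul, Submodule.Quotient.mk_eq_zero, Submodule.mem_span_singleton]
        refine ⟨1, ?_⟩
        rw [one_smul, smul_eq_mul, hPi, show algebraMap F F[X] s = C s from rfl, ← pow_succ', Nat.sub_add_cancel (hk i).1]
    have e1 := key 1 (by rw [one_smul]; exact D.hm)
    have e2 := key (-1) (by rw [neg_one_smul, sub_neg_eq_add]; exact D.hp)
    exact ⟨hs, e1, e2, hs.eval_one e1, hs.even_natDegree h2 e1 e2⟩
  · rw [Datum.rest, dif_neg h]
    exact ⟨sdual_one, by simp, by simp, by simp, by simp⟩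

theorem Datum.sum_rest (D : Datum g) :
    ∑ e : Fin (Fintype.card ι), ((e : ℕ) + 1) * (D.rest (e : ℕ)).natDegree = D.c := by
  have hc : D.c ≤ Fintype.card ι := by have := D.sum_eq; omega
  rw [Fin.sum_univ_eq_sum_range (fun e => (e + 1) * (D.rest e).natDegree),
    ← Finset.sum_subset (Finset.range_subset_range.2 hc) (fun e _ he => ?_),
    ← Fin.sum_univ_eq_sum_range (fun e => (e + 1) * (D.rest e).natDegree)]
  · conv_rhs => rw [← D.r.2.2]
    exact Finset.sum_congr rfl fun e _ => by rw [Datum.rest, dif_pos e.2]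
  · rw [Finset.mem_range] at he
    rw [Datum.rest, dif_neg he, natDegree_one, mul_zero]

/-- The polynomial entry of size `e + 1`. -/
noncomputable def Datum.poly (D : Datum g) (e : ℕ) : F[X] :=
  (X - C 1) ^ D.μ.count (e + 1) * ((X - C (-1)) ^ D.ν.count (e + 1) * D.rest e)

/-- The two bits of size `e + 1`. -/
noncomputable def Datum.bits (D : Datum g) (e : ℕ) : Bool × Bool :=
  (decide (Odd (e + 1) ∧ e + 1 ∈ D.μ ∧
      IsSquare (leadForm _ (one_le_blocks D.hμ) D.Yp (e + 1)).det),
    decide (Odd (e + 1) ∧ e + 1 ∈ D.ν ∧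
      IsSquare (leadForm _ (one_le_blocks D.hν) D.Ym (e + 1)).det))

theorem Datum.poly_monic (D : Datum g) (h2 : (2 : F) ≠ 0) (e : ℕ) :
    ((X - C (1 : F)) ^ D.μ.count (e + 1)).Monic ∧ ((X - C (-1 : F)) ^ D.ν.count (e + 1)).Monic ∧ (D.rest e).Monic :=
  ⟨(monic_X_sub_C _).pow _, (monic_X_sub_C _).pow _, (D.rest_spec h2 e).1.1⟩

theorem Datum.natDegree_poly (D : Datum g) (h2 : (2 : F) ≠ 0) (e : ℕ) :
    (D.poly e).natDegree = D.μ.count (e + 1) + D.ν.count (e + 1) + (D.rest e).natDegree := by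
  obtain ⟨h1, h3, h4⟩ := D.poly_monic h2 e
  rw [Datum.poly, h1.natDegree_mul (h3.mul h4), h3.natDegree_mul h4, natDegree_pow, natDegree_pow,
    natDegree_X_sub_C, natDegree_X_sub_C, mul_one, mul_one, add_assoc]

theorem Datum.good (D : Datum g) (h2 : (2 : F) ≠ 0) (e : ℕ) : GoodO (e + 1) (D.poly e, D.bits e) := by
  obtain ⟨hs, -, -, hr0, hre⟩ := D.rest_spec h2 e
  refine ⟨((sdual_linear (by norm_num)).pow _).mul (((sdual_linear (by norm_num)).pow _).mul hs), ?_, ?_, ?_⟩
  · intro ho
    have he : Even (e + 1) := Nat.not_odd_iff_even.1 fun h => Nat.not_even_iff_odd.2 ho h.add_one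
    have hμe : Even (D.μ.count (e + 1)) := by
      rw [← card_blk_blocks]; exact Cfsg.Agent.UnipForms.SymLeading.even_card_blk h2 D.hYp (one_le_blocks D.hμ) he
    have hνe : Even (D.ν.count (e + 1)) := by
      rw [← card_blk_blocks]; exact Cfsg.Agent.UnipForms.SymLeading.even_card_blk h2 D.hYm (one_le_blocks D.hν) he
    refine ⟨?_, ?_, ?_⟩
    · rw [D.natDegree_poly h2]; exact (hμe.add hνe).add hre
    · show (D.poly e).coeff 0 = 1
      rw [Datum.poly, mul_coeff_zero, mul_coeff_zero, coeff_zero_eq_eval_zero, coeff_zero_eq_eval_zero (_ ^ _),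
        eval_pow, eval_pow, eval_sub, eval_sub, eval_X, eval_C, eval_C, hr0, zero_sub, zero_sub, neg_neg, one_pow,
        hμe.neg_one_pow]
      ring
    · show D.bits e = (false, false)
      simp only [Datum.bits, Prod.mk.injEq, decide_eq_false_iff_not]
      exact ⟨fun h => Nat.not_even_iff_odd.2 h.1 he, fun h => Nat.not_even_iff_odd.2 h.1 he⟩
  · intro hb
    simp only [Datum.bits, decide_eq_true_eq] at hb
    show (D.poly e).eval 1 = 0
    rw [Datum.poly, eval_mul, eval_pow, eval_sub, eval_X, eval_C, sub_self,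
      zero_pow (Multiset.count_ne_zero.2 hb.2.1), zero_mul]
  · intro hb
    simp only [Datum.bits, decide_eq_true_eq] at hb
    show (D.poly e).eval (-1) = 0
    rw [Datum.poly, eval_mul, eval_mul, eval_pow (p := X - C (-1 : F)), eval_sub, eval_X, eval_C, sub_self,
      zero_pow (Multiset.count_ne_zero.2 hb.2.1), zero_mul, mul_zero]

/-- The weighted data of an element. -/
noncomputable def Datum.key (D : Datum g) (h2 : (2 : F) ≠ 0) :
    WD F GoodO (Fintype.card ι) (Fintype.card ι) :=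
  ⟨fun e => (D.poly (e : ℕ), D.bits (e : ℕ)), fun e => D.good h2 e, by
    simp only [D.natDegree_poly h2, mul_add, Finset.sum_add_distrib]
    rw [sum_count, sum_count, D.sum_rest]
    · exact D.sum_eq
    · exact fun a ha => ⟨D.hν a ha, (Multiset.le_sum_of_mem ha).trans (by have := D.sum_eq; omega)⟩
    · exact fun a ha => ⟨D.hμ a ha, (Multiset.le_sum_of_mem ha).trans (by have := D.sum_eq; omega)⟩⟩

theorem Datum.rootMultiplicity (D : Datum g) (h2 : (2 : F) ≠ 0) (e : ℕ) :
    (D.poly e).rootMultiplicity 1 = D.μ.count (e + 1) ∧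
      (D.poly e).rootMultiplicity (-1) = D.ν.count (e + 1) := by
  obtain ⟨h1, h3, h4⟩ := D.poly_monic h2 e
  obtain ⟨-, hv1, hvm, -, -⟩ := D.rest_spec h2 e
  have hne : (X - C 1) ^ D.μ.count (e + 1) * ((X - C (-1)) ^ D.ν.count (e + 1) * D.rest e) ≠ 0 :=
    (h1.mul (h3.mul h4)).ne_zero
  have hne' : (X - C (-1)) ^ D.ν.count (e + 1) * D.rest e ≠ 0 := (h3.mul h4).ne_zero
  have h11 : (1 : F) ≠ -1 := fun h => h2 (by linear_combination h)
  constructor
  · rw [Datum.poly, rootMultiplicity_mul hne, rootMultiplicity_mul hne', rootMultiplicity_X_sub_C_pow,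
      rootMultiplicity_eq_zero (by rw [IsRoot.def, eval_pow, eval_sub, eval_X, eval_C]; exact pow_ne_zero _ (sub_ne_zero.2 h11)),
      rootMultiplicity_eq_zero (show ¬ (D.rest e).IsRoot 1 from hv1), add_zero, add_zero]
  · rw [Datum.poly, rootMultiplicity_mul hne, rootMultiplicity_mul hne', rootMultiplicity_X_sub_C_pow,
      rootMultiplicity_eq_zero (by rw [IsRoot.def, eval_pow, eval_sub, eval_X, eval_C]; exact pow_ne_zero _ (sub_ne_zero.2 h11.symm)),
      rootMultiplicity_eq_zero (show ¬ (D.rest e).IsRoot (-1) from hvm), add_zero, zero_add]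

/-- Equal polynomial entries give equal block sizes and rest. -/
theorem Datum.align (h2 : (2 : F) ≠ 0) {h : orthMat S} (D : Datum g) (D' : Datum h)
    (hp : ∀ e : Fin (Fintype.card ι), D.poly e = D'.poly e) :
    D.μ = D'.μ ∧ D.ν = D'.ν ∧ D.c = D'.c ∧ HEq D.r D'.r := by
  have hsum := D.sum_eq
  have hsum' := D'.sum_eq
  have hμμ : D.μ = D'.μ := eq_of_count (N := Fintype.card ι)
    (fun a ha => ⟨D.hμ a ha, (Multiset.le_sum_of_mem ha).trans (by omega)⟩)
    (fun a ha => ⟨D'.hμ a ha, (Multiset.le_sum_of_mem ha).trans (by omega)⟩)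
    fun e => by rw [← (D.rootMultiplicity h2 e).1, hp e, (D'.rootMultiplicity h2 e).1]
  have hνν : D.ν = D'.ν := eq_of_count (N := Fintype.card ι)
    (fun a ha => ⟨D.hν a ha, (Multiset.le_sum_of_mem ha).trans (by omega)⟩)
    (fun a ha => ⟨D'.hν a ha, (Multiset.le_sum_of_mem ha).trans (by omega)⟩)
    fun e => by rw [← (D.rootMultiplicity h2 e).2, hp e, (D'.rootMultiplicity h2 e).2]
  have hrest : ∀ e : Fin (Fintype.card ι), D.rest e = D'.rest e := fun e => by
    have := hp e
    rw [Datum.poly, Datum.poly, hμμ, hνν] at this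
    exact mul_left_cancel₀ (pow_ne_zero _ (X_sub_C_ne_zero _)) (mul_left_cancel₀ (pow_ne_zero _ (X_sub_C_ne_zero _)) this)
  refine ⟨hμμ, hνν, by rw [hμμ, hνν] at hsum; omega, ?_⟩
  obtain ⟨μ, ν, c, r, _, _, _, _, _, _, _, _, _, _, _, _, _, _, _⟩ := D
  obtain ⟨μ', ν', c', r', _, _, _, _, _, _, _, _, _, _, _, _, _, _, _⟩ := D'
  dsimp only at hμμ hνν hsum hsum'
  subst hμμ hνν
  obtain rfl : c = c' := by omega
  refine heq_of_eq (Subtype.ext (funext fun e => ?_))
  have he : (e : ℕ) < c := e.isLt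
  have := hrest ⟨e, by omega⟩
  simp only [Datum.rest, e.2, dif_pos, Fin.eta] at this
  exact this

/-- The discriminant bits at a multiset. -/
theorem square_iff_of_bits {μ : Multiset ℕ} (hμ : ∀ a ∈ μ, 0 < a) {N : ℕ} (hN : μ.sum ≤ N)
    (Y Y' : Matrix (Pos (blocks μ)) (Pos (blocks μ)) F) {bad : Set ℕ}
    (hb : ∀ e : Fin N, (e : ℕ) ∉ bad →
      decide (Odd ((e : ℕ) + 1) ∧ (e : ℕ) + 1 ∈ μ ∧ IsSquare (leadForm _ (one_le_blocks hμ) Y ((e : ℕ) + 1)).det) =
      decide (Odd ((e : ℕ) + 1) ∧ (e : ℕ) + 1 ∈ μ ∧ IsSquare (leadForm _ (one_le_blocks hμ) Y' ((e : ℕ) + 1)).det))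
    (a : ℕ) (ha : Odd a) (hab : a - 1 ∉ bad) :
    IsSquare (leadForm _ (one_le_blocks hμ) Y a).det ↔ IsSquare (leadForm _ (one_le_blocks hμ) Y' a).det := by
  by_cases hmem : a ∈ μ
  · obtain ⟨b, rfl⟩ : ∃ b, a = b + 1 := ⟨a - 1, by have := hμ a hmem; omega⟩
    have hle : b + 1 ≤ μ.sum := Multiset.le_sum_of_mem hmem
    have := hb ⟨b, by omega⟩ (by simpa using hab)
    simpa [ha, hmem] using this
  · haveI : IsEmpty (Blk (blocks μ) a) := Fintype.card_eq_zero_iff.1 (by
      rw [card_blk_blocks, Multiset.count_eq_zero]; exact hmem)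
    rw [Matrix.det_isEmpty, Matrix.det_isEmpty]

variable [Fintype F] (p : ℕ) [Fact p.Prime] [CharP F p]

/-- Elements with the same data are conjugate. -/
theorem isConj_of_key_eq (hp2 : p ≠ 2) (h2 : (2 : F) ≠ 0) {h : orthMat S} (D : Datum g) (D' : Datum h)
    (hk : D.key h2 = D'.key h2) : IsConj g h := by
  have hf : ∀ e : Fin (Fintype.card ι), D.poly e = D'.poly e ∧ D.bits e = D'.bits e := fun e => by
    have := congrFun (congrArg Subtype.val hk) e
    exact ⟨congrArg Prod.fst this, congrArg Prod.snd this⟩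
  obtain ⟨hμμ, hνν, hcc, hrr⟩ := D.align h2 D' fun e => (hf e).1
  have hsum := D.sum_eq
  obtain ⟨μ, ν, c, r, hμ, hν, hm, hp, hr, C, Yp, Ym, Y₀, hform, hYp, hYm, hY₀, hY₀d, hG⟩ := D
  obtain ⟨μ', ν', c', r', hμ', hν', hm', hp', hr', C', Yp', Ym', Y₀', hform', hYp', hYm', hY₀', hY₀'d, hG'⟩ := D'
  dsimp only at hμμ hνν hcc hrr hsum
  subst hμμ hνν hcc
  obtain rfl := eq_of_heq hrr
  simp only [Datum.bits, Prod.mk.injEq] at hf
  obtain ⟨c₁, h1, d1, e1⟩ := Cfsg.Agent.UnipForms.SymLeading.exists_congr_forms (one_le_blocks hμ) p hp2 h2 hYp hYp' fun a ha =>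
    square_iff_of_bits hμ (N := Fintype.card ι) (bad := ∅) (by omega) Yp Yp' (fun e _ => (hf e).2.1) a ha id
  obtain ⟨c₂, h3, d2, e2⟩ := Cfsg.Agent.UnipForms.SymLeading.exists_congr_forms (one_le_blocks hν) p hp2 h2 hYm hYm' fun a ha =>
    square_iff_of_bits hν (N := Fintype.card ι) (bad := ∅) (by omega) Ym Ym' (fun e _ => (hf e).2.2) a ha id
  obtain ⟨c₀, h5, d0, e0⟩ := OrthData.exists_congr_noUnit' h2 hm hp hY₀ hY₀d hG hY₀' hY₀'d hG'
  refine OrthData.isConj_of_congr C C' (big c₁ c₂ c₀) ?_ ?_ ?_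
  · rw [std, big_mul, big_mul, (commute_cay_iff _ h2 c₁).2 h1, Matrix.mul_neg, (commute_cay_iff _ h2 c₂).2 h3,
      Matrix.neg_mul, h5]
  · rw [big_det]
    exact mul_ne_zero (mul_ne_zero d1 d2) d0
  · rw [hform, hform', big_transpose, big_mul, big_mul, e1, e2, e0]

/-- The bit of size `e + 1` toggled. -/
def tog (second : Bool) (x : Bool × Bool) : Bool × Bool := if second then (x.1, !x.2) else (!x.1, x.2)

/-- Data differing in exactly one bit cannot both come from `S`. -/
theorem not_tog (hp2 : p ≠ 2) (h2 : (2 : F) ≠ 0) (hSd : S.det ≠ 0) {h : orthMat S} (D : Datum g) (D' : Datum h)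
    (hpoly : ∀ e : Fin (Fintype.card ι), D.poly e = D'.poly e) (second : Bool) (e₀ : Fin (Fintype.card ι))
    (ho : Odd ((e₀ : ℕ) + 1)) (hroot : (D.poly e₀).eval (if second then -1 else 1) = 0)
    (hb : ∀ e : Fin (Fintype.card ι), D'.bits e = if e = e₀ then tog second (D.bits e) else D.bits e) : False := by
  obtain ⟨hμμ, hνν, hcc, hrr⟩ := D.align h2 D' hpoly
  have hsum := D.sum_eq
  have hmul := D.rootMultiplicity h2 e₀
  have hne : (D.poly e₀) ≠ 0 := ((D.good h2 e₀).1.1).ne_zero
  have hpos := (rootMultiplicity_pos hne).2 hroot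
  obtain ⟨μ, ν, c, r, hμ, hν, hm, hp, hr, C, Yp, Ym, Y₀, hform, hYp, hYm, hY₀, hY₀d, hG⟩ := D
  obtain ⟨μ', ν', c', r', hμ', hν', hm', hp', hr', C', Yp', Ym', Y₀', hform', hYp', hYm', hY₀', hY₀'d, hG'⟩ := D'
  dsimp only at hμμ hνν hcc hrr hsum hmul
  subst hμμ hνν hcc
  obtain rfl := eq_of_heq hrr
  obtain ⟨c₀, -, -, e0⟩ := OrthData.exists_congr_noUnit' h2 hm hp hY₀ hY₀d hG hY₀' hY₀'d hG'
  have h0sq : IsSquare (Y₀.det * Y₀'.det) := by
    rw [← e0, Matrix.det_mul, Matrix.det_mul, Matrix.det_transpose]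
    exact ⟨c₀.det * Y₀.det, by ring⟩
  obtain ⟨x, hx, hxd⟩ := OrthData.exists_det_form (S := S) C
  obtain ⟨x', hx', hxd'⟩ := OrthData.exists_det_form (S := S) C'
  rw [hform, big_det] at hxd
  rw [hform', big_det] at hxd'
  have htot : IsSquare (Yp.det * Yp'.det * (Ym.det * Ym'.det)) := by
    have h1 : IsSquare (Yp.det * Ym.det * Y₀.det * (Yp'.det * Ym'.det * Y₀'.det)) :=
      ⟨x * x' * S.det, by rw [hxd, hxd']; ring⟩
    have h3 := h1.mul h0sq.inv
    have hne0 : Y₀.det * Y₀'.det ≠ 0 := mul_ne_zero hY₀d hY₀'d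
    rwa [show Yp.det * Ym.det * Y₀.det * (Yp'.det * Ym'.det * Y₀'.det) * (Y₀.det * Y₀'.det)⁻¹ =
      Yp.det * Yp'.det * (Ym.det * Ym'.det) by field_simp] at h3
  simp only [Datum.bits] at hb
  have hbad : ∀ (e : Fin (Fintype.card ι)), (e : ℕ) ∉ ({(e₀ : ℕ)} : Set ℕ) → e ≠ e₀ := fun e he h => he (by rw [h]; rfl)
  have hbad' : ∀ a, Odd a → a ≠ (e₀ : ℕ) + 1 → a - 1 ∉ ({(e₀ : ℕ)} : Set ℕ) := fun a ha hne h => by
    have h' : a - 1 = (e₀ : ℕ) := h
    have := ha.pos
    omega
  cases second with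
  | false =>
    have hmem : (e₀ : ℕ) + 1 ∈ μ := by
      rw [← Multiset.count_pos, ← hmul.1]
      simpa using hpos
    have hν' : ∀ a, Odd a → (IsSquare (leadForm _ (one_le_blocks hν) Ym a).det ↔
        IsSquare (leadForm _ (one_le_blocks hν) Ym' a).det) := fun a ha =>
      square_iff_of_bits hν (N := Fintype.card ι) (bad := ∅) (by omega) Ym Ym' (fun e _ => by
        have := congrArg Prod.snd (hb e)
        split_ifs at this <;> simpa [tog] using this.symm) a ha id
    obtain ⟨cm, -, -, em⟩ := Cfsg.Agent.UnipForms.SymLeading.exists_congr_forms (one_le_blocks hν) p hp2 h2 hYm hYm' hν'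
    have hmsq : IsSquare (Ym.det * Ym'.det) := by
      rw [← em, Matrix.det_mul, Matrix.det_mul, Matrix.det_transpose]
      exact ⟨cm.det * Ym.det, by ring⟩
    refine Cfsg.Agent.UnipForms.SymLeading.not_isSquare_det (one_le_blocks hμ) hYp hYp' ho (Fintype.card_pos_iff.1 (by
      rw [card_blk_blocks]; exact Multiset.count_pos.2 hmem)) ?_ (fun a ha hne => square_iff_of_bits hμ
        (N := Fintype.card ι) (bad := {(e₀ : ℕ)}) (by omega) Yp Yp' (fun e he => by
          have := congrArg Prod.fst (hb e)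
          rw [if_neg (hbad e he)] at this
          exact this.symm) a ha (hbad' a ha hne)) ?_
    · intro hiff
      have := congrArg Prod.fst (hb e₀)
      rw [if_pos rfl] at this
      simp [tog, ho, hmem, hiff] at this
    · have := htot.mul hmsq.inv
      rwa [mul_assoc, mul_inv_cancel₀ (mul_ne_zero hYm.2.1 hYm'.2.1), mul_one] at this
  | true =>
    have hmem : (e₀ : ℕ) + 1 ∈ ν := by
      rw [← Multiset.count_pos, ← hmul.2]
      simpa using hpos
    have hμ' : ∀ a, Odd a → (IsSquare (leadForm _ (one_le_blocks hμ) Yp a).det ↔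
        IsSquare (leadForm _ (one_le_blocks hμ) Yp' a).det) := fun a ha =>
      square_iff_of_bits hμ (N := Fintype.card ι) (bad := ∅) (by omega) Yp Yp' (fun e _ => by
        have := congrArg Prod.fst (hb e)
        split_ifs at this <;> simpa [tog] using this.symm) a ha id
    obtain ⟨cm, -, -, em⟩ := Cfsg.Agent.UnipForms.SymLeading.exists_congr_forms (one_le_blocks hμ) p hp2 h2 hYp hYp' hμ'
    have hmsq : IsSquare (Yp.det * Yp'.det) := by
      rw [← em, Matrix.det_mul, Matrix.det_mul, Matrix.det_transpose]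
      exact ⟨cm.det * Yp.det, by ring⟩
    refine Cfsg.Agent.UnipForms.SymLeading.not_isSquare_det (one_le_blocks hν) hYm hYm' ho (Fintype.card_pos_iff.1 (by
      rw [card_blk_blocks]; exact Multiset.count_pos.2 hmem)) ?_ (fun a ha hne => square_iff_of_bits hν
        (N := Fintype.card ι) (bad := {(e₀ : ℕ)}) (by omega) Ym Ym' (fun e he => by
          have := congrArg Prod.snd (hb e)
          rw [if_neg (hbad e he)] at this
          exact this.symm) a ha (hbad' a ha hne)) ?_
    · intro hiff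
      have := congrArg Prod.snd (hb e₀)
      rw [if_pos rfl] at this
      simp [tog, ho, hmem, hiff] at this
    · have := htot.mul hmsq.inv
      rwa [mul_comm (Yp.det * Yp'.det), mul_assoc, mul_inv_cancel₀ (mul_ne_zero hYp.2.1 hYp'.2.1), mul_one] at this

/-! ### The flip -/

variable {N : ℕ}

/-- The positions carrying a bit. -/
noncomputable def slots (f : Fin N → Entry F) : Finset (Fin N × Bool) :=
  Finset.univ.filter fun x => Odd ((x.1 : ℕ) + 1) ∧ (f x.1).1.eval (if x.2 then -1 else 1) = 0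

/-- Toggle the bit at one of the positions. -/
noncomputable def flip (f : Fin N → Entry F) : Fin N → Entry F :=
  if h : (slots f).Nonempty then fun e => if e = h.choose.1 then ((f e).1, tog h.choose.2 (f e).2) else f e else f

theorem flip_fst (f : Fin N → Entry F) (e : Fin N) : (flip f e).1 = (f e).1 := by
  unfold flip
  split_ifs <;> simp only <;> split_ifs <;> rfl

theorem slots_flip (f : Fin N → Entry F) : slots (flip f) = slots f := by
  simp only [slots, flip_fst]

theorem flip_flip (f : Fin N → Entry F) : flip (flip f) = f := by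
  by_cases h : (slots f).Nonempty
  · have h' : (slots (flip f)).Nonempty := by rwa [slots_flip]
    have hc : h'.choose = h.choose := by congr 1; funext; rw [slots_flip]
    funext e
    show flip (flip f) e = f e
    conv_lhs => rw [flip, dif_pos h', hc]
    simp only [flip, dif_pos h]
    split_ifs <;> simp [tog] <;> split_ifs <;> simp
  · rw [flip, dif_neg (by rwa [slots_flip]), flip, dif_neg h]

/-- The flip on data. -/
noncomputable def flipWD (x : WD F GoodO N N) : WD F GoodO N N :=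
  ⟨flip x.1, fun e => by
    by_cases h : (slots x.1).Nonempty
    · obtain ⟨ho, hz⟩ : Odd ((h.choose.1 : ℕ) + 1) ∧ (x.1 h.choose.1).1.eval (if h.choose.2 then -1 else 1) = 0 :=
        (Finset.mem_filter.1 h.choose_spec).2
      rw [flip, dif_pos h]
      show GoodO _ (if e = h.choose.1 then ((x.1 e).1, tog h.choose.2 (x.1 e).2) else x.1 e)
      split_ifs with he
      · obtain ⟨h1, -, h3, h4⟩ := x.2.1 e
        subst he
        refine ⟨h1, fun hodd => absurd ho.add_one (Nat.not_even_iff_odd.2 hodd), ?_, ?_⟩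
        · intro hb
          cases hs : h.choose.2
          · simpa [hs] using hz
          · simp [tog, hs] at hb
            exact h3 hb
        · intro hb
          cases hs : h.choose.2
          · simp [tog, hs] at hb
            exact h4 hb
          · simpa [hs] using hz
      · exact x.2.1 e
    · rw [flip, dif_neg h]; exact x.2.1 e,
  (Finset.sum_congr rfl fun e _ => by rw [flip_fst]).trans x.2.2⟩

theorem flipWD_flipWD (x : WD F GoodO N N) : flipWD (flipWD x) = x := Subtype.ext (flip_flip x.1)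

theorem flipWD_eq_iff (x : WD F GoodO N N) : flipWD x = x ↔ ¬(slots x.1).Nonempty := by
  constructor
  · intro h hs
    have := congrFun (congrArg Subtype.val h) hs.choose.1
    simp only [flipWD, flip, dif_pos hs, if_pos] at this
    have e := congrArg Prod.snd this
    cases hb : hs.choose.2 <;> simp [tog, hb, Prod.ext_iff] at e
  · intro h
    refine Subtype.ext ?_
    show flip x.1 = x.1
    rw [flip, dif_neg h]

theorem good0_of_no_slots (x : WD F GoodO N N) (h : ¬(slots x.1).Nonempty) (h2 : (2 : F) ≠ 0) (e : Fin N) :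
    Good0 ((e : ℕ) + 1) (x.1 e) := by
  obtain ⟨hs, hodd, h3, h4⟩ := x.2.1 e
  rcases Nat.even_or_odd ((e : ℕ) + 1) with he | ho
  · obtain ⟨a, b, c⟩ := hodd he.add_one
    exact ⟨hs, a, b, c⟩
  · have key : ∀ s : Bool, (x.1 e).1.eval (if s then -1 else 1) ≠ 0 := fun s hz =>
      h ⟨(e, s), Finset.mem_filter.2 ⟨Finset.mem_univ _, ho, hz⟩⟩
    have e1 : (x.1 e).1.eval 1 ≠ 0 := by simpa using key false
    have e2 : (x.1 e).1.eval (-1) ≠ 0 := by simpa using key true
    refine ⟨hs, hs.even_natDegree h2 e1 e2, hs.eval_one e1, Prod.ext ?_ ?_⟩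
    · exact Bool.eq_false_iff.2 fun hb => e1 (h3 hb)
    · exact Bool.eq_false_iff.2 fun hb => e2 (h4 hb)

/-- Twice the number of classes with a property is at most the data with a flip-invariant property implied
by it, plus the data without bits. -/
theorem two_mul_card_subclasses_le (hp2 : p ≠ 2) (h2 : (2 : F) ≠ 0) (hS : Sᵀ = S) (hSd : S.det ≠ 0)
    (T : ConjClasses (orthMat S) → Prop) (Φ : WD F GoodO (Fintype.card ι) (Fintype.card ι) → Prop)
    (hflip : ∀ x, Φ x → Φ (flipWD x)) (hT : ∀ g : orthMat S, T (ConjClasses.mk g) → ∀ D : Datum g, Φ (D.key h2))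
    [Finite (WD F GoodO (Fintype.card ι) (Fintype.card ι))] [Finite (WD F Good0 (Fintype.card ι) (Fintype.card ι))] :
    2 * Nat.card {C // T C} ≤ Nat.card {x // Φ x} + Nat.card (WD F Good0 (Fintype.card ι) (Fintype.card ι)) := by
  choose rep hrep using fun K : ConjClasses (orthMat S) => ConjClasses.exists_rep K
  set K : ConjClasses (orthMat S) → WD F GoodO (Fintype.card ι) (Fintype.card ι) :=
    fun C => (exists_datum h2 hS hSd (rep C)).some.key h2 with hK
  have hinj : Function.Injective K := fun C C' h => by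
    rw [← hrep C, ← hrep C']
    exact ConjClasses.mk_eq_mk_iff_isConj.2 (isConj_of_key_eq p hp2 h2 _ _ h)
  have hcross : ∀ C C', K C = flipWD (K C') → flipWD (K C') = K C' := by
    intro C C' h
    by_contra hne
    obtain hs : (slots (K C').1).Nonempty := not_not.1 fun hs => hne ((flipWD_eq_iff _).2 hs)
    obtain ⟨ho, hz⟩ : Odd ((hs.choose.1 : ℕ) + 1) ∧
        ((K C').1 hs.choose.1).1.eval (if hs.choose.2 then -1 else 1) = 0 :=
      (Finset.mem_filter.1 hs.choose_spec).2
    have hv : ∀ e, (K C).1 e = if e = hs.choose.1 then (((K C').1 e).1, tog hs.choose.2 ((K C').1 e).2)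
        else (K C').1 e := fun e => by
      have := congrFun (congrArg Subtype.val h) e
      rw [this]
      show flip _ e = _
      rw [flip, dif_pos hs]
    refine not_tog p hp2 h2 hSd (exists_datum h2 hS hSd (rep C')).some (exists_datum h2 hS hSd (rep C)).some
      (fun e => ?_) hs.choose.2 hs.choose.1 ho hz (fun e => ?_)
    · have := congrArg Prod.fst (hv e)
      split_ifs at this <;> exact this.symm
    · have := congrArg Prod.snd (hv e)
      split_ifs at this with he
      · rw [if_pos he]; exact this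
      · rw [if_neg he]; exact this
  have hΦ : ∀ C, T C → Φ (K C) := fun C hC => hT (rep C) (by rwa [hrep C]) _
  let f : {C // T C} ⊕ {C // T C} → {x // Φ x} ⊕ WD F Good0 (Fintype.card ι) (Fintype.card ι) :=
    fun x => match x with
    | .inl C => .inl ⟨K C.1, hΦ _ C.2⟩
    | .inr C =>
      if h : flipWD (K C.1) = K C.1 then
        .inr ⟨(K C.1).1, good0_of_no_slots _ ((flipWD_eq_iff _).1 h) h2, (K C.1).2.2⟩
      else .inl ⟨flipWD (K C.1), hflip _ (hΦ _ C.2)⟩
  have hf : Function.Injective f := by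
    have key : ∀ C C', f (.inl C) = f (.inr C') → False := fun C C' h => by
      simp only [f] at h
      split_ifs at h with h'
      exact h' (hcross C.1 C'.1 (congrArg Subtype.val (Sum.inl.inj h)))
    rintro (C | C) (C' | C') h
    · exact congrArg Sum.inl (Subtype.ext (hinj (congrArg Subtype.val (Sum.inl.inj h))))
    · exact (key C C' h).elim
    · exact (key C' C h.symm).elim
    · simp only [f] at h
      refine congrArg Sum.inr (Subtype.ext (hinj ?_))
      split_ifs at h
      · exact Subtype.ext (congrArg (fun z => z.1) (Sum.inr.inj h) : _)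
      · have e : flipWD (K C.1) = flipWD (K C'.1) := congrArg Subtype.val (Sum.inl.inj h)
        rw [← flipWD_flipWD (K C.1), ← flipWD_flipWD (K C'.1), e]
  haveI : Finite (ConjClasses (orthMat S)) := Finite.of_injective K hinj
  have := Nat.card_le_card_of_injective f hf
  rw [Nat.card_sum, Nat.card_sum] at this
  omega

/-- Twice the number of classes is at most all data plus the data without bits. -/
theorem two_mul_card_classes_le (hp2 : p ≠ 2) (hS : Sᵀ = S) (hSd : S.det ≠ 0)
    [Finite (WD F GoodO (Fintype.card ι) (Fintype.card ι))] [Finite (WD F Good0 (Fintype.card ι) (Fintype.card ι))] :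
    2 * Nat.card (ConjClasses (orthMat S)) ≤
      Nat.card (WD F GoodO (Fintype.card ι) (Fintype.card ι)) +
        Nat.card (WD F Good0 (Fintype.card ι) (Fintype.card ι)) := by
  have h2 : (2 : F) ≠ 0 := fun h => hp2 ((Nat.prime_dvd_prime_iff_eq (Fact.out : p.Prime) Nat.prime_two).1
    ((CharP.cast_eq_zero_iff F p 2).1 (by exact_mod_cast h)))
  have h := two_mul_card_subclasses_le p hp2 h2 hS hSd (fun _ => True) (fun _ => True) (fun _ _ => trivial)
    fun _ _ _ => trivial
  rwa [Nat.card_congr (Equiv.subtypeUnivEquiv fun _ => trivial),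
    Nat.card_congr (Equiv.subtypeUnivEquiv fun _ => trivial)] at h

end Cfsg.Agent.GL.OrthClassBound
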