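/-
The class number of `Sp_{2m}(q)`, `q` odd, is at most `10.8 q ^ m`.
-/
import Cfsg.Agent.Lib.GL.SpClassBound

set_option autoImplicit false
set_option linter.unusedSectionVars false

open Polynomial
open scoped Classical

namespace Cfsg.Agent.GL.SpClassNumber

open Cfsg.Agent.GL.SpClassBound

universe u

variable {F : Type u} [Field F]

/-- Self-reciprocal polynomials of degree `D`. -/
abbrev SDN (F : Type u) [Field F] (D : ℕ) : Type u := {P : F[X] // SDual P ∧ P.natDegree = D}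

theorem ext_half {P Q : F[X]} {D : ℕ} (hP : SDual P) (hPd : P.natDegree = D) (hQ : SDual Q) (hQd : Q.natDegree = D)
    (h0 : P.coeff 0 = Q.coeff 0) (h : ∀ j < D / 2, P.coeff (j + 1) = Q.coeff (j + 1)) : P = Q := by
  ext i
  have low : ∀ k, k ≤ D / 2 → P.coeff k = Q.coeff k := fun k hk => by
    rcases k with _ | k
    · exact h0
    · exact h k (by omega)
  by_cases hi : i ≤ D / 2
  · exact low i hi
  by_cases hiD : i ≤ D
  · have e1 := hP.coeff_sub (i := D - i) (by omega)
    have e2 := hQ.coeff_sub (i := D - i) (by omega)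
    rw [hPd, show D - (D - i) = i by omega] at e1
    rw [hQd, show D - (D - i) = i by omega] at e2
    rw [e1, e2, h0, low (D - i) (by omega)]
  · rw [coeff_eq_zero_of_natDegree_lt (by omega), coeff_eq_zero_of_natDegree_lt (by omega)]

section Count

variable [Fintype F]

theorem finite_sdn (D : ℕ) : Finite (SDN F D) := by
  refine Finite.of_injective (fun P => fun i : Fin (D + 1) => P.1.coeff i) fun P Q h => Subtype.ext ?_
  refine ext_half P.2.1 P.2.2 Q.2.1 Q.2.2 (congrFun h ⟨0, by omega⟩) fun j hj => congrFun h ⟨j + 1, by omega⟩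

theorem card_sdn_le (D : ℕ) : Nat.card (SDN F D) ≤ 2 * Fintype.card F ^ (D / 2) := by
  let f : SDN F D → Bool × (Fin (D / 2) → F) := fun P => (decide (P.1.coeff 0 = 1), fun j => P.1.coeff ((j : ℕ) + 1))
  refine (Nat.card_le_card_of_injective f fun P Q h => Subtype.ext ?_).trans (by simp)
  have h1 := congrArg Prod.fst h
  simp only [f, decide_eq_decide] at h1
  refine ext_half P.2.1 P.2.2 Q.2.1 Q.2.2 ?_ fun j hj => congrFun (congrArg Prod.snd h) ⟨j, hj⟩
  rcases P.2.1.coeff_zero_cases with h2 | h2 <;> rcases Q.2.1.coeff_zero_cases with h3 | h3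
  · rw [h2, h3]
  · rw [h2, h1.1 h2]
  · rw [h1.2 h3, h3]
  · rw [h2, h3]

theorem card_sdn_zero : Nat.card (SDN F 0) ≤ 1 := by
  haveI : Subsingleton (SDN F 0) := ⟨fun P Q => Subtype.ext
    ((P.2.1.1.natDegree_eq_zero.1 P.2.2).trans (Q.2.1.1.natDegree_eq_zero.1 Q.2.2).symm)⟩
  exact Finite.card_le_one_iff_subsingleton.2 this

theorem card_sdn_pos (j : ℕ) :
    Nat.card {P : SDN F (2 * j) // P.1.coeff 0 = 1} ≤ Fintype.card F ^ j := by
  let f : {P : SDN F (2 * j) // P.1.coeff 0 = 1} → (Fin j → F) := fun P i => P.1.1.coeff ((i : ℕ) + 1)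
  refine (Nat.card_le_card_of_injective f fun P Q h => Subtype.ext (Subtype.ext ?_)).trans (by simp)
  exact ext_half P.1.2.1 P.1.2.2 Q.1.2.1 Q.1.2.2 (P.2.trans Q.2.symm) fun i hi => congrFun h ⟨i, by omega⟩

theorem card_sdn_even (h2 : (2 : F) ≠ 0) (j : ℕ) :
    Nat.card (SDN F (2 * (j + 1))) ≤ Fintype.card F ^ (j + 1) + Fintype.card F ^ j := by
  haveI := finite_sdn (F := F) (2 * (j + 1))
  let g : {P : SDN F (2 * (j + 1)) // ¬ P.1.coeff 0 = 1} → (Fin j → F) := fun P i => P.1.1.coeff ((i : ℕ) + 1)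
  have hg : Function.Injective g := by
    intro P Q h
    have hm : ∀ R : {P : SDN F (2 * (j + 1)) // ¬ P.1.coeff 0 = 1}, R.1.1.coeff 0 = -1 ∧ R.1.1.coeff (j + 1) = 0 := by
      intro R
      have h1 := R.1.2.1.coeff_zero_cases.resolve_left R.2
      refine ⟨h1, ?_⟩
      have e := R.1.2.1.coeff_sub (i := j + 1) (by rw [R.1.2.2]; omega)
      rw [R.1.2.2, show 2 * (j + 1) - (j + 1) = j + 1 by omega, h1] at e
      have : (2 : F) * R.1.1.coeff (j + 1) = 0 := by linear_combination e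
      exact (mul_eq_zero.1 this).resolve_left h2
    refine Subtype.ext (Subtype.ext (ext_half P.1.2.1 P.1.2.2 Q.1.2.1 Q.1.2.2 ((hm P).1.trans (hm Q).1.symm)
      fun i hi => ?_))
    rcases Nat.lt_or_ge i j with hij | hij
    · exact congrFun h ⟨i, hij⟩
    · obtain rfl : i = j := by omega
      rw [(hm P).2, (hm Q).2]
  rw [← Nat.card_congr (Equiv.sumCompl fun P : SDN F (2 * (j + 1)) => P.1.coeff 0 = 1), Nat.card_sum]
  exact Nat.add_le_add (card_sdn_pos (j + 1)) ((Nat.card_le_card_of_injective g hg).trans (by simp))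

theorem sdual_div {r : F} (hr : r * r = 1) {P : F[X]} (hP : SDual P) (hev : P.eval r = 0) :
    SDual (P /ₘ (X - C r)) ∧ (X - C r) * (P /ₘ (X - C r)) = P ∧
      (P /ₘ (X - C r)).natDegree + 1 = P.natDegree := by
  have e : (X - C r) * (P /ₘ (X - C r)) = P := mul_divByMonic_eq_iff_isRoot.2 hev
  have hQ : (P /ₘ (X - C r)).Monic := (monic_X_sub_C r).of_mul_monic_left (e.symm ▸ hP.1)
  refine ⟨(sdual_linear hr).of_mul (e.symm ▸ hP) hQ, e, ?_⟩
  conv_rhs => rw [← e]
  rw [(monic_X_sub_C r).natDegree_mul hQ, natDegree_X_sub_C, add_comm]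

theorem card_root_le {r : F} (hr : r * r = 1) (D : ℕ) :
    Nat.card {P : SDN F (D + 1) // P.1.eval r = 0} ≤ Nat.card (SDN F D) := by
  haveI := finite_sdn (F := F) D
  refine Nat.card_le_card_of_injective (fun P => (⟨P.1.1 /ₘ (X - C r), (sdual_div hr P.1.2.1 P.2).1, by
    have h1 := (sdual_div hr P.1.2.1 P.2).2.2
    have h2 := P.1.2.2
    omega⟩ : SDN F D)) fun P Q h => Subtype.ext (Subtype.ext ?_)
  rw [← (sdual_div hr P.1.2.1 P.2).2.1, ← (sdual_div hr Q.1.2.1 Q.2).2.1,
    show P.1.1 /ₘ (X - C r) = Q.1.1 /ₘ (X - C r) from congrArg Subtype.val h]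

theorem card_roots_le (h2 : (2 : F) ≠ 0) (D : ℕ) :
    Nat.card {P : SDN F (D + 2) // P.1.eval 1 = 0 ∧ P.1.eval (-1) = 0} ≤ Nat.card (SDN F D) := by
  haveI := finite_sdn (F := F) D
  have key : ∀ P : {P : SDN F (D + 2) // P.1.eval 1 = 0 ∧ P.1.eval (-1) = 0},
      (P.1.1 /ₘ (X - C 1)).eval (-1) = 0 := fun P => by
    have e := congrArg (eval (-1 : F)) (sdual_div (one_mul 1) P.1.2.1 P.2.1).2.1
    rw [eval_mul, eval_sub, eval_X, eval_C, P.2.2] at e
    exact (mul_eq_zero.1 e).resolve_left fun h => h2 (by linear_combination -h)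
  refine le_trans ?_ (card_root_le (F := F) (r := -1) (by norm_num) D)
  haveI := finite_sdn (F := F) (D + 1)
  refine Nat.card_le_card_of_injective (fun P => (⟨⟨P.1.1 /ₘ (X - C 1), (sdual_div (one_mul 1) P.1.2.1 P.2.1).1, by
    have h1 := (sdual_div (one_mul 1) P.1.2.1 P.2.1).2.2
    have h2 := P.1.2.2
    omega⟩, key P⟩ : {P : SDN F (D + 1) // P.1.eval (-1) = 0})) fun P Q h => Subtype.ext (Subtype.ext ?_)
  rw [← (sdual_div (one_mul 1) P.1.2.1 P.2.1).2.1, ← (sdual_div (one_mul 1) Q.1.2.1 Q.2.1).2.1,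
    show P.1.1 /ₘ (X - C 1) = Q.1.1 /ₘ (X - C 1) from congrArg (fun x => x.1.1) h]

/-- Entries of a given degree. -/
abbrev Piece (F : Type u) [Field F] (i a : ℕ) : Type u :=
  {x : F[X] × (Bool × Bool) // Good i x ∧ x.1.natDegree = a}

theorem finite_piece (i a : ℕ) : Finite (Piece F i a) := by
  haveI := finite_sdn (F := F) a
  refine Finite.of_injective (fun x => ((⟨x.1.1, x.2.1.1, x.2.2⟩ : SDN F a), x.1.2)) fun x y h => ?_
  simp only [Prod.mk.injEq, Subtype.mk.injEq] at h
  exact Subtype.ext (Prod.ext h.1 h.2)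

/-- The weights for even sizes. -/
def cw (q : ℕ) : ℕ → ℕ
  | 0 => 1
  | 1 => 4
  | a + 2 => q * cw q a + Nat.choose 4 (a + 2)

theorem cw_shape (q : ℕ) : ∀ j : ℕ, cw q (2 * j + 3) = 4 * q ^ (j + 1) + 4 * q ^ j ∧
    cw q (2 * j + 4) = q ^ (j + 2) + 6 * q ^ (j + 1) + q ^ j
  | 0 => by
    simp only [cw, show Nat.choose 4 3 = 4 from rfl, show Nat.choose 4 2 = 6 from rfl, show Nat.choose 4 4 = 1 from rfl]
    constructor <;> ring
  | j + 1 => by
    obtain ⟨h1, h2⟩ := cw_shape q j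
    have e1 : cw q (2 * j + 3 + 2) = q * cw q (2 * j + 3) + Nat.choose 4 (2 * j + 3 + 2) := rfl
    have e2 : cw q (2 * j + 4 + 2) = q * cw q (2 * j + 4) + Nat.choose 4 (2 * j + 4 + 2) := rfl
    rw [show 2 * (j + 1) + 3 = (2 * j + 3) + 2 by ring, show 2 * (j + 1) + 4 = (2 * j + 4) + 2 by ring, e1, e2, h1, h2,
      Nat.choose_eq_zero_of_lt (by omega), Nat.choose_eq_zero_of_lt (by omega)]
    constructor <;> ring

theorem card_piece_even (h2 : (2 : F) ≠ 0) (i a : ℕ) : Nat.card (Piece F i a) ≤ cw (Fintype.card F) a := by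
  haveI := finite_piece (F := F) i a
  haveI := finite_sdn (F := F) a
  let T := SDN F a ⊕ {P : SDN F a // P.1.eval 1 = 0} ⊕ {P : SDN F a // P.1.eval (-1) = 0} ⊕
    {P : SDN F a // P.1.eval 1 = 0 ∧ P.1.eval (-1) = 0}
  let f : Piece F i a → T := fun x =>
    if h1 : x.1.2.1 = true then
      if h2 : x.1.2.2 = true then .inr (.inr (.inr ⟨⟨x.1.1, x.2.1.1, x.2.2⟩, x.2.1.2.2.1 h1, x.2.1.2.2.2 h2⟩))
      else .inr (.inl ⟨⟨x.1.1, x.2.1.1, x.2.2⟩, x.2.1.2.2.1 h1⟩)
    else
      if h2 : x.1.2.2 = true then .inr (.inr (.inl ⟨⟨x.1.1, x.2.1.1, x.2.2⟩, x.2.1.2.2.2 h2⟩))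
      else .inl ⟨x.1.1, x.2.1.1, x.2.2⟩
  have hf : Function.Injective f := by
    rintro ⟨⟨P, ⟨a1, a2⟩⟩, hP⟩ ⟨⟨Q, ⟨b1, b2⟩⟩, hQ⟩ h
    cases a1 <;> cases a2 <;> cases b1 <;> cases b2 <;> simp [f, T] at h ⊢ <;> exact h
  refine (Nat.card_le_card_of_injective f hf).trans ?_
  simp only [T, Nat.card_sum]
  have hq : 1 ≤ Fintype.card F := Fintype.card_pos
  have hz : ∀ (r : F), Nat.card {P : SDN F 0 // P.1.eval r = 0} = 0 := fun r => by
    haveI : IsEmpty {P : SDN F 0 // P.1.eval r = 0} := ⟨fun P => by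
      have := P.2
      rw [P.1.2.1.1.natDegree_eq_zero.1 P.1.2.2, eval_one] at this
      exact one_ne_zero this⟩
    exact Nat.card_of_isEmpty
  have hr1 : (1 : F) * 1 = 1 := one_mul 1
  have hr2 : (-1 : F) * -1 = 1 := by norm_num
  rcases a with _ | _ | a
  · have h00 : Nat.card {P : SDN F 0 // P.1.eval 1 = 0 ∧ P.1.eval (-1) = 0} = 0 := by
      haveI : IsEmpty {P : SDN F 0 // P.1.eval 1 = 0 ∧ P.1.eval (-1) = 0} := ⟨fun P => by
        have := P.2.1
        rw [P.1.2.1.1.natDegree_eq_zero.1 P.1.2.2, eval_one] at this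
        exact one_ne_zero this⟩
      exact Nat.card_of_isEmpty
    have := card_sdn_zero (F := F)
    rw [hz, hz, h00, cw]
    omega
  · have h11 : Nat.card {P : SDN F 1 // P.1.eval 1 = 0 ∧ P.1.eval (-1) = 0} = 0 := by
      haveI : IsEmpty {P : SDN F 1 // P.1.eval 1 = 0 ∧ P.1.eval (-1) = 0} := ⟨fun P => h2 (by
        have e1 := P.2.1
        have e2 := P.2.2
        rw [P.1.2.1.1.eq_X_add_C P.1.2.2, eval_add, eval_X, eval_C] at e1 e2
        linear_combination e1 - e2)⟩
      exact Nat.card_of_isEmpty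
    have := card_sdn_zero (F := F)
    have := card_sdn_le (F := F) 1
    have := card_root_le (F := F) hr1 0
    have := card_root_le (F := F) hr2 0
    rw [h11, cw]
    norm_num at *
    omega
  · have e1 := card_root_le (F := F) hr1 (a + 1)
    have e2 := card_root_le (F := F) hr2 (a + 1)
    have e3 := card_roots_le (F := F) h2 a
    have e4 := card_sdn_le (F := F) (a + 1)
    rw [show a + 1 + 1 = a + 2 from rfl] at e1 e2 ⊢
    rcases Nat.even_or_odd a with ⟨j, hj⟩ | ⟨j, hj⟩
    · have e5 : Nat.card (SDN F (a + 2)) ≤ Fintype.card F ^ (j + 1) + Fintype.card F ^ j := by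
        rw [show a + 2 = 2 * (j + 1) by omega]; exact card_sdn_even h2 j
      rw [show (a + 1) / 2 = j by omega] at e4
      rcases j with _ | j
      · obtain rfl : a = 0 := by omega
        have e6 := card_sdn_zero (F := F)
        rw [show cw (Fintype.card F) (0 + 2) = Fintype.card F + 6 by
          simp [cw, show Nat.choose 4 2 = 6 from rfl]]
        simp only [show Fintype.card F ^ (0 + 1) = Fintype.card F from pow_one _, pow_zero] at e4 e5
        omega
      · have e6 : Nat.card (SDN F a) ≤ Fintype.card F ^ (j + 1) + Fintype.card F ^ j := by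
          rw [show a = 2 * (j + 1) by omega]; exact card_sdn_even h2 j
        rw [show cw (Fintype.card F) (a + 2) = _ from
          (congrArg (cw _) (show a + 2 = 2 * j + 4 by omega)).trans (cw_shape _ j).2]
        rw [show j + 1 + 1 = j + 2 by omega] at e5
        omega
    · have e5 := card_sdn_le (F := F) (a + 2)
      have e6 := card_sdn_le (F := F) a
      rw [show (a + 2) / 2 = j + 1 by omega] at e5
      rw [show a / 2 = j by omega] at e6
      rw [show (a + 1) / 2 = j + 1 by omega] at e4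
      have e7 : Nat.card (SDN F (a + 1)) ≤ Fintype.card F ^ (j + 1) + Fintype.card F ^ j := by
        rw [show a + 1 = 2 * (j + 1) by omega]; exact card_sdn_even h2 j
      rw [show cw (Fintype.card F) (a + 2) = _ from
        (congrArg (cw _) (show a + 2 = 2 * j + 3 by omega)).trans (cw_shape _ j).1]
      omega

/-- The weights for odd sizes. -/
def co (q : ℕ) : ℕ → ℕ
  | 0 => 1
  | 1 => 0
  | a + 2 => q * co q a

theorem co_two_mul (q : ℕ) : ∀ j : ℕ, co q (2 * j) = q ^ j
  | 0 => rfl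
  | j + 1 => by rw [show 2 * (j + 1) = 2 * j + 2 by ring, co, co_two_mul q j, pow_succ']

theorem card_piece_odd {i : ℕ} (hi : Odd i) (a : ℕ) : Nat.card (Piece F i a) ≤ co (Fintype.card F) a := by
  rcases Nat.even_or_odd a with ⟨j, hj⟩ | ha
  · obtain rfl : a = 2 * j := by omega
    rw [co_two_mul]
    haveI := finite_sdn (F := F) (2 * j)
    refine (Nat.card_le_card_of_injective (fun x : Piece F i (2 * j) =>
      (⟨⟨x.1.1, x.2.1.1, x.2.2⟩, (x.2.1.2.1 hi).2.1⟩ : {P : SDN F (2 * j) // P.1.coeff 0 = 1})) ?_).trans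
        (card_sdn_pos j)
    intro x y h
    exact Subtype.ext (Prod.ext (congrArg (fun z => z.1.1) h) ((x.2.1.2.1 hi).2.2.trans (y.2.1.2.1 hi).2.2.symm))
  · haveI : IsEmpty (Piece F i a) := ⟨fun x => Nat.not_even_iff_odd.2 ha (x.2.2 ▸ (x.2.1.2.1 hi).1)⟩
    simp

theorem ws_zero (n : ℕ) : Finite (WS F 0 n) ∧ Nat.card (WS F 0 n) ≤ if n = 0 then 1 else 0 := by
  haveI : Subsingleton (WS F 0 n) := ⟨fun a b => Subtype.ext (Subsingleton.elim _ _)⟩
  refine ⟨inferInstance, ?_⟩
  split_ifs with h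
  · exact Finite.card_le_one_iff_subsingleton.2 this
  · haveI : IsEmpty (WS F 0 n) := ⟨fun g => h (by have := g.2.2; simpa using this.symm)⟩
    simp

theorem ws_step (M n : ℕ) (hfin : ∀ k, Finite (WS F M k)) : Finite (WS F (M + 1) n) ∧
    Nat.card (WS F (M + 1) n) ≤ ∑ a ∈ Finset.range (n / (M + 1) + 1),
      Nat.card (Piece F (M + 1) a) * Nat.card (WS F M (n - (M + 1) * a)) := by
  let T := Σ a : Fin (n / (M + 1) + 1), Piece F (M + 1) a × WS F M (n - (M + 1) * a)
  haveI : ∀ a, Finite (Piece F (M + 1) a) := fun a => finite_piece _ _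
  haveI := hfin
  have hlast : ∀ g : WS F (M + 1) n, (M + 1) * (g.1 (Fin.last M)).1.natDegree ≤ n := fun g => by
    conv_rhs => rw [← g.2.2]
    exact Finset.single_le_sum (f := fun i : Fin (M + 1) => ((i : ℕ) + 1) * (g.1 i).1.natDegree)
      (fun i _ => Nat.zero_le _) (Finset.mem_univ (Fin.last M))
  let φ : WS F (M + 1) n → T := fun g =>
    ⟨⟨(g.1 (Fin.last M)).1.natDegree, Nat.lt_succ_of_le ((Nat.le_div_iff_mul_le (Nat.succ_pos M)).2
        (by rw [Nat.mul_comm]; exact hlast g))⟩,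
      ⟨g.1 (Fin.last M), g.2.1 _, rfl⟩,
      ⟨fun i => g.1 i.castSucc, fun i => g.2.1 _, by
        have h := g.2.2
        rw [Fin.sum_univ_castSucc] at h
        simp only [Fin.val_castSucc, Fin.val_last] at h
        show ∑ i : Fin M, ((i : ℕ) + 1) * (g.1 i.castSucc).1.natDegree = n - (M + 1) * (g.1 (Fin.last M)).1.natDegree
        omega⟩⟩
  have hφ : Function.Injective φ := by
    intro g g' h
    have h1 := congrArg (fun t : T => t.2.1.1) h
    have h2 := congrArg (fun t : T => t.2.2.1) h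
    refine Subtype.ext (funext fun i => ?_)
    induction i using Fin.lastCases with
    | last => exact h1
    | cast i => exact congrFun h2 i
  refine ⟨Finite.of_injective φ hφ, (Nat.card_le_card_of_injective φ hφ).trans (le_of_eq ?_)⟩
  rw [Nat.card_sigma, Fin.sum_univ_eq_sum_range
    (fun a => Nat.card (Piece F (M + 1) a × WS F M (n - (M + 1) * a)))]
  simp only [Nat.card_prod]

theorem ws_finite : ∀ M n, Finite (WS F M n)
  | 0, n => (ws_zero n).1
  | M + 1, n => (ws_step M n (ws_finite M)).1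

end Count

/-! ### The generating function at `1 / q` -/

theorem sum_series_le {q y : ℝ} (hq : 0 ≤ q) (hy : 0 ≤ y) (hqy : q * y ^ 2 < 1) (w c : ℕ → ℝ) (h0 : w 0 = c 0)
    (h1 : w 1 = c 1) (hrec : ∀ a, w (a + 2) = q * w a + c (a + 2)) (hc : ∀ a, 0 ≤ c a) {T : ℝ}
    (hT : ∀ A, ∑ a ∈ Finset.range A, c a * y ^ a ≤ T) :
    ∀ A, ∑ a ∈ Finset.range A, w a * y ^ a ≤ T / (1 - q * y ^ 2) := by
  have hpos : 0 < 1 - q * y ^ 2 := by linarith
  have hT0 : 0 ≤ T := le_trans (by simp) (hT 0)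
  have hTle : T ≤ T / (1 - q * y ^ 2) := le_div_self hT0 hpos (by nlinarith)
  intro A
  induction A using Nat.strong_induction_on with
  | _ A ih =>
    rcases A with _ | _ | A
    · simpa using div_nonneg hT0 hpos.le
    · simpa [h0] using (hT 1).trans hTle
    · have h2 := hT (A + 2)
      have hI := ih A (by omega)
      have hs : ∀ f : ℕ → ℝ, ∑ a ∈ Finset.range (A + 2), f a * y ^ a =
          ∑ a ∈ Finset.range A, f (a + 2) * y ^ (a + 2) + f 1 * y + f 0 := fun f => by
        rw [Finset.sum_range_succ', Finset.sum_range_succ']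
        simp
      have hrw : ∑ a ∈ Finset.range A, w (a + 2) * y ^ (a + 2) =
          q * y ^ 2 * ∑ a ∈ Finset.range A, w a * y ^ a + ∑ a ∈ Finset.range A, c (a + 2) * y ^ (a + 2) := by
        rw [Finset.mul_sum, ← Finset.sum_add_distrib]
        refine Finset.sum_congr rfl fun a _ => ?_
        rw [hrec, pow_add]; ring
      rw [show A + 1 + 1 = A + 2 from rfl, hs w, hrw]
      rw [hs c] at h2
      have hmul := mul_le_mul_of_nonneg_left hI (show 0 ≤ q * y ^ 2 by positivity)
      have e : q * y ^ 2 * (T / (1 - q * y ^ 2)) + T = T / (1 - q * y ^ 2) := by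
        field_simp
        ring
      rw [h1, h0] at *
      linarith

/-- The product bounding the generating function. -/
noncomputable def Pb (x : ℝ) : ℕ → ℝ
  | 0 => 1
  | k + 1 => Pb x k * ((1 + x ^ (k + 1)) ^ 4 / (1 - x ^ (k + 1)))

theorem factor_one_le {x : ℝ} (h0 : 0 ≤ x) (h1 : x < 1) (k : ℕ) :
    1 ≤ (1 + x ^ (k + 1)) ^ 4 / (1 - x ^ (k + 1)) ∧ 0 < 1 - x ^ (k + 1) := by
  have hlt : x ^ (k + 1) < 1 := pow_lt_one₀ h0 h1 (Nat.succ_ne_zero k)
  have hp : (0 : ℝ) ≤ x ^ (k + 1) := by positivity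
  refine ⟨?_, by linarith⟩
  rw [le_div_iff₀ (by linarith), one_mul]
  calc 1 - x ^ (k + 1) ≤ 1 := by linarith
    _ ≤ (1 + x ^ (k + 1)) ^ 4 := one_le_pow₀ (by linarith)

theorem Pb_pos {x : ℝ} (h0 : 0 ≤ x) (h1 : x < 1) : ∀ k, 0 < Pb x k
  | 0 => one_pos
  | k + 1 => mul_pos (Pb_pos h0 h1 k) (lt_of_lt_of_le one_pos (factor_one_le h0 h1 k).1)

theorem Pb_mono {x : ℝ} (h0 : 0 ≤ x) (h1 : x < 1) : Monotone (Pb x) :=
  monotone_nat_of_le_succ fun k => le_mul_of_one_le_right (Pb_pos h0 h1 k).le (factor_one_le h0 h1 k).1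

theorem Pb_anti {x x' : ℝ} (h0 : 0 ≤ x) (h : x ≤ x') (h1 : x' < 1) : ∀ k, Pb x k ≤ Pb x' k
  | 0 => le_rfl
  | k + 1 => by
    have hp : x ^ (k + 1) ≤ x' ^ (k + 1) := pow_le_pow_left₀ h0 h _
    have hp0 : (0 : ℝ) ≤ x ^ (k + 1) := by positivity
    refine mul_le_mul (Pb_anti h0 h h1 k) ?_ (le_trans zero_le_one (factor_one_le h0 (lt_of_le_of_lt h h1) k).1)
      (Pb_pos (h0.trans h) h1 k).le
    exact div_le_div₀ (by positivity) (pow_le_pow_left₀ (by linarith) (by linarith) 4)
      (factor_one_le (h0.trans h) h1 k).2 (by linarith)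

theorem Pb_third (k : ℕ) : Pb (1 / 3) k ≤ 108 / 10 := by
  have hbase : Pb (1 / 3) 7 * (1 + 3 * (1 / 3 : ℝ) ^ 7) ≤ 108 / 10 := by norm_num [Pb]
  have hstep : ∀ d : ℕ, Pb (1 / 3) (7 + d) * (1 + 3 * (1 / 3 : ℝ) ^ (7 + d)) ≤ 108 / 10 := by
    intro d
    induction d with
    | zero => exact hbase
    | succ d ih =>
      refine le_trans ?_ ih
      rw [← Nat.add_assoc, Pb, mul_assoc]
      refine mul_le_mul_of_nonneg_left ?_ (Pb_pos (by norm_num) (by norm_num) _).le
      set y : ℝ := (1 / 3) ^ (7 + d) with hy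
      have hy0 : 0 < y := by positivity
      have hy1 : y ≤ (1 / 3) ^ 7 := pow_le_pow_of_le_one (by norm_num) (by norm_num) (by omega)
      rw [pow_succ (1 / 3 : ℝ) (7 + d), ← hy, div_mul_eq_mul_div, div_le_iff₀ (by nlinarith)]
      have hy2 : y ≤ 1 / 1000 := hy1.trans (by norm_num)
      have h4 : (1 + y * (1 / 3)) ^ 4 ≤ 1 + 7 / 5 * y := by
        have e : (1 + y * (1 / 3)) ^ 2 ≤ 1 + 0.67 * y := by nlinarith
        have e2 := pow_le_pow_left₀ (by positivity) e 2
        rw [← pow_mul] at e2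
        refine e2.trans ?_
        nlinarith
      refine (mul_le_mul_of_nonneg_right h4 (by positivity)).trans ?_
      nlinarith
  have hmain : ∀ d, Pb (1 / 3) (7 + d) ≤ 108 / 10 := fun d =>
    (le_mul_of_one_le_right (Pb_pos (by norm_num) (by norm_num) _).le
      (le_add_of_nonneg_right (by positivity))).trans (hstep d)
  rcases Nat.lt_or_ge k 7 with h | h
  · exact (Pb_mono (by norm_num) (by norm_num) h.le).trans (hmain 0)
  · obtain ⟨d, rfl⟩ := Nat.exists_eq_add_of_le h
    exact hmain d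

/-- The products actually occurring. -/
noncomputable def Ab (x : ℝ) : ℕ → ℝ
  | 0 => 1
  | k + 1 => Ab x k * (1 + x ^ (k + 1)) ^ 4

/-- The products actually occurring. -/
noncomputable def Bb (x : ℝ) : ℕ → ℝ
  | 0 => 1
  | k + 1 => Bb x k / (1 - x ^ (k + 1))

theorem Pb_eq (x : ℝ) : ∀ k, Pb x k = Ab x k * Bb x k
  | 0 => by simp [Pb, Ab, Bb]
  | k + 1 => by rw [Pb, Ab, Bb, Pb_eq x k]; ring

theorem Ab_mono {x : ℝ} (h0 : 0 ≤ x) : Monotone (Ab x) ∧ ∀ k, 0 ≤ Ab x k := by
  have hpos : ∀ k, 0 ≤ Ab x k := fun k => by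
    induction k with
    | zero => exact zero_le_one
    | succ k ih => exact mul_nonneg ih (by positivity)
  exact ⟨monotone_nat_of_le_succ fun k => le_mul_of_one_le_right (hpos k)
    (one_le_pow₀ (le_add_of_nonneg_right (by positivity))), hpos⟩

theorem Bb_mono {x : ℝ} (h0 : 0 ≤ x) (h1 : x < 1) : Monotone (Bb x) ∧ ∀ k, 0 ≤ Bb x k := by
  have hpos : ∀ k, 0 ≤ Bb x k := fun k => by
    induction k with
    | zero => exact zero_le_one
    | succ k ih => exact div_nonneg ih (factor_one_le h0 h1 k).2.le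
  refine ⟨monotone_nat_of_le_succ fun k => le_div_self (hpos k) (factor_one_le h0 h1 k).2 ?_, hpos⟩
  have : (0 : ℝ) ≤ x ^ (k + 1) := by positivity
  linarith

section Main

variable [Fintype F] (h2 : (2 : F) ≠ 0) (hq : 3 ≤ Fintype.card F)

include h2 hq in
theorem card_ws_le : ∀ M n : ℕ, (Nat.card (WS F M n) : ℝ) ≤
    Ab ((Fintype.card F : ℝ))⁻¹ (M / 2) * Bb ((Fintype.card F : ℝ))⁻¹ (M - 1) * Real.sqrt (Fintype.card F) ^ n := by
  intro M
  induction M with
  | zero =>
    intro n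
    have h := (ws_zero (F := F) n).2
    simp only [Nat.zero_div, Nat.zero_sub, Ab, Bb, one_mul]
    rcases eq_or_ne n 0 with rfl | hn
    · rw [if_pos rfl] at h
      rw [pow_zero]; exact_mod_cast h
    · rw [if_neg hn] at h
      rw [Nat.le_zero.1 h, Nat.cast_zero]; positivity
  | succ M ih =>
    intro n
    have hstep := (ws_step (F := F) M n (ws_finite M)).2
    have hs2 : Real.sqrt (Fintype.card F) ^ 2 = (Fintype.card F : ℝ) := Real.sq_sqrt (by positivity)
    set q : ℕ := Fintype.card F with hqdef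
    set x : ℝ := ((q : ℝ))⁻¹ with hx
    set s : ℝ := Real.sqrt q with hs
    have hq1 : (1 : ℝ) < q := by exact_mod_cast (show 1 < q by omega)
    have hx0 : (0 : ℝ) ≤ x := by rw [hx]; positivity
    have hx1 : x < 1 := inv_lt_one_of_one_lt₀ hq1
    have hs0 : 0 < s := by rw [hs]; positivity
    rcases Nat.eq_zero_or_pos M with rfl | hM
    · -- blocks of size one
      simp only [zero_add, Nat.div_one, one_mul] at hstep
      have hsum : ∑ a ∈ Finset.range (n + 1), Nat.card (Piece F 1 a) * Nat.card (WS F 0 (n - a)) ≤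
          Nat.card (Piece F 1 n) := by
        rw [Finset.sum_eq_single_of_mem n (Finset.self_mem_range_succ n)]
        · refine (Nat.mul_le_mul_left _ (ws_zero _).2).trans ?_
          rw [Nat.sub_self, if_pos rfl, mul_one]
        · intro a ha hne
          have h := (ws_zero (F := F) (n - a)).2
          rw [Finset.mem_range] at ha
          rw [if_neg (by omega)] at h
          rw [Nat.le_zero.1 h, mul_zero]
      have h1 : Nat.card (WS F 1 n) ≤ co q n :=
        (hstep.trans hsum).trans (card_piece_odd odd_one n)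
      show (Nat.card (WS F 1 n) : ℝ) ≤ Ab x 0 * Bb x 0 * s ^ n
      rw [Ab, Bb, one_mul, one_mul]
      refine (Nat.cast_le.2 h1).trans ?_
      rcases Nat.even_or_odd n with ⟨j, rfl⟩ | hn
      · rw [← two_mul, co_two_mul, pow_mul, hs2]
        push_cast
        exact le_rfl
      · have : co q n = 0 := by
          obtain ⟨j, rfl⟩ := hn
          clear * - 
          induction j with
          | zero => rfl
          | succ j ih => rw [show 2 * (j + 1) + 1 = 2 * j + 1 + 2 by ring, co, ih, mul_zero]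
        rw [this, Nat.cast_zero]; positivity
    -- larger blocks
    set i := M + 1 with hi
    set y : ℝ := (s ^ i)⁻¹ with hy
    have hy0 : 0 ≤ y := by rw [hy]; positivity
    have hqy : (q : ℝ) * y ^ 2 = x ^ M := by
      rw [hy, inv_pow, ← pow_mul, mul_comm i, pow_mul, hs2, hi, hx, inv_pow, pow_succ]
      field_simp
    have hqy1 : (q : ℝ) * y ^ 2 < 1 := by rw [hqy]; exact pow_lt_one₀ hx0 hx1 (by omega)
    set w : ℕ → ℕ := if Even i then cw q else co q with hw
    have hpw : ∀ a, Nat.card (Piece F i a) ≤ w a := fun a => by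
      rw [hw]
      split_ifs with he
      · exact card_piece_even h2 i a
      · exact card_piece_odd (Nat.not_even_iff_odd.1 he) a
    set T : ℝ := if Even i then (1 + x ^ (i / 2)) ^ 4 else 1 with hT
    have hW : ∀ A, ∑ a ∈ Finset.range A, (w a : ℝ) * y ^ a ≤ T / (1 - x ^ M) := by
      intro A
      rw [← hqy]
      by_cases he : Even i
      · obtain ⟨k, hk⟩ := he
        have hye : y = x ^ (i / 2) := by
          rw [hy, hx, inv_pow, show i = 2 * (i / 2) by omega, pow_mul, hs2]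
          congr 2
          omega
        rw [hw, hT, if_pos ⟨k, hk⟩, if_pos ⟨k, hk⟩, ← hye]
        refine sum_series_le (q := (q : ℝ)) (by positivity) hy0 hqy1 (fun a => (cw q a : ℝ))
          (fun a => (Nat.choose 4 a : ℝ)) (by simp [cw]) (by simp [cw]) (fun a => by simp [cw])
          (fun a => Nat.cast_nonneg _) (fun B => ?_) A
        have e : ((1 : ℝ) + y) ^ 4 = ∑ a ∈ Finset.range 5, (Nat.choose 4 a : ℝ) * y ^ a := by
          rw [add_comm, add_pow]
          exact Finset.sum_congr rfl fun a _ => by rw [one_pow, mul_one, mul_comm]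
        rw [e]
        rcases Nat.lt_or_ge B 5 with hB | hB
        · exact Finset.sum_le_sum_of_subset_of_nonneg (Finset.range_subset_range.2 hB.le) fun a _ _ => by positivity
        · refine le_of_eq (Finset.sum_subset (Finset.range_subset_range.2 hB) fun a _ ha => ?_).symm
          rw [Finset.mem_range] at ha
          rw [Nat.choose_eq_zero_of_lt (by omega), Nat.cast_zero, zero_mul]
      · rw [hw, hT, if_neg he, if_neg he]
        refine sum_series_le (q := (q : ℝ)) (by positivity) hy0 hqy1 (fun a => (co q a : ℝ))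
          (fun a => if a = 0 then 1 else 0) (by simp [co]) (by simp [co]) (fun a => by simp [co])
          (fun a => by split_ifs <;> norm_num) (fun B => ?_) A
        simp only [ite_mul, zero_mul, Finset.sum_ite_eq', pow_zero, mul_one]
        split_ifs <;> norm_num
    set Cc := Ab x (M / 2) * Bb x (M - 1) with hCc
    have hCc0 : 0 ≤ Cc := mul_nonneg ((Ab_mono hx0).2 _) ((Bb_mono hx0 hx1).2 _)
    have hterm : ∀ a ∈ Finset.range (n / i + 1), ((Nat.card (Piece F i a) * Nat.card (WS F M (n - i * a)) : ℕ) : ℝ) ≤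
        Cc * s ^ n * ((w a : ℝ) * y ^ a) := by
      intro a ha
      rw [Finset.mem_range] at ha
      have hle : i * a ≤ n := (Nat.mul_le_mul_left _ (Nat.lt_succ_iff.1 ha)).trans (Nat.mul_div_le n i)
      push_cast
      refine (mul_le_mul (Nat.cast_le.2 (hpw a)) (ih (n - i * a)) (Nat.cast_nonneg _) (Nat.cast_nonneg _)).trans
        (le_of_eq ?_)
      rw [pow_sub₀ _ hs0.ne' hle, hy, inv_pow, ← pow_mul]
      ring
    refine (Nat.cast_le.2 hstep).trans ?_
    rw [Nat.cast_sum]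
    refine (Finset.sum_le_sum hterm).trans ?_
    rw [← Finset.mul_sum]
    refine (mul_le_mul_of_nonneg_left (hW _) (by positivity)).trans (le_of_eq ?_)
    obtain ⟨M', hM'⟩ : ∃ M', M = M' + 1 := ⟨M - 1, by omega⟩
    rw [hCc, hT, show i - 1 = M by omega]
    conv_rhs => rw [show Bb x M = Bb x (M - 1) / (1 - x ^ M) by rw [hM']; rfl]
    by_cases he : Even i
    · obtain ⟨k, hk⟩ := he
      rw [if_pos ⟨k, hk⟩]
      have : Ab x (i / 2) = Ab x (M / 2) * (1 + x ^ (i / 2)) ^ 4 := by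
        rw [show i / 2 = M / 2 + 1 by omega]; rfl
      rw [this]
      ring
    · rw [if_neg he]
      have he' := Nat.not_even_iff_odd.1 he
      obtain ⟨k, hk⟩ := he'
      rw [show i / 2 = M / 2 by omega]
      ring

include h2 hq in
theorem class_le (p : ℕ) [Fact p.Prime] [CharP F p] (hp : p ≠ 2) (m : ℕ) :
    5 * Nat.card (ConjClasses (Matrix.symplecticGroup (Fin m) F)) ≤ 54 * Fintype.card F ^ m := by
  haveI := ws_finite (F := F) (2 * m) (2 * m)
  have h1 : (Nat.card (ConjClasses (Matrix.symplecticGroup (Fin m) F)) : ℝ) ≤ (Nat.card (WS F (2 * m) (2 * m)) : ℝ) := by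
    exact_mod_cast card_classes_le p hp
  have h3 := card_ws_le h2 hq (2 * m) (2 * m)
  rw [pow_mul, Real.sq_sqrt (by positivity)] at h3
  have hx0 : (0 : ℝ) ≤ ((Fintype.card F : ℝ))⁻¹ := by positivity
  have hq3 : (3 : ℝ) ≤ Fintype.card F := by exact_mod_cast hq
  have hx3 : ((Fintype.card F : ℝ))⁻¹ ≤ 1 / 3 := by rw [one_div]; exact inv_anti₀ (by norm_num) hq3
  have hx1 : ((Fintype.card F : ℝ))⁻¹ < 1 := by linarith
  have hP : Ab ((Fintype.card F : ℝ))⁻¹ (2 * m / 2) * Bb ((Fintype.card F : ℝ))⁻¹ (2 * m - 1) ≤ 108 / 10 := by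
    refine le_trans ?_ (Pb_third (2 * m))
    refine le_trans ?_ (Pb_anti hx0 hx3 (by norm_num) (2 * m))
    rw [Pb_eq]
    exact mul_le_mul ((Ab_mono hx0).1 (by omega)) ((Bb_mono hx0 hx1).1 (by omega)) ((Bb_mono hx0 hx1).2 _)
      ((Ab_mono hx0).2 _)
  have h4 : (5 : ℝ) * Nat.card (ConjClasses (Matrix.symplecticGroup (Fin m) F)) ≤ 54 * (Fintype.card F : ℝ) ^ m := by
    have := (h1.trans h3).trans (mul_le_mul_of_nonneg_right hP (by positivity))
    linarith
  exact_mod_cast h4

end Main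

end Cfsg.Agent.GL.SpClassNumber
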