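/-
Counting the class data of orthogonal groups (odd `q`) by evaluating the generating function at `1 / sqrt q`.
-/
import Cfsg.Agent.Lib.GL.SpClassNumber
import Cfsg.Agent.Lib.GL.OrthClassBound

set_option autoImplicit false
set_option linter.unusedSectionVars false

open Polynomial
open scoped Classical

namespace Cfsg.Agent.GL.OrthCount

open Cfsg.Agent.GL.SpClassBound Cfsg.Agent.GL.SpClassNumber Cfsg.Agent.GL.OrthClassBound

universe u

variable {F : Type u} [Field F]

/-- Admissible entries of a given degree. -/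
abbrev OPiece (ok : ℕ → Entry F → Prop) (i a : ℕ) : Type u := {x : Entry F // ok i x ∧ x.1.natDegree = a}

theorem wd_zero (ok : ℕ → Entry F → Prop) (n : ℕ) :
    Finite (WD F ok 0 n) ∧ Nat.card (WD F ok 0 n) ≤ if n = 0 then 1 else 0 := by
  haveI hs : Subsingleton (WD F ok 0 n) := ⟨fun a b => Subtype.ext (Subsingleton.elim _ _)⟩
  refine ⟨inferInstance, ?_⟩
  split_ifs with h
  · exact Finite.card_le_one_iff_subsingleton.2 hs
  · haveI : IsEmpty (WD F ok 0 n) := ⟨fun g => h (by have := g.2.2; simpa using this.symm)⟩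
    simp

theorem wd_step (ok : ℕ → Entry F → Prop) (hok : ∀ i a, Finite (OPiece ok i a)) (M n : ℕ)
    (hfin : ∀ k, Finite (WD F ok M k)) : Finite (WD F ok (M + 1) n) ∧
    Nat.card (WD F ok (M + 1) n) ≤ ∑ a ∈ Finset.range (n / (M + 1) + 1),
      Nat.card (OPiece ok (M + 1) a) * Nat.card (WD F ok M (n - (M + 1) * a)) := by
  let T := Σ a : Fin (n / (M + 1) + 1), OPiece ok (M + 1) a × WD F ok M (n - (M + 1) * a)
  haveI : ∀ a, Finite (OPiece ok (M + 1) a) := fun a => hok _ _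
  haveI := hfin
  have hlast : ∀ g : WD F ok (M + 1) n, (M + 1) * (g.1 (Fin.last M)).1.natDegree ≤ n := fun g => by
    conv_rhs => rw [← g.2.2]
    exact Finset.single_le_sum (f := fun i : Fin (M + 1) => ((i : ℕ) + 1) * (g.1 i).1.natDegree)
      (fun i _ => Nat.zero_le _) (Finset.mem_univ (Fin.last M))
  let φ : WD F ok (M + 1) n → T := fun g =>
    ⟨⟨(g.1 (Fin.last M)).1.natDegree, Nat.lt_succ_of_le ((Nat.le_div_iff_mul_le (Nat.succ_pos M)).2
        (by rw [Nat.mul_comm]; exact hlast g))⟩,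
      ⟨g.1 (Fin.last M), g.2.1 (Fin.last M), rfl⟩,
      ⟨fun i => g.1 i.castSucc, fun i => g.2.1 i.castSucc, by
        have h := g.2.2
        rw [Fin.sum_univ_castSucc] at h
        simp only [Fin.val_castSucc, Fin.val_last] at h
        show ∑ i : Fin M, ((i : ℕ) + 1) * (g.1 i.castSucc).1.natDegree = n - (M + 1) * (g.1 (Fin.last M)).1.natDegree
        omega⟩⟩
  have hφ : Function.Injective φ := by
    intro g g' h
    have h1 := congrArg (fun t : T => t.2.1.1) h
    have h2 := congrArg (fun t : T => t.2.2.1) h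
    refine Subtype.ext (funext fun i => ?_)
    induction i using Fin.lastCases with
    | last => exact h1
    | cast i => exact congrFun h2 i
  refine ⟨Finite.of_injective φ hφ, (Nat.card_le_card_of_injective φ hφ).trans (le_of_eq ?_)⟩
  rw [Nat.card_sigma, Fin.sum_univ_eq_sum_range
    (fun a => Nat.card (OPiece ok (M + 1) a × WD F ok M (n - (M + 1) * a)))]
  simp only [Nat.card_prod]

theorem wd_finite (ok : ℕ → Entry F → Prop) (hok : ∀ i a, Finite (OPiece ok i a)) : ∀ M n, Finite (WD F ok M n)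
  | 0, n => (wd_zero ok n).1
  | M + 1, n => (wd_step ok hok M n (wd_finite ok hok M)).1

/-- A bound for the data from bounds for the series of the single sizes. -/
theorem card_wd_le (ok : ℕ → Entry F → Prop) (hok : ∀ i a, Finite (OPiece ok i a)) (w : ℕ → ℕ → ℕ)
    (hw : ∀ i a, Nat.card (OPiece ok i a) ≤ w i a) {s : ℝ} (hs : 0 < s) (T : ℕ → ℝ) (hT : ∀ i, 0 ≤ T i)
    (h1 : ∀ n, (w 1 n : ℝ) ≤ T 1 * s ^ n)
    (hi : ∀ i, 2 ≤ i → ∀ A, ∑ a ∈ Finset.range A, (w i a : ℝ) * ((s ^ i)⁻¹) ^ a ≤ T i) :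
    ∀ M n, (Nat.card (WD F ok M n) : ℝ) ≤ (∏ i ∈ Finset.range M, T (i + 1)) * s ^ n := by
  intro M
  induction M with
  | zero =>
    intro n
    have h := (wd_zero ok n).2
    rw [Finset.range_zero, Finset.prod_empty, one_mul]
    rcases eq_or_ne n 0 with rfl | hn
    · rw [if_pos rfl] at h
      rw [pow_zero]; exact_mod_cast h
    · rw [if_neg hn] at h
      rw [Nat.le_zero.1 h, Nat.cast_zero]; positivity
  | succ M ih =>
    intro n
    have hstep := (wd_step ok hok M n (wd_finite ok hok M)).2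
    rw [Finset.prod_range_succ]
    rcases Nat.eq_zero_or_pos M with rfl | hM
    · simp only [zero_add, Nat.div_one, one_mul] at hstep
      have hsum : ∑ a ∈ Finset.range (n + 1), Nat.card (OPiece ok 1 a) * Nat.card (WD F ok 0 (n - a)) ≤
          Nat.card (OPiece ok 1 n) := by
        rw [Finset.sum_eq_single_of_mem n (Finset.self_mem_range_succ n)]
        · refine (Nat.mul_le_mul_left _ (wd_zero ok _).2).trans ?_
          rw [Nat.sub_self, if_pos rfl, mul_one]
        · intro a ha hne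
          have h := (wd_zero ok (n - a)).2
          rw [Finset.mem_range] at ha
          rw [if_neg (by omega)] at h
          rw [Nat.le_zero.1 h, mul_zero]
      rw [Finset.range_zero, Finset.prod_empty, one_mul]
      exact (Nat.cast_le.2 ((hstep.trans hsum).trans (hw 1 n))).trans (h1 n)
    set C := ∏ i ∈ Finset.range M, T (i + 1)
    have hC : 0 ≤ C := Finset.prod_nonneg fun i _ => hT _
    have hterm : ∀ a ∈ Finset.range (n / (M + 1) + 1),
        ((Nat.card (OPiece ok (M + 1) a) * Nat.card (WD F ok M (n - (M + 1) * a)) : ℕ) : ℝ) ≤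
        C * s ^ n * ((w (M + 1) a : ℝ) * ((s ^ (M + 1))⁻¹) ^ a) := by
      intro a ha
      rw [Finset.mem_range] at ha
      have hle : (M + 1) * a ≤ n :=
        (Nat.mul_le_mul_left _ (Nat.lt_succ_iff.1 ha)).trans (Nat.mul_div_le n (M + 1))
      push_cast
      refine (mul_le_mul (Nat.cast_le.2 (hw _ a)) (ih (n - (M + 1) * a)) (Nat.cast_nonneg _)
        (Nat.cast_nonneg _)).trans (le_of_eq ?_)
      rw [pow_sub₀ _ hs.ne' hle, inv_pow, ← pow_mul]
      ring
    refine (Nat.cast_le.2 hstep).trans ?_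
    rw [Nat.cast_sum]
    refine (Finset.sum_le_sum hterm).trans ?_
    rw [← Finset.mul_sum]
    exact (mul_le_mul_of_nonneg_left (hi (M + 1) (by omega) _) (mul_nonneg hC (pow_nonneg hs.le _))).trans_eq
      (by ring)

section Orth

variable [Fintype F]

theorem finite_goodO (i a : ℕ) : Finite (OPiece (GoodO (F := F)) i a) := finite_piece (F := F) (i + 1) a

theorem finite_good0 (i a : ℕ) : Finite (OPiece (Good0 (F := F)) i a) := by
  haveI := finite_sdn (F := F) a
  refine Finite.of_injective (fun x => (⟨x.1.1, x.2.1.1, x.2.2⟩ : SDN F a)) fun x y h => ?_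
  exact Subtype.ext (Prod.ext (congrArg Subtype.val h) (x.2.1.2.2.2.trans y.2.1.2.2.2.symm))

/-- The weights of the data. -/
def wO (q : ℕ) (i a : ℕ) : ℕ := if Odd i then cw q a else co q a

theorem card_goodO (h2 : (2 : F) ≠ 0) (i a : ℕ) :
    Nat.card (OPiece (GoodO (F := F)) i a) ≤ wO (Fintype.card F) i a := by
  unfold wO
  split_ifs with h
  · exact card_piece_even h2 (i + 1) a
  · exact card_piece_odd (Nat.not_odd_iff_even.1 h).add_one a

theorem card_good0 (i a : ℕ) : Nat.card (OPiece (Good0 (F := F)) i a) ≤ co (Fintype.card F) a := by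
  rcases Nat.even_or_odd a with ⟨j, hj⟩ | ha
  · obtain rfl : a = 2 * j := by omega
    rw [co_two_mul]
    haveI := finite_sdn (F := F) (2 * j)
    refine (Nat.card_le_card_of_injective (fun x : OPiece (Good0 (F := F)) i (2 * j) =>
      (⟨⟨x.1.1, x.2.1.1, x.2.2⟩, x.2.1.2.2.1⟩ : {P : SDN F (2 * j) // P.1.coeff 0 = 1})) ?_).trans
        (card_sdn_pos j)
    intro x y h
    exact Subtype.ext (Prod.ext (congrArg (fun z => z.1.1) h) (x.2.1.2.2.2.trans y.2.1.2.2.2.symm))
  · haveI : IsEmpty (OPiece (Good0 (F := F)) i a) := ⟨fun x => Nat.not_even_iff_odd.2 ha (x.2.2 ▸ x.2.1.2.1)⟩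
    simp

end Orth

/-- An upper bound for `1 / sqrt 3`. -/
noncomputable def U : ℝ := 57736 / 100000

/-- The bound for the series of size `i`. -/
noncomputable def TO (i : ℕ) : ℝ :=
  if i = 1 then 3112 / 1000 else (if Odd i then (1 + U ^ i) ^ 4 else 1) / (1 - U ^ (2 * (i - 1)))

/-- The bound for the series of size `i` without bits. -/
noncomputable def T0 (i : ℕ) : ℝ := if i = 1 then 1 else 1 / (1 - U ^ (2 * (i - 1)))

theorem U_bounds : 0 < U ∧ U < 1 := by unfold U; norm_num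

theorem one_sub_pow_nonneg (i : ℕ) : 0 ≤ 1 - U ^ i :=
  sub_nonneg.2 (pow_le_one₀ U_bounds.1.le U_bounds.2.le)

theorem TO_nonneg (i : ℕ) : 0 ≤ TO i := by
  unfold TO
  have hU := U_bounds.1
  split_ifs
  · norm_num
  · exact div_nonneg (pow_nonneg (by positivity) _) (one_sub_pow_nonneg _)
  · exact div_nonneg zero_le_one (one_sub_pow_nonneg _)

theorem T0_nonneg (i : ℕ) : 0 ≤ T0 i := by
  unfold T0
  split_ifs
  · exact zero_le_one
  · exact div_nonneg zero_le_one (one_sub_pow_nonneg _)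

theorem prod_le_of_tail (T : ℕ → ℝ) (hT : ∀ i, 0 ≤ T i) (h1 : ∀ i, 1 ≤ T (i + 1)) {B : ℝ}
    (hT' : ∀ M, 15 ≤ M → T (M + 1) ≤ 1 + 6 * U ^ (M + 1))
    (hbase : (∏ i ∈ Finset.range 15, T (i + 1)) * (1 + 10 * U ^ 15) ≤ B) (M : ℕ) :
    ∏ i ∈ Finset.range M, T (i + 1) ≤ B := by
  have hpos : ∀ M, 0 ≤ ∏ i ∈ Finset.range M, T (i + 1) := fun M => Finset.prod_nonneg fun i _ => hT _
  have hU := U_bounds
  have hstep : ∀ d, (∏ i ∈ Finset.range (15 + d), T (i + 1)) * (1 + 10 * U ^ (15 + d)) ≤ B := by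
    intro d
    induction d with
    | zero => exact hbase
    | succ d ih =>
      refine le_trans ?_ ih
      rw [← Nat.add_assoc, Finset.prod_range_succ, mul_assoc]
      refine mul_le_mul_of_nonneg_left ?_ (hpos _)
      refine (mul_le_mul_of_nonneg_right (hT' _ (by omega)) (by have := hU.1; positivity)).trans ?_
      have hy : U ^ (15 + d) ≤ 1 / 1000 :=
        (pow_le_pow_of_le_one hU.1.le hU.2.le (show 15 ≤ 15 + d by omega)).trans (by unfold U; norm_num)
      have hy0 : (0 : ℝ) ≤ U ^ (15 + d) := pow_nonneg hU.1.le _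
      rw [pow_succ]
      generalize U ^ (15 + d) = y at hy hy0 ⊢
      unfold U
      nlinarith
  have hmono : Monotone fun M => ∏ i ∈ Finset.range M, T (i + 1) := monotone_nat_of_le_succ fun k => by
    simp only [Finset.prod_range_succ]
    exact le_mul_of_one_le_right (hpos k) (h1 k)
  refine (hmono (show M ≤ 15 + M by omega)).trans (le_trans ?_ (hstep M))
  exact le_mul_of_one_le_right (hpos _) (le_add_of_nonneg_right (by have := hU.1; positivity))

theorem one_le_div_one_sub {c : ℝ} (hc : 1 ≤ c) {k : ℕ} (hk : k ≠ 0) : 1 ≤ c / (1 - U ^ k) := by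
  have h : U ^ k < 1 := pow_lt_one₀ U_bounds.1.le U_bounds.2 hk
  have h0 : 0 ≤ U ^ k := pow_nonneg U_bounds.1.le _
  rw [le_div_iff₀ (by linarith)]
  linarith

theorem tail_bound (M : ℕ) (hM : 15 ≤ M) :
    (1 + U ^ (M + 1)) ^ 4 / (1 - U ^ (2 * (M + 1 - 1))) ≤ 1 + 6 * U ^ (M + 1) := by
  have hU := U_bounds
  have hx : U ^ (M + 1) ≤ 1 / 1000 :=
    (pow_le_pow_of_le_one hU.1.le hU.2.le (show 15 ≤ M + 1 by omega)).trans (by unfold U; norm_num)
  have hz : U ^ (2 * (M + 1 - 1)) ≤ U ^ (M + 1) := pow_le_pow_of_le_one hU.1.le hU.2.le (by omega)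
  have hx0 : 0 ≤ U ^ (M + 1) := pow_nonneg hU.1.le _
  generalize U ^ (M + 1) = x at hx hz hx0 ⊢
  generalize U ^ (2 * (M + 1 - 1)) = z at hz ⊢
  rw [div_le_iff₀ (by linarith)]
  have h2 : (1 + x) ^ 2 ≤ 1 + 201 / 100 * x := by nlinarith
  have h4 : (1 + x) ^ 4 ≤ 1 + 45 / 10 * x := by
    calc (1 + x) ^ 4 = ((1 + x) ^ 2) ^ 2 := by ring
      _ ≤ (1 + 201 / 100 * x) ^ 2 := pow_le_pow_left₀ (sq_nonneg _) h2 2
      _ ≤ _ := by nlinarith
  nlinarith [mul_le_mul_of_nonneg_left hz (show (0 : ℝ) ≤ 1 + 6 * x by linarith)]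

theorem prod_TO (M : ℕ) : ∏ i ∈ Finset.range M, TO (i + 1) ≤ 166 / 10 := by
  refine prod_le_of_tail TO TO_nonneg (fun i => ?_) (fun M hM => ?_) ?_ M
  · unfold TO
    split_ifs with h h'
    · norm_num
    · exact one_le_div_one_sub (one_le_pow₀ (le_add_of_nonneg_right (by have := U_bounds.1; positivity))) (by omega)
    · exact one_le_div_one_sub le_rfl (by omega)
  · unfold TO
    rw [if_neg (by omega)]
    refine le_trans ?_ (tail_bound M hM)
    refine div_le_div_of_nonneg_right ?_ (one_sub_pow_nonneg _)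
    split_ifs
    · exact le_rfl
    · exact one_le_pow₀ (le_add_of_nonneg_right (by have := U_bounds.1; positivity))
  · simp only [Finset.prod_range_succ, Finset.prod_range_zero, TO, U]
    norm_num [Nat.odd_iff]

theorem prod_T0 (M : ℕ) : ∏ i ∈ Finset.range M, T0 (i + 1) ≤ 18 / 10 := by
  refine prod_le_of_tail T0 T0_nonneg (fun i => ?_) (fun M hM => ?_) ?_ M
  · unfold T0
    split_ifs
    · exact le_rfl
    · exact one_le_div_one_sub le_rfl (by omega)
  · unfold T0
    rw [if_neg (by omega)]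
    refine le_trans ?_ (tail_bound M hM)
    exact div_le_div_of_nonneg_right (one_le_pow₀ (le_add_of_nonneg_right (by have := U_bounds.1; positivity)))
      (one_sub_pow_nonneg _)
  · simp only [Finset.prod_range_succ, Finset.prod_range_zero, T0, U]
    norm_num

section Main

variable {q : ℕ} (hq : 3 ≤ q)

include hq in
theorem inv_sqrt_le : (Real.sqrt (q : ℝ))⁻¹ ≤ U ∧ 0 < Real.sqrt (q : ℝ) ∧ Real.sqrt (q : ℝ) ^ 2 = (q : ℝ) := by
  have hq' : (3 : ℝ) ≤ q := by exact_mod_cast hq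
  have hU := U_bounds
  refine ⟨?_, Real.sqrt_pos.2 (by linarith), Real.sq_sqrt (by linarith)⟩
  rw [inv_le_comm₀ (Real.sqrt_pos.2 (by linarith)) hU.1, Real.le_sqrt (inv_nonneg.2 hU.1.le) (by linarith)]
  exact le_trans (by unfold U; norm_num) hq'

include hq in
theorem series_factor {i : ℕ} (hi : 2 ≤ i) : (q : ℝ) * (((Real.sqrt q) ^ i)⁻¹) ^ 2 ≤ U ^ (2 * (i - 1)) := by
  obtain ⟨hu, hs, hs2⟩ := inv_sqrt_le hq
  have e : (q : ℝ) * (((Real.sqrt q) ^ i)⁻¹) ^ 2 = ((Real.sqrt q)⁻¹) ^ (2 * (i - 1)) := by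
    obtain ⟨k, rfl⟩ : ∃ k, i = k + 1 := ⟨i - 1, by omega⟩
    rw [Nat.add_sub_cancel, inv_pow, inv_pow, ← pow_mul, show (k + 1) * 2 = 2 * k + 2 by ring, pow_add, hs2]
    field_simp
  rw [e]
  exact pow_le_pow_left₀ (inv_nonneg.2 hs.le) hu _

include hq in
theorem co_series {i : ℕ} (hi : 2 ≤ i) (A : ℕ) :
    ∑ a ∈ Finset.range A, (co q a : ℝ) * (((Real.sqrt q) ^ i)⁻¹) ^ a ≤ 1 / (1 - U ^ (2 * (i - 1))) := by
  have hy : (q : ℝ) * (((Real.sqrt q) ^ i)⁻¹) ^ 2 ≤ U ^ (2 * (i - 1)) := series_factor hq hi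
  have hU1 : U ^ (2 * (i - 1)) < 1 := pow_lt_one₀ U_bounds.1.le U_bounds.2 (by omega)
  refine (sum_series_le (q := (q : ℝ)) (by positivity) (by positivity) (lt_of_le_of_lt hy hU1)
    (fun a => (co q a : ℝ)) (fun a => if a = 0 then 1 else 0) (by simp [co]) (by simp [co]) (fun a => by simp [co])
    (fun a => by split_ifs <;> norm_num) (T := 1) (fun B => ?_) A).trans
    (div_le_div_of_nonneg_left zero_le_one (sub_pos.2 hU1) (sub_le_sub_left hy 1))
  simp only [ite_mul, zero_mul, Finset.sum_ite_eq', pow_zero, mul_one]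
  split_ifs <;> norm_num

include hq in
theorem cw_series {i : ℕ} (hi : 2 ≤ i) (A : ℕ) :
    ∑ a ∈ Finset.range A, (cw q a : ℝ) * (((Real.sqrt q) ^ i)⁻¹) ^ a ≤
      (1 + U ^ i) ^ 4 / (1 - U ^ (2 * (i - 1))) := by
  have hy : (q : ℝ) * (((Real.sqrt q) ^ i)⁻¹) ^ 2 ≤ U ^ (2 * (i - 1)) := series_factor hq hi
  obtain ⟨hu, hs, -⟩ := inv_sqrt_le hq
  have hU1 : U ^ (2 * (i - 1)) < 1 := pow_lt_one₀ U_bounds.1.le U_bounds.2 (by omega)
  have hyi : ((Real.sqrt q) ^ i)⁻¹ ≤ U ^ i := by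
    rw [← inv_pow]
    exact pow_le_pow_left₀ (inv_nonneg.2 hs.le) hu _
  have hy0 : 0 ≤ ((Real.sqrt q) ^ i)⁻¹ := by positivity
  refine (sum_series_le (q := (q : ℝ)) (by positivity) hy0 (lt_of_le_of_lt hy hU1) (fun a => (cw q a : ℝ))
    (fun a => (Nat.choose 4 a : ℝ)) (by simp [cw]) (by simp [cw]) (fun a => by simp [cw])
    (fun a => Nat.cast_nonneg _) (T := (1 + U ^ i) ^ 4) (fun B => ?_) A).trans
    (div_le_div_of_nonneg_left (pow_nonneg (add_nonneg zero_le_one (pow_nonneg U_bounds.1.le i)) 4) (sub_pos.2 hU1)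
      (sub_le_sub_left hy 1))
  generalize ((Real.sqrt q) ^ i)⁻¹ = y at hyi hy0 ⊢
  refine le_trans ?_ (pow_le_pow_left₀ (by linarith) (show 1 + y ≤ 1 + U ^ i by linarith) 4)
  have e : ((1 : ℝ) + y) ^ 4 = ∑ a ∈ Finset.range 5, (Nat.choose 4 a : ℝ) * y ^ a := by
    rw [add_comm, add_pow]
    exact Finset.sum_congr rfl fun a _ => by rw [one_pow, mul_one, mul_comm]
  rw [e]
  rcases Nat.lt_or_ge B 5 with hB | hB
  · exact Finset.sum_le_sum_of_subset_of_nonneg (Finset.range_subset_range.2 hB.le) fun a _ _ => by positivity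
  · refine le_of_eq (Finset.sum_subset (Finset.range_subset_range.2 hB) fun a _ ha => ?_).symm
    rw [Finset.mem_range] at ha
    rw [Nat.choose_eq_zero_of_lt (by omega), Nat.cast_zero, zero_mul]

include hq in
theorem co_base (n : ℕ) : (co q n : ℝ) ≤ 1 * Real.sqrt q ^ n := by
  obtain ⟨-, hs, hs2⟩ := inv_sqrt_le hq
  rw [one_mul]
  induction n using Nat.twoStepInduction with
  | zero => simp [co]
  | one => simp [co]
  | more n ih _ =>
    rw [co, pow_add, hs2, mul_comm (Real.sqrt (q : ℝ) ^ n)]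
    push_cast
    exact mul_le_mul_of_nonneg_left ih (Nat.cast_nonneg _)

include hq in
theorem cw_base (n : ℕ) : (cw q n : ℝ) ≤ 3112 / 1000 * Real.sqrt q ^ n := by
  obtain ⟨hu, hs, hs2⟩ := inv_sqrt_le hq
  have hq' : (3 : ℝ) ≤ q := by exact_mod_cast hq
  have hsU : (1 : ℝ) ≤ U * Real.sqrt q := by
    have := mul_le_mul_of_nonneg_right hu hs.le
    rwa [inv_mul_cancel₀ hs.ne'] at this
  have hU : U = 57736 / 100000 := rfl
  rw [hU] at hsU
  rcases n with _ | _ | _ | n
  · simp [cw]; norm_num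
  · simp [cw]; linarith
  · have e : (cw q (0 + 1 + 1) : ℝ) = q + 6 := by simp [cw, show Nat.choose 4 2 = 6 from rfl]
    rw [e, show 0 + 1 + 1 = 2 from rfl, hs2]
    linarith
  · rcases Nat.even_or_odd n with ⟨j, hj⟩ | ⟨j, hj⟩
    · obtain rfl : n = 2 * j := by omega
      rw [show 2 * j + 1 + 1 + 1 = 2 * j + 3 from rfl, (cw_shape q j).1,
        show Real.sqrt (q : ℝ) ^ (2 * j + 3) = (Real.sqrt (q : ℝ) ^ 2) ^ j * (Real.sqrt (q : ℝ) * Real.sqrt (q : ℝ) ^ 2) by ring,
        hs2]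
      push_cast
      have hj : (0 : ℝ) ≤ (q : ℝ) ^ j := by positivity
      have h3 : 4 * (q : ℝ) + 4 ≤ 3112 / 1000 * (Real.sqrt q * q) := by
        nlinarith [mul_le_mul_of_nonneg_left hsU (show (0 : ℝ) ≤ q by linarith)]
      rw [pow_succ]
      nlinarith [mul_le_mul_of_nonneg_left h3 hj]
    · obtain rfl : n = 2 * j + 1 := hj
      rw [show 2 * j + 1 + 1 + 1 + 1 = 2 * j + 4 from rfl, (cw_shape q j).2,
        show 2 * j + 4 = 2 * (j + 2) by ring, pow_mul, hs2]
      push_cast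
      have hj : (0 : ℝ) ≤ (q : ℝ) ^ j := by positivity
      have h3 : (q : ℝ) * q + 6 * q + 1 ≤ 3112 / 1000 * ((q : ℝ) * q) := by nlinarith
      rw [pow_succ, pow_succ]
      nlinarith [mul_le_mul_of_nonneg_left h3 hj]

end Main

section Bound

variable [Fintype F] (h2 : (2 : F) ≠ 0) (hq : 3 ≤ Fintype.card F)

include h2 hq in
theorem card_goodO_wd (N : ℕ) :
    (Nat.card (WD F GoodO N N) : ℝ) ≤ 166 / 10 * Real.sqrt (Fintype.card F) ^ N := by
  refine (card_wd_le GoodO finite_goodO (wO (Fintype.card F)) (card_goodO h2) (inv_sqrt_le hq).2.1 TO TO_nonneg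
    (fun n => ?_) (fun i hi A => ?_) N N).trans (mul_le_mul_of_nonneg_right (prod_TO N) (by positivity))
  · simp only [wO, odd_one, if_true, TO]
    exact cw_base hq n
  · simp only [wO, TO, if_neg (show i ≠ 1 by omega)]
    split_ifs
    · exact cw_series hq hi A
    · exact co_series hq hi A

include hq in
theorem card_good0_wd (N : ℕ) :
    (Nat.card (WD F Good0 N N) : ℝ) ≤ 18 / 10 * Real.sqrt (Fintype.card F) ^ N := by
  refine (card_wd_le Good0 finite_good0 (fun _ => co (Fintype.card F)) card_good0 (inv_sqrt_le hq).2.1 T0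
    T0_nonneg (fun n => ?_) (fun i hi A => ?_) N N).trans (mul_le_mul_of_nonneg_right (prod_T0 N) (by positivity))
  · simp only [T0, if_true]
    exact co_base hq n
  · simp only [T0, if_neg (show i ≠ 1 by omega)]
    exact co_series hq hi A

/-- In odd dimension every datum carries a bit. -/
theorem card_good0_odd {N : ℕ} (hN : Odd N) : Nat.card (WD F Good0 N N) = 0 := by
  haveI : IsEmpty (WD F Good0 N N) := ⟨fun x => by
    refine Nat.not_even_iff_odd.2 hN ?_
    have h : Even (∑ e : Fin N, ((e : ℕ) + 1) * (x.1 e).1.natDegree) :=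
      Finset.even_sum _ fun e _ => (x.2.1 e).2.1.mul_left _
    rwa [x.2.2] at h⟩
  exact Nat.card_of_isEmpty

open OrthData in
include h2 hq in
/-- The class number of an orthogonal group in dimension `2 n`. -/
theorem class_le_even {ι : Type*} [Fintype ι] [DecidableEq ι] (p : ℕ) [Fact p.Prime] [CharP F p] (hp : p ≠ 2)
    {S : Matrix ι ι F} (hS : S.transpose = S) (hSd : S.det ≠ 0) {n : ℕ} (hn : Fintype.card ι = 2 * n) :
    5 * Nat.card (ConjClasses (orthMat S)) ≤ 46 * Fintype.card F ^ n := by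
  haveI := wd_finite (GoodO (F := F)) finite_goodO (Fintype.card ι) (Fintype.card ι)
  haveI := wd_finite (Good0 (F := F)) finite_good0 (Fintype.card ι) (Fintype.card ι)
  have h : ((2 * Nat.card (ConjClasses (orthMat S)) : ℕ) : ℝ) ≤
      ((Nat.card (WD F GoodO (Fintype.card ι) (Fintype.card ι)) +
        Nat.card (WD F Good0 (Fintype.card ι) (Fintype.card ι)) : ℕ) : ℝ) :=
    Nat.cast_le.2 (two_mul_card_classes_le p hp hS hSd)
  push_cast at h
  have h3 := card_goodO_wd h2 hq (Fintype.card ι)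
  have h4 := card_good0_wd (F := F) hq (Fintype.card ι)
  rw [hn, pow_mul, (inv_sqrt_le hq).2.2] at h3 h4
  rw [hn] at h
  have h5 : (5 : ℝ) * Nat.card (ConjClasses (orthMat S)) ≤ 46 * (Fintype.card F : ℝ) ^ n := by linarith
  exact_mod_cast h5

end Bound

end Cfsg.Agent.GL.OrthCount
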