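/-
Isometry groups of quadratic forms as matrix groups (odd `q`), and a lower bound for their class number.
-/
import Cfsg.Agent.Lib.GL.OrthData
import Cfsg.Agent.Lib.QForm.Std
import Cfsg.Agent.Lib.UnipForms.Congruence
import Cfsg.Prelude.Def_Classical

set_option autoImplicit false
set_option linter.unusedSectionVars false

open Polynomial
open scoped Matrix Classical

namespace Cfsg.Agent.GL.OrthGroup

open Cfsg.Agent.GL.OrthData Cfsg.Agent.QForm

variable {F : Type*} [Field F]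

section Bridge

variable {ι : Type} [Fintype ι] [DecidableEq ι] (Q : QuadraticForm F (ι → F))

theorem gram_transpose : (gram ⇑Q ⇑(Pi.basisFun F ι))ᵀ = gram ⇑Q ⇑(Pi.basisFun F ι) := by
  ext i j
  exact QuadraticMap.polar_comm _ _ _

theorem polar_eq_toBilin (u v : ι → F) :
    QuadraticMap.polar ⇑Q u v = Matrix.toBilin' (gram ⇑Q ⇑(Pi.basisFun F ι)) u v := by
  have h : QuadraticMap.polarBilin Q = Matrix.toBilin' (gram ⇑Q ⇑(Pi.basisFun F ι)) :=
    LinearMap.BilinForm.ext_basis (Pi.basisFun F ι) fun i j => by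
      rw [Pi.basisFun_apply, Pi.basisFun_apply, Matrix.toBilin'_single]
      simp [gram]
  rw [← h]
  rfl

/-- The isometry group of a quadratic form is the isometry group of its Gram matrix. -/
theorem isometryGroup_eq (h2 : (2 : F) ≠ 0) (f : (ι → F) → F) (hf : ⇑Q = f) :
    isometryGroup F f = orthMat (gram ⇑Q ⇑(Pi.basisFun F ι)) := by
  subst hf
  set S := gram ⇑Q ⇑(Pi.basisFun F ι) with hS
  refine Subgroup.ext fun g => ?_
  set A : Matrix ι ι F := (g : Matrix ι ι F) with hA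
  constructor
  · intro hg
    have hq : ∀ v, Q (A *ᵥ v) = Q v := fun v => hg v v
    show Aᵀ * S * A = S
    refine Matrix.toBilin'.injective (LinearMap.ext₂ fun u v => ?_)
    rw [UnipForms.Congruence.toBilin'_comp, hS, ← polar_eq_toBilin, ← polar_eq_toBilin, QuadraticMap.polar,
      QuadraticMap.polar, ← Matrix.mulVec_add, hq, hq, hq]
  · intro hg u v
    show Q (A *ᵥ u) = Q u
    have h : QuadraticMap.polar ⇑Q (A *ᵥ u) (A *ᵥ u) = QuadraticMap.polar ⇑Q u u := by
      rw [polar_eq_toBilin, polar_eq_toBilin, ← hS, ← UnipForms.Congruence.toBilin'_comp,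
        show Aᵀ * S * A = S from hg]
    rw [QuadraticMap.polar_self, QuadraticMap.polar_self, nsmul_eq_mul, nsmul_eq_mul] at h
    exact mul_left_cancel₀ h2 (by exact_mod_cast h)

end Bridge

/-- A matrix with given characteristic polynomial, self-adjoint for a nonsingular symmetric form. -/
theorem exists_hankel {h : F[X]} (hm : h.Monic) :
    ∃ (T S₀ : Matrix (Fin h.natDegree) (Fin h.natDegree) F), T.charpoly = h ∧ S₀ᵀ = S₀ ∧ S₀.det ≠ 0 ∧
      Tᵀ * S₀ = S₀ * T := by
  rcases Nat.eq_zero_or_pos h.natDegree with h0 | hpos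
  · haveI : IsEmpty (Fin h.natDegree) := ⟨fun i => Nat.not_lt_zero i.1 (lt_of_lt_of_eq i.2 h0)⟩
    exact ⟨0, 1, by rw [Matrix.charpoly, Matrix.det_isEmpty, hm.natDegree_eq_zero.1 h0], Matrix.transpose_one,
      by rw [Matrix.det_one]; exact one_ne_zero, Subsingleton.elim _ _⟩
  haveI : Nontrivial (AdjoinRoot h) := AdjoinRoot.nontrivial h (fun e => hpos.ne'
    (natDegree_eq_of_degree_eq_some e))
  let pb := AdjoinRoot.powerBasis' hm
  let b : Module.Basis (Fin h.natDegree) F (AdjoinRoot h) := pb.basis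
  have hb : ∀ i, b i = pb.gen ^ (i : ℕ) := fun i => pb.basis_eq_pow i
  let L : AdjoinRoot h →ₗ[F] F := b.coord ⟨h.natDegree - 1, by omega⟩
  refine ⟨Algebra.leftMulMatrix b pb.gen, Matrix.of fun i j => L (b i * b j), ?_, ?_, ?_, ?_⟩
  · have e : minpoly F pb.gen = h := AdjoinRoot.minpoly_powerBasis_gen_of_monic hm
    conv_rhs => rw [← e]
    exact charpoly_leftMulMatrix pb
  · ext i j
    simp [mul_comm]
  · intro hdet
    obtain ⟨v, hv, hv0⟩ := Matrix.exists_mulVec_eq_zero_iff.2 hdet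
    obtain ⟨j₁, hj₁⟩ := Function.ne_iff.1 hv
    obtain ⟨j, hj, hmax⟩ := (Finset.univ.filter fun j => v j ≠ 0).exists_max_image id
      ⟨j₁, by simpa using hj₁⟩
    simp only [Finset.mem_filter, Finset.mem_univ, true_and, id] at hj hmax
    have hrow := congrFun hv0 ⟨h.natDegree - 1 - (j : ℕ), by omega⟩
    simp only [Matrix.mulVec, dotProduct, Matrix.of_apply, Pi.zero_apply] at hrow
    refine hj ?_
    rw [Finset.sum_eq_single j (fun i _ hij => ?_) (by simp)] at hrow
    · rw [hb, hb, ← pow_add, show ((⟨h.natDegree - 1 - (j : ℕ), by omega⟩ : Fin h.natDegree) : ℕ) + (j : ℕ) =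
        ((⟨h.natDegree - 1, by omega⟩ : Fin h.natDegree) : ℕ) by show _ = h.natDegree - 1; simp only; omega,
        ← hb] at hrow
      simpa [L] using hrow
    · by_contra hne
      have hlt : (i : ℕ) < j := lt_of_le_of_ne (hmax i fun h0 => hne (by rw [h0, mul_zero]))
        fun e => hij (Fin.ext e)
      refine hne ?_
      have hk : h.natDegree - 1 - (j : ℕ) + (i : ℕ) < h.natDegree := by omega
      rw [hb, hb, ← pow_add, show h.natDegree - 1 - (j : ℕ) + (i : ℕ) = ((⟨_, hk⟩ : Fin h.natDegree) : ℕ) from rfl,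
        ← hb]
      have hne2 : (⟨_, hk⟩ : Fin h.natDegree) ≠ ⟨h.natDegree - 1, by omega⟩ := fun e => by
        have := congrArg Fin.val e
        simp only at this
        omega
      simp [L, Finsupp.single_eq_of_ne hne2.symm]
  · have key : ∀ i k, (Matrix.of (fun i j => L (b i * b j)) * Algebra.leftMulMatrix b pb.gen) i k =
        L (b i * (pb.gen * b k)) := by
      intro i k
      conv_rhs => rw [← b.sum_repr (pb.gen * b k), Finset.mul_sum, map_sum]
      rw [Matrix.mul_apply]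
      refine Finset.sum_congr rfl fun j _ => ?_
      rw [Matrix.of_apply, Algebra.leftMulMatrix_eq_repr_mul, mul_smul_comm, map_smul, smul_eq_mul, mul_comm]
    ext i k
    rw [key, Matrix.mul_apply,
      show b i * (pb.gen * b k) = b k * (pb.gen * b i) by ring, ← key, Matrix.mul_apply]
    exact Finset.sum_congr rfl fun j _ => by rw [Matrix.transpose_apply, mul_comm]; simp [mul_comm (b k)]

theorem exists_model (h2 : (2 : F) ≠ 0) {h₀ : F[X]} (hm : h₀.Monic) :
    ∃ (G G' Y : Matrix (Fin h₀.natDegree ⊕ Fin h₀.natDegree) (Fin h₀.natDegree ⊕ Fin h₀.natDegree) F) (s : F),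
      G * G' = 1 ∧ (G + G').charpoly = h₀ * h₀ ∧ Yᵀ = Y ∧ Gᵀ * Y * G = Y ∧ s ≠ 0 ∧
        Y.det = s ^ 2 * ((-1) ^ h₀.natDegree * h₀.eval 2 * h₀.eval (-2)) := by
  obtain ⟨T, S₀, hT, hS, hSd, hTS⟩ := exists_hankel hm
  refine ⟨Matrix.fromBlocks T (-1) 1 0, Matrix.fromBlocks 0 1 (-1) T,
    Matrix.fromBlocks ((2 : F) • S₀) (-(S₀ * T)) (-(S₀ * T)) ((2 : F) • S₀), S₀.det, ?_, ?_, ?_, ?_, hSd, ?_⟩
  · simp [Matrix.fromBlocks_multiply, Matrix.fromBlocks_one]
  · rw [Matrix.fromBlocks_add, add_zero, zero_add, neg_add_cancel, add_neg_cancel,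
      Matrix.charpoly_fromBlocks_zero₁₂, hT]
  · rw [Matrix.fromBlocks_transpose, Matrix.transpose_smul, Matrix.transpose_neg, Matrix.transpose_mul, hS, hTS]
  · rw [Matrix.fromBlocks_transpose, Matrix.fromBlocks_multiply, Matrix.fromBlocks_multiply]
    simp only [Matrix.transpose_neg, Matrix.transpose_one, Matrix.transpose_zero]
    congr 1 <;>
      simp only [Matrix.mul_zero, Matrix.zero_mul, add_zero, zero_add, Matrix.one_mul, Matrix.mul_one, Matrix.neg_mul,
        Matrix.mul_neg, neg_neg, Matrix.add_mul, Matrix.mul_add, Matrix.mul_smul, Matrix.smul_mul, neg_add_rev, hTS,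
        ← Matrix.mul_assoc, two_smul] <;>
      abel
  · have hM : Matrix.fromBlocks ((2 : F) • S₀) (-(S₀ * T)) (-(S₀ * T)) ((2 : F) • S₀) =
        Matrix.fromBlocks S₀ 0 0 S₀ * Matrix.fromBlocks ((2 : F) • 1) (-T) (-T) ((2 : F) • 1) := by
      simp [Matrix.fromBlocks_multiply]
    have hdet : (Matrix.fromBlocks ((2 : F) • (1 : Matrix (Fin h₀.natDegree) (Fin h₀.natDegree) F)) (-T) (-T)
        ((2 : F) • 1)).det = ((2 : F) • 1 - T).det * ((2 : F) • 1 + T).det := by
      have e : Matrix.fromBlocks 1 0 (-1) 1 *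
          Matrix.fromBlocks ((2 : F) • (1 : Matrix (Fin h₀.natDegree) (Fin h₀.natDegree) F)) (-T) (-T) ((2 : F) • 1) *
          Matrix.fromBlocks 1 0 1 1 = Matrix.fromBlocks ((2 : F) • 1 - T) (-T) 0 ((2 : F) • 1 + T) := by
        rw [Matrix.fromBlocks_multiply, Matrix.fromBlocks_multiply]
        congr 1 <;>
          simp only [Matrix.mul_zero, Matrix.zero_mul, add_zero, zero_add, Matrix.one_mul, Matrix.mul_one,
            Matrix.neg_mul, neg_neg] <;>
          abel
      have e' := congrArg Matrix.det e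
      rw [Matrix.det_mul, Matrix.det_mul, Matrix.det_fromBlocks_zero₁₂, Matrix.det_fromBlocks_zero₁₂,
        Matrix.det_fromBlocks_zero₂₁, Matrix.det_one, one_mul, mul_one, one_mul] at e'
      exact e'
    have hev : ∀ c : F, h₀.eval c = (c • (1 : Matrix (Fin h₀.natDegree) (Fin h₀.natDegree) F) - T).det := fun c => by
      conv_lhs => rw [← hT, Matrix.eval_charpoly]
      rw [Matrix.smul_one_eq_diagonal]
      rfl
    rw [hM, Matrix.det_mul, Matrix.det_fromBlocks_zero₁₂, hdet, hev 2, hev (-2),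
      show (-2 : F) • (1 : Matrix (Fin h₀.natDegree) (Fin h₀.natDegree) F) - T = -((2 : F) • 1 + T) by
        rw [neg_smul]; abel, Matrix.det_neg, Fintype.card_fin]
    have : ((-1 : F) ^ h₀.natDegree) * (-1) ^ h₀.natDegree = 1 := by rw [← mul_pow, neg_one_mul, neg_neg, one_pow]
    linear_combination (-(S₀.det ^ 2 * ((2 : F) • 1 - T).det * ((2 : F) • 1 + T).det)) * this

variable [Fintype F] {ι : Type*} [Fintype ι] [DecidableEq ι] {S : Matrix ι ι F}

/-- An isometry `g` with prescribed characteristic polynomial of `g + g⁻¹`. -/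
theorem exists_isometry (h2 : (2 : F) ≠ 0) (hS : Sᵀ = S) (hSd : S.det ≠ 0) {n : ℕ} (hn : Fintype.card ι = 2 * n)
    {h : F[X]} (hm : h.Monic) (hd : h.natDegree = n)
    (hgood : IsSquare (S.det * ((-1) ^ n * h.eval 2 * h.eval (-2)))) :
    ∃ g : orthMat S, (((g : GL ι F) : Matrix ι ι F) + (↑(g : GL ι F)⁻¹ : Matrix ι ι F)).charpoly = h * h := by
  set a := h.rootMultiplicity 2 with ha
  obtain ⟨h₁, hh₁⟩ : (X - C (2 : F)) ^ a ∣ h := pow_rootMultiplicity_dvd h 2
  set b := h₁.rootMultiplicity (-2) with hb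
  obtain ⟨h₀, hh₀⟩ : (X - C (-2 : F)) ^ b ∣ h₁ := pow_rootMultiplicity_dvd h₁ (-2)
  have hm₁ : h₁.Monic := ((monic_X_sub_C (2 : F)).pow a).of_mul_monic_left (hh₁ ▸ hm)
  have hm₀ : h₀.Monic := ((monic_X_sub_C (-2 : F)).pow b).of_mul_monic_left (hh₀ ▸ hm₁)
  have hdeg : a + (b + h₀.natDegree) = n := by
    rw [← hd, hh₁, ((monic_X_sub_C (2 : F)).pow a).natDegree_mul hm₁, hh₀,
      ((monic_X_sub_C (-2 : F)).pow b).natDegree_mul hm₀, natDegree_pow, natDegree_pow, natDegree_X_sub_C,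
      natDegree_X_sub_C, mul_one, mul_one]
  have h4 : (-2 : F) ≠ 2 := fun e => h2 (by
    have : (2 : F) * 2 = 0 := by linear_combination -e
    exact (mul_self_eq_zero.1 this))
  have h0m : h₀.eval (-2) ≠ 0 := by
    intro e
    obtain ⟨r, hr⟩ := dvd_iff_isRoot.2 e
    have hdvd : (X - C (-2 : F)) ^ (b + 1) ∣ h₁ := ⟨r, by rw [hh₀, hr, pow_succ, mul_assoc]⟩
    have := (le_rootMultiplicity_iff hm₁.ne_zero).2 hdvd
    omega
  have h0p : h₀.eval 2 ≠ 0 := by
    intro e
    have he : h₁.eval 2 = 0 := by rw [hh₀, eval_mul, e, mul_zero]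
    obtain ⟨r, hr⟩ := dvd_iff_isRoot.2 he
    have hdvd : (X - C (2 : F)) ^ (a + 1) ∣ h := ⟨r, by rw [hh₁, hr, pow_succ, mul_assoc]⟩
    have := (le_rootMultiplicity_iff hm.ne_zero).2 hdvd
    omega
  obtain ⟨G₀, G₀', Y₀, s, hGG, hchar, hY₀, hinv, hs, hdet⟩ := exists_model h2 hm₀
  have hY₀d : Y₀.det ≠ 0 := by
    rw [hdet]
    exact mul_ne_zero (pow_ne_zero _ hs) (mul_ne_zero (mul_ne_zero (pow_ne_zero _ (by simp)) h0p) h0m)
  obtain ⟨d, hd0, hsq⟩ : ∃ d : Fin (2 * a) ⊕ Fin (2 * b) → F, (∀ i, d i ≠ 0) ∧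
      IsSquare (Y₀.det * (∏ i, d i) * S.det) := by
    by_cases hne : Nonempty (Fin (2 * a) ⊕ Fin (2 * b))
    · obtain ⟨k₀⟩ := hne
      refine ⟨fun i => if i = k₀ then Y₀.det * S.det else 1, fun i => ?_, ?_⟩
      · dsimp only
        split_ifs
        · exact mul_ne_zero hY₀d hSd
        · exact one_ne_zero
      · rw [Finset.prod_ite_eq' Finset.univ k₀ fun _ => Y₀.det * S.det, if_pos (Finset.mem_univ _)]
        exact ⟨Y₀.det * S.det, by ring⟩
    · haveI := not_nonempty_iff.1 hne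
      have hcard := Fintype.card_eq_zero_iff.2 this
      rw [Fintype.card_sum, Fintype.card_fin, Fintype.card_fin] at hcard
      refine ⟨isEmptyElim, fun i => isEmptyElim i, ?_⟩
      rw [Finset.univ_eq_empty, Finset.prod_empty, mul_one]
      have e1 : h = h₀ := by rw [hh₁, hh₀, show a = 0 by omega, show b = 0 by omega]; simp
      rw [e1, show n = h₀.natDegree by omega] at hgood
      rw [hdet, mul_assoc, mul_comm _ S.det]
      exact (IsSquare.sq s).mul hgood
  let Gd : Matrix (Fin (2 * a) ⊕ Fin (2 * b)) (Fin (2 * a) ⊕ Fin (2 * b)) F := Matrix.fromBlocks 1 0 0 (-1)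
  let G : Matrix ((Fin h₀.natDegree ⊕ Fin h₀.natDegree) ⊕ (Fin (2 * a) ⊕ Fin (2 * b))) ((Fin h₀.natDegree ⊕ Fin h₀.natDegree) ⊕ (Fin (2 * a) ⊕ Fin (2 * b))) F := Matrix.fromBlocks G₀ 0 0 Gd
  let G' : Matrix ((Fin h₀.natDegree ⊕ Fin h₀.natDegree) ⊕ (Fin (2 * a) ⊕ Fin (2 * b))) ((Fin h₀.natDegree ⊕ Fin h₀.natDegree) ⊕ (Fin (2 * a) ⊕ Fin (2 * b))) F := Matrix.fromBlocks G₀' 0 0 Gd
  let Y : Matrix ((Fin h₀.natDegree ⊕ Fin h₀.natDegree) ⊕ (Fin (2 * a) ⊕ Fin (2 * b))) ((Fin h₀.natDegree ⊕ Fin h₀.natDegree) ⊕ (Fin (2 * a) ⊕ Fin (2 * b))) F := Matrix.fromBlocks Y₀ 0 0 (Matrix.diagonal d)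
  have hGd : Gd * Gd = 1 := by simp [Gd, Matrix.fromBlocks_multiply, Matrix.fromBlocks_one]
  have hG : G * G' = 1 := by simp [G, G', Matrix.fromBlocks_multiply, hGG, hGd, Matrix.fromBlocks_one]
  have hGdiag : Gd = Matrix.diagonal (Sum.elim (fun _ => 1) fun _ => -1) := by
    rw [show (Sum.elim (fun _ => 1) fun _ => -1 : Fin (2 * a) ⊕ Fin (2 * b) → F) =
      Sum.elim (fun _ => 1) (fun _ => -1) from rfl, ← Matrix.fromBlocks_diagonal, Matrix.diagonal_one,
      ← Matrix.diagonal_one, ← Matrix.diagonal_neg]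
    rfl
  have hYG : Gᵀ * Y * G = Y := by
    simp only [G, Y, Matrix.fromBlocks_transpose, Matrix.transpose_zero, Matrix.fromBlocks_multiply, Matrix.zero_mul,
      Matrix.mul_zero, add_zero, zero_add, hinv]
    congr 1
    rw [hGdiag, Matrix.diagonal_transpose, Matrix.diagonal_mul_diagonal, Matrix.diagonal_mul_diagonal]
    congr 1
    funext i
    rcases i with i | i <;> simp
  have hYs : Yᵀ = Y := by simp [Y, Matrix.fromBlocks_transpose, hY₀]
  have hYdet : Y.det = Y₀.det * ∏ i, d i := by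
    simp only [Y, Matrix.det_fromBlocks_zero₁₂, Matrix.det_diagonal]
  have hcharG : (G + G').charpoly = h * h := by
    have hd2 : Gd + Gd = Matrix.diagonal (Sum.elim (fun _ => 2) fun _ => -2) := by
      rw [hGdiag, Matrix.diagonal_add]
      congr 1
      funext i
      rcases i with i | i <;> simp <;> ring
    simp only [G, G', Matrix.fromBlocks_add, add_zero]
    rw [Matrix.charpoly_fromBlocks_zero₁₂, hchar, hd2, Matrix.charpoly_diagonal, Fintype.prod_sum_type]
    simp only [Sum.elim_inl, Sum.elim_inr, Finset.prod_const, Finset.card_univ, Fintype.card_fin]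
    rw [hh₁, hh₀, show (2 * a) = a + a by omega, show (2 * b) = b + b by omega, pow_add, pow_add]
    ring
  have hcard : Fintype.card ((Fin h₀.natDegree ⊕ Fin h₀.natDegree) ⊕ (Fin (2 * a) ⊕ Fin (2 * b))) = Fintype.card ι := by
    simp only [Fintype.card_sum, Fintype.card_fin]; omega
  let e : ((Fin h₀.natDegree ⊕ Fin h₀.natDegree) ⊕ (Fin (2 * a) ⊕ Fin (2 * b))) ≃ ι := Fintype.equivOfCardEq hcard
  obtain ⟨P, hP, hPc⟩ := UnipForms.Congruence.exists_congr_symm h2 (A := Matrix.reindex e e Y) (B := S)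
    (by rw [Matrix.transpose_reindex, hYs])
    (by rw [Matrix.det_reindex_self, hYdet]; exact mul_ne_zero hY₀d (Finset.prod_ne_zero_iff.2 fun i _ => hd0 i))
    hS hSd (by rw [Matrix.det_reindex_self, hYdet]; exact hsq)
  let R := Matrix.reindexAlgEquiv F F e
  have hR : ∀ M, R M = Matrix.reindex e e M := fun M => rfl
  let U : GL ι F := Matrix.GeneralLinearGroup.mkOfDetNeZero P hP
  let W : GL ι F := ⟨R G, R G', by rw [← map_mul, hG, map_one],
    by rw [← map_mul, mul_eq_one_comm.1 hG, map_one]⟩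
  refine ⟨⟨U⁻¹ * W * U, ?_⟩, ?_⟩
  · show ((↑U⁻¹ : Matrix ι ι F) * R G * P)ᵀ * S * ((↑U⁻¹ : Matrix ι ι F) * R G * P) = S
    have hUP : P * (↑U⁻¹ : Matrix ι ι F) = 1 := Units.mul_inv U
    have hW : (R G)ᵀ * Matrix.reindex e e Y * R G = Matrix.reindex e e Y := by
      rw [hR, Matrix.transpose_reindex, ← hR, ← hR, ← hR, ← map_mul, ← map_mul, hYG]
    conv_lhs => rw [← hPc]
    calc _ = Pᵀ * ((R G)ᵀ * ((P * (↑U⁻¹ : Matrix ι ι F))ᵀ * Matrix.reindex e e Y * (P * (↑U⁻¹ : Matrix ι ι F))) * R G) * P := by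
          simp only [Matrix.transpose_mul, Matrix.mul_assoc]
      _ = S := by rw [hUP, Matrix.transpose_one, Matrix.one_mul, Matrix.mul_one, hW, hPc]
  · show ((↑(U⁻¹ * W * U) : Matrix ι ι F) + (↑(U⁻¹ * W * U)⁻¹ : Matrix ι ι F)).charpoly = h * h
    rw [show (U⁻¹ * W * U)⁻¹ = U⁻¹ * W⁻¹ * U by group, Units.val_mul, Units.val_mul, Units.val_mul, Units.val_mul,
      ← Matrix.add_mul, ← Matrix.mul_add, Matrix.coe_units_inv U, Matrix.charpoly_units_conj']
    show (R G + R G').charpoly = h * h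
    rw [← map_add, hR, Matrix.charpoly_reindex, hcharG]

/-- Monic polynomials of degree `n`. -/
abbrev MonicDeg (F : Type*) [Field F] (n : ℕ) := {h : F[X] // h.Monic ∧ h.natDegree = n}

theorem card_monicDeg (n : ℕ) : Finite (MonicDeg F n) ∧ Nat.card (MonicDeg F n) = Fintype.card F ^ n := by
  let e := (Polynomial.monicEquivDegreeLT (R := F) n).trans (Polynomial.degreeLTEquiv F n).toEquiv
  exact ⟨Finite.of_equiv _ e.symm, by rw [Nat.card_congr e]; simp⟩

/-- An orthogonal group in dimension `2 n ≥ 4` has at least `q ^ n / 2` classes. -/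
theorem le_two_mul_classes (h2 : (2 : F) ≠ 0) (hS : Sᵀ = S) (hSd : S.det ≠ 0) {n : ℕ} (hn2 : 2 ≤ n)
    (hn : Fintype.card ι = 2 * n) : Fintype.card F ^ n ≤ 2 * Nat.card (ConjClasses (orthMat S)) := by
  obtain ⟨α, hα⟩ := FiniteField.exists_nonsquare (F := F) fun h => h2 (by
    have := ringChar.of_eq h
    exact CharTwo.two_eq_zero)
  have hα0 : α ≠ 0 := fun h => hα (h ▸ IsSquare.zero)
  obtain ⟨hfin, hcard⟩ := card_monicDeg (F := F) n
  let d : MonicDeg F n → F := fun h => S.det * ((-1) ^ n * h.1.eval 2 * h.1.eval (-2))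
  let corr : MonicDeg F n → F[X] := fun h => C ((α - 1) * h.1.eval (-2) / (-2 - 2)) * (X - C 2)
  have h4 : (-2 - 2 : F) ≠ 0 := by
    rw [show (-2 - 2 : F) = -(2 * 2) by ring]
    exact neg_ne_zero.2 (mul_ne_zero h2 h2)
  have hcorr : ∀ h : MonicDeg F n, (corr h).degree < h.1.degree := fun h => by
    rw [degree_eq_natDegree h.2.1.ne_zero, h.2.2]
    refine lt_of_le_of_lt ((degree_mul_le _ _).trans (add_le_add degree_C_le (degree_X_sub_C_le (2 : F)))) ?_
    rw [zero_add]
    exact_mod_cast hn2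
  let φ : MonicDeg F n → MonicDeg F n := fun h => ⟨h.1 + corr h,
    h.2.1.add_of_left (hcorr h), (natDegree_eq_of_degree_eq (degree_add_eq_left_of_degree_lt (hcorr h))).trans h.2.2⟩
  have hev : ∀ h, (φ h).1.eval 2 = h.1.eval 2 ∧ (φ h).1.eval (-2) = α * h.1.eval (-2) := fun h => by
    constructor
    · simp [φ, corr]
    · simp only [φ, corr, eval_add, eval_mul, eval_C, eval_sub, eval_X]
      rw [div_mul_cancel₀ _ h4]
      ring
  let f : MonicDeg F n → {h : MonicDeg F n // IsSquare (d h)} ⊕ {h : MonicDeg F n // IsSquare (d h)} := fun h =>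
    if hs : IsSquare (d h) then .inl ⟨h, hs⟩ else .inr ⟨φ h, by
      show IsSquare (S.det * ((-1) ^ n * (φ h).1.eval 2 * (φ h).1.eval (-2)))
      rw [(hev h).1, (hev h).2, show S.det * ((-1) ^ n * h.1.eval 2 * (α * h.1.eval (-2))) = d h * α by
        simp only [d]; ring]
      by_cases h0 : d h = 0
      · exact absurd (h0 ▸ IsSquare.zero) hs
      · exact (QForm.isSquare_mul_nonsquare_iff h0 hα).2 hs⟩
  have hφ : Function.Injective φ := fun x y hxy => by
    have e := congrArg Subtype.val hxy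
    have e2 : α * x.1.eval (-2) = α * y.1.eval (-2) := by rw [← (hev x).2, ← (hev y).2, e]
    simp only [φ, corr, mul_left_cancel₀ hα0 e2] at e
    exact Subtype.ext (add_right_cancel e)
  have hf : Function.Injective f := fun x y hxy => by
    by_cases hx : IsSquare (d x) <;> by_cases hy : IsSquare (d y) <;>
      simp only [f, hx, hy, dite_true, dite_false, dif_pos, dif_neg, not_false_eq_true, Sum.inl.injEq, Sum.inr.injEq,
        Subtype.mk.injEq, reduceCtorEq] at hxy
    · exact hxy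
    · exact hφ hxy
  have h1 := Nat.card_le_card_of_injective f hf
  rw [Nat.card_sum, hcard] at h1
  choose g hg using fun h : {h : MonicDeg F n // IsSquare (d h)} =>
    exists_isometry h2 hS hSd hn h.1.2.1 h.1.2.2 h.2
  have h3 := Nat.card_le_card_of_injective (fun h => ConjClasses.mk (g h)) fun x y hxy => by
    obtain ⟨c, hc⟩ := isConj_iff.1 (ConjClasses.mk_eq_mk_iff_isConj.1 hxy)
    have e := hg y
    rw [← hc] at e
    have e' : (((c : GL ι F) * (g x : GL ι F) * (c : GL ι F)⁻¹ : GL ι F) : Matrix ι ι F) +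
        (↑((c : GL ι F) * (g x : GL ι F) * (c : GL ι F)⁻¹)⁻¹ : Matrix ι ι F) = (↑(c : GL ι F) : Matrix ι ι F) *
          (((g x : GL ι F) : Matrix ι ι F) + (↑(g x : GL ι F)⁻¹ : Matrix ι ι F)) * (↑(c : GL ι F)⁻¹ : Matrix ι ι F) := by
      rw [show ((c : GL ι F) * (g x : GL ι F) * (c : GL ι F)⁻¹)⁻¹ = (c : GL ι F) * (g x : GL ι F)⁻¹ * (c : GL ι F)⁻¹
        by group, Units.val_mul, Units.val_mul, Units.val_mul, Units.val_mul, ← Matrix.add_mul, ← Matrix.mul_add]
    rw [Subgroup.coe_mul, Subgroup.coe_mul, Subgroup.coe_inv, e', Matrix.coe_units_inv (c : GL ι F),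
      Matrix.charpoly_units_conj, hg x] at e
    rcases mul_self_eq_mul_self_iff.1 e with e1 | e1
    · exact Subtype.ext (Subtype.ext e1)
    · exfalso
      have := congrArg leadingCoeff e1
      rw [x.1.2.1.leadingCoeff, leadingCoeff_neg, y.1.2.1.leadingCoeff] at this
      exact h2 (by linear_combination this)
  omega

end Cfsg.Agent.GL.OrthGroup
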