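/-
Counting class data of orthogonal groups in odd dimension: a bound by `q ^ n` for `q ≥ 5`, and a bound for the
data without repeated eigenvalue blocks of sizes one and three for `q = 3`.
-/
import Cfsg.Agent.Lib.GL.OrthCount

set_option autoImplicit false
set_option linter.unusedSectionVars false

open Polynomial
open scoped Classical

namespace Cfsg.Agent.GL.OrthOddCount

open Cfsg.Agent.GL.SpClassBound Cfsg.Agent.GL.SpClassNumber Cfsg.Agent.GL.OrthClassBound Cfsg.Agent.GL.OrthCount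

universe u

variable {F : Type u} [Field F]

/-- Admissible entries without repeated blocks of sizes one and three for the eigenvalues `±1`. -/
def GoodT (i : ℕ) (x : Entry F) : Prop :=
  GoodO i x ∧ ((i = 1 ∨ i = 3) → x.1.rootMultiplicity 1 ≤ 1 ∧ x.1.rootMultiplicity (-1) ≤ 1)

/-- Data all of whose entries are of this kind. -/
def Thin {M n : ℕ} (x : WD F GoodO M n) : Prop := ∀ e : Fin M, GoodT ((e : ℕ) + 1) (x.1 e)

theorem thin_flipWD [Fintype F] {N : ℕ} (x : WD F GoodO N N) (h : Thin x) : Thin (flipWD x) := fun e => by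
  refine ⟨(flipWD x).2.1 e, fun he => ?_⟩
  show ((flip x.1 e).1).rootMultiplicity 1 ≤ 1 ∧ ((flip x.1 e).1).rootMultiplicity (-1) ≤ 1
  rw [flip_fst]
  exact (h e).2 he

theorem card_thin_le {M n : ℕ} [Finite (WD F GoodT M n)] :
    Nat.card {x : WD F GoodO M n // Thin x} ≤ Nat.card (WD F GoodT M n) :=
  Nat.card_le_card_of_injective (fun x => (⟨x.1.1, x.2, x.1.2.2⟩ : WD F GoodT M n))
    fun _ _ h => Subtype.ext (Subtype.ext (congrArg (fun z : WD F GoodT M n => z.1) h))

/-! ### Data from a given level on -/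

/-- A bound for the data from a bound at one level and series bounds above it. -/
theorem card_wd_le_from (ok : ℕ → Entry F → Prop) (hok : ∀ i a, Finite (OPiece ok i a)) (w : ℕ → ℕ → ℝ)
    {ρ : ℝ} (hρ : 1 ≤ ρ) (hw : ∀ i a, (Nat.card (OPiece ok i a) : ℝ) ≤ ρ ^ (a / 2) * w i a)
    (hw0 : ∀ i a, 0 ≤ w i a) {s : ℝ} (hs : 0 < s) (M₀ : ℕ) {B : ℝ} (hB0 : 0 ≤ B)
    (hB : ∀ n, (Nat.card (WD F ok M₀ n) : ℝ) ≤ B * ρ ^ (n / 2) * s ^ n) (T : ℕ → ℝ) (hT : ∀ i, 0 ≤ T i) :
    ∀ d, (∀ i, M₀ < i → i ≤ M₀ + d → ∀ A, ∑ a ∈ Finset.range A, w i a * ((s ^ i)⁻¹) ^ a ≤ T i) → ∀ n,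
      (Nat.card (WD F ok (M₀ + d) n) : ℝ) ≤
        (B * ∏ i ∈ Finset.range d, T (M₀ + i + 1)) * ρ ^ (n / 2) * s ^ n := by
  intro d
  induction d with
  | zero => intro _ n; simpa using hB n
  | succ d ih =>
    intro hi n
    have ih' := ih fun i h h' => hi i h (h'.trans (Nat.le_succ _))
    set C := B * ∏ i ∈ Finset.range d, T (M₀ + i + 1) with hC'
    have hC : 0 ≤ C := mul_nonneg hB0 (Finset.prod_nonneg fun i _ => hT _)
    set M := M₀ + d with hM
    have hstep := (wd_step ok hok M n (wd_finite ok hok M)).2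
    rw [Finset.prod_range_succ, ← mul_assoc, ← hC']
    show (Nat.card (WD F ok (M + 1) n) : ℝ) ≤ _
    have hterm : ∀ a ∈ Finset.range (n / (M + 1) + 1),
        ((Nat.card (OPiece ok (M + 1) a) * Nat.card (WD F ok M (n - (M + 1) * a)) : ℕ) : ℝ) ≤
        C * ρ ^ (n / 2) * s ^ n * (w (M + 1) a * ((s ^ (M + 1))⁻¹) ^ a) := by
      intro a ha
      rw [Finset.mem_range] at ha
      have hle : (M + 1) * a ≤ n :=
        (Nat.mul_le_mul_left _ (Nat.lt_succ_iff.1 ha)).trans (Nat.mul_div_le n (M + 1))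
      push_cast
      have hexp : a / 2 + (n - (M + 1) * a) / 2 ≤ n / 2 := by
        have : a ≤ (M + 1) * a := Nat.le_mul_of_pos_left _ (Nat.succ_pos M)
        omega
      refine (mul_le_mul (hw _ a) (ih' (n - (M + 1) * a)) (Nat.cast_nonneg _)
        (mul_nonneg (pow_nonneg (zero_le_one.trans hρ) _) (hw0 _ _))).trans ?_
      rw [pow_sub₀ _ hs.ne' hle, inv_pow, ← pow_mul]
      have hnn : 0 ≤ C * s ^ n * (w (M + 1) a * (s ^ ((M + 1) * a))⁻¹) := by
        have := hw0 (M + 1) a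
        positivity
      calc ρ ^ (a / 2) * w (M + 1) a * (C * ρ ^ ((n - (M + 1) * a) / 2) * (s ^ n * (s ^ ((M + 1) * a))⁻¹))
          = ρ ^ (a / 2 + (n - (M + 1) * a) / 2) * (C * s ^ n * (w (M + 1) a * (s ^ ((M + 1) * a))⁻¹)) := by
            rw [pow_add]; ring
        _ ≤ ρ ^ (n / 2) * (C * s ^ n * (w (M + 1) a * (s ^ ((M + 1) * a))⁻¹)) :=
            mul_le_mul_of_nonneg_right (pow_le_pow_right₀ hρ hexp) hnn
        _ = _ := by ring
    refine (Nat.cast_le.2 hstep).trans ?_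
    rw [Nat.cast_sum]
    refine (Finset.sum_le_sum hterm).trans ?_
    rw [← Finset.mul_sum]
    refine (mul_le_mul_of_nonneg_left (hi (M + 1) (by omega) (by omega) _) ?_).trans_eq (by ring)
    have := zero_le_one.trans hρ
    positivity

theorem card_wd_one (ok : ℕ → Entry F → Prop) (hok : ∀ i a, Finite (OPiece ok i a)) (n : ℕ) :
    Nat.card (WD F ok 1 n) ≤ Nat.card (OPiece ok 1 n) := by
  refine ((wd_step ok hok 0 n (wd_finite ok hok 0)).2).trans ?_
  rw [Finset.sum_eq_single_of_mem n (Finset.mem_range.2 (by rw [Nat.div_one]; omega))]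
  · refine (Nat.mul_le_mul_left _ (wd_zero ok _).2).trans ?_
    simp
  · intro a ha hne
    have h := (wd_zero ok (n - (0 + 1) * a)).2
    rw [Finset.mem_range, zero_add, Nat.div_one] at ha
    rw [if_neg (by simp; omega)] at h
    rw [Nat.le_zero.1 h, mul_zero]

theorem prod_tail (d : ℕ) : ∏ i ∈ Finset.range d, TO (3 + i + 1) ≤ 156 / 100 := by
  have h := prod_le_of_tail (fun i => if i ≤ 3 then 1 else TO i)
    (fun i => by split_ifs <;> [exact zero_le_one; exact TO_nonneg i])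
    (fun i => by
      split_ifs with h
      · exact le_rfl
      · unfold TO
        rw [if_neg (by omega)]
        split_ifs
        · exact one_le_div_one_sub (one_le_pow₀ (le_add_of_nonneg_right (pow_nonneg U_bounds.1.le _))) (by omega)
        · exact one_le_div_one_sub le_rfl (by omega))
    (B := 156 / 100) (fun M hM => by
      rw [if_neg (by omega)]
      unfold TO
      rw [if_neg (by omega)]
      refine le_trans ?_ (tail_bound M hM)
      refine div_le_div_of_nonneg_right ?_ (one_sub_pow_nonneg _)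
      split_ifs
      · exact le_rfl
      · exact one_le_pow₀ (le_add_of_nonneg_right (pow_nonneg U_bounds.1.le _)))
    (by
      simp only [Finset.prod_range_succ, Finset.prod_range_zero, TO, U]
      norm_num [Nat.odd_iff])
    (3 + d)
  rw [Finset.prod_range_add, Finset.prod_range_succ, Finset.prod_range_succ, Finset.prod_range_one] at h
  simp only [zero_add, show (1 : ℕ) + 1 ≤ 3 from by omega, show (2 : ℕ) + 1 ≤ 3 from by omega,
    show (1 : ℕ) ≤ 3 from by omega, if_true, one_mul] at h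
  refine le_trans (le_of_eq (Finset.prod_congr rfl fun i _ => ?_)) h
  rw [if_neg (by omega)]

/-! ### Odd `q ≥ 5` -/

theorem cw_scale {ρ : ℝ} (hρ : 1 ≤ ρ) {q : ℕ} (hq : (q : ℝ) = 5 * ρ) :
    ∀ a, (cw q a : ℝ) ≤ ρ ^ (a / 2) * (cw 5 a : ℝ)
  | 0 => by simp [cw]
  | 1 => by simp [cw]
  | a + 2 => by
    have ih := cw_scale hρ hq a
    have h1 : (1 : ℝ) ≤ ρ ^ (a / 2 + 1) := one_le_pow₀ hρ
    rw [show (a + 2) / 2 = a / 2 + 1 by omega]
    simp only [cw]
    push_cast
    rw [mul_add, hq]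
    refine add_le_add ?_ (le_mul_of_one_le_left (Nat.cast_nonneg _) h1)
    calc 5 * ρ * (cw q a : ℝ) ≤ 5 * ρ * (ρ ^ (a / 2) * (cw 5 a : ℝ)) :=
          mul_le_mul_of_nonneg_left ih (by positivity)
      _ = _ := by rw [pow_succ]; ring

theorem co_scale {ρ : ℝ} (hρ : 1 ≤ ρ) {q : ℕ} (hq : (q : ℝ) = 5 * ρ) :
    ∀ a, (co q a : ℝ) ≤ ρ ^ (a / 2) * (co 5 a : ℝ)
  | 0 => by simp [co]
  | 1 => by simp [co]
  | a + 2 => by
    have ih := co_scale hρ hq a
    rw [show (a + 2) / 2 = a / 2 + 1 by omega]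
    simp only [co]
    push_cast
    rw [hq]
    calc 5 * ρ * (co q a : ℝ) ≤ 5 * ρ * (ρ ^ (a / 2) * (co 5 a : ℝ)) :=
          mul_le_mul_of_nonneg_left ih (by positivity)
      _ = _ := by rw [pow_succ]; ring

theorem sqrt_five : (0 : ℝ) < Real.sqrt 5 ∧ Real.sqrt 5 ^ 2 = 5 ∧
    2236 / 1000 ≤ Real.sqrt 5 ∧ Real.sqrt 5 ≤ 22361 / 10000 := by
  refine ⟨Real.sqrt_pos.2 (by norm_num), Real.sq_sqrt (by norm_num), ?_, ?_⟩
  · rw [Real.le_sqrt (by norm_num) (by norm_num)]; norm_num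
  · rw [Real.sqrt_le_iff]; norm_num

theorem cw_five : ∀ n, (cw 5 n : ℝ) ≤ 224 / 100 * Real.sqrt 5 ^ n := by
  obtain ⟨hs, hs2, hlo, -⟩ := sqrt_five
  intro n
  rcases n with _ | _ | _ | n
  · simp [cw]; norm_num
  · simp [cw]; linarith
  · have e : (cw 5 (0 + 1 + 1) : ℝ) = 11 := by simp [cw, show Nat.choose 4 2 = 6 from rfl]
    rw [e, show 0 + 1 + 1 = 2 from rfl, hs2]
    norm_num
  · rcases Nat.even_or_odd n with ⟨j, hj⟩ | ⟨j, hj⟩
    · obtain rfl : n = 2 * j := by omega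
      rw [show 2 * j + 1 + 1 + 1 = 2 * j + 3 from rfl, (cw_shape 5 j).1,
        show Real.sqrt (5 : ℝ) ^ (2 * j + 3) = (Real.sqrt 5 ^ 2) ^ j * (Real.sqrt 5 * Real.sqrt 5 ^ 2) by ring, hs2]
      push_cast
      have hj : (0 : ℝ) ≤ (5 : ℝ) ^ j := by positivity
      rw [pow_succ]
      nlinarith
    · obtain rfl : n = 2 * j + 1 := hj
      rw [show 2 * j + 1 + 1 + 1 + 1 = 2 * j + 4 from rfl, (cw_shape 5 j).2,
        show 2 * j + 4 = 2 * (j + 2) by ring, pow_mul, hs2]
      push_cast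
      rw [pow_succ, pow_succ]
      have hj : (0 : ℝ) ≤ (5 : ℝ) ^ j := by positivity
      nlinarith

theorem series_two_five (A : ℕ) :
    ∑ a ∈ Finset.range A, (co 5 a : ℝ) * ((Real.sqrt 5 ^ 2)⁻¹) ^ a ≤ 5 / 4 := by
  rw [sqrt_five.2.1]
  refine (sum_series_le (q := (5 : ℝ)) (y := 5⁻¹) (by norm_num) (by norm_num) (by norm_num) (fun a => (co 5 a : ℝ))
    (fun a => if a = 0 then 1 else 0) (by simp [co]) (by simp [co]) (fun a => by simp [co])
    (fun a => by split_ifs <;> norm_num) (T := 1) (fun B => ?_) A).trans (by norm_num)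
  simp only [ite_mul, zero_mul, Finset.sum_ite_eq', pow_zero, mul_one]
  split_ifs <;> norm_num

theorem series_three_five (A : ℕ) :
    ∑ a ∈ Finset.range A, (cw 5 a : ℝ) * ((Real.sqrt 5 ^ 3)⁻¹) ^ a ≤ 147 / 100 := by
  obtain ⟨hs, hs2, hlo, hhi⟩ := sqrt_five
  set y := (Real.sqrt 5 ^ 3)⁻¹ with hy
  have hy0 : 0 ≤ y := by positivity
  have hy1 : y ≤ 8946 / 100000 := by
    rw [hy, inv_le_comm₀ (by positivity) (by norm_num), show Real.sqrt 5 ^ 3 = Real.sqrt 5 ^ 2 * Real.sqrt 5 by ring,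
      hs2]
    norm_num
    linarith
  have hqy : (5 : ℝ) * y ^ 2 ≤ 4002 / 100000 := by nlinarith
  refine (sum_series_le (q := (5 : ℝ)) (by norm_num) hy0 (by linarith) (fun a => (cw 5 a : ℝ))
    (fun a => (Nat.choose 4 a : ℝ)) (by simp [cw]) (by simp [cw]) (fun a => by simp [cw])
    (fun a => Nat.cast_nonneg _) (T := (1 + y) ^ 4) (fun B => ?_) A).trans ?_
  · have e : ((1 : ℝ) + y) ^ 4 = ∑ a ∈ Finset.range 5, (Nat.choose 4 a : ℝ) * y ^ a := by
      rw [add_comm, add_pow]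
      exact Finset.sum_congr rfl fun a _ => by rw [one_pow, mul_one, mul_comm]
    rw [e]
    rcases Nat.lt_or_ge B 5 with hB | hB
    · exact Finset.sum_le_sum_of_subset_of_nonneg (Finset.range_subset_range.2 hB.le) fun a _ _ => by positivity
    · refine le_of_eq (Finset.sum_subset (Finset.range_subset_range.2 hB) fun a _ ha => ?_).symm
      rw [Finset.mem_range] at ha
      rw [Nat.choose_eq_zero_of_lt (by omega), Nat.cast_zero, zero_mul]
  · rw [div_le_iff₀ (by linarith)]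
    have h4 : (1 + y) ^ 4 ≤ (1 + 8946 / 100000 : ℝ) ^ 4 := pow_le_pow_left₀ (by linarith) (by linarith) 4
    refine h4.trans (le_trans (by norm_num) (mul_le_mul_of_nonneg_left
      (show (1 : ℝ) - 4002 / 100000 ≤ 1 - 5 * y ^ 2 by linarith) (by norm_num)))

/-- Factors for `q = 5`. -/
noncomputable def T5 (i : ℕ) : ℝ := if i = 2 then 5 / 4 else if i = 3 then 147 / 100 else TO i

theorem T5_nonneg (i : ℕ) : 0 ≤ T5 i := by
  unfold T5
  split_ifs <;> [norm_num; norm_num; exact TO_nonneg i]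

section Five

variable [Fintype F] (h2 : (2 : F) ≠ 0) (hq : 5 ≤ Fintype.card F)

include h2 hq in
/-- The data in dimension `2 n + 1`. -/
theorem card_goodO_five {n : ℕ} (hn : 2 ≤ n) :
    (Nat.card (WD F GoodO (2 * n + 1) (2 * n + 1)) : ℝ) ≤ 146 / 10 * (Fintype.card F : ℝ) ^ n := by
  obtain ⟨hs, hs2, hlo, hhi⟩ := sqrt_five
  set ρ : ℝ := (Fintype.card F : ℝ) / 5 with hρ'
  have hρ : 1 ≤ ρ := by
    rw [hρ', le_div_iff₀ (by norm_num), one_mul]
    exact_mod_cast hq
  have hqρ : (Fintype.card F : ℝ) = 5 * ρ := by rw [hρ']; ring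
  have hw : ∀ i a, (Nat.card (OPiece (GoodO (F := F)) i a) : ℝ) ≤ ρ ^ (a / 2) * (wO 5 i a : ℝ) := fun i a => by
    refine (Nat.cast_le.2 (card_goodO h2 i a)).trans ?_
    unfold wO
    split_ifs
    · exact cw_scale hρ hqρ a
    · exact co_scale hρ hqρ a
  have hw0 : ∀ i a, (0 : ℝ) ≤ (wO 5 i a : ℝ) := fun i a => Nat.cast_nonneg _
  have h1 : ∀ m, (Nat.card (WD F GoodO 1 m) : ℝ) ≤ 224 / 100 * ρ ^ (m / 2) * Real.sqrt 5 ^ m := fun m => by
    refine (Nat.cast_le.2 (card_wd_one GoodO finite_goodO m)).trans ((hw 1 m).trans ?_)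
    rw [mul_comm (224 / 100 : ℝ), mul_assoc]
    refine mul_le_mul_of_nonneg_left ?_ (pow_nonneg (zero_le_one.trans hρ) _)
    rw [wO, if_pos odd_one]
    exact cw_five m
  have h3 : ∀ m, (Nat.card (WD F GoodO 3 m) : ℝ) ≤ 4116 / 1000 * ρ ^ (m / 2) * Real.sqrt 5 ^ m := fun m => by
    refine (card_wd_le_from GoodO finite_goodO _ hρ hw hw0 hs 1 (by norm_num) h1 T5 T5_nonneg 2
      (fun i hi hi' A => ?_) m).trans (le_of_eq ?_)
    · rcases (show i = 2 ∨ i = 3 by omega) with rfl | rfl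
      · simp only [wO, T5, if_neg (show ¬Odd 2 by decide), if_true]
        exact series_two_five A
      · simp only [wO, T5, if_pos (show Odd 3 by decide), if_neg (show (3 : ℕ) ≠ 2 by norm_num), if_true]
        exact series_three_five A
    · simp only [Finset.prod_range_succ, Finset.prod_range_zero, T5]
      norm_num
  obtain ⟨d, hd⟩ : ∃ d, 2 * n + 1 = 3 + d := ⟨2 * n + 1 - 3, by omega⟩
  have h := card_wd_le_from GoodO finite_goodO _ hρ hw hw0 hs 3 (by norm_num) h3 TO TO_nonneg d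
    (fun i hi _ A => by
      have hs5 : Real.sqrt ((5 : ℕ) : ℝ) = Real.sqrt 5 := by norm_num
      simp only [wO, TO, if_neg (show i ≠ 1 by omega)]
      split_ifs
      · have := cw_series (q := 5) (by norm_num) (show 2 ≤ i by omega) A
        rwa [hs5] at this
      · have := co_series (q := 5) (by norm_num) (show 2 ≤ i by omega) A
        rwa [hs5] at this) (2 * n + 1)
  rw [← hd] at h
  refine h.trans ?_
  have hp := prod_tail d
  rw [show (2 * n + 1) / 2 = n by omega, pow_succ, pow_mul, hs2, hqρ, mul_pow]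
  have hρn : (0 : ℝ) ≤ ρ ^ n * 5 ^ n := by positivity
  have hc : 4116 / 1000 * (∏ i ∈ Finset.range d, TO (3 + i + 1)) * Real.sqrt 5 ≤ 146 / 10 := by
    calc 4116 / 1000 * (∏ i ∈ Finset.range d, TO (3 + i + 1)) * Real.sqrt 5
        ≤ 4116 / 1000 * (156 / 100) * (22361 / 10000) := by
          refine mul_le_mul (mul_le_mul_of_nonneg_left hp (by norm_num)) hhi hs.le (by norm_num)
      _ ≤ _ := by norm_num
  calc _ = 4116 / 1000 * (∏ i ∈ Finset.range d, TO (3 + i + 1)) * Real.sqrt 5 * (ρ ^ n * 5 ^ n) := by ring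
    _ ≤ 146 / 10 * (ρ ^ n * 5 ^ n) := mul_le_mul_of_nonneg_right hc hρn
    _ = _ := by ring

end Five

/-! ### Thin entries -/

/-- Entries without roots at `±1`. -/
abbrev Rf (F : Type u) [Field F] (a : ℕ) : Type u := {P : SDN F a // P.1.eval 1 ≠ 0 ∧ P.1.eval (-1) ≠ 0}

/-- The bound for their number. -/
def rT (q : ℕ) : ℕ → ℕ
  | 0 => 1
  | 1 => q - 2
  | j + 2 => (q - 1) ^ 2 * q ^ j

theorem split_root [Fintype F] {r : F} (hr : r * r = 1) {P : F[X]} (hP : SDual P) (hm : P.rootMultiplicity r ≤ 1) :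
    ∃ R : F[X], SDual R ∧ R.eval r ≠ 0 ∧ P = (X - C r) ^ (if P.eval r = 0 then 1 else 0) * R := by
  by_cases h : P.eval r = 0
  · obtain ⟨h1, h2, -⟩ := sdual_div hr hP h
    refine ⟨_, h1, fun h0 => ?_, by rw [if_pos h, pow_one]; exact h2.symm⟩
    obtain ⟨R', hR'⟩ := dvd_iff_isRoot.2 h0
    have : (X - C r) ^ 2 ∣ P := ⟨R', by rw [← h2, hR', sq, mul_assoc]⟩
    have := (le_rootMultiplicity_iff hP.1.ne_zero).2 this
    omega
  · exact ⟨P, hP, h, by rw [if_neg h, pow_zero, one_mul]⟩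

section Thin

variable [Fintype F] (h2 : (2 : F) ≠ 0)

theorem finite_rf (a : ℕ) : Finite (Rf F a) := by
  haveI := finite_sdn (F := F) a
  infer_instance

include h2 in
theorem card_rf : ∀ j, Nat.card (Rf F (2 * j)) ≤ rT (Fintype.card F) j
  | 0 => by
    haveI := finite_sdn (F := F) (2 * 0)
    exact (Nat.card_le_card_of_injective (fun P : Rf F (2 * 0) => P.1) fun _ _ h => Subtype.ext h).trans card_sdn_zero
  | 1 => by
    have key : ∀ P : Rf F (2 * 1), P.1.1.coeff 1 ≠ 2 ∧ P.1.1.coeff 1 ≠ -2 := fun P => by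
      have h0 := P.1.2.1.eval_one P.2.1
      have e : ∀ x : F, P.1.1.eval x = 1 + P.1.1.coeff 1 * x + x ^ 2 := fun x => by
        rw [eval_eq_sum_range, P.1.2.2, show 2 * 1 + 1 = 3 from rfl, Finset.sum_range_succ, Finset.sum_range_succ,
          Finset.sum_range_one, h0]
        have : P.1.1.coeff 2 = 1 := by
          have := P.1.2.1.1.coeff_natDegree
          rwa [P.1.2.2] at this
        rw [this]
        ring
      constructor <;> intro h
      · exact P.2.2 (by rw [e, h]; ring)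
      · exact P.2.1 (by rw [e, h]; ring)
    let f : Rf F (2 * 1) → {c : F // c ∉ ({2, -2} : Finset F)} := fun P => ⟨P.1.1.coeff 1, by
      rw [Finset.mem_insert, Finset.mem_singleton, not_or]
      exact key P⟩
    refine (Nat.card_le_card_of_injective f fun P Q h => ?_).trans (le_of_eq ?_)
    · refine Subtype.ext (Subtype.ext (ext_half P.1.2.1 P.1.2.2 Q.1.2.1 Q.1.2.2
        ((P.1.2.1.eval_one P.2.1).trans (Q.1.2.1.eval_one Q.2.1).symm) fun i hi => ?_))
      obtain rfl : i = 0 := by omega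
      exact congrArg Subtype.val h
    · rw [Nat.card_eq_fintype_card, Fintype.card_subtype_compl, Fintype.card_coe, Finset.card_pair, rT]
      intro h
      have : (2 : F) * 2 = 0 := by linear_combination h
      exact h2 (mul_self_eq_zero.1 this)
  | j + 2 => by
    haveI := finite_rf (F := F) (2 * (j + 2))
    let f : Rf F (2 * (j + 2)) → (Fin j → F) × {x : F // x ≠ 0} × {x : F // x ≠ 0} := fun P =>
      (fun i => P.1.1.coeff ((i : ℕ) + 1), ⟨_, P.2.1⟩, ⟨_, P.2.2⟩)
    refine (Nat.card_le_card_of_injective f fun P Q h => ?_).trans (le_of_eq ?_)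
    · simp only [f, Prod.mk.injEq, Subtype.mk.injEq] at h
      obtain ⟨hlow, hv1, hvm⟩ := h
      have h0 : P.1.1.coeff 0 = Q.1.1.coeff 0 :=
        (P.1.2.1.eval_one P.2.1).trans (Q.1.2.1.eval_one Q.2.1).symm
      have hc : ∀ i, i ≤ j → P.1.1.coeff i = Q.1.1.coeff i := fun i hi => by
        rcases i with _ | i
        · exact h0
        · exact congrFun hlow ⟨i, by omega⟩
      have hsym : ∀ (R : Rf F (2 * (j + 2))) i, i ≤ 2 * (j + 2) →
          R.1.1.coeff (2 * (j + 2) - i) = R.1.1.coeff i := fun R i hi => by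
        have := R.1.2.1.coeff_sub (i := i) (by rw [R.1.2.2]; exact hi)
        rwa [R.1.2.2, R.1.2.1.eval_one R.2.1, one_mul] at this
      set D := P.1.1 - Q.1.1 with hD
      set a := D.coeff (j + 1) with ha
      set b := D.coeff (j + 2) with hb
      have hDe : D = C a * X ^ (j + 1) + C b * X ^ (j + 2) + C a * X ^ (j + 3) := by
        ext i
        simp only [coeff_add, coeff_C_mul_X_pow]
        by_cases h1 : i ≤ j
        · rw [if_neg (by omega), if_neg (by omega), if_neg (by omega), hD, coeff_sub, hc i h1]; ring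
        by_cases h3 : i = j + 1
        · subst h3; rw [if_pos rfl, if_neg (by omega), if_neg (by omega), ← ha]; ring
        by_cases h4 : i = j + 2
        · subst h4; rw [if_neg (by omega), if_pos rfl, if_neg (by omega), ← hb]; ring
        rw [if_neg h3, if_neg h4]
        by_cases h5 : i = j + 3
        · subst h5
          rw [if_pos rfl, ha, hD, coeff_sub, coeff_sub,
            show j + 3 = 2 * (j + 2) - (j + 1) by omega, hsym P _ (by omega), hsym Q _ (by omega)]
          ring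
        · rw [if_neg h5, hD, coeff_sub]
          rcases Nat.lt_or_ge (2 * (j + 2)) i with h6 | h6
          · rw [coeff_eq_zero_of_natDegree_lt (by rw [P.1.2.2]; exact h6),
              coeff_eq_zero_of_natDegree_lt (by rw [Q.1.2.2]; exact h6)]
            ring
          · rw [show i = 2 * (j + 2) - (2 * (j + 2) - i) by omega, hsym P _ (by omega), hsym Q _ (by omega),
              hc _ (by omega)]
            ring
      have e1 : D.eval 1 = 0 := by rw [hD, eval_sub, hv1, sub_self]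
      have em : D.eval (-1) = 0 := by rw [hD, eval_sub, hvm, sub_self]
      rw [hDe] at e1 em
      simp only [eval_add, eval_mul, eval_C, eval_pow, eval_X, one_pow, mul_one, pow_succ] at e1 em
      have hne : ((-1 : F) ^ j) ≠ 0 := pow_ne_zero _ (neg_ne_zero.2 one_ne_zero)
      have em' : -a + b - a = 0 := by
        refine (mul_eq_zero.1 ?_).resolve_left hne
        linear_combination em
      have hb0 : b = 0 := by
        have : (2 : F) * b = 0 := by linear_combination e1 + em'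
        exact (mul_eq_zero.1 this).resolve_left h2
      have ha0 : a = 0 := by
        have : (2 : F) * a = 0 := by linear_combination e1 - hb0
        exact (mul_eq_zero.1 this).resolve_left h2
      rw [ha0, hb0] at hDe
      simp only [map_zero, zero_mul, add_zero] at hDe
      exact Subtype.ext (Subtype.ext (sub_eq_zero.1 hDe))
    · rw [Nat.card_prod, Nat.card_prod, Nat.card_fun, Nat.card_fin, Nat.card_eq_fintype_card,
        Nat.card_eq_fintype_card, Fintype.card_subtype_compl, Fintype.card_subtype_eq, rT]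
      ring

/-- The bound for thin entries. -/
def gT (q a : ℕ) : ℕ :=
  if a % 2 = 0 then rT q (a / 2) + (if a < 2 then 0 else 4 * rT q (a / 2 - 1)) else 4 * rT q (a / 2)

include h2 in
theorem card_goodT_piece {i : ℕ} (hi : i = 1 ∨ i = 3) (a : ℕ) :
    Nat.card (OPiece (GoodT (F := F)) i a) ≤ gT (Fintype.card F) a := by
  have hr1 : (1 : F) * 1 = 1 := one_mul 1
  have hrm : (-1 : F) * -1 = 1 := by norm_num
  have h11 : (1 : F) ≠ -1 := fun h => h2 (by linear_combination h)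
  let wt : (Bool × Bool) × (Bool × Bool) → ℕ := fun t => (if t.1.1 then 1 else 0) + (if t.1.2 then 1 else 0)
  let ok : (Bool × Bool) × (Bool × Bool) → Prop := fun t =>
    (t.2.1 = true → t.1.1 = true) ∧ (t.2.2 = true → t.1.2 = true) ∧ wt t ≤ a ∧ Even (a - wt t)
  have key : ∀ x : OPiece (GoodT (F := F)) i a, ∃ (t : (Bool × Bool) × (Bool × Bool)) (R : Rf F (a - wt t)),
      ok t ∧ x.1 = ((X - C 1) ^ (if t.1.1 then 1 else 0) * ((X - C (-1)) ^ (if t.1.2 then 1 else 0) * R.1.1), t.2) := by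
    rintro ⟨⟨P, b⟩, ⟨⟨hP, -, hb1, hb2⟩, hth⟩, hdeg⟩
    dsimp only at hP hb1 hb2 hdeg hth
    obtain ⟨R₁, hR₁, hR₁1, hP₁⟩ := split_root hr1 hP (hth hi).1
    have hdvd : R₁ ∣ P := ⟨_, hP₁.trans (mul_comm _ _)⟩
    have hm : R₁.rootMultiplicity (-1) ≤ 1 := by
      refine le_trans ?_ (hth hi).2
      exact (le_rootMultiplicity_iff hP.1.ne_zero).2 ((pow_rootMultiplicity_dvd R₁ (-1)).trans hdvd)
    obtain ⟨R, hR, hRm, hP₂⟩ := split_root hrm hR₁ hm
    have hR1 : R.eval 1 ≠ 0 := fun h => hR₁1 (by rw [hP₂, eval_mul, h, mul_zero])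
    have hev : R₁.eval (-1) = 0 ↔ P.eval (-1) = 0 := by
      rw [hP₁, eval_mul, mul_eq_zero]
      refine ⟨Or.inr, fun h => h.resolve_left ?_⟩
      rw [eval_pow, eval_sub, eval_X, eval_C]
      exact pow_ne_zero _ (sub_ne_zero.2 h11.symm)
    simp only [hev] at hP₂
    have hd : P.natDegree = (if P.eval 1 = 0 then 1 else 0) + ((if P.eval (-1) = 0 then 1 else 0) + R.natDegree) := by
      conv_lhs => rw [hP₁, hP₂]
      rw [((monic_X_sub_C (1 : F)).pow _).natDegree_mul (((monic_X_sub_C (-1 : F)).pow _).mul hR.1),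
        ((monic_X_sub_C (-1 : F)).pow _).natDegree_mul hR.1, natDegree_pow, natDegree_pow, natDegree_X_sub_C,
        natDegree_X_sub_C, mul_one, mul_one]
    have hw : wt ((decide (P.eval 1 = 0), decide (P.eval (-1) = 0)), b) + R.natDegree = a := by
      rw [← hdeg, hd]
      simp [wt, add_assoc]
    refine ⟨((decide (P.eval 1 = 0), decide (P.eval (-1) = 0)), b), ⟨⟨R, hR, by omega⟩, hR1, hRm⟩,
      ⟨fun h => decide_eq_true (hb1 h), fun h => decide_eq_true (hb2 h), by omega, ?_⟩, ?_⟩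
    · have := hR.even_natDegree h2 hR1 hRm
      rwa [show a - wt ((decide (P.eval 1 = 0), decide (P.eval (-1) = 0)), b) = R.natDegree by omega]
    · refine Prod.ext ?_ rfl
      show P = _
      simp only [decide_eq_true_eq]
      exact hP₁.trans (congrArg _ hP₂)
  choose t R hok hx using key
  haveI := fun t => finite_rf (F := F) (a - wt t)
  let f : OPiece (GoodT (F := F)) i a → Σ t, {R : Rf F (a - wt t) // ok t} := fun x => ⟨t x, R x, hok x⟩
  have hf : Function.Injective f := fun x y h => by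
    refine Subtype.ext ((hx x).trans (Eq.trans ?_ (hx y).symm))
    exact congrArg (fun z : Σ t, {R : Rf F (a - wt t) // ok t} =>
      (((X - C 1) ^ (if z.1.1.1 then 1 else 0) * ((X - C (-1)) ^ (if z.1.1.2 then 1 else 0) * z.2.1.1.1), z.1.2) :
        Entry F)) h
  refine (Nat.card_le_card_of_injective f hf).trans ?_
  rw [Nat.card_sigma]
  have hterm : ∀ t, Nat.card {R : Rf F (a - wt t) // ok t} ≤
      if ok t then rT (Fintype.card F) ((a - wt t) / 2) else 0 := fun t => by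
    split_ifs with h
    · refine (Finite.card_subtype_le _).trans ?_
      obtain ⟨k, hk⟩ := h.2.2.2
      rw [hk, show (k + k) / 2 = k by omega, ← two_mul]
      exact card_rf h2 k
    · haveI : IsEmpty {R : Rf F (a - wt t) // ok t} := ⟨fun R => h R.2⟩
      simp
  refine (Finset.sum_le_sum fun t _ => hterm t).trans (le_of_eq ?_)
  let φ : ℕ → ℕ := fun w => if w ≤ a ∧ Even (a - w) then rT (Fintype.card F) ((a - w) / 2) else 0
  have hφ : ∀ t, (if ok t then rT (Fintype.card F) ((a - wt t) / 2) else 0) =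
      if (t.2.1 = true → t.1.1 = true) ∧ (t.2.2 = true → t.1.2 = true) then φ (wt t) else 0 := fun t => by
    simp only [ok, φ, ← ite_and, and_assoc]
  have hsum : (∑ t, if ok t then rT (Fintype.card F) ((a - wt t) / 2) else 0) = φ 0 + 4 * φ 1 + 4 * φ 2 := by
    rw [Finset.sum_congr rfl fun t _ => hφ t]
    clear_value φ
    simp [Fintype.sum_prod_type, wt]
    ring
  rw [hsum]
  simp only [φ]
  unfold gT
  rcases Nat.even_or_odd a with ⟨k, rfl⟩ | ⟨k, rfl⟩
  · rw [if_pos (show 0 ≤ k + k ∧ Even (k + k - 0) from ⟨Nat.zero_le _, k, by omega⟩),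
      if_pos (show (k + k) % 2 = 0 by omega),
      if_neg (show ¬(1 ≤ k + k ∧ Even (k + k - 1)) by rw [Nat.even_iff]; omega), mul_zero, add_zero, Nat.sub_zero]
    rcases k with _ | k
    · rw [if_neg (show ¬(2 ≤ 0 + 0 ∧ Even (0 + 0 - 2)) by omega), if_pos (show 0 + 0 < 2 by omega), mul_zero]
    · rw [if_pos (show 2 ≤ k + 1 + (k + 1) ∧ Even (k + 1 + (k + 1) - 2) from ⟨by omega, k, by omega⟩),
        if_neg (show ¬k + 1 + (k + 1) < 2 by omega), show (k + 1 + (k + 1) - 2) / 2 = (k + 1 + (k + 1)) / 2 - 1 by omega]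
  · rw [if_neg (show ¬(0 ≤ 2 * k + 1 ∧ Even (2 * k + 1 - 0)) by rw [Nat.even_iff]; omega),
      if_neg (show ¬(2 * k + 1) % 2 = 0 by omega),
      if_neg (show ¬(2 ≤ 2 * k + 1 ∧ Even (2 * k + 1 - 2)) by rw [Nat.even_iff]; omega),
      if_pos (show 1 ≤ 2 * k + 1 ∧ Even (2 * k + 1 - 1) from ⟨by omega, k, by omega⟩),
      show (2 * k + 1 - 1) / 2 = (2 * k + 1) / 2 by omega]
    ring

theorem finite_goodT (i a : ℕ) : Finite (OPiece (GoodT (F := F)) i a) := by
  haveI := finite_goodO (F := F) i a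
  exact Finite.of_injective (fun x => (⟨x.1, x.2.1.1, x.2.2⟩ : OPiece (GoodO (F := F)) i a))
    fun _ _ h => Subtype.ext (congrArg (fun z : OPiece (GoodO (F := F)) i a => z.1) h)

/-- The weights of thin data. -/
def wT (q i a : ℕ) : ℕ := if i = 1 ∨ i = 3 then gT q a else wO q i a

include h2 in
theorem card_goodT (i a : ℕ) : Nat.card (OPiece (GoodT (F := F)) i a) ≤ wT (Fintype.card F) i a := by
  unfold wT
  split_ifs with h
  · exact card_goodT_piece h2 h a
  · haveI := finite_goodO (F := F) i a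
    exact (Nat.card_le_card_of_injective
      (fun x : OPiece (GoodT (F := F)) i a => (⟨x.1, x.2.1.1, x.2.2⟩ : OPiece (GoodO (F := F)) i a))
      fun _ _ h => Subtype.ext (congrArg (fun z : OPiece (GoodO (F := F)) i a => z.1) h)).trans (card_goodO h2 i a)

end Thin

/-! ### The numbers for `q = 3` -/

/-- Data of sizes one and two. -/
def c2 (n : ℕ) : ℕ := ∑ a ∈ Finset.range (n / 2 + 1), co 3 a * gT 3 (n - 2 * a)

theorem c2_succ (n : ℕ) : c2 (n + 4) = gT 3 (n + 4) + 3 * c2 n := by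
  unfold c2
  rw [show (n + 4) / 2 + 1 = n / 2 + 1 + 1 + 1 by omega, Finset.sum_range_succ', Finset.sum_range_succ',
    Finset.mul_sum]
  simp only [co, Nat.zero_mul, add_zero, Nat.mul_zero, Nat.sub_zero, Nat.one_mul]
  rw [add_comm]
  congr 1
  exact Finset.sum_congr rfl fun a _ => by
    rw [show n + 4 - 2 * (a + 1 + 1) = n - 2 * a by omega, Nat.mul_assoc]

theorem sqrt_three : (0 : ℝ) < Real.sqrt 3 ∧ Real.sqrt 3 ^ 2 = 3 ∧
    173205 / 100000 ≤ Real.sqrt 3 ∧ Real.sqrt 3 ≤ 173206 / 100000 := by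
  refine ⟨Real.sqrt_pos.2 (by norm_num), Real.sq_sqrt (by norm_num), ?_, ?_⟩
  · rw [Real.le_sqrt (by norm_num) (by norm_num)]; norm_num
  · rw [Real.sqrt_le_iff]; norm_num

theorem gT_tail (n : ℕ) : (gT 3 (n + 4) : ℝ) ≤ 28 / 3 * Real.sqrt 3 ^ n := by
  obtain ⟨hs, hs2, hlo, -⟩ := sqrt_three
  rcases n with _ | n
  · simp [gT, rT]; norm_num
  rcases Nat.even_or_odd n with ⟨k, hk⟩ | ⟨k, hk⟩
  · obtain rfl : n = 2 * k := by omega
    rw [show gT 3 (2 * k + 1 + 4) = 4 * rT 3 (k + 2) by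
      unfold gT; rw [if_neg (by omega), show (2 * k + 1 + 4) / 2 = k + 2 by omega],
      show Real.sqrt 3 ^ (2 * k + 1) = (Real.sqrt 3 ^ 2) ^ k * Real.sqrt 3 by ring, hs2]
    simp only [rT]
    push_cast
    have hk : (0 : ℝ) ≤ (3 : ℝ) ^ k := by positivity
    nlinarith
  · subst hk
    rw [show gT 3 (2 * k + 1 + 1 + 4) = rT 3 (k + 1 + 2) + 4 * rT 3 (k + 2) by
      unfold gT
      rw [if_pos (by omega), if_neg (by omega), show (2 * k + 1 + 1 + 4) / 2 = k + 1 + 2 by omega,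
        show k + 1 + 2 - 1 = k + 2 by omega],
      show Real.sqrt 3 ^ (2 * k + 1 + 1) = (Real.sqrt 3 ^ 2) ^ (k + 1) by ring, hs2]
    simp only [rT]
    push_cast
    rw [pow_succ]
    have hk : (0 : ℝ) ≤ (3 : ℝ) ^ k := by positivity
    nlinarith

/-- The normalised bound for sizes one and two. -/
noncomputable def beta (m : ℕ) : ℝ :=
  164 / 100 + (if m < 3 then 67 / 100 else 0) + if 3 ≤ m ∧ m < 6 then 16 / 100 else 0

theorem c2_le : ∀ m, (c2 m : ℝ) ≤ beta m * Real.sqrt 3 ^ m ∧ (2 ≤ m → (c2 m : ℝ) ≤ 18 / 10 * Real.sqrt 3 ^ m) := by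
  obtain ⟨hs, hs2, hlo, -⟩ := sqrt_three
  have h3 : Real.sqrt 3 ^ 3 = 3 * Real.sqrt 3 := by rw [pow_succ, hs2]
  have h4 : Real.sqrt 3 ^ 4 = 9 := by rw [show Real.sqrt 3 ^ 4 = (Real.sqrt 3 ^ 2) ^ 2 by ring, hs2]; norm_num
  have h5 : Real.sqrt 3 ^ 5 = 9 * Real.sqrt 3 := by rw [pow_succ, h4]
  intro m
  induction m using Nat.strong_induction_on with
  | _ m ih =>
    rcases m with _ | _ | _ | _ | _ | _ | m <;>
      [skip; skip; skip; skip; skip; skip; skip]
    · simp [c2, beta, gT, rT, co]; norm_num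
    · simp [c2, beta, gT, rT, co]; linarith
    · simp [c2, beta, gT, rT, co, Finset.sum_range_succ, hs2]; norm_num
    · simp [c2, beta, gT, rT, co, Finset.sum_range_succ, h3]; constructor <;> linarith
    · simp [c2, beta, gT, rT, co, Finset.sum_range_succ, h4]; norm_num
    · simp [c2, beta, gT, rT, co, Finset.sum_range_succ, h5]; constructor <;> linarith
    · have h := (ih (m + 2) (by omega)).2 (by omega)
      have hg := gT_tail (m + 2)
      have key : (c2 (m + 2 + 4) : ℝ) ≤ 164 / 100 * Real.sqrt 3 ^ (m + 2 + 4) := by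
        rw [c2_succ, pow_add, h4]
        push_cast
        nlinarith [pow_pos hs (m + 2)]
      refine ⟨key.trans_eq ?_, fun _ => key.trans ?_⟩
      · rw [beta, if_neg (by omega), if_neg (by omega)]
        simp
      · exact mul_le_mul_of_nonneg_right (by norm_num) (pow_nonneg hs.le _)

/-- Normalised thin entries of size three. -/
noncomputable def G3 (a : ℕ) : ℝ := (gT 3 a : ℝ) * ((Real.sqrt 3 ^ 3)⁻¹) ^ a

theorem G3_nonneg (a : ℕ) : 0 ≤ G3 a := by unfold G3; positivity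

theorem G3_small : G3 0 = 1 ∧ G3 1 ≤ 7699 / 10000 ∧ G3 2 ≤ 186 / 1000 ∧ G3 3 ≤ 286 / 10000 := by
  obtain ⟨hs, hs2, hlo, -⟩ := sqrt_three
  have hy : (Real.sqrt 3 ^ 3)⁻¹ ≤ 192451 / 1000000 := by
    rw [inv_le_comm₀ (by positivity) (by norm_num), pow_succ, hs2]
    norm_num
    linarith
  have hy0 : (0 : ℝ) ≤ (Real.sqrt 3 ^ 3)⁻¹ := by positivity
  refine ⟨by simp [G3, gT, rT], ?_, ?_, ?_⟩ <;> simp only [G3, gT, rT] <;>
    generalize (Real.sqrt 3 ^ 3)⁻¹ = y at hy hy0 ⊢ <;> norm_num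
  · linarith
  · nlinarith [pow_le_pow_left₀ hy0 hy 2]
  · nlinarith [pow_le_pow_left₀ hy0 hy 3]

theorem G3_tail (a : ℕ) : G3 (a + 4) ≤ 28 / 2187 * (1 / 3) ^ a := by
  obtain ⟨hs, hs2, hlo, -⟩ := sqrt_three
  have e1 : Real.sqrt 3 * (Real.sqrt 3 ^ 3)⁻¹ = 1 / 3 := by rw [pow_succ, hs2]; field_simp
  have e2 : ((Real.sqrt 3 ^ 3)⁻¹) ^ 4 = 1 / 729 := by
    rw [inv_pow, ← pow_mul, show 3 * 4 = 2 * 6 from rfl, pow_mul, hs2]; norm_num
  unfold G3
  refine (mul_le_mul_of_nonneg_right (gT_tail a) (by positivity)).trans_eq ?_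
  rw [pow_add, e2, ← e1, mul_pow]
  ring

theorem sum_G3 (A : ℕ) : ∑ a ∈ Finset.range A, G3 a ≤ 201 / 100 := by
  refine (Finset.sum_le_sum_of_subset_of_nonneg (Finset.range_subset_range.2 (show A ≤ 4 + A by omega))
    fun a _ _ => G3_nonneg a).trans ?_
  rw [Finset.sum_range_add, Finset.sum_range_succ, Finset.sum_range_succ, Finset.sum_range_succ,
    Finset.sum_range_one]
  have hgeo : ∀ d, ∑ a ∈ Finset.range d, ((1 : ℝ) / 3) ^ a = 3 / 2 * (1 - (1 / 3) ^ d) := by
    intro d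
    induction d with
    | zero => simp
    | succ d ih => rw [Finset.sum_range_succ, ih, pow_succ]; ring
  have ht : ∑ x ∈ Finset.range A, G3 (4 + x) ≤ 28 / 2187 * (3 / 2) := by
    refine (Finset.sum_le_sum fun a _ => (congrArg G3 (add_comm 4 a)).trans_le (G3_tail a)).trans ?_
    rw [← Finset.mul_sum, hgeo]
    refine mul_le_mul_of_nonneg_left ?_ (by norm_num)
    linarith [pow_nonneg (show (0 : ℝ) ≤ 1 / 3 by norm_num) A]
  obtain ⟨g0, g1, g2, g3⟩ := G3_small
  linarith

theorem G3_le_two {a : ℕ} (ha : 2 ≤ a) : G3 a ≤ 186 / 1000 := by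
  obtain ⟨-, -, g2, g3⟩ := G3_small
  rcases (show a = 2 ∨ a = 3 ∨ 4 ≤ a by omega) with rfl | rfl | h
  · exact g2
  · linarith
  · obtain ⟨b, rfl⟩ : ∃ b, a = b + 4 := ⟨a - 4, by omega⟩
    refine (G3_tail b).trans ?_
    have : ((1 : ℝ) / 3) ^ b ≤ 1 := pow_le_one₀ (by norm_num) (by norm_num)
    linarith

/-- Data of sizes one to three. -/
theorem c3_le (n : ℕ) :
    ∑ a ∈ Finset.range (n / 3 + 1), (gT 3 a : ℝ) * (c2 (n - 3 * a) : ℝ) ≤ 36 / 10 * Real.sqrt 3 ^ n := by
  obtain ⟨hs, -, -, -⟩ := sqrt_three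
  have hterm : ∀ a ∈ Finset.range (n / 3 + 1),
      (gT 3 a : ℝ) * (c2 (n - 3 * a) : ℝ) ≤ G3 a * beta (n - 3 * a) * Real.sqrt 3 ^ n := fun a ha => by
    rw [Finset.mem_range] at ha
    refine (mul_le_mul_of_nonneg_left (c2_le _).1 (Nat.cast_nonneg _)).trans_eq ?_
    rw [G3, pow_sub₀ _ hs.ne' (by omega : 3 * a ≤ n), inv_pow, ← pow_mul]
    ring
  refine (Finset.sum_le_sum hterm).trans ?_
  rw [← Finset.sum_mul]
  refine mul_le_mul_of_nonneg_right ?_ (pow_nonneg hs.le _)
  obtain ⟨g0, g1, -, -⟩ := G3_small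
  have hb : ∀ m, beta m ≤ 231 / 100 := fun m => by unfold beta; split_ifs <;> norm_num; omega
  rcases (show n / 3 = 0 ∨ n / 3 = 1 ∨ 2 ≤ n / 3 by omega) with h | h | h
  · rw [h, Finset.sum_range_one, g0, one_mul]
    linarith [hb (n - 3 * 0)]
  · rw [h, Finset.sum_range_succ, Finset.sum_range_one, g0, one_mul]
    have h1 : beta (n - 3 * 0) ≤ 18 / 10 := by
      unfold beta
      rw [if_neg (by omega)]
      split_ifs <;> norm_num
    nlinarith [hb (n - 3 * 1), G3_nonneg 1, mul_le_mul_of_nonneg_left (hb (n - 3 * 1)) (G3_nonneg 1)]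
  · obtain ⟨m, hm⟩ : ∃ m, n / 3 = m + 2 := ⟨n / 3 - 2, by omega⟩
    rw [hm, Finset.sum_range_succ, Finset.sum_range_succ]
    have e1 : beta (n - 3 * (m + 2)) = 231 / 100 := by
      rw [beta, if_pos (by omega), if_neg (by omega)]; norm_num
    have e2 : beta (n - 3 * (m + 1)) = 18 / 10 := by
      rw [beta, if_neg (by omega), if_pos (by omega)]; norm_num
    have e3 : ∑ a ∈ Finset.range (m + 1), G3 a * beta (n - 3 * a) = (∑ a ∈ Finset.range (m + 1), G3 a) * (164 / 100) := by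
      rw [Finset.sum_mul]
      refine Finset.sum_congr rfl fun a ha => ?_
      rw [Finset.mem_range] at ha
      rw [beta, if_neg (by omega), if_neg (by omega)]
      norm_num
    have hS := sum_G3 (m + 1 + 1 + 1)
    rw [Finset.sum_range_succ, Finset.sum_range_succ] at hS
    rw [e1, e2, e3]
    have h1 : G3 (m + 1) ≤ 7699 / 10000 := by
      rcases Nat.eq_zero_or_pos m with rfl | hm0
      · exact g1
      · linarith [G3_le_two (show 2 ≤ m + 1 by omega)]
    have h2 := G3_le_two (show 2 ≤ m + 2 by omega)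
    linarith

section Three

variable [Fintype F] (h2 : (2 : F) ≠ 0) (hq : Fintype.card F = 3)

include h2 hq in
/-- The thin data in dimension `2 n + 1`. -/
theorem card_goodT_three {n : ℕ} (hn : 2 ≤ n) :
    (Nat.card (WD F GoodT (2 * n + 1) (2 * n + 1)) : ℝ) ≤ 98 / 10 * (Fintype.card F : ℝ) ^ n := by
  obtain ⟨hs, hs2, hlo, hhi⟩ := sqrt_three
  have hw : ∀ i a, Nat.card (OPiece (GoodT (F := F)) i a) ≤ wT 3 i a := fun i a => by
    have := card_goodT h2 i a
    rwa [hq] at this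
  have h2' : ∀ m, Nat.card (WD F GoodT 2 m) ≤ c2 m := fun m => by
    refine (wd_step GoodT finite_goodT 1 m (wd_finite GoodT finite_goodT 1)).2.trans ?_
    refine Finset.sum_le_sum fun a _ => Nat.mul_le_mul ?_ ?_
    · refine (hw 2 a).trans (le_of_eq ?_)
      simp [wT, wO, show ¬Odd 2 by decide]
    · refine (card_wd_one GoodT finite_goodT _).trans ((hw 1 _).trans (le_of_eq ?_))
      simp [wT]
  have h3 : ∀ m, (Nat.card (WD F GoodT 3 m) : ℝ) ≤ 36 / 10 * 1 ^ (m / 2) * Real.sqrt 3 ^ m := fun m => by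
    rw [one_pow, mul_one]
    refine le_trans ?_ (c3_le m)
    refine (Nat.cast_le.2 ((wd_step GoodT finite_goodT 2 m (wd_finite GoodT finite_goodT 2)).2)).trans ?_
    rw [Nat.cast_sum]
    refine Finset.sum_le_sum fun a _ => ?_
    rw [Nat.cast_mul]
    refine mul_le_mul (Nat.cast_le.2 ((hw 3 a).trans (le_of_eq ?_))) (Nat.cast_le.2 (h2' _)) (Nat.cast_nonneg _)
      (Nat.cast_nonneg _)
    simp [wT]
  obtain ⟨d, hd⟩ : ∃ d, 2 * n + 1 = 3 + d := ⟨2 * n + 1 - 3, by omega⟩
  have h := card_wd_le_from GoodT finite_goodT (fun i a => (wT 3 i a : ℝ)) le_rfl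
    (fun i a => by rw [one_pow, one_mul]; exact_mod_cast hw i a) (fun i a => Nat.cast_nonneg _) hs 3 (by norm_num) h3
    TO TO_nonneg d (fun i hi _ A => by
      have hs3 : Real.sqrt ((3 : ℕ) : ℝ) = Real.sqrt 3 := by norm_num
      simp only [wT, if_neg (show ¬(i = 1 ∨ i = 3) by omega), wO, TO, if_neg (show i ≠ 1 by omega)]
      split_ifs
      · have := cw_series (q := 3) le_rfl (show 2 ≤ i by omega) A
        rwa [hs3] at this
      · have := co_series (q := 3) le_rfl (show 2 ≤ i by omega) A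
        rwa [hs3] at this) (2 * n + 1)
  rw [← hd] at h
  refine h.trans ?_
  have hp := prod_tail d
  rw [one_pow, mul_one, pow_succ, pow_mul, hs2, hq]
  push_cast
  have hc : 36 / 10 * (∏ i ∈ Finset.range d, TO (3 + i + 1)) * Real.sqrt 3 ≤ 98 / 10 := by
    calc 36 / 10 * (∏ i ∈ Finset.range d, TO (3 + i + 1)) * Real.sqrt 3
        ≤ 36 / 10 * (156 / 100) * (173206 / 100000) := by
          refine mul_le_mul (mul_le_mul_of_nonneg_left hp (by norm_num)) hhi hs.le (by norm_num)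
      _ ≤ _ := by norm_num
  calc _ = 36 / 10 * (∏ i ∈ Finset.range d, TO (3 + i + 1)) * Real.sqrt 3 * 3 ^ n := by ring
    _ ≤ 98 / 10 * 3 ^ n := mul_le_mul_of_nonneg_right hc (by positivity)

end Three

end Cfsg.Agent.GL.OrthOddCount
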