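/-
An orthogonal group in dimension `2 n + 1` (odd `q`) has at least `2 q ^ n` classes.
-/
import Cfsg.Agent.Lib.GL.OrthGroup

set_option autoImplicit false
set_option linter.unusedSectionVars false

open Polynomial
open scoped Matrix Classical

namespace Cfsg.Agent.GL.OrthOddLower

open Cfsg.Agent.GL.OrthData Cfsg.Agent.GL.OrthGroup

variable {F : Type*} [Field F] [Fintype F] {ι : Type*} [Fintype ι] [DecidableEq ι] {S : Matrix ι ι F}

/-- An isometry with prescribed characteristic polynomial of `g + g⁻¹`. -/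
theorem exists_isometry_odd (h2 : (2 : F) ≠ 0) (hS : Sᵀ = S) (hSd : S.det ≠ 0) {n : ℕ} (hn1 : 1 ≤ n)
    (hn : Fintype.card ι = 2 * n + 1) {h : F[X]} (hm : h.Monic) (hd : h.natDegree = n) {ε : F} (hε : ε * ε = 1) :
    ∃ g : orthMat S, (((g : GL ι F) : Matrix ι ι F) + (↑(g : GL ι F)⁻¹ : Matrix ι ι F)).charpoly =
      h * h * (X - C (2 * ε)) := by
  set e0 := (-1 : F) ^ n * h.eval 2 * h.eval (-2) with he0
  set δ : F := if e0 = 0 then 1 else e0 with hδ
  have hδ0 : δ ≠ 0 := by rw [hδ]; split_ifs with h' <;> [exact one_ne_zero; exact h']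
  let S' : Matrix (Fin (2 * n)) (Fin (2 * n)) F := Matrix.diagonal fun i => if i = ⟨0, by omega⟩ then δ else 1
  have hS'd : S'.det = δ := by
    rw [Matrix.det_diagonal, Finset.prod_ite_eq' Finset.univ _ fun _ => δ, if_pos (Finset.mem_univ _)]
  have hgood : IsSquare (S'.det * e0) := by
    rw [hS'd, hδ]
    split_ifs with h'
    · rw [h', mul_zero]; exact IsSquare.zero
    · exact IsSquare.mul_self _
  obtain ⟨g', hg'⟩ := exists_isometry h2 (S := S') (Matrix.diagonal_transpose _) (hS'd ▸ hδ0) (Fintype.card_fin _) hm hd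
    hgood
  set G₀ : Matrix (Fin (2 * n)) (Fin (2 * n)) F := ((g' : GL (Fin (2 * n)) F) : Matrix (Fin (2 * n)) (Fin (2 * n)) F) with hG₀
  set G₀' : Matrix (Fin (2 * n)) (Fin (2 * n)) F := (↑(g' : GL (Fin (2 * n)) F)⁻¹ : Matrix (Fin (2 * n)) (Fin (2 * n)) F) with hG₀'
  have hinv : G₀ᵀ * S' * G₀ = S' := g'.2
  have hGG : G₀ * G₀' = 1 := Units.mul_inv _
  let D : Matrix (Fin 1) (Fin 1) F := Matrix.diagonal fun _ => δ * S.det
  let E : Matrix (Fin 1) (Fin 1) F := Matrix.diagonal fun _ => ε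
  let G : Matrix (Fin (2 * n) ⊕ Fin 1) (Fin (2 * n) ⊕ Fin 1) F := Matrix.fromBlocks G₀ 0 0 E
  let G' : Matrix (Fin (2 * n) ⊕ Fin 1) (Fin (2 * n) ⊕ Fin 1) F := Matrix.fromBlocks G₀' 0 0 E
  let Y : Matrix (Fin (2 * n) ⊕ Fin 1) (Fin (2 * n) ⊕ Fin 1) F := Matrix.fromBlocks S' 0 0 D
  have hE : E * E = 1 := by
    rw [Matrix.diagonal_mul_diagonal, ← Matrix.diagonal_one]
    exact congrArg _ (funext fun _ => hε)
  have hG : G * G' = 1 := by simp [G, G', Matrix.fromBlocks_multiply, hGG, hE, Matrix.fromBlocks_one]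
  have hYG : Gᵀ * Y * G = Y := by
    simp only [G, Y, Matrix.fromBlocks_transpose, Matrix.transpose_zero, Matrix.fromBlocks_multiply, Matrix.zero_mul,
      Matrix.mul_zero, add_zero, zero_add, hinv]
    congr 1
    rw [Matrix.diagonal_transpose, Matrix.diagonal_mul_diagonal, Matrix.diagonal_mul_diagonal]
    congr 1
    funext _
    linear_combination (δ * S.det) * hε
  have hYs : Yᵀ = Y := by simp [Y, S', D, Matrix.fromBlocks_transpose]
  have hYdet : Y.det = δ * (δ * S.det) := by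
    simp only [Y, Matrix.det_fromBlocks_zero₁₂, hS'd, D, Matrix.det_diagonal, Finset.prod_const, Finset.card_univ,
      Fintype.card_fin, pow_one]
  have hcharG : (G + G').charpoly = h * h * (X - C (2 * ε)) := by
    simp only [G, G', Matrix.fromBlocks_add, add_zero]
    rw [Matrix.charpoly_fromBlocks_zero₁₂, hg']
    congr 1
    rw [show E + E = Matrix.diagonal (fun _ => 2 * ε) by rw [Matrix.diagonal_add]; simp [two_mul],
      Matrix.charpoly_diagonal, Fin.prod_univ_one]
  let e : (Fin (2 * n) ⊕ Fin 1) ≃ ι := Fintype.equivOfCardEq (by simp [hn])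
  obtain ⟨P, hP, hPc⟩ := UnipForms.Congruence.exists_congr_symm h2 (A := Matrix.reindex e e Y) (B := S)
    (by rw [Matrix.transpose_reindex, hYs])
    (by rw [Matrix.det_reindex_self, hYdet]; exact mul_ne_zero hδ0 (mul_ne_zero hδ0 hSd))
    hS hSd (by rw [Matrix.det_reindex_self, hYdet]; exact ⟨δ * S.det, by ring⟩)
  let R := Matrix.reindexAlgEquiv F F e
  have hR : ∀ M, R M = Matrix.reindex e e M := fun M => rfl
  let U : GL ι F := Matrix.GeneralLinearGroup.mkOfDetNeZero P hP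
  let W : GL ι F := ⟨R G, R G', by rw [← map_mul, hG, map_one],
    by rw [← map_mul, mul_eq_one_comm.1 hG, map_one]⟩
  refine ⟨⟨U⁻¹ * W * U, ?_⟩, ?_⟩
  · show ((↑U⁻¹ : Matrix ι ι F) * R G * P)ᵀ * S * ((↑U⁻¹ : Matrix ι ι F) * R G * P) = S
    have hUP : P * (↑U⁻¹ : Matrix ι ι F) = 1 := Units.mul_inv U
    have hW : (R G)ᵀ * Matrix.reindex e e Y * R G = Matrix.reindex e e Y := by
      rw [hR, Matrix.transpose_reindex, ← hR, ← hR, ← hR, ← map_mul, ← map_mul, hYG]
    conv_lhs => rw [← hPc]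
    calc _ = Pᵀ * ((R G)ᵀ * ((P * (↑U⁻¹ : Matrix ι ι F))ᵀ * Matrix.reindex e e Y * (P * (↑U⁻¹ : Matrix ι ι F))) * R G) * P := by
          simp only [Matrix.transpose_mul, Matrix.mul_assoc]
      _ = S := by rw [hUP, Matrix.transpose_one, Matrix.one_mul, Matrix.mul_one, hW, hPc]
  · show ((↑(U⁻¹ * W * U) : Matrix ι ι F) + (↑(U⁻¹ * W * U)⁻¹ : Matrix ι ι F)).charpoly = _
    rw [show (U⁻¹ * W * U)⁻¹ = U⁻¹ * W⁻¹ * U by group, Units.val_mul, Units.val_mul, Units.val_mul, Units.val_mul,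
      ← Matrix.add_mul, ← Matrix.mul_add, Matrix.coe_units_inv U, Matrix.charpoly_units_conj']
    show (R G + R G').charpoly = _
    rw [← map_add, hR, Matrix.charpoly_reindex, hcharG]

/-- An orthogonal group in dimension `2 n + 1` has at least `2 q ^ n` classes. -/
theorem two_mul_pow_le_classes (h2 : (2 : F) ≠ 0) (hS : Sᵀ = S) (hSd : S.det ≠ 0) {n : ℕ} (hn1 : 1 ≤ n)
    (hn : Fintype.card ι = 2 * n + 1) : 2 * Fintype.card F ^ n ≤ Nat.card (ConjClasses (orthMat S)) := by
  obtain ⟨hfin, hcard⟩ := card_monicDeg (F := F) n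
  let sg : Bool → F := fun b => if b then 1 else -1
  choose g hg using fun x : Bool × MonicDeg F n =>
    exists_isometry_odd h2 hS hSd hn1 hn x.2.2.1 x.2.2.2 (ε := sg x.1) (by rcases x.1 <;> simp [sg])
  have h3 := Nat.card_le_card_of_injective (fun x => ConjClasses.mk (g x)) fun x y hxy => by
    obtain ⟨c, hc⟩ := isConj_iff.1 (ConjClasses.mk_eq_mk_iff_isConj.1 hxy)
    have e := hg y
    rw [← hc] at e
    have e' : (((c : GL ι F) * (g x : GL ι F) * (c : GL ι F)⁻¹ : GL ι F) : Matrix ι ι F) +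
        (↑((c : GL ι F) * (g x : GL ι F) * (c : GL ι F)⁻¹)⁻¹ : Matrix ι ι F) = (↑(c : GL ι F) : Matrix ι ι F) *
          (((g x : GL ι F) : Matrix ι ι F) + (↑(g x : GL ι F)⁻¹ : Matrix ι ι F)) * (↑(c : GL ι F)⁻¹ : Matrix ι ι F) := by
      rw [show ((c : GL ι F) * (g x : GL ι F) * (c : GL ι F)⁻¹)⁻¹ = (c : GL ι F) * (g x : GL ι F)⁻¹ * (c : GL ι F)⁻¹
        by group, Units.val_mul, Units.val_mul, Units.val_mul, Units.val_mul, ← Matrix.add_mul, ← Matrix.mul_add]
    rw [Subgroup.coe_mul, Subgroup.coe_mul, Subgroup.coe_inv, e', Matrix.coe_units_inv (c : GL ι F),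
      Matrix.charpoly_units_conj, hg x] at e
    obtain ⟨bx, px⟩ := x
    obtain ⟨b_y, py⟩ := y
    dsimp only at e
    have hbb : bx = b_y := by
      by_contra hne
      have hs : sg bx ≠ sg b_y := by
        cases bx <;> cases b_y <;> simp [sg] at hne ⊢ <;> intro h <;>
          first | exact h2 (by linear_combination h) | exact h2 (by linear_combination -h)
      have h4 : (2 * sg bx - 2 * sg b_y : F) ≠ 0 := by
        rw [← mul_sub]
        exact mul_ne_zero h2 (sub_ne_zero.2 hs)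
      have em := congrArg (rootMultiplicity (2 * sg bx)) e
      rw [rootMultiplicity_mul (mul_ne_zero (mul_ne_zero px.2.1.ne_zero px.2.1.ne_zero) (X_sub_C_ne_zero _)),
        rootMultiplicity_mul (mul_ne_zero px.2.1.ne_zero px.2.1.ne_zero),
        rootMultiplicity_mul (mul_ne_zero (mul_ne_zero py.2.1.ne_zero py.2.1.ne_zero) (X_sub_C_ne_zero _)),
        rootMultiplicity_mul (mul_ne_zero py.2.1.ne_zero py.2.1.ne_zero), rootMultiplicity_X_sub_C_self,
        rootMultiplicity_eq_zero (p := X - C (2 * sg b_y)) (by rw [IsRoot.def, eval_sub, eval_X, eval_C]; exact h4)]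
        at em
      omega
    subst hbb
    rcases mul_self_eq_mul_self_iff.1 (mul_right_cancel₀ (X_sub_C_ne_zero _) e) with e1 | e1
    · exact Prod.ext rfl (Subtype.ext e1)
    · exfalso
      have := congrArg leadingCoeff e1
      rw [px.2.1.leadingCoeff, leadingCoeff_neg, py.2.1.leadingCoeff] at this
      exact h2 (by linear_combination this)
  rw [Nat.card_prod, hcard] at h3
  simpa using h3

end Cfsg.Agent.GL.OrthOddLower
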