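/-
Spinor sign of an involution from the discriminant of its negated space, and an outer element centralising an
isometry with a repeated Jordan block of odd size for an eigenvalue `1` or `-1`.
-/
import Cfsg.Agent.Lib.GL.OrthClassBound
import Cfsg.Agent.Lib.GL.OrthGroup
import Cfsg.Agent.Lib.UnipForms.SymStd
import Cfsg.Agent.Lib.QForm.Spinor

set_option autoImplicit false
set_option linter.unusedSectionVars false

open Matrix

namespace Cfsg.Agent.GL.OrthOuter

open Cfsg.Agent.GL.OrthData Cfsg.Agent.QForm Cfsg.Agent.GL.OrthGroup Cfsg.Agent.GL.OrthClassBound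
open Cfsg.Agent.UnipCentralizer Cfsg.Agent.UnipCentralizer.Leading Cfsg.Agent.UnipForms.SympUnipotent
open Cfsg.Agent.UnipForms.SympDecomp Cfsg.Agent.UnipForms.SymLeading Cfsg.Agent.UnipForms.SymStd

variable {F : Type*} [Field F] [Fintype F] [DecidableEq F] {ι : Type} [Fintype ι] [DecidableEq ι]
variable {Q : QuadraticForm F (ι → F)}

set_option quotPrecheck false in
local notation "gS" => gram ⇑Q ⇑(Pi.basisFun F ι)

/-- The matrix of an isometry. -/
abbrev mat' (g : ↥(isometryGroup F ⇑Q)) : Matrix ι ι F := ((g : GL ι F) : Matrix ι ι F)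

theorem sphereSign_invol_sum (h2 : (2 : F) ≠ 0) {α β : Type*} [Fintype α] [DecidableEq α]
    [Fintype β] [DecidableEq β] (g : ↥(isometryGroup F ⇑Q))
    (C : Coord (mat' g) (Matrix.diagonal (Sum.elim (fun _ : α => (-1 : F)) fun _ : β => 1)))
    {Yα : Matrix α α F} {Yβ : Matrix β β F} (hY : C.form gS = fromBlocks Yα 0 0 Yβ) (hα : Even (Fintype.card α))
    (hdet : Yα.det ≠ 0) :
    (mat' g).det = 1 ∧ (sphereSign Q g : ℤ) = quadraticChar F Yα.det := by
  classical
  have hsym : Yαᵀ = Yα := by
    have h := OrthData.form_transpose (gram_transpose Q) C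
    rw [hY, fromBlocks_transpose, fromBlocks_inj] at h
    exact h.1
  obtain ⟨d, Pm, hd, hPm, hcong, hprod⟩ : ∃ (d : α → F) (Pm : Matrix α α F), (∀ i, d i ≠ 0) ∧ Pm.det ≠ 0 ∧
      Pmᵀ * Yα * Pm = diagonal d ∧ quadraticChar F (∏ i, d i) = quadraticChar F Yα.det := by
    by_cases hne : Nonempty α
    · obtain ⟨i₀⟩ := hne
      have hd : ∀ i, (if i = i₀ then Yα.det else 1) ≠ 0 := fun i => by
        split_ifs
        · exact hdet
        · exact one_ne_zero
      have hp : ∏ i, (if i = i₀ then Yα.det else 1) = Yα.det := by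
        rw [Finset.prod_ite_eq' Finset.univ i₀ fun _ => Yα.det, if_pos (Finset.mem_univ _)]
      obtain ⟨Pm, hPm, h⟩ := UnipForms.Congruence.exists_congr_symm h2 hsym hdet
        (B := diagonal fun i => if i = i₀ then Yα.det else 1) (diagonal_transpose _)
        (by rw [det_diagonal, hp]; exact hdet) (by rw [det_diagonal, hp]; exact ⟨_, rfl⟩)
      exact ⟨_, Pm, hd, hPm, h, by rw [hp]⟩
    · haveI := not_nonempty_iff.1 hne
      exact ⟨isEmptyElim, 1, fun i => isEmptyElim i, by rw [det_one]; exact one_ne_zero, Subsingleton.elim _ _,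
        by rw [det_isEmpty, Fintype.prod_empty]⟩
  have hu : IsUnit Pm.det := isUnit_iff_ne_zero.2 hPm
  let U : (Matrix (α ⊕ β) (α ⊕ β) F)ˣ := ⟨fromBlocks Pm 0 0 1, fromBlocks Pm⁻¹ 0 0 1,
    by simp [fromBlocks_multiply, Matrix.mul_nonsing_inv _ hu, fromBlocks_one],
    by simp [fromBlocks_multiply, Matrix.nonsing_inv_mul _ hu, fromBlocks_one]⟩
  have hsgn : (Matrix.diagonal (Sum.elim (fun _ : α => (-1 : F)) fun _ : β => 1)) = fromBlocks (-1) 0 0 1 := by
    rw [← fromBlocks_diagonal, diagonal_one, ← diagonal_one, ← diagonal_neg, diagonal_one]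
  set C' : Coord (mat' g) (Matrix.diagonal (Sum.elim (fun _ : α => (-1 : F)) fun _ : β => 1)) := C.conj' U (by
    show fromBlocks Pm 0 0 1 * _ = _ * fromBlocks Pm 0 0 1
    rw [hsgn]
    simp [fromBlocks_multiply]) with hC'
  have hY' : C'.form gS = fromBlocks (diagonal d) 0 0 Yβ := by
    show (C.T * fromBlocks Pm 0 0 1)ᵀ * gS * (C.T * fromBlocks Pm 0 0 1) = _
    calc _ = (fromBlocks Pm 0 0 1)ᵀ * C.form gS * fromBlocks Pm 0 0 1 := by
          rw [Coord.form, transpose_mul]; simp only [Matrix.mul_assoc]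
      _ = _ := by
          rw [hY, fromBlocks_transpose, fromBlocks_multiply, fromBlocks_multiply]
          simp [hcong]
  set T := C'.T with hT
  let sg : Finset α → (α ⊕ β) → F := fun s => Sum.elim (fun i => if i ∈ s then -1 else 1) fun _ => 1
  have key : ∀ s : Finset α, ∃ h : ↥(isometryGroup F ⇑Q), mat' h * T = T * Matrix.diagonal (sg s) ∧
      (mat' h).det = (-1) ^ s.card ∧
      (sphereSign Q h : ℤ) = ∏ i ∈ s, -(quadraticChar F (d i * 2⁻¹)) := by
    intro s
    induction s using Finset.induction_on with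
    | empty =>
      refine ⟨1, ?_, ?_, ?_⟩
      · show (1 : Matrix ι ι F) * T = _
        rw [Matrix.one_mul, show sg ∅ = fun _ => 1 by funext x; rcases x with x | x <;> simp [sg],
          diagonal_one, Matrix.mul_one]
      · show (1 : Matrix ι ι F).det = _
        simp
      · simp
    | insert i s hi ih =>
      obtain ⟨h, hh, hhd, hhs⟩ := ih
      set v : ι → F := T *ᵥ Pi.single (Sum.inl i) 1 with hv
      have hpol : ∀ y, QuadraticMap.polar ⇑Q v (T *ᵥ y) = d i * y (Sum.inl i) := fun y => by
        rw [hv, polar_eq_toBilin, ← UnipForms.Congruence.toBilin'_comp, show Tᵀ * gS * T = C'.form gS from rfl, hY',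
          Matrix.toBilin'_apply', single_one_dotProduct]
        simp [Matrix.fromBlocks_mulVec, Matrix.mulVec_diagonal]
      have hQv : 2 * Q v = d i := by
        have := hpol (Pi.single (Sum.inl i) 1)
        rw [← hv, QuadraticMap.polar_self, nsmul_eq_mul, Pi.single_eq_same, mul_one] at this
        exact_mod_cast this
      have hQv0 : Q v ≠ 0 := fun h0 => hd i (by rw [← hQv, h0, mul_zero])
      refine ⟨refl Q v hQv0 * h, ?_, ?_, ?_⟩
      · refine Matrix.ext_iff_mulVec.2 fun y => ?_
        show (reflectionMatrix ⇑Q v * mat' h * T) *ᵥ y = _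
        rw [Matrix.mul_assoc, hh, ← Matrix.mulVec_mulVec, ← Matrix.mulVec_mulVec, reflectionMatrix_mulVec, hpol,
          hv, ← Matrix.mulVec_smul, ← Matrix.mulVec_sub, ← Matrix.mulVec_mulVec]
        congr 1
        funext x
        rw [Pi.sub_apply, Pi.smul_apply, Matrix.mulVec_diagonal, Matrix.mulVec_diagonal, Matrix.mulVec_diagonal,
          Pi.single_apply, smul_eq_mul]
        have hq : (Q v)⁻¹ * (d i * (sg s (Sum.inl i) * y (Sum.inl i))) = 2 * y (Sum.inl i) := by
          rw [show sg s (Sum.inl i) = 1 by simp [sg, hi], ← hQv]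
          field_simp
        rcases x with x | x
        · by_cases hx : x = i
          · subst hx
            rw [if_pos rfl, mul_one, hq]
            simp [sg, hi]
            ring
          · rw [if_neg (fun e => hx (Sum.inl_injective e)), mul_zero, sub_zero]
            simp [sg, hx]
        · rw [if_neg (by simp), mul_zero, sub_zero]
          simp [sg]
      · show (reflectionMatrix ⇑Q v * mat' h).det = _
        rw [det_mul, det_reflectionMatrix Q hQv0, hhd, Finset.card_insert_of_notMem hi, pow_succ']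
      · rw [map_mul, Units.val_mul, sphereSign_refl Q h2 v hQv0, hhs, Finset.prod_insert hi,
          show Q v = d i * 2⁻¹ by rw [← hQv]; field_simp]
  obtain ⟨h, hh, hhd, hhs⟩ := key Finset.univ
  have hgh : g = h := by
    refine Subtype.ext (Units.ext ?_)
    show mat' g = mat' h
    have hs : sg Finset.univ = Sum.elim (fun _ : α => (-1 : F)) fun _ : β => 1 := by
      funext x; rcases x with x | x <;> simp [sg]
    rw [hs] at hh
    calc mat' g = mat' g * T * C'.T' := by rw [Matrix.mul_assoc, hT, C'.hTT', Matrix.mul_one]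
      _ = mat' h * T * C'.T' := by rw [hT, C'.hG, ← hT, ← hh]
      _ = mat' h := by rw [Matrix.mul_assoc, hT, C'.hTT', Matrix.mul_one]
  subst hgh
  refine ⟨by rw [hhd, Finset.card_univ, hα.neg_one_pow], ?_⟩
  rw [hhs, Finset.prod_neg, Finset.card_univ, hα.neg_one_pow, one_mul]
  simp only [map_mul, Finset.prod_mul_distrib, Finset.prod_const, Finset.card_univ]
  rw [← map_prod, hprod]
  obtain ⟨k, hk⟩ := hα
  rw [hk, ← two_mul, pow_mul, quadraticChar_sq_one (inv_ne_zero h2), one_pow, mul_one]

/-- An involution negating the coordinates in `P`. -/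
theorem sphereSign_invol (h2 : (2 : F) ≠ 0) {κ : Type*} [Fintype κ] [DecidableEq κ] (P : κ → Prop) [DecidablePred P]
    (g : ↥(isometryGroup F ⇑Q)) (C : Coord (mat' g) (Matrix.diagonal fun i => if P i then (-1 : F) else 1))
    (hoff : ∀ i j, ¬(P i ↔ P j) → C.form gS i j = 0) (hα : Even (Fintype.card {i // P i}))
    (hdet : ((C.form gS).toSquareBlockProp P).det ≠ 0) :
    (mat' g).det = 1 ∧ (sphereSign Q g : ℤ) = quadraticChar F ((C.form gS).toSquareBlockProp P).det := by
  let e : {i // P i} ⊕ {i // ¬P i} ≃ κ := Equiv.sumCompl P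
  have hsub : (Matrix.diagonal fun i => if P i then (-1 : F) else 1).submatrix e e =
      Matrix.diagonal (Sum.elim (fun _ : {i // P i} => (-1 : F)) fun _ : {i // ¬P i} => 1) := by
    rw [Matrix.submatrix_diagonal_equiv]
    congr 1
    funext x
    rcases x with x | x
    · simp [e, x.2]
    · simp [e, x.2]
  let C' : Coord (mat' g) (Matrix.diagonal (Sum.elim (fun _ : {i // P i} => (-1 : F)) fun _ : {i // ¬P i} => 1)) :=
    { T := C.T.submatrix id e
      T' := C.T'.submatrix e id
      hTT' := by rw [← Matrix.submatrix_mul _ _ _ e _ e.bijective, C.hTT', Matrix.submatrix_id_id]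
      hT'T := by
        rw [← Matrix.submatrix_mul _ _ _ id _ Function.bijective_id, C.hT'T, Matrix.submatrix_one _ e.injective]
      hG := by
        rw [← hsub, ← Matrix.submatrix_mul _ _ _ e _ e.bijective, ← C.hG]
        rfl }
  refine sphereSign_invol_sum h2 g C' (Yβ := (C.form gS).toSquareBlockProp fun i => ¬P i) ?_ hα hdet
  have he : C'.form gS = (C.form gS).submatrix e e := by
    show (C.T.submatrix id e)ᵀ * gS * C.T.submatrix id e = (C.Tᵀ * gS * C.T).submatrix e e
    rw [Matrix.submatrix_mul _ _ _ id _ Function.bijective_id, Matrix.submatrix_mul _ _ _ id _ Function.bijective_id,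
      Matrix.submatrix_id_id, Matrix.transpose_submatrix]
  rw [he]
  ext x y
  rcases x with x | x <;> rcases y with y | y
  · rfl
  · exact hoff _ _ fun h => y.2 (h.1 x.2)
  · exact hoff _ _ fun h => x.2 (h.2 y.2)
  · rfl

/-- A repeated odd block gives an element outside `Omega`, of determinant one, in the centraliser. -/
theorem exists_outer (p : ℕ) [Fact p.Prime] [CharP F p] (hp2 : p ≠ 2) (h2 : (2 : F) ≠ 0)
    (hN : Odd (Fintype.card ι)) {g : orthMat gS} (D : Datum g) {a : ℕ} (ha : Odd a)
    (hrep : 2 ≤ D.μ.count a ∨ 2 ≤ D.ν.count a) :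
    ∃ c : ↥(isometryGroup F ⇑Q), mat' c * ((g : GL ι F) : Matrix ι ι F) =
      ((g : GL ι F) : Matrix ι ι F) * mat' c ∧ (mat' c).det = 1 ∧ (sphereSign Q c : ℤ) = -1 := by
  classical
  have hsum := D.sum_eq
  have hcev : Even D.c := by
    rw [← D.sum_rest]
    exact Finset.even_sum _ fun e _ => (D.rest_spec h2 e).2.2.2.2.mul_left _
  obtain ⟨μ, ν, c, r, hμ, hν, hm, hp, hr, C, Yp, Ym, Y₀, hform, hYp, hYm, hY₀, hY₀d, hG⟩ := D
  dsimp only at hrep hsum hcev
  let d : Fin μ.toList.length ⊕ Fin ν.toList.length → ℕ := Sum.elim (blocks μ) (blocks ν)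
  have hd1 : ∀ k, 1 ≤ d k := fun k => by
    rcases k with k | k
    · exact one_le_blocks hμ k
    · exact one_le_blocks hν k
  -- two blocks of size `a` on one side and a third odd block
  obtain ⟨k₁, k₁', hne, hs1, hs1', hside⟩ : ∃ k₁ k₁', k₁ ≠ k₁' ∧ d k₁ = a ∧ d k₁' = a ∧
      (k₁.isLeft = k₁'.isLeft) := by
    rcases hrep with h | h <;> rw [← card_blk_blocks] at h <;>
      obtain ⟨x, y, hxy⟩ := Fintype.one_lt_card_iff.1 h
    · exact ⟨.inl x.1, .inl y.1, fun e => hxy (Subtype.ext (Sum.inl_injective e)), x.2, y.2, rfl⟩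
    · exact ⟨.inr x.1, .inr y.1, fun e => hxy (Subtype.ext (Sum.inr_injective e)), x.2, y.2, rfl⟩
  obtain ⟨k₂, hk21, hk21', hk2o⟩ : ∃ k₂, k₂ ≠ k₁ ∧ k₂ ≠ k₁' ∧ Odd (d k₂) := by
    by_contra hno
    simp only [not_exists, not_and] at hno
    have hall : ∀ k, Odd (d k) → k = k₁ ∨ k = k₁' := fun k hk => by
      by_contra h
      simp only [not_or] at h
      exact hno k h.1 h.2 hk
    have hfil : (Finset.univ.filter fun k => Odd (d k)) = {k₁, k₁'} := by
      ext k
      simp only [Finset.mem_filter, Finset.mem_univ, true_and, Finset.mem_insert, Finset.mem_singleton]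
      exact ⟨hall k, fun h => by rcases h with rfl | rfl <;> first | (rw [hs1]; exact ha) | (rw [hs1']; exact ha)⟩
    have hpar : Even (∑ k, d k) := by
      rw [Finset.even_sum_iff_even_card_odd, hfil, Finset.card_pair hne]
      exact even_two
    have : ∑ k, d k = μ.sum + ν.sum := by rw [Fintype.sum_sum_type]; simp [d, sum_blocks]
    rw [this] at hpar
    exact Nat.not_even_iff_odd.2 hN (hsum ▸ hpar.add hcev)
  -- the representative of each side and size
  let grp : Fin μ.toList.length ⊕ Fin ν.toList.length → Bool × ℕ := fun k => (k.isLeft, d k)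
  have hgrp1 : grp k₁' = grp k₁ := Prod.ext hside.symm (hs1'.trans hs1.symm)
  let rep : Bool × ℕ → Option (Fin μ.toList.length ⊕ Fin ν.toList.length) := fun b =>
    if b = grp k₁ then some k₁' else if h : ∃ k, grp k = b then some h.choose else none
  let D : Bool × ℕ → F := fun b => if b.1 then (leadForm _ (one_le_blocks hμ) Yp b.2).det
    else (leadForm _ (one_le_blocks hν) Ym b.2).det
  have hD : ∀ b, D b ≠ 0 := fun b => by
    simp only [D]
    split_ifs
    · exact hYp.det_leadForm _ _
    · exact hYm.det_leadForm _ _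
  let w : Fin μ.toList.length ⊕ Fin ν.toList.length → F := fun k => if rep (grp k) = some k then D (grp k) else 1
  have hrep_spec : ∀ b, (∃ k, grp k = b) → ∃ k, rep b = some k ∧ grp k = b := fun b hb => by
    simp only [rep]
    split_ifs with h
    · exact ⟨k₁', rfl, h ▸ hgrp1⟩
    · exact ⟨_, rfl, hb.choose_spec⟩
  have hprod : ∀ b, (∃ k, grp k = b) → ∏ k ∈ Finset.univ.filter (fun k => grp k = b), w k = D b := fun b hb => by
    obtain ⟨k, hk, hkb⟩ := hrep_spec b hb
    rw [Finset.prod_eq_single_of_mem k (Finset.mem_filter.2 ⟨Finset.mem_univ _, hkb⟩)]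
    · simp only [w, hkb, hk, if_pos]
    · intro k' hk' hne'
      simp only [Finset.mem_filter, Finset.mem_univ, true_and] at hk'
      simp only [w, hk']
      rw [if_neg]
      rw [hk]
      exact fun e => hne' (Option.some.inj e).symm
  obtain ⟨α, hα⟩ := FiniteField.exists_nonsquare (F := F) fun h => h2 (by
    have := ringChar.of_eq h
    exact CharTwo.two_eq_zero)
  have hα0 : α ≠ 0 := fun h => hα (h ▸ IsSquare.zero)
  obtain ⟨P, hPdef⟩ : ∃ P : (Pos (blocks μ) ⊕ Pos (blocks ν)) ⊕ Fin c → Prop, P = fun x =>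
    ∃ y, x = Sum.inl y ∧ (Sum.map Sigma.fst Sigma.fst y = k₁ ∨ Sum.map Sigma.fst Sigma.fst y = k₂) := ⟨_, rfl⟩
  have hPy : ∀ y, P (Sum.inl y) ↔ (Sum.map Sigma.fst Sigma.fst y = k₁ ∨ Sum.map Sigma.fst Sigma.fst y = k₂) :=
    fun y => by
      rw [hPdef]
      exact ⟨fun ⟨y', hy', hy''⟩ => by rw [Sum.inl_injective hy']; exact hy'', fun h => ⟨y, rfl, h⟩⟩
  have hPr : ∀ x : Fin c, ¬P (Sum.inr x) := fun x h => by
    rw [hPdef] at h
    obtain ⟨y, hy, -⟩ := h
    exact Sum.inr_ne_inl hy
  let Bμ : Fin μ.toList.length → Prop := fun k => Sum.inl k = k₁ ∨ Sum.inl k = k₂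
  let Bν : Fin ν.toList.length → Prop := fun k => Sum.inr k = k₁ ∨ Sum.inr k = k₂
  have hBodd : ∀ k, (k = k₁ ∨ k = k₂) → Odd (d k) := by
    rintro k (rfl | rfl)
    · rw [hs1]; exact ha
    · exact hk2o
  let sgn' : (Pos (blocks μ) ⊕ Pos (blocks ν)) ⊕ Fin c → F := fun i => if P i then -1 else 1
  -- the construction for given weights
  have build : ∀ v : Fin μ.toList.length ⊕ Fin ν.toList.length → F, (∀ k, v k ≠ 0) →
      (∀ b, (∃ k, grp k = b) → IsSquare (∏ k ∈ Finset.univ.filter (fun k => grp k = b), v k)) →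
      ∃ c' : ↥(isometryGroup F ⇑Q), mat' c' * ((g : GL ι F) : Matrix ι ι F) =
        ((g : GL ι F) : Matrix ι ι F) * mat' c' ∧ (mat' c').det = 1 ∧ (sphereSign Q c' : ℤ) =
          quadraticChar F ((big (stdForm _ (mixed (blocks μ) (fun k => w (.inl k) * v (.inl k))
              (fun b => leadForm _ (one_le_blocks hμ) Yp b)))
            (stdForm _ (mixed (blocks ν) (fun k => w (.inr k) * v (.inr k))
              (fun b => leadForm _ (one_le_blocks hν) Ym b))) Y₀).toSquareBlockProp P).det := by
    intro v hv hvsq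
    have hwne : ∀ k, w k * v k ≠ 0 := fun k => by
      refine mul_ne_zero ?_ (hv k)
      simp only [w]
      split_ifs
      · exact hD _
      · exact one_ne_zero
    have hsq : ∀ (b : Bool × ℕ), IsSquare (D b * ∏ k ∈ Finset.univ.filter (fun k => grp k = b), (w k * v k)) ∨
        ¬∃ k, grp k = b := fun b => by
      by_cases hb : ∃ k, grp k = b
      · left
        rw [Finset.prod_mul_distrib, hprod b hb, ← mul_assoc]
        exact (IsSquare.mul_self _).mul (hvsq b hb)
      · exact Or.inr hb
    have hsqμ : ∀ b, IsSquare ((leadForm _ (one_le_blocks hμ) Yp b).det *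
        ∏ k : Blk (blocks μ) b, (w (.inl k.1) * v (.inl k.1))) := fun b => by
      have e : ∏ k : Blk (blocks μ) b, (w (.inl k.1) * v (.inl k.1)) =
          ∏ k ∈ Finset.univ.filter (fun k => grp k = (true, b)), (w k * v k) := by
        refine Finset.prod_bij (fun k _ => Sum.inl k.1) (fun k _ => ?_) (fun k _ k' _ h => Subtype.ext (Sum.inl_injective h))
          (fun k hk => ?_) (fun k _ => rfl)
        · simp [grp, d, k.2]
        · simp only [Finset.mem_filter, Finset.mem_univ, true_and, grp, Prod.mk.injEq] at hk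
          rcases k with k | k
          · exact ⟨⟨k, hk.2⟩, Finset.mem_univ _, rfl⟩
          · simp at hk
      rcases hsq (true, b) with h | h
      · rw [e]; exact h
      · haveI : IsEmpty (Blk (blocks μ) b) := ⟨fun k => h ⟨.inl k.1, by simp [grp, d, k.2]⟩⟩
        rw [det_isEmpty, Fintype.prod_empty, one_mul]
        exact IsSquare.one
    have hsqν : ∀ b, IsSquare ((leadForm _ (one_le_blocks hν) Ym b).det *
        ∏ k : Blk (blocks ν) b, (w (.inr k.1) * v (.inr k.1))) := fun b => by
      have e : ∏ k : Blk (blocks ν) b, (w (.inr k.1) * v (.inr k.1)) =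
          ∏ k ∈ Finset.univ.filter (fun k => grp k = (false, b)), (w k * v k) := by
        refine Finset.prod_bij (fun k _ => Sum.inr k.1) (fun k _ => ?_) (fun k _ k' _ h => Subtype.ext (Sum.inr_injective h))
          (fun k hk => ?_) (fun k _ => rfl)
        · simp [grp, d, k.2]
        · simp only [Finset.mem_filter, Finset.mem_univ, true_and, grp, Prod.mk.injEq] at hk
          rcases k with k | k
          · simp at hk
          · exact ⟨⟨k, hk.2⟩, Finset.mem_univ _, rfl⟩
      rcases hsq (false, b) with h | h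
      · rw [e]; exact h
      · haveI : IsEmpty (Blk (blocks ν) b) := ⟨fun k => h ⟨.inr k.1, by simp [grp, d, k.2]⟩⟩
        rw [det_isEmpty, Fintype.prod_empty, one_mul]
        exact IsSquare.one
    obtain ⟨c₁, h1, d1, e1⟩ := exists_congr_std (blocks μ) p hp2 h2 (one_le_blocks hμ) hYp
      (fun k => w (.inl k) * v (.inl k)) (fun k => hwne _) fun b _ => hsqμ b
    obtain ⟨c₂, h3, d2, e2⟩ := exists_congr_std (blocks ν) p hp2 h2 (one_le_blocks hν) hYm
      (fun k => w (.inr k) * v (.inr k)) (fun k => hwne _) fun b _ => hsqν b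
    let U : (Matrix ((Pos (blocks μ) ⊕ Pos (blocks ν)) ⊕ Fin c) ((Pos (blocks μ) ⊕ Pos (blocks ν)) ⊕ Fin c) F)ˣ :=
      ⟨big c₁ c₂ 1, big c₁⁻¹ c₂⁻¹ 1,
        by rw [big_mul, Matrix.mul_nonsing_inv _ (isUnit_iff_ne_zero.2 d1),
          Matrix.mul_nonsing_inv _ (isUnit_iff_ne_zero.2 d2), Matrix.one_mul, big_one],
        by rw [big_mul, Matrix.nonsing_inv_mul _ (isUnit_iff_ne_zero.2 d1),
          Matrix.nonsing_inv_mul _ (isUnit_iff_ne_zero.2 d2), Matrix.one_mul, big_one]⟩
    let C' : Coord ((g : GL ι F) : Matrix ι ι F) (std (blocks μ) (blocks ν) (canon r)) := C.conj' U (by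
      show big c₁ c₂ 1 * std _ _ _ = std _ _ _ * big c₁ c₂ 1
      rw [std, big_mul, big_mul, (commute_cay_iff _ h2 c₁).2 h1, Matrix.mul_neg, (commute_cay_iff _ h2 c₂).2 h3,
        Matrix.neg_mul, Matrix.mul_one, Matrix.one_mul])
    set Y1 := stdForm _ (mixed (blocks μ) (fun k => w (.inl k) * v (.inl k))
      (fun b => leadForm _ (one_le_blocks hμ) Yp b)) with hY1
    set Y2 := stdForm _ (mixed (blocks ν) (fun k => w (.inr k) * v (.inr k))
      (fun b => leadForm _ (one_le_blocks hν) Ym b)) with hY2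
    have hC' : C'.form gS = big Y1 Y2 Y₀ := by
      show (C.T * big c₁ c₂ 1)ᵀ * gS * (C.T * big c₁ c₂ 1) = _
      calc _ = (big c₁ c₂ 1)ᵀ * C.form gS * big c₁ c₂ 1 := by
            rw [Coord.form, transpose_mul]; simp only [Matrix.mul_assoc]
        _ = _ := by
            rw [hform, big_transpose, big_mul, big_mul, e1, e2, transpose_one, Matrix.one_mul, Matrix.mul_one]
    let Eμ := Matrix.diagonal fun x : Pos (blocks μ) => if Bμ x.1 then (-1 : F) else 1
    let Eν := Matrix.diagonal fun x : Pos (blocks ν) => if Bν x.1 then (-1 : F) else 1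
    have hE : Matrix.diagonal sgn' = big Eμ Eν (1 : Matrix (Fin c) (Fin c) F) := by
      simp only [big, Eμ, Eν, ← diagonal_one (n := Fin c), fromBlocks_diagonal]
      congr 1
      funext i
      rcases i with (i | i) | i <;> simp [sgn', hPy, hPr, Bμ, Bν]
    have hEsq : Matrix.diagonal sgn' * Matrix.diagonal sgn' = 1 := by
      rw [diagonal_mul_diagonal, ← diagonal_one]
      congr 1
      funext i
      simp only [sgn']
      split_ifs <;> ring
    have hEform : Matrix.diagonal sgn' * big Y1 Y2 Y₀ * Matrix.diagonal sgn' = big Y1 Y2 Y₀ := by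
      rw [hE, big_mul, big_mul, hY1, hY2, conj_sign_eq (blocks μ) _ _ Bμ (fun k hk => hBodd (.inl k) hk),
        conj_sign_eq (blocks ν) _ _ Bν (fun k hk => hBodd (.inr k) hk), Matrix.one_mul, Matrix.mul_one]
    have hEstd : Matrix.diagonal sgn' * std (blocks μ) (blocks ν) (canon r) =
        std (blocks μ) (blocks ν) (canon r) * Matrix.diagonal sgn' := by
      rw [hE, std, big_mul, big_mul, Matrix.mul_neg, Matrix.neg_mul, Matrix.one_mul, Matrix.mul_one,
        (commute_cay_iff _ h2 Eμ).2 (inComm_diagonal _ fun k => if Bμ k then (-1 : F) else 1),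
        (commute_cay_iff _ h2 Eν).2 (inComm_diagonal _ fun k => if Bν k then (-1 : F) else 1)]
    set E := C'.T * Matrix.diagonal sgn' * C'.T' with hEdef
    have hEE : E * E = 1 := by
      calc E * E = C'.T * (Matrix.diagonal sgn' * (C'.T' * C'.T) * Matrix.diagonal sgn') * C'.T' := by
            rw [hEdef]; simp only [Matrix.mul_assoc]
        _ = 1 := by rw [C'.hT'T, Matrix.mul_one, hEsq, Matrix.mul_one, C'.hTT']
    let Eu : GL ι F := ⟨E, E, hEE, hEE⟩
    have hmem : Eu ∈ isometryGroup F ⇑Q := by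
      rw [isometryGroup_eq Q h2 _ rfl]
      show Eᵀ * gS * E = gS
      calc Eᵀ * gS * E = C'.T'ᵀ * ((Matrix.diagonal sgn')ᵀ * C'.form gS * Matrix.diagonal sgn') * C'.T' := by
            rw [hEdef, Coord.form, transpose_mul, transpose_mul]; simp only [Matrix.mul_assoc]
        _ = (C'.T * C'.T')ᵀ * gS * (C'.T * C'.T') := by
            rw [diagonal_transpose, hC', hEform, ← hC', Coord.form, transpose_mul]; simp only [Matrix.mul_assoc]
        _ = gS := by rw [C'.hTT', transpose_one, Matrix.one_mul, Matrix.mul_one]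
    refine ⟨⟨Eu, hmem⟩, ?_, ?_⟩
    · show E * ((g : GL ι F) : Matrix ι ι F) = ((g : GL ι F) : Matrix ι ι F) * E
      have hg' : C'.T' * ((g : GL ι F) : Matrix ι ι F) = std (blocks μ) (blocks ν) (canon r) * C'.T' := by
        calc C'.T' * ((g : GL ι F) : Matrix ι ι F)
            = C'.T' * (((g : GL ι F) : Matrix ι ι F) * C'.T) * C'.T' := by
              rw [Matrix.mul_assoc, Matrix.mul_assoc, C'.hTT', Matrix.mul_one]
          _ = _ := by rw [C'.hG, ← Matrix.mul_assoc C'.T', C'.hT'T, Matrix.one_mul]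
      calc E * ((g : GL ι F) : Matrix ι ι F)
          = C'.T * (Matrix.diagonal sgn' * std (blocks μ) (blocks ν) (canon r)) * C'.T' := by
            rw [hEdef, Matrix.mul_assoc, hg']; simp only [Matrix.mul_assoc]
        _ = _ := by rw [hEstd, hEdef, ← Matrix.mul_assoc C'.T, ← C'.hG]; simp only [Matrix.mul_assoc]
    · let C₂ : Coord (mat' (⟨Eu, hmem⟩ : ↥(isometryGroup F ⇑Q))) (Matrix.diagonal sgn') :=
        { T := C'.T
          T' := C'.T'
          hTT' := C'.hTT'
          hT'T := C'.hT'T
          hG := by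
            show E * C'.T = _
            rw [hEdef, Matrix.mul_assoc, C'.hT'T, Matrix.mul_one] }
      have hf₂ : C₂.form gS = big Y1 Y2 Y₀ := hC'
      have hoff : ∀ i j, ¬(P i ↔ P j) → big Y1 Y2 Y₀ i j = 0 := fun i j hij => by
        have h := congrFun (congrFun hEform i) j
        rw [Matrix.mul_diagonal, Matrix.diagonal_mul] at h
        have hs : sgn' i * sgn' j = -1 := by
          simp only [sgn']
          by_cases hi : P i <;> by_cases hj : P j <;> simp [hi, hj] at hij ⊢
        have h' : (2 : F) * big Y1 Y2 Y₀ i j = 0 := by linear_combination big Y1 Y2 Y₀ i j * hs - h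
        exact (mul_eq_zero.1 h').resolve_left h2
      have hev : Even (Fintype.card {i // P i}) := by
        rw [Fintype.card_subtype]
        have e : (Finset.univ.filter P).card = ∑ k ∈ ({k₁, k₂} : Finset _), d k := by
          rw [Finset.card_eq_sum_ones]
          let π : (Pos (blocks μ) ⊕ Pos (blocks ν)) ⊕ Fin c → Option (Fin μ.toList.length ⊕ Fin ν.toList.length) :=
            fun x => x.elim (fun y => some (Sum.map Sigma.fst Sigma.fst y)) fun _ => none
          rw [Finset.sum_filter, Fintype.sum_sum_type, Fintype.sum_sum_type, Finset.sum_pair hk21.symm]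
          have hd' : ∀ k₀, d k₀ = (∑ x : Pos (blocks μ), if Sum.inl x.1 = k₀ then 1 else 0) +
              ∑ x : Pos (blocks ν), if Sum.inr x.1 = k₀ then 1 else 0 := fun k₀ => by
            rw [Fintype.sum_sigma, Fintype.sum_sigma]
            rcases k₀ with k₀ | k₀ <;> simp [d, Finset.sum_const, Finset.sum_ite_eq']
          rw [hd' k₁, hd' k₂]
          have hPc : ∀ x : Fin c, ¬P (Sum.inr x) := hPr
          simp only [hPc, if_false, Finset.sum_const_zero, add_zero]
          have hl : ∀ x : Pos (blocks μ), (if P (Sum.inl (Sum.inl x)) then 1 else 0 : ℕ) =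
              (if Sum.inl x.1 = k₁ then 1 else 0) + if Sum.inl x.1 = k₂ then 1 else 0 := fun x => by
            by_cases h1 : Sum.inl x.1 = k₁ <;> by_cases h2 : Sum.inl x.1 = k₂ <;> simp [hPy, h1, h2, hk21, hk21.symm]
          have hr' : ∀ x : Pos (blocks ν), (if P (Sum.inl (Sum.inr x)) then 1 else 0 : ℕ) =
              (if Sum.inr x.1 = k₁ then 1 else 0) + if Sum.inr x.1 = k₂ then 1 else 0 := fun x => by
            by_cases h1 : Sum.inr x.1 = k₁ <;> by_cases h2 : Sum.inr x.1 = k₂ <;> simp [hPy, h1, h2, hk21, hk21.symm]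
          simp only [hl, hr', Finset.sum_add_distrib]
          ring
        rw [e, Finset.sum_pair hk21.symm, hs1]
        exact ha.add_odd hk2o
      have hdet : ((big Y1 Y2 Y₀).toSquareBlockProp P).det ≠ 0 := by
        have hSd : (gS).det ≠ 0 := fun h0 => by
          obtain ⟨x, -, hxd⟩ := OrthData.exists_det_form (S := gS) C
          rw [hform, big_det, h0, mul_zero] at hxd
          exact mul_ne_zero (mul_ne_zero hYp.2.1 hYm.2.1) hY₀d hxd
        have hb : (big Y1 Y2 Y₀).det ≠ 0 := by rw [← hC']; exact OrthData.form_det hSd C'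
        rw [Matrix.twoBlockTriangular_det _ P (fun i hi j hj => hoff i j fun h => hi (h.2 hj))] at hb
        exact left_ne_zero_of_mul hb
      have h := sphereSign_invol h2 P (⟨Eu, hmem⟩ : ↥(isometryGroup F ⇑Q)) C₂ (by rw [hf₂]; exact hoff) hev
        (by rw [hf₂]; exact hdet)
      rw [hf₂] at h
      exact h
  obtain ⟨c₀, hc₀, hc₀d, hc₀s⟩ := build (fun _ => 1) (fun _ => one_ne_zero) fun b _ => by simp
  obtain ⟨c₁, hc₁, hc₁d, hc₁s⟩ := build (fun k => if k = k₁ ∨ k = k₁' then α else 1)
    (fun k => by split_ifs <;> [exact hα0; exact one_ne_zero]) fun b _ => by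
      by_cases hb : b = grp k₁
      · subst hb
        rw [Finset.prod_ite, Finset.prod_const_one, mul_one, Finset.prod_const]
        have : ((Finset.univ.filter fun k => grp k = grp k₁).filter fun k => k = k₁ ∨ k = k₁') = {k₁, k₁'} := by
          ext k
          simp only [Finset.mem_filter, Finset.mem_univ, true_and, Finset.mem_insert, Finset.mem_singleton]
          exact ⟨fun h => h.2, fun h => ⟨by rcases h with rfl | rfl <;> [rfl; exact hgrp1], h⟩⟩
        rw [this, Finset.card_pair hne, sq]
        exact IsSquare.mul_self α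
      · rw [Finset.prod_eq_one fun k hk => ?_]
        · exact IsSquare.one
        · simp only [Finset.mem_filter, Finset.mem_univ, true_and] at hk
          rw [if_neg]
          rintro (rfl | rfl)
          · exact hb hk.symm
          · exact hb (hk.symm.trans hgrp1)
  set v₁ : Fin μ.toList.length ⊕ Fin ν.toList.length → F := fun k => if k = k₁ ∨ k = k₁' then α else 1
  simp only [mul_one] at hc₀s
  set Ya := big (stdForm _ (mixed (blocks μ) (fun k => w (.inl k)) (fun b => leadForm _ (one_le_blocks hμ) Yp b)))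
    (stdForm _ (mixed (blocks ν) (fun k => w (.inr k)) (fun b => leadForm _ (one_le_blocks hν) Ym b))) Y₀ with hYa
  set Yb := big (stdForm _ (mixed (blocks μ) (fun k => w (.inl k) * v₁ (.inl k))
      (fun b => leadForm _ (one_le_blocks hμ) Yp b)))
    (stdForm _ (mixed (blocks ν) (fun k => w (.inr k) * v₁ (.inr k))
      (fun b => leadForm _ (one_le_blocks hν) Ym b))) Y₀ with hYb
  have hv₁ : ∀ k, ¬Odd (d k) → v₁ k = 1 := fun k hk => by
    simp only [v₁]
    rw [if_neg]
    rintro (rfl | rfl)
    · exact hk (hs1.symm ▸ ha)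
    · exact hk (hs1'.symm ▸ ha)
  let vv : (Pos (blocks μ) ⊕ Pos (blocks ν)) ⊕ Fin c → F :=
    Sum.elim (fun y => v₁ (Sum.map Sigma.fst Sigma.fst y)) fun _ => 1
  have hscale : Yb = Ya * Matrix.diagonal vv := by
    have hvv : Matrix.diagonal vv = big (Matrix.diagonal fun x : Pos (blocks μ) => v₁ (.inl x.1))
        (Matrix.diagonal fun x : Pos (blocks ν) => v₁ (.inr x.1)) (1 : Matrix (Fin c) (Fin c) F) := by
      simp only [big, ← diagonal_one (n := Fin c), fromBlocks_diagonal]
      congr 1
      funext i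
      rcases i with (i | i) | i <;> rfl
    rw [hYb, hYa, hvv, big_mul, Matrix.mul_one, stdForm_scale (blocks μ) _ _ (fun k => v₁ (.inl k)) fun k hk => hv₁ (.inl k) hk,
      stdForm_scale (blocks ν) _ _ (fun k => v₁ (.inr k)) fun k hk => hv₁ (.inr k) hk]
  have hblock : (Yb.toSquareBlockProp P).det = (Ya.toSquareBlockProp P).det * ∏ i : {i // P i}, vv i.1 := by
    rw [← Matrix.det_diagonal, ← det_mul]
    congr 1
    ext i j
    rw [hscale, Matrix.mul_diagonal]
    show (Ya * Matrix.diagonal vv) i.1 j.1 = _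
    rw [Matrix.mul_diagonal]
    rfl
  have hvvprod : ∏ i : {i // P i}, vv i.1 = α ^ a := by
    have : ∏ i : {i // P i}, vv i.1 = ∏ i ∈ Finset.univ.filter P, vv i := by
      rw [← Finset.prod_subtype (Finset.univ.filter P) (by simp) vv]
    rw [this, Finset.prod_filter, Fintype.prod_sum_type, Fintype.prod_sum_type, Fintype.prod_sigma, Fintype.prod_sigma]
    have hc1 : ∀ x : Fin c, (if P (Sum.inr x) then vv (Sum.inr x) else 1) = 1 := fun x => if_neg (hPr x)
    have hone : ∀ y, (if P (Sum.inl y) then vv (Sum.inl y) else 1) =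
        if Sum.map Sigma.fst Sigma.fst y = k₁ then α else 1 := fun y => by
      by_cases h : Sum.map Sigma.fst Sigma.fst y = k₁
      · rw [if_pos ((hPy y).2 (Or.inl h)), if_pos h]
        simp [vv, v₁, h]
      · rw [if_neg h]
        split_ifs with hP
        · have hy'' := (hPy y).1 hP
          have h2' : Sum.map Sigma.fst Sigma.fst y = k₂ := hy''.resolve_left h
          simp [vv, v₁, h2', hk21, hk21']
        · rfl
    simp only [hc1, hone, Finset.prod_const_one, mul_one]
    show ((∏ x, ∏ _y : Fin (d (.inl x)), if Sum.inl x = k₁ then α else 1) *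
      ∏ x, ∏ _y : Fin (d (.inr x)), if Sum.inr x = k₁ then α else 1) = α ^ a
    rw [← Fintype.prod_sum_type (f := fun k => ∏ _y : Fin (d k), if k = k₁ then α else 1),
      Finset.prod_eq_single k₁ (fun k _ hk => Finset.prod_eq_one fun i _ => if_neg hk)
        (fun h => (h (Finset.mem_univ _)).elim),
      Finset.prod_congr rfl (fun i _ => if_pos rfl), Finset.prod_const, Finset.card_univ, Fintype.card_fin, hs1]
  rw [hblock, hvvprod, map_mul, map_pow, quadraticChar_neg_one_iff_not_isSquare.2 hα, ha.neg_one_pow] at hc₁s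
  rcases Int.units_eq_one_or (sphereSign Q c₀) with h | h
  · refine ⟨c₁, hc₁, hc₁d, ?_⟩
    rw [h, Units.val_one] at hc₀s
    rw [hc₁s, ← hc₀s]
    ring
  · exact ⟨c₀, hc₀, hc₀d, by rw [h]; rfl⟩

end Cfsg.Agent.GL.OrthOuter
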