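import Cfsg.Agent.Lib.GL.TorusCriterion
import Cfsg.Agent.Lib.QForm.Spinor
import Cfsg.Agent.Lib.Forms.Quad

/-!
`Ω(2n+1, q)`: no element of order `2r` centralising only a torus of odd exponent. The involution acts on the
sphere `Q = 1` by a permutation of sign `-1`.
-/

set_option autoImplicit false

open Matrix Polynomial

namespace Cfsg.Agent.GL

variable {F : Type*} [Field F]

/-- The size of the sphere `quadFormOdd = 1`. -/
theorem card_sphere_odd [Fintype F] (h2 : (2 : F) ≠ 0) (m : ℕ) :
    Nat.card {v : Unit ⊕ (Fin m ⊕ Fin m) → F // quadFormOdd m F v = 1} =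
      Fintype.card F ^ (2 * m) + Fintype.card F ^ m := by
  classical
  induction m with
  | zero =>
    have hne : (1 : F) ≠ -1 := fun h => h2 (by linear_combination h)
    let e : {v : Unit ⊕ (Fin 0 ⊕ Fin 0) → F // quadFormOdd 0 F v = 1} ≃ {x : F // x ^ 2 = 1} :=
      { toFun := fun v => ⟨v.1 (Sum.inl ()), by simpa [quadFormOdd] using v.2⟩
        invFun := fun x => ⟨fun _ => x.1, by simpa [quadFormOdd] using x.2⟩
        left_inv := fun v => by
          refine Subtype.ext (funext fun i => ?_)
          rcases i with ⟨⟩ | i | i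
          · rfl
          · exact i.elim0
          · exact i.elim0
        right_inv := fun x => rfl }
    rw [Nat.card_congr e, Nat.card_congr (Equiv.subtypeEquivRight (q := fun x => x ∈ ({1, -1} : Finset F))
      fun x => by simp [sq_eq_one_iff]), Nat.card_eq_fintype_card, Fintype.card_coe, Finset.card_pair hne]
    simp
  | succ m ih =>
    set q := Fintype.card F with hq
    let V := Unit ⊕ (Fin m ⊕ Fin m) → F
    let e : {v : Unit ⊕ (Fin (m + 1) ⊕ Fin (m + 1)) → F // quadFormOdd (m + 1) F v = 1} ≃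
        {p : (F × F) × V // Forms.hypExt (Forms.quadOdd m F) p = 1} :=
      (Forms.splitOdd m F).toEquiv.subtypeEquiv fun v => by
        change quadFormOdd (m + 1) F v = 1 ↔ Forms.hypExt (Forms.quadOdd m F) (Forms.splitOdd m F v) = 1
        rw [← Forms.quadOdd_apply, Forms.quadOdd_succ]
    rw [Nat.card_congr e]
    have hVc : Fintype.card V = q ^ (2 * m + 1) := by
      simp [V, hq]
      ring
    let e2 : {p : (F × F) × V // Forms.hypExt (Forms.quadOdd m F) p = 1} ≃
        ({a : F // a ≠ 0} × V) ⊕ (F × {v : V // quadFormOdd m F v = 1}) :=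
      { toFun := fun p => if h : p.1.1.1 = 0 then Sum.inr (p.1.1.2, ⟨p.1.2, by
            have := p.2
            rw [Forms.hypExt_apply, h, zero_mul, zero_add, Forms.quadOdd_apply] at this
            exact this⟩) else Sum.inl (⟨p.1.1.1, h⟩, p.1.2)
        invFun := Sum.elim
          (fun x => ⟨((x.1.1, (1 - quadFormOdd m F x.2) / x.1.1), x.2), by
            rw [Forms.hypExt_apply, Forms.quadOdd_apply, mul_div_cancel₀ _ x.1.2, sub_add_cancel]⟩)
          (fun x => ⟨((0, x.1), x.2.1), by
            rw [Forms.hypExt_apply, zero_mul, zero_add, Forms.quadOdd_apply, x.2.2]⟩)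
        left_inv := fun p => by
          obtain ⟨⟨⟨a, b⟩, v⟩, hp⟩ := p
          by_cases h : a = 0
          · simp [h]
          · simp only [h, dite_false, Sum.elim_inl]
            rw [Forms.hypExt_apply, Forms.quadOdd_apply] at hp
            refine Subtype.ext (Prod.ext (Prod.ext rfl ?_) rfl)
            rw [div_eq_iff h]
            linear_combination -hp
        right_inv := fun x => by
          rcases x with ⟨a, v⟩ | ⟨b, v⟩
          · simp [a.2]
          · simp }
    rw [Nat.card_congr e2, Nat.card_sum, Nat.card_prod, Nat.card_prod, ih, Nat.card_eq_fintype_card,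
      Fintype.card_subtype_compl, Fintype.card_subtype_eq, Nat.card_eq_fintype_card, hVc,
      Nat.card_eq_fintype_card, ← hq]
    have hq1 : 1 ≤ q := Fintype.card_pos
    obtain ⟨q', hq'⟩ := Nat.exists_eq_add_of_le hq1
    rw [hq', Nat.add_sub_cancel_left]
    ring

theorem finrank_ker_aeval {ι : Type*} [Fintype ι] [DecidableEq ι] (A : Matrix ι ι F) {P R : F[X]}
    (h : minpoly F A = P * R) :
    P.natDegree ≤ Module.finrank F (LinearMap.ker (Matrix.toLin' (aeval A P))) := by
  set M := LinearMap.ker (Matrix.toLin' (aeval A P)) with hM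
  have hinv : ∀ v ∈ M, Matrix.toLin' A v ∈ M := by
    intro v hv
    rw [hM, LinearMap.mem_ker, Matrix.toLin'_apply] at hv ⊢
    rw [Matrix.toLin'_apply, Matrix.mulVec_mulVec,
      show aeval A P * A = A * aeval A P by
        conv_lhs => arg 2; rw [← aeval_X (R := F) A]
        conv_rhs => arg 1; rw [← aeval_X (R := F) A]
        rw [← map_mul, ← map_mul, mul_comm],
      ← Matrix.mulVec_mulVec, hv, Matrix.mulVec_zero]
  set T : Module.End F M := (Matrix.toLin' A).restrict hinv with hT
  have hμ0 : minpoly F A ≠ 0 := minpoly.ne_zero (Algebra.IsIntegral.isIntegral A)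
  have hR0 : R ≠ 0 := fun h0 => hμ0 (by rw [h, h0, mul_zero])
  -- the restriction is annihilated only by multiples of `P`
  have hQ : P ∣ minpoly F T := by
    set Q := minpoly F T with hQdef
    have hcoe : ∀ (Q : F[X]) (w : M), ((aeval T Q) w : ι → F) = aeval A Q *ᵥ (w : ι → F) := by
      intro Q w
      induction Q using Polynomial.induction_on' with
      | add a b ha hb => simp only [map_add, LinearMap.add_apply, Submodule.coe_add, ha, hb, Matrix.add_mulVec]
      | monomial k a =>
        have hpow : ∀ k, ((T ^ k) w : ι → F) = (A ^ k) *ᵥ (w : ι → F) := by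
          intro k
          induction k with
          | zero => simp
          | succ k ih =>
            rw [pow_succ' T, Module.End.mul_apply]
            change Matrix.toLin' A ((T ^ k) w : ι → F) = _
            rw [ih, Matrix.toLin'_apply, Matrix.mulVec_mulVec, pow_succ']
        rw [aeval_monomial, aeval_monomial, ← Algebra.smul_def, ← Algebra.smul_def, LinearMap.smul_apply,
          Submodule.coe_smul, hpow, Matrix.smul_mulVec]
    refine (mul_dvd_mul_iff_right hR0).1 (h ▸ minpoly.dvd F A ?_)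
    refine Matrix.toLin'.injective (LinearMap.ext fun v => ?_)
    rw [Matrix.toLin'_apply, map_zero, LinearMap.zero_apply, map_mul, ← Matrix.mulVec_mulVec]
    have hmem : aeval A R *ᵥ v ∈ M := by
      rw [hM, LinearMap.mem_ker, Matrix.toLin'_apply, Matrix.mulVec_mulVec, ← map_mul, ← h, minpoly.aeval,
        Matrix.zero_mulVec]
    have := hcoe Q ⟨_, hmem⟩
    rw [show aeval T Q = 0 from minpoly.aeval F T] at this
    simpa using this.symm
  have hint : IsIntegral F T := Algebra.IsIntegral.isIntegral T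
  refine (natDegree_le_of_dvd hQ (minpoly.ne_zero hint)).trans ?_
  rw [← LinearMap.charpoly_natDegree T]
  exact natDegree_le_of_dvd (LinearMap.minpoly_dvd_charpoly T) T.charpoly_monic.ne_zero

/-- The sign of an involution. -/
theorem sign_of_sq_eq_one {α : Type*} [Fintype α] [DecidableEq α] {σ : Equiv.Perm α} (h : σ ^ 2 = 1)
    (hs : Equiv.Perm.sign σ = 1) : 4 ∣ σ.support.card := by
  have hrep : σ.cycleType = Multiset.replicate σ.cycleType.card 2 :=
    Multiset.eq_replicate_card.2 (Equiv.Perm.pow_prime_eq_one_iff.1 h)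
  have hsum := σ.sum_cycleType
  rw [hrep, Multiset.sum_replicate, smul_eq_mul] at hsum
  rw [Equiv.Perm.sign_of_cycleType, hrep, Multiset.sum_replicate, Multiset.card_replicate, smul_eq_mul] at hs
  rcases Nat.even_or_odd (σ.cycleType.card * 2 + σ.cycleType.card) with he | ho
  · rw [Nat.even_add] at he
    have := he.1 (even_two.mul_left _)
    rw [← hsum]
    obtain ⟨k, hk⟩ := this
    exact ⟨k, by omega⟩
  · rw [ho.neg_one_pow] at hs
    exact absurd hs (by decide)

variable [Fintype F]

/-- The residual case of the criterion does not occur in `Ω(2n+1, q)`. -/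
theorem no_residual (p : ℕ) [Fact p.Prime] [CharP F p] (hodd : Odd (Fintype.card F)) {n r : ℕ} (hn : 2 ≤ n)
    (hr : r.Prime) (hr2 : r ≠ 2) {Q : QuadraticForm F (Unit ⊕ (Fin n ⊕ Fin n) → F)}
    (hQdef : Q = Forms.quadOdd n F) (x : ↥(isometryGroup F ⇑Q)) (hx : x ∈ Omega F ⇑Q) (h2r : x ^ (2 * r) = 1) (hxr : x ^ r ≠ 1)
    {P : F[X]} {b : Bool} {c : F} (hc : c * c = 1)
    (hPμ : P ∣ minpoly F ((x : GL (Unit ⊕ (Fin n ⊕ Fin n)) F) :
      Matrix (Unit ⊕ (Fin n ⊕ Fin n)) (Unit ⊕ (Fin n ⊕ Fin n)) F))
    (hPd : P.natDegree = 2 * n) (hP2 : IsCoprime P (X ^ 2 - 1)) (hlin : ∀ a : F, IsCoprime P (X - C a))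
    (hPc : P ∣ X ^ r - C c) (hT : ¬ 2 ∣ torusExp (Fintype.card F) n b)
    (hrT : r ∣ torusExp (Fintype.card F) n b) : False := by
  classical
  have h2 : (2 : F) ≠ 0 := Ring.two_ne_zero fun h => (Nat.not_even_iff_odd.2 hodd)
    (Nat.even_iff.2 (FiniteField.even_card_of_char_two h))
  set A : Matrix (Unit ⊕ (Fin n ⊕ Fin n)) (Unit ⊕ (Fin n ⊕ Fin n)) F :=
    ((x : GL (Unit ⊕ (Fin n ⊕ Fin n)) F) : Matrix (Unit ⊕ (Fin n ⊕ Fin n)) (Unit ⊕ (Fin n ⊕ Fin n)) F) with hA
  have hApow : ∀ k, (((x ^ k : ↥(isometryGroup F ⇑Q)) : GL (Unit ⊕ (Fin n ⊕ Fin n)) F) :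
      Matrix (Unit ⊕ (Fin n ⊕ Fin n)) (Unit ⊕ (Fin n ⊕ Fin n)) F) = A ^ k := fun k => by
    rw [SubgroupClass.coe_pow, Units.val_pow_eq_pow_val]
  have hA1 : ∀ k, A ^ k = 1 → x ^ k = 1 := fun k hk => Subtype.ext (Units.ext ((hApow k).trans hk))
  have hA2r : A ^ (2 * r) = 1 := by rw [← hApow, h2r]; rfl
  have hdett : (A ^ r).det = 1 := by
    let χ : ↥(isometryGroup F ⇑Q) →* Fˣ :=
      Matrix.GeneralLinearGroup.det.comp (isometryGroup F ⇑Q).subtype
    have h1 := QForm.omega_le_ker Q χ ((Omega F ⇑Q).pow_mem hx r)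
    rw [← hApow]
    exact congrArg Units.val h1
  obtain ⟨l, hl⟩ := hPμ
  have hμ0 : minpoly F A ≠ 0 := minpoly.ne_zero (Algebra.IsIntegral.isIntegral A)
  have hP0 : P ≠ 0 := fun h0 => hμ0 (by rw [hl, h0, zero_mul])
  have hl0 : l ≠ 0 := fun h0 => hμ0 (by rw [hl, h0, mul_zero])
  have hcard : Fintype.card (Unit ⊕ (Fin n ⊕ Fin n)) = 2 * n + 1 := by simp; ring
  have hld : l.natDegree ≤ 1 := by
    have := (natDegree_le_of_dvd (Matrix.minpoly_dvd_charpoly A) (Matrix.charpoly_monic A).ne_zero).trans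
      (Matrix.charpoly_natDegree_eq_dim A).le
    rw [hl, natDegree_mul hP0 hl0, hPd, hcard] at this
    omega
  have hAl : aeval A P * aeval A l = 0 := by rw [← map_mul, ← hl, minpoly.aeval]
  -- `A ^ r` on the kernel of `P`
  have hker : ∀ v, aeval A P *ᵥ v = 0 → A ^ r *ᵥ v = c • v := by
    intro v hv
    obtain ⟨u, hu⟩ := hPc
    have := congrArg (fun R => aeval A R *ᵥ v) hu
    simp only [map_sub, map_pow, aeval_X, aeval_C, Algebra.algebraMap_eq_smul_one, Matrix.sub_mulVec,
      Matrix.smul_mulVec, Matrix.one_mulVec] at this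
    rw [mul_comm P u, map_mul, ← Matrix.mulVec_mulVec, hv, Matrix.mulVec_zero, sub_eq_zero] at this
    exact this
  rcases Nat.le_one_iff_eq_zero_or_eq_one.1 hld with hl1 | hl1
  · -- then `A ^ r` is scalar
    have hAr : A ^ r = c • 1 := by
      have hPA : aeval A P = 0 := by
        have hu : IsUnit (aeval A l) :=
          (isUnit_iff_degree_eq_zero.2 (by rw [degree_eq_natDegree hl0, hl1]; rfl)).map _
        exact hu.mul_left_eq_zero.1 hAl
      refine Matrix.toLin'.injective (LinearMap.ext fun v => ?_)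
      rw [Matrix.toLin'_apply, Matrix.toLin'_apply, Matrix.smul_mulVec, Matrix.one_mulVec,
        hker v (by rw [hPA, Matrix.zero_mulVec])]
    rw [hAr, Matrix.det_smul, Matrix.det_one, mul_one, hcard, pow_succ, pow_mul, sq, hc, one_pow, one_mul] at hdett
    exact hxr (hA1 r (by rw [hAr, hdett, one_smul]))
  obtain ⟨a, ha⟩ : ∃ a, normalize l = X - C a := by
    refine ⟨-(normalize l).coeff 0, ?_⟩
    rw [map_neg, sub_neg_eq_add]
    exact (monic_normalize hl0).eq_X_add_C (by rw [natDegree_eq_of_degree_eq degree_normalize, hl1])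
  have hAla : aeval A P * aeval A (X - C a) = 0 := by
    obtain ⟨u, hu⟩ := (normalize_associated l).symm.dvd
    rw [← ha, hu, map_mul, ← mul_assoc, hAl, zero_mul]
  obtain ⟨y, z, hyz⟩ := hlin a
  set E : Matrix (Unit ⊕ (Fin n ⊕ Fin n)) (Unit ⊕ (Fin n ⊕ Fin n)) F := aeval A (z * (X - C a)) with hE
  have hsum : aeval A (y * P) + E = 1 := by rw [hE, ← map_add, hyz, map_one]
  have hPE : ∀ v, aeval A P *ᵥ (E *ᵥ v) = 0 := fun v => by
    rw [Matrix.mulVec_mulVec, hE, ← map_mul, show P * (z * (X - C a)) = z * (P * (X - C a)) by ring, map_mul,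
      map_mul, hAla, mul_zero, Matrix.zero_mulVec]
  have hlE : ∀ v, aeval A (X - C a) *ᵥ (v - E *ᵥ v) = 0 := fun v => by
    have e : v - E *ᵥ v = aeval A (y * P) *ᵥ v := by
      rw [sub_eq_iff_eq_add, ← Matrix.add_mulVec, hsum, Matrix.one_mulVec]
    rw [e, Matrix.mulVec_mulVec, ← map_mul, show (X - C a) * (y * P) = y * (P * (X - C a)) by ring, map_mul,
      map_mul, hAla, mul_zero, Matrix.zero_mulVec]
  have hkeig : ∀ v, aeval A (X - C a) *ᵥ v = 0 → A *ᵥ v = a • v := fun v hv => by
    rwa [map_sub, aeval_X, aeval_C, Algebra.algebraMap_eq_smul_one, Matrix.sub_mulVec, Matrix.smul_mulVec,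
      Matrix.one_mulVec, sub_eq_zero] at hv
  have hAr : ∀ v, A ^ r *ᵥ v = c • (E *ᵥ v) + a ^ r • (v - E *ᵥ v) := by
    intro v
    have hk : ∀ k, A ^ k *ᵥ (v - E *ᵥ v) = a ^ k • (v - E *ᵥ v) := by
      intro k
      induction k with
      | zero => simp
      | succ k ih =>
        rw [pow_succ, ← Matrix.mulVec_mulVec, hkeig _ (hlE v), Matrix.mulVec_smul, ih, smul_smul]
        congr 1
        ring
    conv_lhs => rw [show v = E *ᵥ v + (v - E *ᵥ v) by abel]
    rw [Matrix.mulVec_add, hker _ (hPE v), hk r]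
  set e := Matrix.toLinAlgEquiv' E with he
  have hfix : ∀ v, aeval A P *ᵥ v = 0 → E *ᵥ v = v := fun v hv => by
    have : aeval A (y * P) *ᵥ v = 0 := by rw [map_mul, ← Matrix.mulVec_mulVec, hv, Matrix.mulVec_zero]
    have h' := congrArg (· *ᵥ v) hsum
    simp only [Matrix.add_mulVec, this, zero_add, Matrix.one_mulVec] at h'
    exact h'
  have hei : IsIdempotentElem e := LinearMap.ext fun v => hfix _ (hPE v)
  have hrange : 2 * n ≤ Module.finrank F (LinearMap.range e) := by
    refine (hPd ▸ finrank_ker_aeval A hl).trans (Submodule.finrank_mono fun v hv => ⟨v, hfix v ?_⟩)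
    rwa [LinearMap.mem_ker, Matrix.toLin'_apply] at hv
  have hkne : LinearMap.ker e ≠ ⊥ := by
    intro h0
    have hinj := LinearMap.ker_eq_bot.1 h0
    have hPA : aeval A P = 0 := by
      refine Matrix.toLin'.injective (LinearMap.ext fun v => ?_)
      have h1 : E *ᵥ v = v := hinj (hfix _ (hPE v))
      rw [Matrix.toLin'_apply, ← h1, hPE v, map_zero]
      rfl
    have := natDegree_le_of_dvd (minpoly.dvd F A hPA) hP0
    rw [hl, natDegree_mul hP0 hl0] at this
    omega
  have hk1 : Module.finrank F (LinearMap.ker e) = 1 := by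
    have h1 := LinearMap.finrank_range_add_finrank_ker e
    rw [Module.finrank_fintype_fun_eq_card, hcard] at h1
    have h2 : Module.finrank F (LinearMap.ker e) ≠ 0 := fun h => hkne (Submodule.finrank_eq_zero.1 h)
    omega
  have hdet2 : (A ^ r).det = a ^ r := by
    rw [← LinearMap.det_toLin', show Matrix.toLin' (A ^ r) = c • e + a ^ r • (1 - e) from LinearMap.ext fun v => by
      rw [Matrix.toLin'_apply, hAr v]; rfl]
    rw [det_idempotent_combination e hei, hk1]
    have h1 := LinearMap.finrank_range_add_finrank_ker e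
    rw [Module.finrank_fintype_fun_eq_card, hcard, hk1] at h1
    rw [show Module.finrank F (LinearMap.range e) = 2 * n by omega, pow_mul, sq, hc, one_pow, one_mul, pow_one]
  rw [hdet2] at hdett
  have hc1 : c = -1 := by
    refine (mul_self_eq_one_iff.1 hc).resolve_left fun h => hxr (hA1 r ?_)
    refine Matrix.toLin'.injective (LinearMap.ext fun v => ?_)
    rw [Matrix.toLin'_apply, hAr v, hdett, h, one_smul, one_smul, Matrix.toLin'_one, LinearMap.id_apply]
    abel
  -- the two permutations of the sphere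
  set σ := QForm.spherePerm Q (x ^ r) with hσ
  set τ := QForm.spherePerm Q (x ^ 2) with hτ
  have hact : ∀ (k : ℕ) (v : {v // Q v = 1}), (QForm.spherePerm Q (x ^ k) v : _ → F) = A ^ k *ᵥ v.1 := fun k v => by
    rw [QForm.spherePerm_apply, QForm.act, hApow]
  have hQs : ∀ (v : _ → F) (s : F), Q (s • v) = s * s * Q v := fun v s => by rw [QuadraticMap.map_smul, smul_eq_mul]
  have hiff : ∀ v : {v // Q v = 1}, τ v = v ↔ E *ᵥ v.1 = 0 := by
    intro v
    rw [Subtype.ext_iff, hτ, hact]
    constructor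
    · intro h
      obtain ⟨s, t, hst⟩ := hP2
      have e1 : aeval A ((X : F[X]) ^ 2 - 1) *ᵥ v.1 = 0 := by
        simp only [map_sub, map_pow, aeval_X, map_one, Matrix.sub_mulVec, Matrix.one_mulVec, h, sub_self]
      have e2 : aeval A ((X : F[X]) ^ 2 - 1) *ᵥ (E *ᵥ v.1) = 0 := by
        rw [Matrix.mulVec_mulVec, hE, ← map_mul, mul_comm, map_mul, ← Matrix.mulVec_mulVec, e1, Matrix.mulVec_zero]
      have e3 := congrArg (fun R => aeval A R *ᵥ (E *ᵥ v.1)) hst
      simp only [map_add, map_mul, map_one, Matrix.add_mulVec, Matrix.one_mulVec] at e3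
      rw [← Matrix.mulVec_mulVec _ (aeval A s), ← Matrix.mulVec_mulVec _ (aeval A t), hPE, e2,
        Matrix.mulVec_zero, Matrix.mulVec_zero, add_zero] at e3
      exact e3.symm
    · intro h
      have hv := hkeig v.1 (by simpa [h] using hlE v.1)
      have ha2 : a * a = 1 := by
        have h1 := (QForm.spherePerm Q x v).2
        have h2 : (QForm.spherePerm Q x v : _ → F) = a • v.1 := by
          have := hact 1 v
          rwa [pow_one, pow_one, hv] at this
        rw [h2, hQs, v.2, mul_one] at h1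
        exact h1
      rw [sq, ← Matrix.mulVec_mulVec, hv, Matrix.mulVec_smul, hv, smul_smul, ha2, one_smul]
  have hiff' : ∀ v : {v // Q v = 1}, σ v = v ↔ E *ᵥ v.1 = 0 := by
    intro v
    rw [Subtype.ext_iff, hσ, hact, hAr, hc1, hdett, one_smul, neg_one_smul]
    constructor
    · intro h
      have h' : (2 : F) • (E *ᵥ v.1) = 0 := by
        have := sub_eq_zero.2 h
        rw [two_smul]
        rw [← neg_eq_zero, ← this]
        abel
      exact (smul_eq_zero.1 h').resolve_left h2
    · intro h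
      rw [h, neg_zero, zero_add, sub_zero]
  set q := Fintype.card F with hq
  have hN : Fintype.card {v // Q v = 1} = q ^ (2 * n) + q ^ n := by
    rw [← Nat.card_eq_fintype_card, ← card_sphere_odd h2 n]
    exact Nat.card_congr (Equiv.subtypeEquivRight fun v => by rw [hQdef, Forms.quadOdd_apply])
  set S : Finset {v // Q v = 1} := σ.supportᶜ with hS
  have hSτ : τ.supportᶜ = S := by
    ext v
    rw [hS, Finset.mem_compl, Finset.mem_compl, Equiv.Perm.mem_support, Equiv.Perm.mem_support, not_not, not_not,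
      hiff, hiff']
  have := Fact.mk hr
  have hmod : S.card ≡ Fintype.card {v // Q v = 1} [MOD r] := hSτ ▸
    Equiv.Perm.card_compl_support_modEq (n := 1) (σ := τ) (by
      rw [pow_one, hτ, ← map_pow, ← pow_mul, h2r, map_one])
  have h4 : 4 ∣ σ.support.card := by
    refine sign_of_sq_eq_one (by rw [hσ, ← map_pow, ← pow_mul, mul_comm, h2r, map_one]) ?_
    exact QForm.omega_le_ker Q (QForm.sphereSign Q) ((Omega F ⇑Q).pow_mem hx r)
  have hScard : S.card + σ.support.card = Fintype.card {v // Q v = 1} := by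
    rw [hS, Finset.card_compl, Nat.sub_add_cancel (Finset.card_le_univ _)]
  -- the fixed points lie on a line
  have hS02 : S.card = 0 ∨ S.card = 2 := by
    rcases S.eq_empty_or_nonempty with h0 | ⟨w, hw⟩
    · exact Or.inl (by rw [h0, Finset.card_empty])
    right
    have hmem : ∀ v, v ∈ S ↔ E *ᵥ v.1 = 0 := fun v => by
      rw [hS, Finset.mem_compl, Equiv.Perm.mem_support, not_not, hiff']
    let w' : {v // Q v = 1} := ⟨(-1 : F) • w.1, by rw [hQs, w.2]; ring⟩
    have hw0 : w.1 ≠ 0 := fun h => by simpa [h] using w.2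
    have hne : w ≠ w' := fun h => by
      have h' : ((2 : F)) • w.1 = 0 := by
        have := congrArg Subtype.val h
        simp only [w', neg_one_smul] at this
        rw [two_smul]
        nth_rewrite 2 [this]
        exact add_neg_cancel _
      exact hw0 ((smul_eq_zero.1 h').resolve_left h2)
    rw [show S = {w, w'} by
      ext v
      rw [hmem, Finset.mem_insert, Finset.mem_singleton]
      constructor
      · intro hv
        obtain ⟨s, hs⟩ := (finrank_eq_one_iff_of_nonzero' (⟨w.1, (hmem w).1 hw⟩ : LinearMap.ker e)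
          (fun h => hw0 (congrArg Subtype.val h))).1 hk1 ⟨v.1, hv⟩
        have hs' : s • w.1 = v.1 := congrArg Subtype.val hs
        have := v.2
        rw [← hs', hQs, w.2, mul_one] at this
        rcases mul_self_eq_one_iff.1 this with h | h
        · exact Or.inl (Subtype.ext (by rw [← hs', h, one_smul]))
        · exact Or.inr (Subtype.ext (by rw [← hs', h]))
      · rintro (rfl | rfl)
        · exact (hmem v).1 hw
        · simp only [w', Matrix.mulVec_smul, (hmem w).1 hw, smul_zero]]
    exact Finset.card_pair hne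
  have hQodd : Odd (q ^ n) := hodd.pow
  have hrq : ¬ r ∣ q ^ n := by
    intro h
    have h' : r ∣ (if b then q ^ n + 1 else q ^ n - 1) := by
      refine hrT.trans ?_
      refine Nat.div_dvd_of_dvd ((Nat.gcd_dvd_left 2 _).trans ?_)
      cases b
      · exact (Nat.Odd.sub_odd hQodd odd_one).two_dvd
      · exact hQodd.add_one.two_dvd
    cases b
    · have := Nat.dvd_sub h h'
      simp only [Bool.false_eq_true, if_false] at this
      rw [Nat.sub_sub_self (Nat.one_le_pow _ _ Fintype.card_pos)] at this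
      exact hr.ne_one (Nat.dvd_one.1 this)
    · exact hr.ne_one (Nat.dvd_one.1 ((Nat.dvd_add_right h).1 h'))
  have hgcd : Nat.gcd 2 (q - 1) = 2 := Nat.gcd_eq_left (Nat.Odd.sub_odd hodd odd_one).two_dvd
  unfold torusExp at hT hrT
  rw [hgcd] at hT hrT
  obtain ⟨k, hk⟩ := hQodd
  have hN2 : q ^ (2 * n) + q ^ n = q ^ n * (q ^ n + 1) := by rw [two_mul, pow_add]; ring
  rw [hN] at hmod hScard
  rcases hS02 with h0 | h0 <;> rw [h0] at hmod hScard
  · have h5 : 4 ∣ q ^ n * (q ^ n + 1) := by rw [← hN2, ← hScard, zero_add]; exact h4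
    have h6 : 4 ∣ q ^ n + 1 :=
      (Nat.Coprime.dvd_mul_left (by rw [hk]; exact Nat.Coprime.pow_left 2 (Nat.coprime_two_left.2 ⟨k, rfl⟩))).1 h5
    have h7 : r ∣ q ^ n + 1 :=
      (hr.dvd_mul.1 (hN2 ▸ (Nat.modEq_zero_iff_dvd.1 hmod.symm))).resolve_left hrq
    cases b
    · simp only [Bool.false_eq_true, if_false] at hrT
      have := Nat.dvd_sub h7 (hrT.trans (Nat.div_dvd_of_dvd ⟨k, by omega⟩))
      rw [show q ^ n + 1 - (q ^ n - 1) = 2 by omega] at this
      exact hr2 ((Nat.prime_dvd_prime_iff_eq hr Nat.prime_two).1 this)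
    · simp only [if_true] at hT
      omega
  · have h5 : q ^ n * (q ^ n + 1) = 2 + σ.support.card := by rw [← hN2, hScard]
    cases b
    · simp only [Bool.false_eq_true, if_false] at hT
      obtain ⟨m, hm⟩ := h4
      rw [hk, hm] at h5
      rw [hk] at hT
      -- `k` is odd
      obtain ⟨j, rfl⟩ : Odd k := by rw [Nat.odd_iff]; omega
      ring_nf at h5
      omega
    · simp only [if_true] at hrT
      have h7 : r ∣ q ^ n + 1 := hrT.trans (Nat.div_dvd_of_dvd ⟨k + 1, by omega⟩)
      have h8 : r ∣ q ^ (2 * n) + q ^ n := hN2 ▸ dvd_mul_of_dvd_right h7 _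
      have h9 : r ∣ 2 := by
        have := hmod.dvd_iff dvd_rfl
        exact this.2 h8
      exact hr2 ((Nat.prime_dvd_prime_iff_eq hr Nat.prime_two).1 h9)

end Cfsg.Agent.GL
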