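import Cfsg.Agent.Lib.GL.TorusCriterion
import Cfsg.Agent.Lib.Forms.Classify
import Cfsg.Agent.Lib.Forms.QuadOrder
import Cfsg.Agent.Lib.QForm.OmegaQuot

/-!
Semisimple and unipotent isometries of quadratic forms in odd characteristic, built in three orthogonal blocks and
transported to `quadFormOdd`; squares land in `Omega`.
-/

set_option autoImplicit false

open Matrix

namespace Cfsg.Agent.GL

universe u

variable {F : Type u} [Field F]

section Model

variable {V W : Type*} [AddCommGroup V] [Module F V] [AddCommGroup W] [Module F W]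

/-- Conjugation of automorphisms by an equivalence. -/
def conjAut (e : V ≃ₗ[F] W) : (V ≃ₗ[F] V) →* (W ≃ₗ[F] W) where
  toFun f := e.symm.trans (f.trans e)
  map_one' := LinearEquiv.ext fun w => e.apply_symm_apply w
  map_mul' f g := LinearEquiv.ext fun w => by
    show e (f (g (e.symm w))) = e (f (e.symm (e (g (e.symm w)))))
    rw [e.symm_apply_apply]

theorem conjAut_injective (e : V ≃ₗ[F] W) : Function.Injective (conjAut e) := fun f g h =>
  LinearEquiv.ext fun v => e.injective (by
    have := LinearEquiv.congr_fun h (e v)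
    simpa [conjAut] using this)

/-- Pairs of automorphisms. -/
def prodAut : (V ≃ₗ[F] V) × (W ≃ₗ[F] W) →* ((V × W) ≃ₗ[F] (V × W)) where
  toFun f := f.1.prodCongr f.2
  map_one' := LinearEquiv.ext fun _ => rfl
  map_mul' _ _ := LinearEquiv.ext fun _ => rfl

theorem prodAut_eq_one {f : (V ≃ₗ[F] V) × (W ≃ₗ[F] W)} (h : prodAut f = 1) : f.1 = 1 ∧ f.2 = 1 :=
  ⟨LinearEquiv.ext fun v => congrArg Prod.fst (LinearEquiv.congr_fun h (v, 0)),
    LinearEquiv.ext fun w => congrArg Prod.snd (LinearEquiv.congr_fun h (0, w))⟩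

theorem prod_polar_nondegenerate {Q₁ : QuadraticForm F V} {Q₂ : QuadraticForm F W}
    (h₁ : (QuadraticMap.polarBilin Q₁).Nondegenerate) (h₂ : (QuadraticMap.polarBilin Q₂).Nondegenerate) :
    (QuadraticMap.polarBilin (Q₁.prod Q₂)).Nondegenerate := by
  refine ⟨fun x hx => Prod.ext (h₁.1 _ fun y => ?_) (h₂.1 _ fun y => ?_),
    fun x hx => Prod.ext (h₁.2 _ fun y => ?_) (h₂.2 _ fun y => ?_)⟩
  · simpa using hx (y, 0)
  · simpa using hx (0, y)
  · simpa using hx (y, 0)
  · simpa using hx (0, y)

variable [FiniteDimensional F V]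

/-- An isometry with a prescribed exponent, moved to `Fin m → F`. -/
theorem exists_fin_model {m : ℕ} (hm : Module.finrank F V = m) (Q : QuadraticForm F V)
    (hQ : (QuadraticMap.polarBilin Q).Nondegenerate) (f : V ≃ₗ[F] V) (hf : ∀ v, Q (f v) = Q v) {k : ℕ}
    (hk : ∀ N, f ^ (2 * N) = 1 → k ∣ N) :
    ∃ (Q' : QuadraticForm F (Fin m → F)) (g : (Fin m → F) ≃ₗ[F] (Fin m → F)),
      (QuadraticMap.polarBilin Q').Nondegenerate ∧ (∀ v, Q' (g v) = Q' v) ∧ ∀ N, g ^ (2 * N) = 1 → k ∣ N := by
  let e : V ≃ₗ[F] (Fin m → F) := (Module.finBasisOfFinrankEq F V hm).equivFun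
  refine ⟨Q.comp e.symm.toLinearMap, conjAut e f, ?_, fun v => ?_, fun N hN => hk N (conjAut_injective e ?_)⟩
  · exact Forms.polar_nondegenerate_of_equiv (Q' := Q) e.symm (fun v => rfl) hQ
  · show Q (e.symm (e (f (e.symm v)))) = Q (e.symm v)
    rw [e.symm_apply_apply, hf]
  · rw [map_pow, hN, map_one]

end Model

variable [Fintype F]

/-- A torus isometry in dimension `2d`. -/
theorem exists_orth_torus (h2 : (2 : F) ≠ 0) (hodd : Odd (Fintype.card F)) {d : ℕ} (hd : 0 < d) (b : Bool) :
    ∃ (Q : QuadraticForm F (Fin (2 * d) → F)) (g : (Fin (2 * d) → F) ≃ₗ[F] (Fin (2 * d) → F)),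
      (QuadraticMap.polarBilin Q).Nondegenerate ∧ (∀ v, Q (g v) = Q v) ∧
        ∀ N, g ^ (2 * N) = 1 → torusExp (Fintype.card F) d b ∣ N := by
  obtain ⟨p, hp⟩ := CharP.exists F
  have : Fact p.Prime := ⟨CharP.char_is_prime F p⟩
  obtain ⟨a, -, hqp⟩ := FiniteField.card F p
  set q := Fintype.card F with hq
  have hq0 : 0 < q := Fintype.card_pos
  have hgcd : Nat.gcd 2 (q - 1) = 2 := Nat.gcd_eq_left (Nat.Odd.sub_odd hodd odd_one).two_dvd
  have hfin : ∀ T : ℕ, 2 ∣ T → ∀ N, T ∣ 2 * N → T / 2 ∣ N := fun T hT N h => by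
    obtain ⟨c, rfl⟩ := hT
    rw [Nat.mul_div_cancel_left _ two_pos]
    exact (Nat.mul_dvd_mul_iff_left two_pos).1 h
  cases b
  · -- split: `E × E` with the form `Tr (x y)`
    have : NeZero d := ⟨hd.ne'⟩
    let E := FiniteField.Extension F p d
    obtain ⟨w, hw⟩ := IsCyclic.exists_ofOrder_eq_natCard (α := Eˣ)
    rw [Nat.card_units, FiniteField.natCard_extension, ← Fintype.card_eq_nat_card, ← hq] at hw
    let B : LinearMap.BilinForm F (E × E) := LinearMap.mk₂ F (fun x y => Algebra.trace F E (x.1 * y.2))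
      (fun a b c => by simp [add_mul]) (fun r a b => by simp)
      (fun a b c => by simp [mul_add]) (fun r a b => by simp)
    let m : Eˣ →* ((E × E) ≃ₗ[F] (E × E)) :=
      { toFun := fun u =>
          { toFun := fun x => ((u : E) * x.1, (↑u⁻¹ : E) * x.2)
            invFun := fun x => ((↑u⁻¹ : E) * x.1, (u : E) * x.2)
            map_add' := fun x y => by simp [mul_add]
            map_smul' := fun r x => by simp
            left_inv := fun x => by simp
            right_inv := fun x => by simp }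
        map_one' := LinearEquiv.ext fun x => by simp
        map_mul' := fun u v => LinearEquiv.ext fun x => by simp [mul_assoc, mul_comm, mul_left_comm] }
    have hBB : ∀ x y : E × E, QuadraticMap.polar ⇑B.toQuadraticMap x y =
        Algebra.trace F E (x.1 * y.2) + Algebra.trace F E (y.1 * x.2) := fun x y => by
      simp [QuadraticMap.polar, B, add_mul, mul_add]
      abel
    refine exists_fin_model (V := E × E)
      (by rw [Module.finrank_prod, FiniteField.finrank_extension]; omega) B.toQuadraticMap ?_ (m w) ?_ fun N hN => ?_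
    · refine ⟨fun x hx => ?_, fun x hx => ?_⟩ <;>
      · have h1 : x.1 = 0 := (traceForm_nondegenerate F E).1 _ fun y => by
          have := hx ((0 : E), y)
          simpa [hBB, Algebra.traceForm_apply, mul_comm] using this
        have h2 : x.2 = 0 := (traceForm_nondegenerate F E).1 _ fun y => by
          have := hx (y, (0 : E))
          simpa [hBB, Algebra.traceForm_apply, mul_comm] using this
        exact Prod.ext h1 h2
    · intro x
      show Algebra.trace F E (((w : E) * x.1) * ((↑w⁻¹ : E) * x.2)) = Algebra.trace F E (x.1 * x.2)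
      congr 1
      rw [mul_mul_mul_comm, Units.mul_inv, one_mul]
    · unfold torusExp
      rw [hgcd, if_neg (by simp)]
      refine hfin _ (Nat.Odd.sub_odd hodd.pow odd_one).two_dvd N ?_
      rw [← hw, orderOf_dvd_iff_pow_eq_one]
      have := LinearEquiv.congr_fun ((map_pow m w (2 * N)).trans hN) ((1 : E), (0 : E))
      refine Units.ext ?_
      simpa [m] using congrArg Prod.fst this
  · -- nonsplit: the norm form of the quadratic extension
    have : NeZero (2 * d) := ⟨by omega⟩
    let E := FiniteField.Extension F p (2 * d)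
    have : CharP E p := charP_of_injective_algebraMap (algebraMap F E).injective p
    obtain ⟨g, hg⟩ := IsCyclic.exists_ofOrder_eq_natCard (α := Eˣ)
    rw [Nat.card_units, FiniteField.natCard_extension, ← Fintype.card_eq_nat_card, ← hq] at hg
    have hqd : 2 ≤ q ^ d := le_trans Fintype.one_lt_card (Nat.le_self_pow hd.ne' q)
    have hcard : q ^ (2 * d) - 1 = (q ^ d - 1) * (q ^ d + 1) := by
      rw [show q ^ (2 * d) = (q ^ d) ^ 2 by rw [← pow_mul, mul_comm], mul_comm, ← Nat.sq_sub_sq, one_pow]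
    set z : Eˣ := g ^ (q ^ d - 1) with hz
    have hord : orderOf z = q ^ d + 1 := by
      rw [hz, orderOf_pow' _ (by omega), hg, hcard, Nat.gcd_mul_right_left, Nat.mul_div_cancel_left _ (by omega)]
    let ψ : E →+* E := iterateFrobenius E p (a * d)
    have hψ : ∀ x, ψ x = x ^ q ^ d := fun x => by
      rw [hqp, ← pow_mul]; exact iterateFrobenius_def p (a * d) x
    have hψam : ∀ c : F, ψ (algebraMap F E c) = algebraMap F E c := fun c => by
      rw [hψ, ← map_pow, FiniteField.pow_card_pow]
    have hψψ : ∀ x : E, ψ (ψ x) = x := by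
      intro x
      have := Fintype.ofFinite E
      have hc : Fintype.card E = q ^ (2 * d) := by
        rw [Fintype.card_eq_nat_card, FiniteField.natCard_extension, ← Fintype.card_eq_nat_card]
      rw [hψ, hψ, ← pow_mul, ← pow_add, ← two_mul, ← hc, FiniteField.pow_card]
    have htr : ∀ w : E, Algebra.trace F E (ψ w) = Algebra.trace F E w := by
      intro w
      apply (algebraMap F E).injective
      conv_rhs => rw [← hψam]
      rw [FiniteField.algebraMap_trace_eq_sum_pow, FiniteField.algebraMap_trace_eq_sum_pow, map_sum]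
      exact Finset.sum_congr rfl fun i _ => (map_pow ψ w _).symm
    have hψsmul : ∀ (r : F) (y : E), ψ (r • y) = r • ψ y := fun r y => by
      rw [Algebra.smul_def, map_mul, hψam, ← Algebra.smul_def]
    let B : LinearMap.BilinForm F E := LinearMap.mk₂ F (fun x y => Algebra.trace F E (x * ψ y))
      (fun a b c => by simp [add_mul]) (fun r a b => by simp)
      (fun a b c => by simp [mul_add]) (fun r a b => by simp [hψsmul])
    let m : Eˣ →* (E ≃ₗ[F] E) :=
      { toFun := fun u =>
          { toFun := fun x => (u : E) * x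
            invFun := fun x => (↑u⁻¹ : E) * x
            map_add' := fun x y => by simp [mul_add]
            map_smul' := fun r x => by simp
            left_inv := fun x => by simp
            right_inv := fun x => by simp }
        map_one' := LinearEquiv.ext fun x => by simp
        map_mul' := fun u v => LinearEquiv.ext fun x => by simp [mul_assoc] }
    have hBB : ∀ x y : E, QuadraticMap.polar ⇑B.toQuadraticMap x y = 2 * Algebra.trace F E (x * ψ y) := by
      intro x y
      have e : Algebra.trace F E (y * ψ x) = Algebra.trace F E (x * ψ y) := by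
        rw [← htr (x * ψ y), map_mul ψ, hψψ, mul_comm (ψ x) y]
      simp [QuadraticMap.polar, B, add_mul, mul_add, e]
      ring
    have hsymm : ∀ x y : E, QuadraticMap.polar ⇑B.toQuadraticMap y x = QuadraticMap.polar ⇑B.toQuadraticMap x y :=
      fun x y => QuadraticMap.polar_comm _ _ _
    have hnd : ∀ x : E, (∀ y, QuadraticMap.polar ⇑B.toQuadraticMap x y = 0) → x = 0 := by
      intro x hx
      refine (traceForm_nondegenerate F E).1 _ fun y => ?_
      have := hx (ψ y)
      rw [hBB, hψψ] at this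
      simpa [Algebra.traceForm_apply] using (mul_eq_zero.1 this).resolve_left h2
    refine exists_fin_model (V := E) (FiniteField.finrank_extension F p (2 * d)) B.toQuadraticMap
      ⟨fun x hx => hnd x fun y => by simpa using hx y,
        fun x hx => hnd x fun y => by rw [← hsymm]; simpa using hx y⟩ (m z) ?_ fun N hN => ?_
    · intro x
      show Algebra.trace F E ((z : E) * x * ψ ((z : E) * x)) = Algebra.trace F E (x * ψ x)
      have hz1 : (z : E) * ψ (z : E) = 1 := by
        rw [hψ, ← pow_succ', ← hord, ← orderOf_units, pow_orderOf_eq_one]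
      congr 1
      rw [map_mul, mul_mul_mul_comm, hz1, one_mul]
    · unfold torusExp
      rw [hgcd, if_pos rfl]
      refine hfin _ hodd.pow.add_one.two_dvd N ?_
      rw [← hord, orderOf_dvd_iff_pow_eq_one]
      have := LinearEquiv.congr_fun ((map_pow m z (2 * N)).trans hN) (1 : E)
      refine Units.ext ?_
      simpa [m] using this

/-- An isometry of order `p` in odd dimension at least three. -/
theorem exists_orth_p (p : ℕ) [hp : Fact p.Prime] [CharP F p] (hp2 : p ≠ 2) (h2 : (2 : F) ≠ 0) {m : ℕ} (hm : 0 < m) :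
    ∃ g : (Unit ⊕ (Fin m ⊕ Fin m) → F) ≃ₗ[F] (Unit ⊕ (Fin m ⊕ Fin m) → F),
      (∀ v, Forms.quadOdd m F (g v) = Forms.quadOdd m F v) ∧ ∀ N, g ^ (2 * N) = 1 → p ∣ N := by
  classical
  have hd : p ∣ Nat.card (Forms.isomQ (Forms.quadOdd m F)) := by
    rw [Forms.card_isomQ_quadOdd h2 m]
    refine Dvd.dvd.mul_right (dvd_mul_of_dvd_right (((CharP.cast_eq_zero_iff F p _).1
      (Nat.cast_card_eq_zero F)).trans (dvd_pow_self _ (by positivity))) _) _
  have hfin : Finite (Forms.isomQ (Forms.quadOdd m F)) := by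
    refine Nat.finite_of_card_ne_zero ?_
    rw [Forms.card_isomQ_quadOdd h2 m]
    refine Nat.mul_ne_zero (Nat.mul_ne_zero two_ne_zero (pow_ne_zero _ Fintype.card_ne_zero))
      (Finset.prod_ne_zero_iff.2 fun i _ => ?_)
    have := Nat.one_lt_pow (show 2 * (i + 1) ≠ 0 by omega) (Fintype.one_lt_card (α := F))
    omega
  obtain ⟨g, hg⟩ := exists_prime_orderOf_dvd_card' p hd
  refine ⟨g.1, fun v => g.2 v v, fun N hN => ?_⟩
  have h1 : g ^ (2 * N) = 1 := Subtype.ext (by rw [SubgroupClass.coe_pow, hN]; rfl)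
  have h2' := orderOf_dvd_of_pow_eq_one h1
  rw [hg] at h2'
  exact (Nat.Coprime.dvd_mul_left ((Nat.coprime_primes hp.out Nat.prime_two).2 hp2)).1 h2'

omit [Fintype F] in
theorem polar_diag_eq {V : Type*} [AddCommGroup V] [Module F V] (h2 : (2 : F) ≠ 0) (Q : QuadraticForm F V)
    {n : ℕ} (e : V → Fin n → F) (w : Fin n → F)
    (h : ∀ x y, QuadraticMap.polarBilin Q x y = ∑ i, w i * (e x i * e y i)) (x : V) :
    Q x = 2⁻¹ * ∑ i, w i * (e x i * e x i) := by
  rw [← h, Forms.polarBilin_self, ← mul_assoc, inv_mul_cancel₀ h2, one_mul]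

/-- Two forms in the same odd dimension are similar. -/
theorem exists_similar_odd {V W : Type*} [AddCommGroup V] [Module F V] [FiniteDimensional F V] [AddCommGroup W]
    [Module F W] [FiniteDimensional F W] (h2 : (2 : F) ≠ 0) {Q : QuadraticForm F V} {Q' : QuadraticForm F W}
    (hQ : (QuadraticMap.polarBilin Q).Nondegenerate) (hQ' : (QuadraticMap.polarBilin Q').Nondegenerate) {n : ℕ}
    (hV : Module.finrank F V = 2 * n + 1) (hW : Module.finrank F W = 2 * n + 1) :
    ∃ (e : V ≃ₗ[F] W) (l : F), l ≠ 0 ∧ ∀ v, Q' (e v) = l * Q v := by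
  classical
  obtain ⟨α, hα⟩ := FiniteField.exists_nonsquare (F := F) (fun h => h2 (by
    have : CharP F 2 := ringChar.of_eq h
    exact CharTwo.two_eq_zero))
  have hα0 : α ≠ 0 := fun h => hα (h ▸ IsSquare.zero)
  have hsW : ∀ x y : W, QuadraticMap.polarBilin Q' x y = QuadraticMap.polarBilin Q' y x :=
    fun x y => (Forms.polarBilin_swap x y).symm
  have hsV : ∀ x y : V, QuadraticMap.polarBilin Q x y = QuadraticMap.polarBilin Q y x :=
    fun x y => (Forms.polarBilin_swap x y).symm
  obtain ⟨e₁, c₁, hc₁, he₁⟩ := Forms.exists_symm_coords h2 hsV hQ.1 hV hα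
  obtain ⟨e₂, c₂, hc₂, he₂⟩ := Forms.exists_symm_coords h2 hsW hQ'.1 hW hα
  have hsa : (QuadraticMap.polarBilin (α • Q)) = α • QuadraticMap.polarBilin Q :=
    LinearMap.ext₂ fun x y => by simp [QuadraticMap.polar, mul_sub]
  obtain ⟨e₃, c₃, hc₃, he₃⟩ := Forms.exists_symm_coords h2 (B := QuadraticMap.polarBilin (α • Q))
    (fun x y => (Forms.polarBilin_swap x y).symm)
    (fun x hx => hQ.1 x fun y => by
      have h' := hx y
      rw [hsa] at h'
      simpa [hα0] using h') hV hα
  -- the scaled form has the other class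
  have hne : c₁ ≠ c₃ := by
    rintro rfl
    let b := Pi.basisFun F (Fin (2 * n + 1))
    set M : Matrix (Fin (2 * n + 1)) (Fin (2 * n + 1)) F := LinearMap.toMatrix' (e₁.symm.trans e₃).toLinearMap with hM
    set D : Matrix (Fin (2 * n + 1)) (Fin (2 * n + 1)) F :=
      Matrix.diagonal (fun i => if i = Fin.last (2 * n) then c₁ else 1) with hD
    have hMD : α • D = Mᵀ * D * M := by
      ext i j
      have h := he₃ (e₁.symm (Pi.single i 1)) (e₁.symm (Pi.single j 1))
      rw [hsa, LinearMap.smul_apply, LinearMap.smul_apply, smul_eq_mul, he₁] at h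
      simp only [LinearEquiv.apply_symm_apply] at h
      rw [Matrix.smul_apply, smul_eq_mul, Matrix.mul_apply]
      simp only [hD, Matrix.mul_diagonal, Matrix.transpose_apply, hM, LinearMap.toMatrix'_apply,
        LinearEquiv.coe_coe, LinearEquiv.trans_apply]
      rw [show (Matrix.diagonal fun i => if i = Fin.last (2 * n) then c₁ else 1) i j =
        ∑ k, (if k = Fin.last (2 * n) then c₁ else 1) * ((Pi.single i (1 : F) : _ → F) k * (Pi.single j (1 : F) : _ → F) k) by
          rw [Matrix.diagonal_apply]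
          simp [Pi.single_apply]
          grind, h]
      exact Finset.sum_congr rfl fun k _ => by ring
    have hc0 : c₁ ≠ 0 := by rcases hc₁ with h | h <;> simp [h, hα0]
    have hDdet : D.det ≠ 0 := by
      rw [hD, Matrix.det_diagonal]
      exact Finset.prod_ne_zero_iff.2 fun i _ => by split_ifs <;> simp [hc0]
    have h := congrArg Matrix.det hMD
    rw [Matrix.det_smul, Matrix.det_mul, Matrix.det_mul, Matrix.det_transpose, Fintype.card_fin, pow_succ] at h
    have h' : α ^ (2 * n) * α = M.det * M.det := mul_right_cancel₀ hDdet (by linear_combination h)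
    refine hα ⟨M.det / α ^ n, ?_⟩
    rw [div_mul_div_comm, ← h', ← pow_add, ← two_mul, mul_div_cancel_left₀ _ (pow_ne_zero _ hα0)]
  by_cases hcc : c₁ = c₂
  · refine ⟨e₁.trans e₂.symm, 1, one_ne_zero, fun v => ?_⟩
    rw [one_mul, polar_diag_eq h2 Q' e₂ _ he₂, polar_diag_eq h2 Q e₁ _ he₁, hcc]
    simp
  · have h23 : c₃ = c₂ := by
      rcases hc₁ with rfl | rfl <;> rcases hc₂ with rfl | rfl <;> rcases hc₃ with rfl | rfl <;>
        first | rfl | exact absurd rfl hcc | exact absurd rfl hne
    refine ⟨e₃.trans e₂.symm, α, hα0, fun v => ?_⟩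
    rw [show α * Q v = (α • Q) v from rfl, polar_diag_eq h2 Q' e₂ _ he₂, polar_diag_eq h2 (α • Q) e₃ _ he₃, h23]
    simp

/-- An isometry of some form in dimension `2n + 1` gives an element of `Omega` of `quadFormOdd`. -/
theorem exists_omega_element (hodd : Odd (Fintype.card F)) {V : Type*} [AddCommGroup V] [Module F V]
    [FiniteDimensional F V] {n : ℕ} (hV : Module.finrank F V = 2 * n + 1) (Q : QuadraticForm F V)
    (hQ : (QuadraticMap.polarBilin Q).Nondegenerate) (f : V ≃ₗ[F] V) (hf : ∀ v, Q (f v) = Q v) {k : ℕ}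
    (hk : ∀ N, f ^ (2 * N) = 1 → k ∣ N) :
    ∃ y : Omega F (quadFormOdd n F), k ∣ orderOf y := by
  classical
  have h2 := Forms.two_ne_zero_of_odd_card hodd
  have hN := Forms.quadOdd_nondegenerate (F := F) h2 n
  obtain ⟨e, l, hl, he⟩ := exists_similar_odd h2 hQ hN hV (by simp; ring)
  have hQe : ∀ v, quadFormOdd n F (conjAut e f v) = quadFormOdd n F v := by
    intro v
    rw [← Forms.quadOdd_apply, ← Forms.quadOdd_apply]
    show Forms.quadOdd n F (e (f (e.symm v))) = _
    rw [he, hf, ← he, e.apply_symm_apply]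
  set E := Forms.isometryGroupEquiv (F := F) (quadFormOdd n F) with hE
  set x := E.symm ⟨conjAut e f, fun u _ => hQe u⟩ with hx
  have hsq : x * x ∈ Omega F (quadFormOdd n F) := by
    have hh := QForm.of_mul_self (Q := Forms.quadOdd n F) hN (Or.inl (by
      intro h; rw [h] at hodd; exact absurd hodd (by decide)))
    have hfun : ⇑(Forms.quadOdd n F) = quadFormOdd n F := funext Forms.quadOdd_apply
    revert hh x
    rw [hfun] at *
    intro x _ hh
    have := hh x
    rw [← map_mul] at this
    exact (QuotientGroup.eq_one_iff _).1 this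
  refine ⟨⟨x * x, hsq⟩, hk _ (conjAut_injective e ?_)⟩
  set N := orderOf (⟨x * x, hsq⟩ : Omega F (quadFormOdd n F))
  have h1 : (x * x) ^ N = 1 := congrArg Subtype.val (pow_orderOf_eq_one (⟨x * x, hsq⟩ : Omega F (quadFormOdd n F)))
  rw [← sq, ← pow_mul] at h1
  have h2' := congrArg E h1
  rw [map_pow, hx, MulEquiv.apply_symm_apply, map_one] at h2'
  rw [map_pow, map_one]
  exact congrArg Subtype.val h2'

/-- Sufficiency of the criterion in `Ω(2n+1, q)`. -/
theorem omega_of_crit (p : ℕ) [Fact p.Prime] [CharP F p] (hodd : Odd (Fintype.card F)) {n r s : ℕ}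
    (hr : r.Prime) (hs : s.Prime) (hrs : r ≠ s) (h : PrimeCrit (Fintype.card F) n p r s) :
    ∃ y : Omega F (quadFormOdd n F), r * s ∣ orderOf y := by
  classical
  have h2 := Forms.two_ne_zero_of_odd_card hodd
  have hp2 : p ≠ 2 := by
    rintro rfl
    exact h2 (by exact_mod_cast CharP.cast_eq_zero F 2)
  have hco := (Nat.coprime_primes hr hs).2 hrs
  rcases h with ⟨d, b, hd, hdn, hdv⟩ | ⟨d₁, b₁, d₂, b₂, hd₁, hd₂, hdn, hr', hs'⟩ | ⟨d, b, hd, hdn, hor⟩
  · obtain ⟨Q, g, hQ, hg, hgN⟩ := exists_orth_torus h2 hodd hd b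
    refine exists_omega_element hodd (V := (Fin (2 * d) → F) × (Unit ⊕ (Fin (n - d) ⊕ Fin (n - d)) → F))
      (by simp; omega) (Q.prod (Forms.quadOdd (n - d) F))
      (prod_polar_nondegenerate hQ (Forms.quadOdd_nondegenerate h2 _)) (prodAut (g, 1))
      (fun v => ?_) fun N hN => hdv.trans (hgN N ?_)
    · show Q (g v.1) + Forms.quadOdd _ F v.2 = _
      rw [hg]; rfl
    · rw [← map_pow] at hN
      exact (prodAut_eq_one hN).1
  · obtain ⟨Q₁, g₁, hQ₁, hg₁, hN₁⟩ := exists_orth_torus h2 hodd hd₁ b₁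
    obtain ⟨Q₂, g₂, hQ₂, hg₂, hN₂⟩ := exists_orth_torus h2 hodd hd₂ b₂
    refine exists_omega_element hodd (V := ((Fin (2 * d₁) → F) × (Fin (2 * d₂) → F)) ×
        (Unit ⊕ (Fin (n - d₁ - d₂) ⊕ Fin (n - d₁ - d₂)) → F))
      (by simp; omega) ((Q₁.prod Q₂).prod (Forms.quadOdd _ F))
      (prod_polar_nondegenerate (prod_polar_nondegenerate hQ₁ hQ₂) (Forms.quadOdd_nondegenerate h2 _))
      (prodAut (prodAut (g₁, g₂), 1)) (fun v => ?_) fun N hN => ?_
    · show Q₁ (g₁ v.1.1) + Q₂ (g₂ v.1.2) + Forms.quadOdd _ F v.2 = _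
      rw [hg₁, hg₂]; rfl
    · rw [← map_pow] at hN
      have h1 : prodAut ((g₁, g₂) ^ (2 * N)) = 1 := by rw [map_pow]; exact (prodAut_eq_one hN).1
      obtain ⟨e1, e2⟩ := prodAut_eq_one h1
      exact hco.mul_dvd_of_dvd_of_dvd (hr'.trans (hN₁ N e1)) (hs'.trans (hN₂ N e2))
  · obtain ⟨Q, g, hQ, hg, hgN⟩ := exists_orth_torus h2 hodd hd b
    obtain ⟨u, hu, huN⟩ := exists_orth_p (F := F) p hp2 h2 (show 0 < n - d by omega)
    refine exists_omega_element hodd (V := (Fin (2 * d) → F) × (Unit ⊕ (Fin (n - d) ⊕ Fin (n - d)) → F))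
      (by simp; omega) (Q.prod (Forms.quadOdd (n - d) F))
      (prod_polar_nondegenerate hQ (Forms.quadOdd_nondegenerate h2 _)) (prodAut (g, u))
      (fun v => ?_) fun N hN => ?_
    · show Q (g v.1) + Forms.quadOdd _ F (u v.2) = _
      rw [hg, hu]; rfl
    · rw [← map_pow] at hN
      obtain ⟨e1, e2⟩ := prodAut_eq_one hN
      rcases hor with ⟨rfl, h4⟩ | ⟨rfl, h4⟩
      · exact hco.mul_dvd_of_dvd_of_dvd (h4.trans (hgN N e1)) (huN N e2)
      · exact hco.mul_dvd_of_dvd_of_dvd (huN N e2) (h4.trans (hgN N e1))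

end Cfsg.Agent.GL
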