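import Cfsg.Agent.Lib.GL.ElementOrders

/-!
Tools for element orders in `PSL n F`: scalar powers, powers of a matrix from the roots of its minimal polynomial,
norm-one elements of extension fields as matrices, two-block matrices, splitting along a coprime factorisation.
-/

set_option autoImplicit false

open Matrix Polynomial
open scoped MatrixGroups

namespace Cfsg.Agent.GL

variable {F : Type*} [Field F]

theorem psl_pow_eq_one_iff {n : ℕ} [NeZero n] (g : Matrix.SpecialLinearGroup (Fin n) F) (k : ℕ) :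
    (QuotientGroup.mk' (Subgroup.center _) g : Matrix.ProjectiveSpecialLinearGroup (Fin n) F) ^ k = 1 ↔
      ∃ c : F, (g : Matrix (Fin n) (Fin n) F) ^ k = c • 1 := by
  rw [← map_pow, QuotientGroup.mk'_apply, QuotientGroup.eq_one_iff,
    Matrix.SpecialLinearGroup.mem_center_iff, ← Matrix.SpecialLinearGroup.coe_pow]
  constructor
  · rintro ⟨c, _, hc⟩
    exact ⟨c, by rw [← hc, Matrix.scalar_apply, Matrix.smul_one_eq_diagonal]⟩
  · rintro ⟨c, hc⟩
    refine ⟨c, ?_, by rw [hc, Matrix.scalar_apply, Matrix.smul_one_eq_diagonal]⟩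
    have := (g ^ k).2
    rw [hc, det_smul, det_one, mul_one] at this
    exact this

/-- A scalar is `1` as soon as some positive unipotent power of it is `1`. -/
theorem eq_one_of_pow_char_pow (p e : ℕ) [Fact p.Prime] [CharP F p] {c : F} (h : c ^ p ^ e = 1) :
    c = 1 := by
  have : (c - 1) ^ p ^ e = 0 := by rw [sub_pow_char_pow, h, one_pow, sub_self]
  exact sub_eq_zero.1 (pow_eq_zero_iff (pow_ne_zero _ (Fact.out : p.Prime).ne_zero) |>.1 this)

variable [Fintype F]

/-- The index `(q ^ d - 1) / (q - 1)`. -/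
def normIndex (q d : ℕ) : ℕ := (q ^ d - 1) / (q - 1)

theorem normIndex_mul (q d : ℕ) : normIndex q d * (q - 1) = q ^ d - 1 :=
  Nat.div_mul_cancel (Nat.sub_one_dvd_pow_sub_one q d)

theorem normIndex_coprime (p : ℕ) [Fact p.Prime] [CharP F p] {d : ℕ} (hd : 0 < d) :
    Nat.Coprime (normIndex (Fintype.card F) d) p := by
  refine Nat.Coprime.coprime_dvd_left ⟨_, (normIndex_mul _ _).symm⟩ ?_
  rw [Nat.coprime_comm, (Fact.out : p.Prime).coprime_iff_not_dvd]
  intro h
  have hq : p ∣ Fintype.card F ^ d := dvd_pow (by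
    rw [← CharP.cast_eq_zero_iff F p]; exact Nat.cast_card_eq_zero F) hd.ne'
  have := Nat.dvd_sub hq h
  rw [Nat.sub_sub_self (Nat.one_le_pow _ _ Fintype.card_pos), Nat.dvd_one] at this
  exact (Fact.out : p.Prime).ne_one this

theorem exists_algebraMap_eq_of_pow_card_sub_one {K : Type*} [Field K] [Algebra F K] {y : K}
    (hy : y ^ (Fintype.card F - 1) = 1) : ∃ c : F, algebraMap F K c = y := by
  classical
  have hq : 1 < Fintype.card F := Fintype.one_lt_card
  have hne : (X ^ Fintype.card F - X : K[X]) ≠ 0 := FiniteField.X_pow_card_sub_X_ne_zero K hq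
  have hsub : Finset.univ.image (algebraMap F K) ⊆ (X ^ Fintype.card F - X : K[X]).roots.toFinset := by
    intro x hx
    obtain ⟨c, -, rfl⟩ := Finset.mem_image.1 hx
    simp [hne, ← map_pow, FiniteField.pow_card]
  have hcard : (X ^ Fintype.card F - X : K[X]).roots.toFinset.card ≤
      (Finset.univ.image (algebraMap F K)).card := by
    rw [Finset.card_image_of_injective _ (algebraMap F K).injective, Finset.card_univ]
    refine (Multiset.toFinset_card_le _).trans ((card_roots' _).trans ?_)
    rw [FiniteField.X_pow_card_sub_X_natDegree_eq K hq]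
  have hy' : y ∈ (X ^ Fintype.card F - X : K[X]).roots.toFinset := by
    have : y ^ Fintype.card F = y := by
      rw [← Nat.sub_add_cancel hq.le, pow_succ, hy, one_mul]
    simp [hne, this]
  rw [← Finset.eq_of_subset_of_card_le hsub hcard] at hy'
  obtain ⟨c, -, hc⟩ := Finset.mem_image.1 hy'
  exact ⟨c, hc⟩

/-- If the minimal polynomial divides `f ^ m` and a power of the root of `f` lies in `F`, then the corresponding
power of the matrix is scalar, up to a unipotent exponent. -/
theorem exists_pow_eq_scalar {ι : Type*} [Fintype ι] [DecidableEq ι] (p : ℕ) [Fact p.Prime] [CharP F p]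
    (A : Matrix ι ι F) {f : F[X]} (hf : Irreducible f) {m e L : ℕ} (hm : m ≤ p ^ e)
    (hA : minpoly F A ∣ f ^ m)
    (hL : (AdjoinRoot.root f) ^ (L * (Fintype.card F - 1)) = 1) :
    ∃ c : F, A ^ (L * p ^ e) = c • 1 := by
  have := Fact.mk hf
  obtain ⟨c, hc⟩ := exists_algebraMap_eq_of_pow_card_sub_one (F := F) (K := AdjoinRoot f)
    (y := AdjoinRoot.root f ^ L) (by rw [← pow_mul, hL])
  have h1 : f ∣ X ^ L - C c := by
    rw [← AdjoinRoot.mk_eq_zero, map_sub, map_pow, AdjoinRoot.mk_X, AdjoinRoot.mk_C, ← hc, sub_eq_zero]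
    rfl
  have h2 : minpoly F A ∣ X ^ (L * p ^ e) - C (c ^ p ^ e) := by
    refine hA.trans (((pow_dvd_pow_of_dvd h1 m).trans (pow_dvd_pow _ hm)).trans ?_)
    rw [sub_pow_char_pow, ← pow_mul, ← map_pow]
  obtain ⟨u, hu⟩ := h2
  have h3 := congrArg (aeval A) hu
  rw [map_mul, minpoly.aeval, zero_mul, map_sub, map_pow, aeval_X, aeval_C, sub_eq_zero] at h3
  exact ⟨c ^ p ^ e, by rw [h3, Algebra.algebraMap_eq_smul_one]⟩

theorem root_ne_zero_of_dvd_charpoly {ι : Type*} [Fintype ι] [DecidableEq ι] (A : GL ι F) {f : F[X]}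
    (hf : Irreducible f) (h : f ∣ (A : Matrix ι ι F).charpoly) : AdjoinRoot.root f ≠ 0 := fun h0 =>
  not_dvd_X_of_dvd_charpoly A hf h (AdjoinRoot.mk_eq_zero.1 (by rw [AdjoinRoot.mk_X, h0]))

theorem natCard_adjoinRoot {f : F[X]} (hf : f.Monic) :
    Nat.card (AdjoinRoot f) = Fintype.card F ^ f.natDegree := by
  have := Module.Finite.of_basis (AdjoinRoot.powerBasis' hf).basis
  rw [Module.natCard_eq_pow_finrank (K := F), Fintype.card_eq_nat_card, (AdjoinRoot.powerBasis' hf).finrank]
  rfl

/-- The root of a monic irreducible `f ≠ X` has order dividing `q ^ deg f - 1`. -/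
theorem root_pow_normIndex_mul {f : F[X]} (hm : f.Monic) (hf : Irreducible f)
    (h0 : AdjoinRoot.root f ≠ 0) :
    AdjoinRoot.root f ^ (normIndex (Fintype.card F) f.natDegree * (Fintype.card F - 1)) = 1 := by
  have := Fact.mk hf
  have : Finite (AdjoinRoot f) :=
    Nat.finite_of_card_ne_zero (by rw [natCard_adjoinRoot hm]; exact pow_ne_zero _ Fintype.card_ne_zero)
  have := Fintype.ofFinite (AdjoinRoot f)
  rw [normIndex_mul, ← natCard_adjoinRoot hm, ← Fintype.card_eq_nat_card]
  exact FiniteField.pow_card_sub_one_eq_one _ h0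

/-- If `det A = 1` and `f` of full degree is the minimal polynomial, the root has norm one. -/
theorem root_pow_normIndex_of_det {n : ℕ} (A : Matrix (Fin n) (Fin n) F) (hdet : A.det = 1) {f : F[X]}
    (hm : f.Monic) (hf : Irreducible f) (hn : f.natDegree = n) (hA : f ∣ A.charpoly) :
    AdjoinRoot.root f ^ normIndex (Fintype.card F) n = 1 := by
  have := Fact.mk hf
  have : Finite (AdjoinRoot f) :=
    Nat.finite_of_card_ne_zero (by rw [natCard_adjoinRoot hm]; exact pow_ne_zero _ Fintype.card_ne_zero)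
  have hc : f = A.charpoly := (eq_of_monic_of_dvd_of_natDegree_le hm (Matrix.charpoly_monic A) hA
    (by rw [Matrix.charpoly_natDegree_eq_dim, hn, Fintype.card_fin])).symm
  have h1 : Algebra.norm F (AdjoinRoot.root f) = 1 := by
    have := Algebra.PowerBasis.norm_gen_eq_coeff_zero_minpoly (AdjoinRoot.powerBasis hf.ne_zero)
    rw [AdjoinRoot.powerBasis_gen, AdjoinRoot.powerBasis_dim, AdjoinRoot.minpoly_root hf.ne_zero,
      hm.leadingCoeff, inv_one, map_one, mul_one, hn] at this
    rw [Matrix.det_eq_sign_charpoly_coeff, Fintype.card_fin] at hdet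
    rw [this, hc, hdet]
  have h2 := FiniteField.algebraMap_norm_eq_pow (K := F) (x := AdjoinRoot.root f)
  rw [h1, map_one, natCard_adjoinRoot hm, hn, ← Fintype.card_eq_nat_card] at h2
  exact h2.symm

/-- A determinant one matrix of order `(q ^ d - 1) / (q - 1)` coming from the norm one elements of the extension
of degree `d`, with scalar powers controlled. -/
theorem exists_norm_one_matrix (d : ℕ) (hd : 0 < d) :
    ∃ Z : Matrix (Fin d) (Fin d) F, Z.det = 1 ∧ (∀ k, Z ^ k = 1 ↔ normIndex (Fintype.card F) d ∣ k) ∧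
      ∀ k (c : F), Z ^ k = c • 1 → normIndex (Fintype.card F) d ∣ k * (Fintype.card F - 1) := by
  obtain ⟨p, hp⟩ := CharP.exists F
  have : Fact p.Prime := ⟨CharP.char_is_prime F p⟩
  have : NeZero d := ⟨hd.ne'⟩
  let E := FiniteField.Extension F p d
  let b : Module.Basis (Fin d) F E := Module.finBasisOfFinrankEq F E (FiniteField.finrank_extension F p d)
  obtain ⟨g, hg⟩ := IsCyclic.exists_ofOrder_eq_natCard (α := Eˣ)
  rw [Nat.card_units, FiniteField.natCard_extension, ← Fintype.card_eq_nat_card] at hg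
  have hq : 0 < Fintype.card F - 1 := by have := Fintype.one_lt_card (α := F); omega
  set z : Eˣ := g ^ (Fintype.card F - 1) with hz
  have hord : orderOf (z : E) = normIndex (Fintype.card F) d := by
    rw [orderOf_units, hz, orderOf_pow' _ hq.ne', hg, ← normIndex_mul (Fintype.card F) d,
      Nat.gcd_mul_left_left, Nat.mul_div_cancel _ hq]
  have hinj := Algebra.leftMulMatrix_injective b
  refine ⟨Algebra.leftMulMatrix b z, ?_, fun k => ?_, fun k c hk => ?_⟩
  · rw [← Algebra.norm_eq_matrix_det]
    apply (algebraMap F E).injective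
    rw [FiniteField.algebraMap_norm_eq_pow, map_one, FiniteField.natCard_extension, ← Fintype.card_eq_nat_card]
    rw [show (Fintype.card F ^ d - 1) / (Fintype.card F - 1) = normIndex (Fintype.card F) d from rfl, ← hord,
      pow_orderOf_eq_one]
  · rw [← map_pow, map_eq_one_iff _ hinj, ← orderOf_dvd_iff_pow_eq_one, hord]
  · rw [← map_pow, ← map_one (Algebra.leftMulMatrix b), ← map_smul] at hk
    rw [← hord, orderOf_dvd_iff_pow_eq_one, pow_mul, hinj hk, _root_.smul_pow, one_pow,
      FiniteField.pow_card_sub_one_eq_one, one_smul]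
    rintro rfl
    have := hinj hk
    rw [zero_smul] at this
    exact pow_ne_zero k (Units.ne_zero z) this

/-- Two-block matrices as a monoid hom. -/
def twoBlock {d₁ d₂ n : ℕ} (h : d₁ + d₂ = n) :
    Matrix (Fin d₁) (Fin d₁) F × Matrix (Fin d₂) (Fin d₂) F →* Matrix (Fin n) (Fin n) F where
  toFun A := Matrix.reindex (finSumFinEquiv.trans (finCongr h)) (finSumFinEquiv.trans (finCongr h))
    (Matrix.fromBlocks A.1 0 0 A.2)
  map_one' := by
    rw [Prod.fst_one, Prod.snd_one, Matrix.fromBlocks_one]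
    exact map_one (Matrix.reindexAlgEquiv F F (finSumFinEquiv.trans (finCongr h)))
  map_mul' A B := by
    simp only [← Matrix.coe_reindexAlgEquiv F F, ← map_mul, Matrix.fromBlocks_multiply,
      Matrix.mul_zero, Matrix.zero_mul, add_zero, zero_add, Prod.fst_mul, Prod.snd_mul]

omit [Fintype F] in
theorem det_twoBlock {d₁ d₂ n : ℕ} (h : d₁ + d₂ = n)
    (A : Matrix (Fin d₁) (Fin d₁) F × Matrix (Fin d₂) (Fin d₂) F) :
    (twoBlock h A).det = A.1.det * A.2.det := by
  change (Matrix.reindex _ _ (Matrix.fromBlocks A.1 0 0 A.2)).det = _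
  rw [Matrix.det_reindex_self, Matrix.det_fromBlocks_zero₂₁]

omit [Fintype F] in
theorem twoBlock_eq_smul_one {d₁ d₂ n : ℕ} (h : d₁ + d₂ = n)
    (A : Matrix (Fin d₁) (Fin d₁) F × Matrix (Fin d₂) (Fin d₂) F) (c : F) :
    twoBlock h A = c • 1 ↔ A.1 = c • 1 ∧ A.2 = c • 1 := by
  have e : (c • 1 : Matrix (Fin n) (Fin n) F) = twoBlock h (c • 1, c • 1) := by
    change _ = Matrix.reindex _ _ (Matrix.fromBlocks _ _ _ _)
    rw [show Matrix.fromBlocks (c • 1 : Matrix (Fin d₁) (Fin d₁) F) 0 0 (c • 1 : Matrix (Fin d₂) (Fin d₂) F) =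
      c • 1 by rw [← Matrix.fromBlocks_one, Matrix.fromBlocks_smul, smul_zero, smul_zero]]
    rw [← Matrix.coe_reindexAlgEquiv F F, map_smul, map_one]
  rw [e]
  constructor
  · intro hA
    obtain ⟨h1, -, -, h2⟩ := Matrix.fromBlocks_inj.1 ((Matrix.reindex _ _).injective hA)
    exact ⟨h1, h2⟩
  · rintro ⟨h1, h2⟩
    exact congrArg (twoBlock h) (Prod.ext h1 h2)

omit [Fintype F] in
/-- Along a proper coprime factorisation of the minimal polynomial: a commuting matrix acting by `a` and `b` on
two complementary nonzero subspaces. -/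
theorem exists_commute_of_coprime {n : ℕ} (A : Matrix (Fin n) (Fin n) F) {P Q : F[X]} (hPQ : IsCoprime P Q)
    (hmin : minpoly F A = P * Q) (hP : ¬ IsUnit P) (hQ : ¬ IsUnit Q) :
    ∃ d₁ d₂ : ℕ, 0 < d₁ ∧ 0 < d₂ ∧ d₁ + d₂ = n ∧ ∀ a b : F, ∃ R : Matrix (Fin n) (Fin n) F,
      R * A = A * R ∧ R.det = a ^ d₁ * b ^ d₂ ∧ (∀ c : F, R = c • 1 → a = c ∧ b = c) ∧
      ∀ k : ℕ, a ^ k = 1 → b ^ k = 1 → R ^ k = 1 := by
  set f := Matrix.toLin' A with hf
  have hminf : minpoly F f = P * Q := by rw [hf, Matrix.minpoly_toLin', hmin]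
  set W₁ := LinearMap.ker (aeval f P)
  set W₂ := LinearMap.ker (aeval f Q)
  have hc : IsCompl W₁ W₂ := by
    refine ⟨disjoint_ker_aeval_of_isCoprime f hPQ, codisjoint_iff.2 ?_⟩
    rw [sup_ker_aeval_eq_ker_aeval_mul_of_coprime f hPQ, ← hminf, minpoly.aeval, LinearMap.ker_zero]
  have hne : ∀ P' Q' : F[X], minpoly F f = P' * Q' → ¬ IsUnit P' → LinearMap.ker (aeval f P') ≠ ⊥ := by
    intro P' Q' he hP' hker
    have hz : aeval f Q' = 0 := by
      refine LinearMap.ext fun v => ?_
      have : aeval f P' (aeval f Q' v) = 0 := by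
        rw [← Module.End.mul_apply, ← map_mul, ← he, minpoly.aeval, LinearMap.zero_apply]
      have := LinearMap.ker_eq_bot.1 hker (this.trans (map_zero _).symm)
      simpa using this
    have hne0 : minpoly F f ≠ 0 := minpoly.ne_zero (Algebra.IsIntegral.isIntegral f)
    have hd := minpoly.dvd F f hz
    rw [he] at hne0 hd
    obtain ⟨u, hu⟩ := hd
    exact hP' (IsUnit.of_mul_eq_one u (mul_left_cancel₀ (right_ne_zero_of_mul hne0)
      (by linear_combination -hu)))
  set e := Submodule.prodEquivOfIsCompl W₁ W₂ hc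
  refine ⟨Module.finrank F W₁, Module.finrank F W₂, ?_, ?_, ?_, fun a b => ?_⟩
  · exact Nat.pos_of_ne_zero fun h => hne P Q hminf hP (Submodule.finrank_eq_zero.1 h)
  · exact Nat.pos_of_ne_zero fun h => hne Q P (hminf.trans (mul_comm P Q)) hQ (Submodule.finrank_eq_zero.1 h)
  · rw [← Module.finrank_prod, e.finrank_eq, Module.finrank_fin_fun]
  · let r : Module.End F (W₁ × W₂) := LinearMap.prodMap (a • LinearMap.id) (b • LinearMap.id)
    let R : Module.End F (Fin n → F) := e.toLinearMap ∘ₗ r ∘ₗ e.symm.toLinearMap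
    have hR : ∀ (x : W₁) (y : W₂), R ((x : Fin n → F) + y) = a • (x : Fin n → F) + b • (y : Fin n → F) := by
      intro x y
      have : e.symm ((x : Fin n → F) + y) = (x, y) := e.symm_apply_eq.2 rfl
      simp only [R, LinearMap.comp_apply, LinearEquiv.coe_coe, this]
      rfl
    refine ⟨LinearMap.toMatrix' R, ?_, ?_, ?_, ?_⟩
    · apply Matrix.toLin'.injective
      rw [Matrix.toLin'_mul, Matrix.toLin'_mul, Matrix.toLin'_toMatrix', ← hf]
      refine LinearMap.ext fun v => ?_
      obtain ⟨⟨x, y⟩, rfl⟩ := e.surjective v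
      have key : ∀ (P' : F[X]) (w : Fin n → F), w ∈ LinearMap.ker (aeval f P') →
          f w ∈ LinearMap.ker (aeval f P') := by
        intro P' w hw
        rw [LinearMap.mem_ker] at hw ⊢
        have hcomm : aeval f P' * f = f * aeval f P' := by
          conv_lhs => arg 2; rw [← aeval_X (R := F) f]
          rw [← map_mul, mul_comm, map_mul, aeval_X]
        rw [← Module.End.mul_apply, hcomm, Module.End.mul_apply, hw, map_zero]
      change R (f ((x : Fin n → F) + y)) = f (R ((x : Fin n → F) + y))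
      rw [map_add, hR ⟨f x, key P x x.2⟩ ⟨f y, key Q y y.2⟩, hR x y, map_add, map_smul, map_smul]
    · rw [LinearMap.det_toMatrix', LinearMap.det_conj r e, LinearMap.det_prodMap, LinearMap.det_smul,
        LinearMap.det_id, mul_one, LinearMap.det_smul, LinearMap.det_id, mul_one]
    · intro c hc'
      have hcR : R = c • LinearMap.id := by
        apply LinearMap.toMatrix'.injective
        rw [hc', map_smul, LinearMap.toMatrix'_id]
      constructor
      · obtain ⟨x, hx, hx0⟩ := Submodule.exists_mem_ne_zero_of_ne_bot (hne P Q hminf hP)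
        have := hR ⟨x, hx⟩ 0
        rw [hcR] at this
        simp only [ZeroMemClass.coe_zero, add_zero, smul_zero, LinearMap.smul_apply, LinearMap.id_coe,
          id_eq] at this
        exact (smul_left_injective F hx0 this).symm
      · obtain ⟨x, hx, hx0⟩ := Submodule.exists_mem_ne_zero_of_ne_bot
          (hne Q P (hminf.trans (mul_comm P Q)) hQ)
        have := hR 0 ⟨x, hx⟩
        rw [hcR] at this
        simp only [ZeroMemClass.coe_zero, zero_add, smul_zero, LinearMap.smul_apply, LinearMap.id_coe,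
          id_eq] at this
        exact (smul_left_injective F hx0 this).symm
    · intro k ha hb
      apply Matrix.toLinAlgEquiv'.injective
      rw [map_pow, map_one]
      change (Matrix.toLin' (LinearMap.toMatrix' R)) ^ k = 1
      rw [Matrix.toLin'_toMatrix']
      refine LinearMap.ext fun v => ?_
      obtain ⟨⟨x, y⟩, rfl⟩ := e.surjective v
      have hk : ∀ j, (R ^ j) ((x : Fin n → F) + y) = a ^ j • (x : Fin n → F) + b ^ j • (y : Fin n → F) := by
        intro j
        induction j with
        | zero => simp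
        | succ j ih =>
          rw [pow_succ', Module.End.mul_apply, ih,
            show a ^ j • (x : Fin n → F) = ((a ^ j • x : W₁) : Fin n → F) from rfl,
            show b ^ j • (y : Fin n → F) = ((b ^ j • y : W₂) : Fin n → F) from rfl, hR]
          simp [smul_smul, pow_succ']
      change (R ^ k) ((x : Fin n → F) + y) = _
      rw [hk, ha, hb, one_smul, one_smul]
      rfl

end Cfsg.Agent.GL
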