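import Cfsg.Agent.Lib.GL.TorusCriterion
import Cfsg.Agent.Lib.Forms.Symp

/-!
Products of two primes as element orders of `PSp(2n, q)`: necessity and sufficiency of `PrimeCrit`.
-/

set_option autoImplicit false

open Matrix Polynomial

namespace Cfsg.Agent.GL

variable {F : Type*} [Field F] {n : ℕ}

/-- An element of the symplectic group from an isometry. -/
def spOfPreserves (A : Matrix (Fin n ⊕ Fin n) (Fin n ⊕ Fin n) F) (h : Preserves (sympForm n F) A) :
    Matrix.symplecticGroup (Fin n) F :=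
  ⟨A, mem_symplectic_iff_preserves.2 h⟩

theorem psp_mk_pow_eq_one_iff (g : Matrix.symplecticGroup (Fin n) F) (k : ℕ) :
    (QuotientGroup.mk' (Subgroup.center _) g : Cfsg.PSp n F) ^ k = 1 ↔
      ∃ c : F, (g : Matrix (Fin n ⊕ Fin n) (Fin n ⊕ Fin n) F) ^ k = c • 1 := by
  rw [← map_pow, QuotientGroup.mk'_apply, QuotientGroup.eq_one_iff, ← SubmonoidClass.coe_pow]
  constructor
  · exact symp_center_scalar _
  · rintro ⟨c, hc⟩
    refine Subgroup.mem_center_iff.2 fun x => Subtype.ext ?_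
    simp only [Submonoid.coe_mul, Subgroup.coe_mul]
    rw [hc]
    simp

theorem preserves_one {ι : Type*} [Fintype ι] [DecidableEq ι] (h : (ι → F) → (ι → F) → F) : Preserves h 1 :=
  fun u v => by rw [Matrix.one_mulVec, Matrix.one_mulVec]

/-- Two commuting blocks, padded by the identity. -/
theorem exists_dvd_orderOf_blocks (d₁ d₂ : ℕ) (hd : d₁ + d₂ ≤ n) {k : ℕ}
    (A₁ : Matrix (Fin d₁ ⊕ Fin d₁) (Fin d₁ ⊕ Fin d₁) F) (A₂ : Matrix (Fin d₂ ⊕ Fin d₂) (Fin d₂ ⊕ Fin d₂) F)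
    (h₁ : Preserves (sympForm d₁ F) A₁) (h₂ : Preserves (sympForm d₂ F) A₂) (hn : 0 < n)
    (hk : ∀ N (c : F), c * c = 1 → A₁ ^ N = c • 1 → A₂ ^ N = c • 1 → k ∣ N) :
    ∃ x : Cfsg.PSp n F, k ∣ orderOf x := by
  set g := spOfPreserves (sympBlock (show (d₁ + d₂) + (n - (d₁ + d₂)) = n by omega) (sympBlock rfl (A₁, A₂), 1))
    (preserves_sympBlock _ (preserves_sympBlock _ h₁ h₂) (preserves_one _)) with hg
  refine ⟨QuotientGroup.mk' (Subgroup.center _) g, ?_⟩
  obtain ⟨c, hc⟩ := (psp_mk_pow_eq_one_iff g _).1 (pow_orderOf_eq_one (QuotientGroup.mk' (Subgroup.center _) g))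
  set N := orderOf (QuotientGroup.mk' (Subgroup.center (Matrix.symplecticGroup (Fin n) F)) g)
  have hsq : c * c = 1 := symp_scalar_sq hn (hc ▸ (show Preserves (sympForm n F) _ from
    (mem_symplectic_iff_preserves.1 g.2).pow N))
  have hc' : sympBlock (show (d₁ + d₂) + (n - (d₁ + d₂)) = n by omega) (sympBlock rfl (A₁, A₂), 1) ^ N =
      c • 1 := hc
  rw [← map_pow, sympBlock_eq_smul_one] at hc'
  have h3 := hc'.1
  rw [Prod.pow_fst, ← map_pow, sympBlock_eq_smul_one] at h3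
  exact hk N c hsq h3.1 h3.2

variable [Fintype F]

theorem torusExp_dvd {d : ℕ} (hd : 0 < d) (b : Bool) :
    ∃ Z : Matrix (Fin d ⊕ Fin d) (Fin d ⊕ Fin d) F, Preserves (sympForm d F) Z ∧
      ∀ N (c : F), c * c = 1 → Z ^ N = c • 1 → torusExp (Fintype.card F) d b ∣ N := by
  set q := Fintype.card F with hq
  obtain ⟨T, hT, Z, hZ, hZ1, hZ2⟩ : ∃ T, T = (if b then q ^ d + 1 else q ^ d - 1) ∧
      ∃ Z : Matrix (Fin d ⊕ Fin d) (Fin d ⊕ Fin d) F, Preserves (sympForm d F) Z ∧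
        (∀ k, Z ^ k = 1 ↔ T ∣ k) ∧ ∀ k (c : F), Z ^ k = c • 1 → c * c = 1 → T ∣ k * 2 := by
    cases b
    · exact ⟨_, rfl, by simpa using exists_split_torus_symp (F := F) hd⟩
    · exact ⟨_, rfl, by simpa using exists_nonsplit_torus_symp_any (F := F) hd⟩
  refine ⟨Z, hZ, fun N c hc hN => ?_⟩
  have hw : Nat.gcd 2 (q - 1) = 1 ∨ Nat.gcd 2 (q - 1) = 2 :=
    Nat.prime_two.eq_one_or_self_of_dvd _ (Nat.gcd_dvd_left _ _)
  unfold torusExp
  rw [← hT]
  rcases hw with h | h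
  · -- characteristic two: the scalar is trivial
    rw [h, Nat.div_one]
    have he : Even q := by
      rcases Nat.even_or_odd q with he | ho
      · exact he
      · rw [Nat.gcd_eq_left (Nat.Odd.sub_odd ho odd_one).two_dvd] at h
        omega
    have : ringChar F = 2 := by
      obtain ⟨a, ha⟩ := FiniteField.card F (ringChar F)
      have := (Nat.even_pow.1 (ha.2 ▸ hq ▸ he : Even (ringChar F ^ (a : ℕ)))).1
      rwa [ha.1.even_iff] at this
    have : CharP F 2 := ringChar.of_eq this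
    have hc1 : c = 1 := CharTwo.sq_injective (show c ^ 2 = 1 ^ 2 by rw [sq, hc, one_pow])
    rw [hc1, one_smul] at hN
    exact (hZ1 N).1 hN
  · rw [h]
    obtain ⟨m, hm⟩ : 2 ∣ T := by
      have h2 : 2 ∣ q - 1 := h ▸ Nat.gcd_dvd_right 2 (q - 1)
      have ho : Odd q := by
        rw [Nat.odd_iff]
        have := Fintype.one_lt_card (α := F)
        omega
      subst hT
      cases b
      · exact (Nat.Odd.sub_odd ho.pow odd_one).two_dvd
      · exact (ho.pow.add_one).two_dvd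
    rw [hm, Nat.mul_div_cancel_left _ two_pos]
    have := hZ2 N c hN hc
    rw [hm, mul_comm N 2] at this
    exact (Nat.mul_dvd_mul_iff_left two_pos).1 this

variable (p : ℕ) [Fact p.Prime] [CharP F p]

include p in
/-- An element of order `p` in `Sp(2m, q)`, with no scalar power prime to `p`. -/
theorem exists_p_element {m : ℕ} (hm : 0 < m) :
    ∃ u : Matrix (Fin m ⊕ Fin m) (Fin m ⊕ Fin m) F, Preserves (sympForm m F) u ∧
      ∀ N (c : F), c * c = 1 → u ^ N = c • 1 → p ∣ N := by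
  have hp := (Fact.out : p.Prime)
  set v : Fin m ⊕ Fin m → F := Pi.single (Sum.inr ⟨0, hm⟩) 1 with hv
  set u : Matrix (Fin m ⊕ Fin m) (Fin m ⊕ Fin m) F := Cfsg.sympTransvection m v 1 with hu
  have hu0 : u ≠ 1 := by
    intro h
    have e := congrArg (fun M : Matrix (Fin m ⊕ Fin m) (Fin m ⊕ Fin m) F => M *ᵥ Pi.single (Sum.inl ⟨0, hm⟩) 1) h
    have e2 : sympForm m F (Pi.single (Sum.inl ⟨0, hm⟩) 1) v = -1 := by
      simp [hv, Forms.sympForm_eq_sum, Pi.single_apply]
    simp only [hu, ClassicalSimple.sympTransvection_mulVec, ClassicalSimple.sympBilin_apply, Matrix.one_mulVec,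
      e2, one_mul] at e
    have := congrFun (add_eq_left.1 e) (Sum.inr ⟨0, hm⟩)
    simp [hv] at this
  have hmem := mem_symplectic_iff_preserves.1 (ClassicalSimple.sympTransvection_mem v (1 : F))
  have hpow : ∀ k : ℕ, u ^ k = Cfsg.sympTransvection m v (k : F) := by
    intro k
    induction k with
    | zero =>
      refine Matrix.toLin'.injective (LinearMap.ext fun x => ?_)
      rw [Matrix.toLin'_apply, Matrix.toLin'_apply]
      simp [ClassicalSimple.sympTransvection_mulVec]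
    | succ k ih =>
      refine Matrix.toLin'.injective (LinearMap.ext fun x => ?_)
      rw [Matrix.toLin'_apply, Matrix.toLin'_apply]
      rw [pow_succ, ih, hu, ← Matrix.mulVec_mulVec]
      simp only [ClassicalSimple.sympTransvection_mulVec, ClassicalSimple.sympBilin_apply,
        (isReflexiveSesq_sympForm m).add_left, (isReflexiveSesq_sympForm m).smul_left, sympForm_self,
        mul_zero, add_zero, Nat.cast_succ, one_mul, add_mul, add_smul]
      abel
  have hup : u ^ p = 1 := by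
    rw [hpow, CharP.cast_eq_zero]
    refine Matrix.toLin'.injective (LinearMap.ext fun x => ?_)
    rw [Matrix.toLin'_apply, Matrix.toLin'_apply]
    simp [ClassicalSimple.sympTransvection_mulVec]
  refine ⟨u, hmem, fun N c hc hN => ?_⟩
  have hc1 : c = 1 := by
    apply eq_one_of_pow_char_pow p 1
    have : Nonempty (Fin m ⊕ Fin m) := ⟨Sum.inl ⟨0, hm⟩⟩
    have h1 : (c • (1 : Matrix (Fin m ⊕ Fin m) (Fin m ⊕ Fin m) F)) ^ p = 1 := by
      rw [← hN, pow_right_comm, hup, one_pow]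
    rw [_root_.smul_pow, one_pow] at h1
    simpa using congrFun (congrFun h1 (Sum.inl ⟨0, hm⟩)) (Sum.inl ⟨0, hm⟩)
  rw [hc1, one_smul, ← orderOf_dvd_iff_pow_eq_one] at hN
  rwa [orderOf_eq_prime hup hu0] at hN

include p in
/-- Sufficiency of the criterion. -/
theorem psp_of_crit {r s : ℕ} (hr : r.Prime) (hs : s.Prime) (hrs : r ≠ s)
    (h : PrimeCrit (Fintype.card F) n p r s) : r * s ∈ Set.range (orderOf : Cfsg.PSp n F → ℕ) := by
  have hco := (Nat.coprime_primes hr hs).2 hrs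
  suffices h : ∃ x : Cfsg.PSp n F, r * s ∣ orderOf x by
    obtain ⟨x, hx⟩ := h
    exact ⟨x ^ (orderOf x / (r * s)), orderOf_pow_orderOf_div (orderOf_pos x).ne' hx⟩
  rcases h with ⟨d, b, hd, hdn, hdv⟩ | ⟨d₁, b₁, d₂, b₂, h1, h2, h3, h4, h5⟩ | ⟨d, b, hd, hdn, hor⟩
  · obtain ⟨Z, hZ, hZN⟩ := torusExp_dvd (F := F) hd b
    exact exists_dvd_orderOf_blocks d 0 (by omega) Z 1 hZ (preserves_one _) (by omega)
      fun N c hc h1 _ => hdv.trans (hZN N c hc h1)
  · obtain ⟨Z₁, hZ₁, hN₁⟩ := torusExp_dvd (F := F) h1 b₁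
    obtain ⟨Z₂, hZ₂, hN₂⟩ := torusExp_dvd (F := F) h2 b₂
    exact exists_dvd_orderOf_blocks d₁ d₂ h3 Z₁ Z₂ hZ₁ hZ₂ (by omega)
      fun N c hc e1 e2 => hco.mul_dvd_of_dvd_of_dvd (h4.trans (hN₁ N c hc e1)) (h5.trans (hN₂ N c hc e2))
  · obtain ⟨Z, hZ, hN₁⟩ := torusExp_dvd (F := F) hd b
    obtain ⟨u, hu, hN₂⟩ := exists_p_element (F := F) p (show 0 < n - d by omega)
    refine exists_dvd_orderOf_blocks d (n - d) (by omega) Z u hZ hu (by omega)
      fun N c hc e1 e2 => ?_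
    rcases hor with ⟨rfl, h4⟩ | ⟨rfl, h4⟩
    · exact hco.mul_dvd_of_dvd_of_dvd (h4.trans (hN₁ N c hc e1)) (hN₂ N c hc e2)
    · exact hco.mul_dvd_of_dvd_of_dvd (hN₂ N c hc e2) (h4.trans (hN₁ N c hc e1))

include p in
/-- Necessity of the criterion. -/
theorem crit_of_psp (hn : 2 ≤ n) {r s : ℕ} (hr : r.Prime) (hs : s.Prime) (hrs : r ≠ s)
    (h : r * s ∈ Set.range (orderOf : Cfsg.PSp n F → ℕ)) : PrimeCrit (Fintype.card F) n p r s := by
  obtain ⟨x, hx⟩ := h
  obtain ⟨g, rfl⟩ := QuotientGroup.mk'_surjective _ x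
  set A : Matrix (Fin n ⊕ Fin n) (Fin n ⊕ Fin n) F :=
    (g : Matrix (Fin n ⊕ Fin n) (Fin n ⊕ Fin n) F) with hA
  have hpres : Preserves (sympForm n F) A := mem_symplectic_iff_preserves.1 g.2
  have hh := isReflexiveSesq_sympForm (F := F) n
  have hcard : Fintype.card (Fin n ⊕ Fin n) = 2 * n := by simp [two_mul]
  have hdvd : ∀ k, (∃ c : F, A ^ k = c • 1) → r * s ∣ k := fun k hk =>
    hx ▸ orderOf_dvd_of_pow_eq_one ((psp_mk_pow_eq_one_iff g k).2 hk)
  obtain ⟨c, hc⟩ := (psp_mk_pow_eq_one_iff g (r * s)).1 (hx ▸ pow_orderOf_eq_one _)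
  have hcc : c * c = 1 := symp_scalar_sq (by omega) (hc ▸ hpres.pow _)
  set w := Nat.gcd 2 (Fintype.card F - 1) with hw
  have hcw : c ^ w = 1 := by
    rcases Nat.prime_two.eq_one_or_self_of_dvd _ (Nat.gcd_dvd_left 2 (Fintype.card F - 1)) with h | h
    · have hc1 : c ^ (Fintype.card F - 1) = 1 := FiniteField.pow_card_sub_one_eq_one c (left_ne_zero_of_mul_eq_one hcc)
      have := pow_gcd_eq_one.2 ⟨show c ^ 2 = 1 by rw [sq, hcc], hc1⟩
      rwa [hw]
    · rw [hw, h, sq, hcc]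
  have hpow : A ^ (w * (r * s)) = 1 := by
    rw [mul_comm, pow_mul, hc, _root_.smul_pow, one_pow, hcw, one_smul]
  rcases crit_or_pow_eq_one p hh hpres hn (hcard ▸ Nat.le_succ _) hr hs hrs hw hpow with h | h | h
  · exact h
  all_goals
    have hdv := hdvd _ ⟨1, by rw [h, one_smul]⟩
  · exact residual hn hr hs hrs hw hdvd h hdv hpres
  · exact (residual hn hs hr hrs.symm hw (fun k hk => mul_comm r s ▸ hdvd k hk) h (mul_comm r s ▸ hdv) hpres).symm
where
  /-- The case `A ^ (w * r) = 1`: then `s = 2` and the characteristic is odd. -/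
  residual {A : Matrix (Fin n ⊕ Fin n) (Fin n ⊕ Fin n) F} (hn : 2 ≤ n) {r s : ℕ} (hr : r.Prime) (hs : s.Prime)
      (hrs : r ≠ s) {w : ℕ} (hw : w = Nat.gcd 2 (Fintype.card F - 1))
      (hdvd : ∀ k, (∃ c : F, A ^ k = c • 1) → r * s ∣ k) (h : A ^ (w * r) = 1) (hdv : r * s ∣ w * r)
      (hpres : Preserves (sympForm n F) A) : PrimeCrit (Fintype.card F) n p r s := by
    rw [mul_comm w r] at hdv
    have hsw : s ∣ w := (Nat.mul_dvd_mul_iff_left hr.pos).1 hdv
    have hs2 : s = 2 := (Nat.prime_dvd_prime_iff_eq hs Nat.prime_two).1 (hsw.trans (hw ▸ Nat.gcd_dvd_left _ _))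
    subst hs2
    have hw2 : w = 2 := Nat.dvd_antisymm (hw ▸ Nat.gcd_dvd_left _ _) hsw
    have hodd : Odd (Fintype.card F) := by
      rw [Nat.odd_iff]
      have h2 := hsw.trans (hw ▸ Nat.gcd_dvd_right _ _)
      have := Fintype.one_lt_card (α := F)
      omega
    rw [hw2] at h
    have hcard : Fintype.card (Fin n ⊕ Fin n) = 2 * n := by simp [two_mul]
    have hne : A ^ 2 ≠ 1 := fun h2 => by
      have := Nat.le_of_dvd two_pos (hdvd 2 ⟨1, by rw [h2, one_smul]⟩)
      have := hr.two_le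
      omega
    rcases crit_two_or_orbit p (isReflexiveSesq_sympForm n) hpres hn (hcard ▸ Nat.le_succ _) hodd hr hrs h hne with
      h' | ⟨P, b, c, -, hPμ, hPd, -, -, hPc, -, -⟩
    · exact h'
    exfalso
    have hμP : minpoly F A ∣ X ^ r - C c := by
      refine (dvd_trans ?_ hPc)
      obtain ⟨u, hu⟩ := hPμ
      have hμ0 : minpoly F A ≠ 0 := minpoly.ne_zero (Algebra.IsIntegral.isIntegral A)
      have hu0 : u ≠ 0 := fun h0 => hμ0 (by rw [hu, h0, mul_zero])
      have hP0 : P ≠ 0 := fun h0 => hμ0 (by rw [hu, h0, zero_mul])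
      have hdeg := (natDegree_le_of_dvd (Matrix.minpoly_dvd_charpoly A) (Matrix.charpoly_monic A).ne_zero).trans
        (Matrix.charpoly_natDegree_eq_dim A).le
      rw [hu, natDegree_mul hP0 hu0, hPd, hcard] at hdeg
      rw [hu]
      exact (IsUnit.mul_right_dvd (isUnit_iff_degree_eq_zero.2
        (by rw [degree_eq_natDegree hu0, show u.natDegree = 0 by omega]; rfl))).2 dvd_rfl
    rw [minpoly.dvd_iff, map_sub, map_pow, aeval_X, aeval_C, sub_eq_zero, Algebra.algebraMap_eq_smul_one] at hμP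
    have := Nat.le_of_dvd hr.pos (hdvd r ⟨c, hμP⟩)
    have := hr.two_le
    omega

end Cfsg.Agent.GL
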