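import Mathlib
import Cfsg.Prelude.Def_ClassicalGeometry

/-!
# Maximal parabolic subgroups of `GL_n`

Stabiliser of the span of the first `k` coordinate vectors: membership as a block condition,
order, invariant subspaces, maximality.
-/

set_option autoImplicit false

namespace Cfsg.Agent.GL.Parabolic

open Matrix

variable {F : Type*} [Field F] {n : ℕ}

/-- The span of the first `k` coordinate vectors. -/
def coordSub (F : Type*) [Field F] (n k : ℕ) : Submodule F (Fin n → F) where
  carrier := {v | ∀ i : Fin n, k ≤ (i : ℕ) → v i = 0}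
  add_mem' := fun {u v} hu hv i hi => by simp [hu i hi, hv i hi]
  zero_mem' := fun i _ => rfl
  smul_mem' := fun c v hv i hi => by simp [hv i hi]

theorem mem_coordSub {k : ℕ} {v : Fin n → F} :
    v ∈ coordSub F n k ↔ ∀ i : Fin n, k ≤ (i : ℕ) → v i = 0 := Iff.rfl

/-- The parabolic subgroup. -/
abbrev parabolic (F : Type*) [Field F] (n k : ℕ) : Subgroup (Matrix.GeneralLinearGroup (Fin n) F) :=
  Cfsg.stabilizing (Cfsg.glToMat (Fin n) F) {v : Fin n → F | ∀ i : Fin n, k ≤ (i : ℕ) → v i = 0}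

/-- `g` lies in the parabolic iff its lower left block vanishes. -/
theorem mem_parabolic_iff {k : ℕ} (g : Matrix.GeneralLinearGroup (Fin n) F) :
    g ∈ parabolic F n k ↔
      ∀ i j : Fin n, k ≤ (i : ℕ) → (j : ℕ) < k → (g : Matrix (Fin n) (Fin n) F) i j = 0 := by
  constructor
  · intro h i j hi hj
    have h1 := (h (Pi.single j 1)).1
      (fun l hl => Pi.single_eq_of_ne (fun e => by subst e; omega) 1) i hi
    simpa using h1
  · intro h
    have hmap : ∀ v, v ∈ coordSub F n k → (g : Matrix (Fin n) (Fin n) F) *ᵥ v ∈ coordSub F n k := by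
      intro v hv i hi
      show ∑ j, (g : Matrix (Fin n) (Fin n) F) i j * v j = 0
      refine Finset.sum_eq_zero fun j _ => ?_
      rcases lt_or_ge (j : ℕ) k with hj | hj
      · simp [h i j hi hj]
      · simp [hv j hj]
    have hinj : Function.Injective (Matrix.mulVec (g : Matrix (Fin n) (Fin n) F)) := by
      intro u v huv
      have h1 := congrArg (fun x => ((g⁻¹ : Matrix.GeneralLinearGroup (Fin n) F) : Matrix (Fin n) (Fin n) F) *ᵥ x) huv
      simpa only [Matrix.mulVec_mulVec, ← Units.val_mul, inv_mul_cancel, Units.val_one, Matrix.one_mulVec] using h1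
    let f : coordSub F n k →ₗ[F] coordSub F n k :=
      ((g : Matrix (Fin n) (Fin n) F).mulVecLin).restrict hmap
    have hf : Function.Injective f := fun u v huv =>
      Subtype.ext (hinj (congrArg Subtype.val huv))
    have hs := LinearMap.injective_iff_surjective.1 hf
    intro v
    refine ⟨fun hv => hmap v hv, fun hv => ?_⟩
    obtain ⟨w, hw⟩ := hs ⟨_, hv⟩
    have : (g : Matrix (Fin n) (Fin n) F) *ᵥ (w : Fin n → F) = (g : Matrix (Fin n) (Fin n) F) *ᵥ v :=
      congrArg Subtype.val hw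
    exact hinj this ▸ w.2

/-- Order of the maximal parabolic. -/
theorem card_parabolic [Fintype F] {k : ℕ} (hk : k ≤ n) :
    Nat.card (parabolic F n k) = Fintype.card F ^ (k * (n - k)) *
      (∏ i : Fin k, (Fintype.card F ^ k - Fintype.card F ^ (i : ℕ))) *
      ∏ i : Fin (n - k), (Fintype.card F ^ (n - k) - Fintype.card F ^ (i : ℕ)) := by
  classical
  obtain ⟨l, rfl⟩ := Nat.exists_eq_add_of_le hk
  simp only [Nat.add_sub_cancel_left]
  let e : Fin k ⊕ Fin l ≃ Fin (k + l) := finSumFinEquiv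
  let φ : (GeneralLinearGroup (Fin k) F × GeneralLinearGroup (Fin l) F) × Matrix (Fin k) (Fin l) F →
      Matrix (Fin (k + l)) (Fin (k + l)) F :=
    fun x => reindex e e (fromBlocks x.1.1.1 x.2 0 x.1.2.1)
  have hdet : ∀ x, IsUnit (φ x).det := by
    intro x
    simp only [φ, det_reindex_self, det_fromBlocks_zero₂₁]
    exact ((isUnit_iff_isUnit_det _).1 x.1.1.isUnit).mul ((isUnit_iff_isUnit_det _).1 x.1.2.isUnit)
  have hφ : ∀ x, GeneralLinearGroup.mk'' (φ x) (hdet x) ∈ parabolic F (k + l) k := by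
    intro x
    rw [mem_parabolic_iff]
    intro i j hi hj
    obtain ⟨i, rfl⟩ : ∃ i' : Fin l, Fin.natAdd k i' = i :=
      ⟨⟨(i : ℕ) - k, by omega⟩, Fin.ext (by simp; omega)⟩
    obtain ⟨j, rfl⟩ : ∃ j' : Fin k, Fin.castAdd l j' = j := ⟨⟨j, hj⟩, rfl⟩
    show φ x (Fin.natAdd k i) (Fin.castAdd l j) = 0
    simp [φ, e]
  rw [Nat.card_congr (Equiv.ofBijective
      (fun x => (⟨GeneralLinearGroup.mk'' (φ x) (hdet x), hφ x⟩ : parabolic F (k + l) k)) ⟨?_, ?_⟩).symm,
    Nat.card_prod, Nat.card_prod, Matrix.card_GL_field, Matrix.card_GL_field,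
    show Nat.card (Matrix (Fin k) (Fin l) F) = Fintype.card F ^ (k * l) from by
      simp [Matrix, Nat.card_eq_fintype_card, ← pow_mul, mul_comm]]
  · rw [mul_comm, ← mul_assoc]; congr 1; refine (Fintype.prod_equiv (finCongr (by omega)) _ _ fun i => ?_); simp
  · rintro ⟨⟨A, D⟩, B⟩ ⟨⟨A', D'⟩, B'⟩ h
    have h' : φ ((A, D), B) = φ ((A', D'), B') := congrArg (fun g => ((g : parabolic F (k + l) k) : GeneralLinearGroup (Fin (k + l)) F).1) h
    simp only [φ, EmbeddingLike.apply_eq_iff_eq, fromBlocks_inj] at h'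
    simp [Units.ext h'.1, Units.ext h'.2.2.2, h'.2.1]
  · rintro ⟨g, hg⟩
    rw [mem_parabolic_iff] at hg
    let M := (g : Matrix (Fin (k + l)) (Fin (k + l)) F).submatrix e e
    have h21 : M.toBlocks₂₁ = 0 := by
      ext i j
      exact hg (e (Sum.inr i)) (e (Sum.inl j)) (by simp [e]) (by simp [e])
    have hM : fromBlocks M.toBlocks₁₁ M.toBlocks₁₂ 0 M.toBlocks₂₂ = M := by
      rw [← h21, fromBlocks_toBlocks]
    have hu : IsUnit M.det := by
      rw [show M.det = (g : Matrix (Fin (k + l)) (Fin (k + l)) F).det from det_submatrix_equiv_self e _]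
      exact (isUnit_iff_isUnit_det _).1 g.isUnit
    rw [← hM, det_fromBlocks_zero₂₁, IsUnit.mul_iff] at hu
    refine ⟨((GeneralLinearGroup.mk'' _ hu.1, GeneralLinearGroup.mk'' _ hu.2), M.toBlocks₁₂), ?_⟩
    apply Subtype.ext
    apply Units.ext
    show reindex e e (fromBlocks M.toBlocks₁₁ M.toBlocks₁₂ 0 M.toBlocks₂₂) = (g : Matrix _ _ F)
    rw [hM]
    simp [M]

/-- The transvection `1 + c E_ij` as a unit. -/
noncomputable def tvec (i j : Fin n) (h : i ≠ j) (c : F) : Matrix.GeneralLinearGroup (Fin n) F :=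
  GeneralLinearGroup.mk'' (Matrix.transvection i j c) (by rw [det_transvection_of_ne i j h]; exact isUnit_one)

@[simp] theorem coe_tvec (i j : Fin n) (h : i ≠ j) (c : F) :
    ((tvec i j h c : Matrix.GeneralLinearGroup (Fin n) F) : Matrix (Fin n) (Fin n) F) =
      Matrix.transvection i j c := rfl

theorem tvec_mem_parabolic {k : ℕ} {i j : Fin n} (h : i ≠ j) (hij : (i : ℕ) < k ∨ k ≤ (j : ℕ)) (c : F) :
    tvec i j h c ∈ parabolic F n k := by
  rw [mem_parabolic_iff]
  intro a b ha hb
  have hab : a ≠ b := fun e => by subst e; omega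
  rw [coe_tvec, Matrix.transvection, Matrix.add_apply, Matrix.one_apply_ne hab, zero_add,
    Matrix.single_apply_of_ne]
  rintro ⟨rfl, rfl⟩
  omega

/-- The invariant subspaces of a parabolic. -/
theorem eq_of_invariant {l : ℕ} (U : Submodule F (Fin n → F))
    (hU : ∀ g ∈ parabolic F n l, ∀ v ∈ U, (g : Matrix (Fin n) (Fin n) F) *ᵥ v ∈ U) :
    U = ⊥ ∨ U = coordSub F n l ∨ U = ⊤ := by
  classical
  rcases eq_or_ne U ⊥ with hbot | hbot
  · exact Or.inl hbot
  have step : ∀ v ∈ U, ∀ i j : Fin n, i ≠ j → ((i : ℕ) < l ∨ l ≤ (j : ℕ)) → v j ≠ 0 →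
      (Pi.single i 1 : Fin n → F) ∈ U := by
    intro v hv i j hij h hvj
    have h1 := hU _ (tvec_mem_parabolic hij h (v j)⁻¹) v hv
    have h2 := U.sub_mem h1 hv
    convert h2 using 1
    rw [coe_tvec, Matrix.transvection, add_mulVec, one_mulVec, add_sub_cancel_left, Matrix.single_mulVec]
    ext a
    rcases eq_or_ne a i with rfl | ha
    · simp [inv_mul_cancel₀ hvj]
    · simp [ha]
  have hspan : ∀ S : Set (Fin n), (∀ i ∈ S, (Pi.single i 1 : Fin n → F) ∈ U) →
      ∀ v : Fin n → F, (∀ i ∉ S, v i = 0) → v ∈ U := by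
    intro S hS v hv
    rw [pi_eq_sum_univ' v]
    refine U.sum_mem fun i _ => ?_
    by_cases hi : i ∈ S
    · exact U.smul_mem _ (hS i hi)
    · rw [hv i hi, zero_smul]; exact U.zero_mem
  by_cases hout : ∃ v ∈ U, ∃ j : Fin n, l ≤ (j : ℕ) ∧ v j ≠ 0
  · obtain ⟨v, hv, j, hj, hvj⟩ := hout
    have h1 : ∀ i, i ≠ j → (Pi.single i 1 : Fin n → F) ∈ U := fun i hi =>
      step v hv i j hi (Or.inr hj) hvj
    have h2 : (Pi.single j 1 : Fin n → F) ∈ U := by
      have h3 : (∑ i ∈ Finset.univ.erase j, v i • (Pi.single i 1 : Fin n → F)) ∈ U :=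
        U.sum_mem fun i hi => U.smul_mem _ (h1 i (Finset.ne_of_mem_erase hi))
      have h4 := U.sub_mem hv h3
      rw [show v - ∑ i ∈ Finset.univ.erase j, v i • (Pi.single i 1 : Fin n → F) = v j • Pi.single j 1 from ?_] at h4
      · simpa [smul_smul, inv_mul_cancel₀ hvj] using U.smul_mem (v j)⁻¹ h4
      · nth_rewrite 1 [pi_eq_sum_univ' v]
        rw [← Finset.add_sum_erase _ _ (Finset.mem_univ j), add_sub_cancel_right]
    refine Or.inr (Or.inr (eq_top_iff.2 fun w _ => hspan Set.univ (fun i _ => ?_) w (by simp)))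
    rcases eq_or_ne i j with rfl | hi
    · exact h2
    · exact h1 i hi
  · push Not at hout
    refine Or.inr (Or.inl (le_antisymm (fun v hv i hi => hout v hv i hi) ?_))
    obtain ⟨v, hv, hv0⟩ := Submodule.exists_mem_ne_zero_of_ne_bot hbot
    obtain ⟨a, ha⟩ := Function.ne_iff.1 hv0
    have hal : (a : ℕ) < l := by
      by_contra h
      exact ha (hout v hv a (not_lt.1 h))
    have h1 : ∀ i : Fin n, i ≠ a → (i : ℕ) < l → (Pi.single i 1 : Fin n → F) ∈ U := fun i hi hil =>
      step v hv i a hi (Or.inl hil) ha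
    intro w hw
    refine hspan {i | (i : ℕ) < l} (fun i hi => ?_) w (fun i hi => hw i (not_lt.1 hi))
    rcases eq_or_ne i a with rfl | hia
    · by_cases hb : ∃ b : Fin n, b ≠ i ∧ (b : ℕ) < l
      · obtain ⟨b, hb, hbl⟩ := hb
        exact step _ (h1 b hb hbl) i b hb.symm (Or.inl hi) (by simp)
      · push Not at hb
        convert U.smul_mem (v i)⁻¹ hv using 1
        ext b
        rcases eq_or_ne b i with rfl | hbi
        · simp [inv_mul_cancel₀ ha]
        · simp [hbi, hout v hv b (hb b hbi)]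
    · exact h1 i hia hi

/-- Maximal parabolics are maximal. -/
theorem isCoatom_parabolic {k : ℕ} (hk0 : 0 < k) (hkn : k < n) : IsCoatom (parabolic F n k) := by
  classical
  constructor
  · intro h
    have hne : (⟨n - 1, by omega⟩ : Fin n) ≠ ⟨0, by omega⟩ := by
      simp [Fin.ext_iff]; omega
    have := (mem_parabolic_iff _).1 (h ▸ Subgroup.mem_top (tvec _ _ hne (1 : F)))
      ⟨n - 1, by omega⟩ ⟨0, by omega⟩ (by show k ≤ n - 1; omega) hk0
    simp [Matrix.transvection, Matrix.one_apply_ne hne] at this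
  · intro H hH
    obtain ⟨g, hgH, hgP⟩ := SetLike.exists_of_lt hH
    simp only [mem_parabolic_iff, not_forall] at hgP
    obtain ⟨i₀, j₀, hi₀, hj₀, hne⟩ := hgP
    let u : Fin n → F := fun i => (g : Matrix (Fin n) (Fin n) F) i j₀
    let Q : Matrix (Fin n) (Fin n) F := (1 : Matrix (Fin n) (Fin n) F).updateCol i₀ u
    have hdetQ : IsUnit Q.det := by
      rw [show Q.det = u i₀ by simp [Q, ← cramer_apply]]
      exact isUnit_iff_ne_zero.2 hne
    let q := GeneralLinearGroup.mk'' Q hdetQ
    have hqP : q ∈ parabolic F n k := by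
      rw [mem_parabolic_iff]
      intro i j hi hj
      have hji : j ≠ i₀ := fun e => by subst e; omega
      have hij : i ≠ j := fun e => by subst e; omega
      show Q i j = 0
      simp [Q, updateCol_ne hji, one_apply_ne hij]
    let M : Matrix.GeneralLinearGroup (Fin n) F := g⁻¹ * q
    have hcol : ∀ i : Fin n, k ≤ (i : ℕ) → (M : Matrix (Fin n) (Fin n) F) i i₀ = 0 := by
      intro i hi
      show ((((g⁻¹ : Matrix.GeneralLinearGroup (Fin n) F)) : Matrix (Fin n) (Fin n) F) * Q) i i₀ = 0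
      have : ((((g⁻¹ : Matrix.GeneralLinearGroup (Fin n) F)) : Matrix (Fin n) (Fin n) F) * Q) i i₀ =
          ((((g⁻¹ : Matrix.GeneralLinearGroup (Fin n) F)) : Matrix (Fin n) (Fin n) F) * (g : Matrix (Fin n) (Fin n) F)) i j₀ := by
        simp [Matrix.mul_apply, Q, u]
      rw [this, ← Units.val_mul, inv_mul_cancel, Units.val_one, one_apply_ne (fun e => by subst e; omega)]
    have hlow₀ : ∀ (b : Fin n) (hb : i₀ ≠ b), (b : ℕ) < k → ∀ c : F, tvec i₀ b hb c ∈ H := by
      intro b hb hbk c
      have ht : M * tvec i₀ b hb c * M⁻¹ ∈ parabolic F n k := by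
        rw [mem_parabolic_iff]
        intro i j hi hj
        rw [Units.val_mul, Units.val_mul, coe_tvec, Matrix.transvection, Matrix.mul_add, Matrix.add_mul,
          mul_one, ← Units.val_mul, mul_inv_cancel, Units.val_one, Matrix.add_apply,
          one_apply_ne (fun e => by subst e; omega), zero_add, Matrix.mul_apply]
        refine Finset.sum_eq_zero fun x _ => ?_
        rcases eq_or_ne x b with rfl | hx
        · simp [hcol i hi]
        · simp [hx]
      have h2 := H.mul_mem (H.mul_mem (H.mul_mem (H.inv_mem (hH.le hqP)) hgH) (hH.le ht))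
        (H.mul_mem (H.inv_mem hgH) (hH.le hqP))
      convert h2 using 1
      simp only [M]
      group
    have hlow : ∀ (a b : Fin n) (hab : a ≠ b), k ≤ (a : ℕ) → (b : ℕ) < k → ∀ c : F, tvec a b hab c ∈ H := by
      intro a b hab hak hbk c
      rcases eq_or_ne a i₀ with rfl | ha
      · exact hlow₀ b hab hbk c
      · have hb : i₀ ≠ b := fun e => by subst e; omega
        have h1 : tvec a i₀ ha (1 : F) ∈ H := hH.le (tvec_mem_parabolic ha (Or.inr hi₀) 1)
        have h2 := hlow₀ b hb hbk c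
        have h3 := H.mul_mem (H.mul_mem (H.mul_mem h1 h2) (H.inv_mem h1)) (H.inv_mem h2)
        convert h3 using 1
        rw [eq_mul_inv_iff_mul_eq, eq_mul_inv_iff_mul_eq]
        apply Units.ext
        simp [Matrix.transvection, Matrix.mul_add, Matrix.add_mul, hab.symm, hb.symm]
        abel
    rw [eq_top_iff]
    intro x _
    have key : ∀ A : Matrix (Fin n) (Fin n) F, A.det ≠ 0 →
        ∀ y : Matrix.GeneralLinearGroup (Fin n) F, (y : Matrix (Fin n) (Fin n) F) = A → y ∈ H := by
      intro A hA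
      refine diagonal_transvection_induction_of_det_ne_zero
        (fun A => ∀ y : Matrix.GeneralLinearGroup (Fin n) F, (y : Matrix (Fin n) (Fin n) F) = A → y ∈ H)
        A hA ?_ ?_ ?_
      · intro D _ y hy
        refine hH.le ((mem_parabolic_iff y).2 fun i j hi hj => ?_)
        rw [hy, diagonal_apply_ne _ (fun e => by subst e; omega)]
      · rintro ⟨i, j, hij, c⟩ y hy
        have : y = tvec i j hij c := Units.ext hy
        subst this
        by_cases h : (i : ℕ) < k ∨ k ≤ (j : ℕ)
        · exact hH.le (tvec_mem_parabolic hij h c)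
        · exact hlow i j hij (by omega) (by omega) c
      · intro A B hA hB h1 h2 y hy
        have : y = GeneralLinearGroup.mk'' A (isUnit_iff_ne_zero.2 hA) * GeneralLinearGroup.mk'' B (isUnit_iff_ne_zero.2 hB) :=
          Units.ext hy
        rw [this]
        exact H.mul_mem (h1 _ rfl) (h2 _ rfl)
    exact key _ ((isUnit_iff_isUnit_det _).1 x.isUnit).ne_zero x rfl

end Cfsg.Agent.GL.Parabolic
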