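import Cfsg.Agent.Lib.GL.PSLOrders
import Cfsg.Agent.Lib.GL.Basic

/-!
Tools for the prime graph of `PSL n q`: multiplicative orders of `q`, lifting elements, irreducible factors.
-/

set_option autoImplicit false

open Matrix Polynomial
open scoped MatrixGroups

namespace Cfsg.Agent.GL.PrimePairs

variable {F : Type*} [Field F] [Fintype F]

theorem dvd_pow_sub_one_iff {r q : ℕ} (hq : 0 < q) (i : ℕ) :
    r ∣ q ^ i - 1 ↔ orderOf ((q : ℕ) : ZMod r) ∣ i := by
  rw [← ZMod.natCast_eq_zero_iff, Nat.cast_sub (Nat.one_le_pow _ _ hq), sub_eq_zero, orderOf_dvd_iff_pow_eq_one]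
  simp

/-- If `2 ≤ k` is the order of `q` mod `r` then `r` does not divide `q - 1`. -/
theorem not_dvd_sub_one {r k : ℕ} (hk : k = orderOf ((Fintype.card F : ℕ) : ZMod r)) (h2 : 2 ≤ k) :
    ¬ r ∣ Fintype.card F - 1 := by
  intro h
  have := (dvd_pow_sub_one_iff (r := r) Fintype.card_pos 1).1 (by rwa [pow_one])
  rw [← hk] at this
  have := Nat.le_of_dvd one_pos this
  omega

/-- A prime dividing `|PSL n q|`, other than the characteristic, has order of `q` at most `n`. -/
theorem order_le (p : ℕ) [Fact p.Prime] [CharP F p] {n r : ℕ} (hn : 2 ≤ n) (hr : r.Prime) (hrp : r ≠ p)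
    (hrG : r ∣ Nat.card (Matrix.ProjectiveSpecialLinearGroup (Fin n) F)) :
    orderOf ((Fintype.card F : ℕ) : ZMod r) ≤ n ∧ 0 < orderOf ((Fintype.card F : ℕ) : ZMod r) := by
  have h : r ∣ Nat.card (SpecialLinearGroup (Fin n) F) := by
    rw [← GL.gcd_mul_card_PSL n (by omega)]
    exact hrG.mul_left _
  rw [GL.card_SL_prod] at h
  rcases hr.dvd_mul.1 h with h1 | h1
  · exfalso
    obtain ⟨e, -, he⟩ := FiniteField.card F p
    rw [he, ← pow_mul] at h1
    exact hrp ((Nat.prime_dvd_prime_iff_eq hr (Fact.out : p.Prime)).1 (hr.dvd_of_dvd_pow h1))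
  · obtain ⟨i, hi, hdi⟩ := (hr.prime.dvd_finset_prod_iff _).1 h1
    rw [Finset.mem_Ico] at hi
    have h2 := (dvd_pow_sub_one_iff Fintype.card_pos i).1 hdi
    exact ⟨(Nat.le_of_dvd (by omega) h2).trans (by omega), Nat.pos_of_dvd_of_pos h2 (by omega)⟩

/-- `r` divides the norm index in degree `d`, for `d` a multiple of the order of `q`. -/
theorem dvd_normIndex {r k d : ℕ} (hr : r.Prime) (hk : k = orderOf ((Fintype.card F : ℕ) : ZMod r))
    (hr1 : ¬ r ∣ Fintype.card F - 1) (hd : k ∣ d) : r ∣ normIndex (Fintype.card F) d := by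
  have h := (dvd_pow_sub_one_iff (r := r) Fintype.card_pos d).2 (hk ▸ hd)
  rw [← normIndex_mul] at h
  exact (hr.dvd_mul.1 h).resolve_right hr1

/-- An order realised by a matrix of determinant one. -/
theorem exists_orderOf {n : ℕ} [NeZero n] (A : Matrix (Fin n) (Fin n) F) (hdet : A.det = 1) {m : ℕ} (_hm : m ≠ 0)
    (h : ∀ N (c : F), A ^ N = c • 1 → m ∣ N) :
    m ∈ Set.range (orderOf : Matrix.ProjectiveSpecialLinearGroup (Fin n) F → ℕ) := by
  let g : SpecialLinearGroup (Fin n) F := ⟨A, hdet⟩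
  let y : Matrix.ProjectiveSpecialLinearGroup (Fin n) F := QuotientGroup.mk' (Subgroup.center _) g
  obtain ⟨c, hc⟩ := (GL.psl_pow_eq_one_iff g _).1 (pow_orderOf_eq_one y)
  exact ⟨y ^ (orderOf y / m), orderOf_pow_orderOf_div (orderOf_pos y).ne' (h _ c hc)⟩

/-- A power not in the scalars yields an irreducible factor whose root has a non-trivial power. -/
theorem exists_factor {n : ℕ} (p : ℕ) [Fact p.Prime] [CharP F p] (A : Matrix (Fin n) (Fin n) F) {m a : ℕ}
    (hm : ¬ p ∣ m) (hA : A ^ m = 1) (ha : A ^ a ≠ 1) :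
    ∃ f : F[X], f.Monic ∧ Irreducible f ∧ f ∣ minpoly F A ∧ AdjoinRoot.root f ^ m = 1 ∧
      AdjoinRoot.root f ^ a ≠ 1 := by
  classical
  have hm0 : (m : F) ≠ 0 := fun h => hm ((CharP.cast_eq_zero_iff F p m).1 h)
  have hμ : minpoly F A ∣ X ^ m - 1 := minpoly.dvd F A (by simp [hA])
  have hsq : Squarefree (minpoly F A) :=
    ((separable_X_pow_sub_C (1 : F) hm0 one_ne_zero).squarefree.squarefree_of_dvd (by rwa [map_one]))
  have hμ0 : minpoly F A ≠ 0 := minpoly.ne_zero (Algebra.IsIntegral.isIntegral A)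
  by_contra hcon
  push Not at hcon
  refine ha ?_
  have hdvd : minpoly F A ∣ X ^ a - 1 := by
    rcases eq_or_ne (X ^ a - 1 : F[X]) 0 with h0 | h0
    · rw [h0]; exact dvd_zero _
    rw [UniqueFactorizationMonoid.dvd_iff_normalizedFactors_le_normalizedFactors hμ0 h0]
    rw [Multiset.le_iff_count]
    intro f
    by_cases hf : f ∈ UniqueFactorizationMonoid.normalizedFactors (minpoly F A)
    swap
    · rw [Multiset.count_eq_zero.2 hf]; exact Nat.zero_le _
    have hnd := (UniqueFactorizationMonoid.squarefree_iff_nodup_normalizedFactors hμ0).1 hsq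
    rw [Multiset.count_eq_one_of_mem hnd hf, Nat.one_le_iff_ne_zero, Multiset.count_ne_zero]
    have hirr := UniqueFactorizationMonoid.irreducible_of_normalized_factor f hf
    have hfd := UniqueFactorizationMonoid.dvd_of_mem_normalizedFactors hf
    have hmon : f.Monic := by
      rw [← UniqueFactorizationMonoid.normalize_normalized_factor f hf]
      exact Polynomial.monic_normalize hirr.ne_zero
    have hrm : AdjoinRoot.root f ^ m = 1 := by
      have h1 := AdjoinRoot.mk_eq_zero.2 (hfd.trans hμ)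
      rwa [map_sub, map_pow, AdjoinRoot.mk_X, map_one, sub_eq_zero] at h1
    have hra := hcon f hmon hirr hfd hrm
    refine (Polynomial.mem_normalizedFactors_iff h0).2 ⟨hirr, hmon, ?_⟩
    rw [← AdjoinRoot.mk_eq_zero, map_sub, map_pow, AdjoinRoot.mk_X, map_one, hra, sub_self]
  obtain ⟨u, hu⟩ := hdvd
  have h3 := congrArg (aeval A) hu
  rw [map_mul, minpoly.aeval, zero_mul, map_sub, map_pow, aeval_X, map_one, sub_eq_zero] at h3
  exact h3

/-- The order of `q` modulo a prime dividing the order of the root divides the degree. -/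
theorem order_dvd_natDegree {f : F[X]} (hm : f.Monic) (hf : Irreducible f) {r : ℕ} (hr : r.Prime)
    {m a : ℕ} (hma : m ∣ r * a) (h1 : AdjoinRoot.root f ^ m = 1) (h2 : AdjoinRoot.root f ^ a ≠ 1) :
    orderOf ((Fintype.card F : ℕ) : ZMod r) ∣ f.natDegree := by
  haveI := Fact.mk hf
  have hne : AdjoinRoot.root f ≠ 0 := by
    intro h
    rcases Nat.eq_zero_or_pos m with rfl | hm0
    · rcases Nat.eq_zero_or_pos a with rfl | ha
      · exact h2 (pow_zero _)
      · exact Nat.lt_irrefl 0 (lt_of_lt_of_le (Nat.mul_pos hr.pos ha) (le_of_eq (Nat.eq_zero_of_zero_dvd hma)))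
    · rw [h, zero_pow hm0.ne'] at h1
      exact zero_ne_one h1
  have hd := GL.root_pow_normIndex_mul hm hf hne
  rw [GL.normIndex_mul] at hd
  refine (dvd_pow_sub_one_iff Fintype.card_pos _).1 ?_
  refine dvd_trans ?_ (orderOf_dvd_of_pow_eq_one hd)
  by_contra hnd
  have h3 : orderOf (AdjoinRoot.root f) ∣ r * a := (orderOf_dvd_of_pow_eq_one h1).trans hma
  exact h2 (orderOf_dvd_iff_pow_eq_one.1 (((hr.coprime_iff_not_dvd.2 hnd).symm).dvd_of_dvd_mul_left h3))

/-- A lift of order dividing `m`, for an element of order `m` prime to `q - 1`. -/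
theorem exists_lift {n : ℕ} [NeZero n] (y : Matrix.ProjectiveSpecialLinearGroup (Fin n) F)
    (hc : Nat.Coprime (orderOf y) (Fintype.card F - 1)) :
    ∃ h : SpecialLinearGroup (Fin n) F, h ^ orderOf y = 1 ∧ ∀ a : ℕ, h ^ a = 1 → orderOf y ∣ a := by
  obtain ⟨g, rfl⟩ := QuotientGroup.mk'_surjective _ y
  set π := QuotientGroup.mk' (Subgroup.center (SpecialLinearGroup (Fin n) F))
  obtain ⟨c, hcc⟩ := (GL.psl_pow_eq_one_iff g _).1 (pow_orderOf_eq_one (π g))
  refine ⟨g ^ (Fintype.card F - 1), Subtype.ext ?_, fun a ha => ?_⟩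
  · show ((g ^ (Fintype.card F - 1)) ^ orderOf (π g) : SpecialLinearGroup (Fin n) F).1 = 1
    rw [← pow_mul, mul_comm, pow_mul, Matrix.SpecialLinearGroup.coe_pow, Matrix.SpecialLinearGroup.coe_pow, hcc,
      _root_.smul_pow, one_pow, FiniteField.pow_card_sub_one_eq_one, one_smul]
    rintro rfl
    have hd := congrArg Matrix.det hcc
    rw [zero_smul, Matrix.det_pow, g.2, one_pow, Matrix.det_zero] at hd
    exact one_ne_zero hd
  · have h1 := congrArg π ha
    rw [map_pow, map_pow, map_one, ← pow_mul] at h1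
    exact hc.dvd_of_dvd_mul_left (orderOf_dvd_of_pow_eq_one h1)

end Cfsg.Agent.GL.PrimePairs
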