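import Cfsg.Agent.Lib.GL.ClassData

/-!
Upper bounds for the number of classes of `SL n F`: a class is determined by the data of its `GL` class and a
coset of the determinants of a centraliser.
-/

set_option autoImplicit false

open Polynomial Module
open scoped Classical Matrix

namespace Cfsg.Agent.GL.SLClassBound

open Cfsg.Agent.GL.ClassNumber Cfsg.Agent.GL.ClassData

universe u

variable {F : Type u} [Field F] [Fintype F] {n m : ℕ}

noncomputable instance seqFintype : Fintype (Seq F m n) :=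
  have := (seq_bound (F := F) m n).1
  Fintype.ofFinite _

/-- The indices carrying a nonconstant polynomial. -/
noncomputable def supp (g : Seq F m n) : Finset (Fin m) :=
  Finset.univ.filter fun e => 0 < (g.1 e).natDegree

/-- `t ↦ ∏ t e ^ (e + 1)`. -/
noncomputable def tau (s : Finset (Fin n)) : (Fin n → Fˣ) →* Fˣ where
  toFun t := ∏ e ∈ s, t e ^ ((e : ℕ) + 1)
  map_one' := by simp
  map_mul' a b := by simp [mul_pow, Finset.prod_mul_distrib]

variable (F) in
/-- The bound for the index of the range of `tau`. -/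
noncomputable def gIdx (s : Finset (Fin n)) : ℕ :=
  Nat.gcd (Fintype.card F - 1) (s.gcd fun e => (e : ℕ) + 1)

theorem gIdx_pos (s : Finset (Fin n)) : 0 < gIdx F s :=
  Nat.gcd_pos_of_pos_left _ (by have := Fintype.one_lt_card (α := F); omega)

theorem pow_gcd_mem {A : Type*} [Group A] (H : Subgroup A) (x : A) {a b : ℕ} (ha : x ^ a ∈ H) (hb : x ^ b ∈ H) :
    x ^ Nat.gcd a b ∈ H := by
  rw [← zpow_natCast, Nat.gcd_eq_gcd_ab, zpow_add, zpow_mul, zpow_mul, zpow_natCast, zpow_natCast]
  exact H.mul_mem (H.zpow_mem ha _) (H.zpow_mem hb _)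

theorem index_tau_le (s : Finset (Fin n)) : (tau (F := F) s).range.index ≤ gIdx F s := by
  let d := s.gcd fun e => (e : ℕ) + 1
  have h : ∀ x : Fˣ, x ^ d ∈ (tau (F := F) s).range := by
    intro x
    refine Finset.induction_on' (motive := fun t => x ^ (t.gcd fun e : Fin n => (e : ℕ) + 1) ∈ (tau (F := F) s).range)
      s (by simp) fun a t has _ _ ih => ?_
    rw [Finset.gcd_insert]
    refine pow_gcd_mem _ x ⟨Function.update 1 a x, ?_⟩ ih
    show ∏ e ∈ s, Function.update (1 : Fin n → Fˣ) a x e ^ ((e : ℕ) + 1) = _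
    rw [Finset.prod_eq_single_of_mem a has fun b _ hb => by simp [Function.update_of_ne hb],
      Function.update_self]
  have hr : (powMonoidHom d : Fˣ →* Fˣ).range ≤ (tau (F := F) s).range := by
    rintro _ ⟨x, rfl⟩
    exact h x
  have hd := Nat.le_of_dvd (Nat.pos_of_ne_zero Subgroup.index_ne_zero_of_finite) (Subgroup.index_dvd_of_le hr)
  rwa [IsCyclic.index_powMonoidHom_range, card_units_field] at hd

/-! ### Twisting -/

/-- Multiply the constant coefficients on the support by `t`. -/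
noncomputable def twist (g : Seq F n n) (t : Fin n → Fˣ) : Seq F n n :=
  ⟨fun e => if e ∈ supp g then g.1 e + C (((t e : F) - 1) * (g.1 e).coeff 0) else g.1 e, fun e => by
    dsimp only
    split_ifs with h
    · refine ⟨(g.2.1 e).1.add_of_left (lt_of_le_of_lt degree_C_le ?_), ?_⟩
      · rw [degree_eq_natDegree (g.2.1 e).1.ne_zero]
        exact_mod_cast (Finset.mem_filter.1 h).2
      · rw [coeff_add, coeff_C_zero, show (g.1 e).coeff 0 + ((t e : F) - 1) * (g.1 e).coeff 0 =
          (t e : F) * (g.1 e).coeff 0 by ring]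
        exact mul_ne_zero (t e).ne_zero (g.2.1 e).2
    · exact g.2.1 e, by
    refine Eq.trans (Finset.sum_congr rfl fun e _ => ?_) g.2.2
    dsimp only
    split_ifs
    · rw [natDegree_add_C]
    · rfl⟩

theorem natDegree_twist (g : Seq F n n) (t : Fin n → Fˣ) (e : Fin n) :
    ((twist g t).1 e).natDegree = (g.1 e).natDegree := by
  simp only [twist]
  split_ifs
  · rw [natDegree_add_C]
  · rfl

theorem supp_twist (g : Seq F n n) (t : Fin n → Fˣ) : supp (twist g t) = supp g := by
  simp only [supp, natDegree_twist]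

theorem twist_twist_inv (g : Seq F n n) (t : Fin n → Fˣ) : twist (twist g t) t⁻¹ = g := by
  refine Subtype.ext (funext fun e => ?_)
  show (if e ∈ supp (twist g t) then _ else _) = _
  rw [supp_twist]
  by_cases h : e ∈ supp g
  · rw [if_pos h, show (twist g t).1 e = g.1 e + C (((t e : F) - 1) * (g.1 e).coeff 0) from if_pos h,
      coeff_add, coeff_C_zero, add_assoc, ← C_add, Pi.inv_apply, Units.val_inv_eq_inv_val]
    have : ((t e : F) - 1) * (g.1 e).coeff 0 +
        ((t e : F)⁻¹ - 1) * ((g.1 e).coeff 0 + ((t e : F) - 1) * (g.1 e).coeff 0) = 0 := by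
      have := (t e).ne_zero
      field_simp
      ring
    rw [this, map_zero, add_zero]
  · rw [if_neg h]
    exact if_neg h

/-- The determinant of a class with data `g`. -/
noncomputable def phi (g : Seq F n n) : F := ∏ e, sd (g.1 e) ^ ((e : ℕ) + 1)

theorem phi_twist (g : Seq F n n) (t : Fin n → Fˣ) :
    phi (twist g t) = phi g * ((tau (supp g) t : Fˣ) : F) := by
  show _ = phi g * ((∏ e ∈ supp g, t e ^ ((e : ℕ) + 1) : Fˣ) : F)
  rw [Units.coe_prod, phi, phi, Finset.prod_ite_mem_eq (supp g) (fun e => ((t e ^ ((e : ℕ) + 1) : Fˣ) : F)) |>.symm,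
    ← Finset.prod_mul_distrib]
  refine Finset.prod_congr rfl fun e _ => ?_
  simp only [sd, natDegree_twist, Units.val_pow_eq_pow_val]
  by_cases h : e ∈ supp g
  · rw [if_pos h, show (twist g t).1 e = g.1 e + C (((t e : F) - 1) * (g.1 e).coeff 0) from if_pos h,
      coeff_add, coeff_C_zero, ← mul_pow]
    congr 1
    ring
  · rw [if_neg h, show (twist g t).1 e = g.1 e from if_neg h, mul_one]

theorem sum_index_mul_le (p : Seq F n n → Prop) (hp : ∀ g t, p g → p (twist g t)) :
    (∑ g ∈ Finset.univ.filter (fun g : Seq F n n => p g ∧ phi g = 1), (tau (F := F) (supp g)).range.index) *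
      (Fintype.card F - 1) ≤ ∑ g ∈ Finset.univ.filter p, gIdx F (supp g) ^ 2 := by
  let H := fun g : Seq F n n => (tau (F := F) (supp g)).range
  let w := fun g : Seq F n n => (H g).index ^ 2
  let A := ((Finset.univ.filter fun g : Seq F n n => p g ∧ phi g = 1) ×ˢ (Finset.univ : Finset Fˣ)).filter
    fun x => x.2 ∈ H x.1
  let sec : Finset (Fin n) → Fˣ → (Fin n → Fˣ) := fun s => Function.invFun (tau s)
  let ψ : Seq F n n × Fˣ → Seq F n n := fun x => twist x.1 (sec (supp x.1) x.2)
  have hA : ∀ x ∈ A, p x.1 ∧ phi x.1 = 1 ∧ tau (supp x.1) (sec (supp x.1) x.2) = x.2 := by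
    intro x hx
    simp only [A, H, Finset.mem_filter, Finset.mem_product, Finset.mem_univ, true_and, and_true,
      MonoidHom.mem_range] at hx
    exact ⟨hx.1.1, hx.1.2, Function.invFun_eq hx.2⟩
  have hsupp : ∀ x, supp (ψ x) = supp x.1 := fun x => supp_twist _ _
  have hinj : Set.InjOn ψ A := by
    intro x hx y hy hxy
    obtain ⟨-, hx1, hx2⟩ := hA x hx
    obtain ⟨-, hy1, hy2⟩ := hA y hy
    have hs : supp x.1 = supp y.1 := by rw [← hsupp x, ← hsupp y, hxy]
    have hφ := congrArg phi hxy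
    simp only [ψ, phi_twist, hx1, hy1, one_mul, hx2, hy2] at hφ
    have h2 : x.2 = y.2 := Units.ext hφ
    refine Prod.ext ?_ h2
    rw [← twist_twist_inv x.1 (sec (supp x.1) x.2), ← twist_twist_inv y.1 (sec (supp y.1) y.2)]
    show twist (ψ x) _ = twist (ψ y) _
    rw [hxy, hs, h2]
  calc _ = ∑ x ∈ A, w x.1 := by
        rw [show (∑ x ∈ A, w x.1) = ∑ g ∈ Finset.univ.filter (fun g : Seq F n n => p g ∧ phi g = 1),
          ∑ h : Fˣ, if h ∈ H g then w g else 0 from
          (Finset.sum_filter _ _).trans (Finset.sum_product _ _ _), Finset.sum_mul]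
        refine Finset.sum_congr rfl fun g _ => ?_
        rw [← Finset.sum_filter, Finset.sum_const, smul_eq_mul]
        show (H g).index * _ = _ * (H g).index ^ 2
        rw [← card_units_field (F := F), ← Fintype.card_subtype, ← Nat.card_eq_fintype_card,
          ← Subgroup.card_mul_index (H g)]
        show _ = Nat.card (H g) * _
        ring
    _ = ∑ x ∈ A, w (ψ x) := Finset.sum_congr rfl fun x _ => by simp only [w, H, hsupp]
    _ = ∑ y ∈ A.image ψ, w y := (Finset.sum_image hinj).symm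
    _ ≤ ∑ y ∈ Finset.univ.filter p, w y := by
        refine Finset.sum_le_sum_of_subset fun y hy => ?_
        obtain ⟨x, hx, rfl⟩ := Finset.mem_image.1 hy
        exact Finset.mem_filter.2 ⟨Finset.mem_univ _, hp _ _ (hA x hx).1⟩
    _ ≤ _ := Finset.sum_le_sum fun y _ => Nat.pow_le_pow_left (index_tau_le _) 2

/-! ### Classes -/

theorem surjective_toLin' (A : GL (Fin n) F) :
    Function.Surjective (Matrix.toLin' (A : Matrix (Fin n) (Fin n) F)) :=
  fun v => ⟨Matrix.toLin' (↑A⁻¹ : Matrix (Fin n) (Fin n) F) v, by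
    rw [← Matrix.toLin'_mul_apply, Units.mul_inv, Matrix.toLin'_one]; rfl⟩

/-- The data of an element of `SL`. -/
noncomputable def dat (s : Matrix.SpecialLinearGroup (Fin n) F) : Seq F n n :=
  (exists_fits (surjective_toLin' (Matrix.SpecialLinearGroup.toGL s))).choose

theorem fits_dat (s : Matrix.SpecialLinearGroup (Fin n) F) :
    FitsM (s : Matrix (Fin n) (Fin n) F) (dat s) :=
  (exists_fits (surjective_toLin' (Matrix.SpecialLinearGroup.toGL s))).choose_spec

theorem dat_congr {s s' : Matrix.SpecialLinearGroup (Fin n) F} (h : IsConj s s') : dat s = dat s' :=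
  fits_unique (fits_of_isConj (Matrix.SpecialLinearGroup.toGL.map_isConj h) (fits_dat s)) (fits_dat s')

theorem phi_dat (s : Matrix.SpecialLinearGroup (Fin n) F) : phi (dat s) = 1 :=
  (det_eq_prod (fits_dat s)).symm.trans s.2

theorem exists_commute_of_mem {R : GL (Fin n) F} {g : Seq F n n}
    (hR : FitsM (R : Matrix (Fin n) (Fin n) F) g) {t : Fˣ} (ht : t ∈ (tau (F := F) (supp g)).range) :
    ∃ C : GL (Fin n) F, Commute C R ∧ Matrix.GeneralLinearGroup.det C = t := by
  let K := (Subgroup.centralizer ({R} : Set (GL (Fin n) F))).map Matrix.GeneralLinearGroup.det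
  suffices hK : t ∈ K by
    obtain ⟨C, hC, hC'⟩ := hK
    exact ⟨C, (Subgroup.mem_centralizer_singleton_iff.1 hC : C * R = R * C), hC'⟩
  obtain ⟨x, rfl⟩ := ht
  show (∏ e ∈ supp g, x e ^ ((e : ℕ) + 1)) ∈ K
  refine Subgroup.prod_mem _ fun e he => ?_
  obtain ⟨C, hC, hd⟩ := exists_commute_det hR (Finset.mem_filter.1 he).2 (x e).ne_zero
  exact ⟨C, Subgroup.mem_centralizer_singleton_iff.2 (Units.ext hC), Units.ext (by simpa using hd)⟩

theorem card_classes_le (p : Seq F n n → Prop) (S : Set (ConjClasses (Matrix.SpecialLinearGroup (Fin n) F)))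
    (hS : ∀ c ∈ S, ∀ s, ConjClasses.mk s = c → p (dat s)) :
    Nat.card S ≤
      ∑ g ∈ Finset.univ.filter (fun g : Seq F n n => p g ∧ phi g = 1), (tau (F := F) (supp g)).range.index := by
  let rep := fun c : S => Quotient.out c.1
  have hrep : ∀ c : S, ConjClasses.mk (rep c) = c.1 := fun c => Quotient.out_eq _
  let R : Seq F n n → GL (Fin n) F := fun g =>
    if h : ∃ A : GL (Fin n) F, FitsM (A : Matrix (Fin n) (Fin n) F) g then h.choose else 1
  have hR : ∀ s, FitsM (R (dat s) : Matrix (Fin n) (Fin n) F) (dat s) := by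
    intro s
    have h : ∃ A : GL (Fin n) F, FitsM (A : Matrix (Fin n) (Fin n) F) (dat s) :=
      ⟨Matrix.SpecialLinearGroup.toGL s, fits_dat s⟩
    simp only [R, dif_pos h]
    exact h.choose_spec
  have hU : ∀ s : Matrix.SpecialLinearGroup (Fin n) F,
      ∃ U : GL (Fin n) F, U * R (dat s) * U⁻¹ = Matrix.SpecialLinearGroup.toGL s :=
    fun s => isConj_iff.1 (isConj_of_fits _ _ (dat s) (hR s) (fits_dat s))
  choose U hU using hU
  let T := Σ g : {g : Seq F n n // g ∈ Finset.univ.filter (fun g : Seq F n n => p g ∧ phi g = 1)},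
    Fˣ ⧸ (tau (F := F) (supp g.1)).range
  let φ : S → T := fun c => ⟨⟨dat (rep c), Finset.mem_filter.2
      ⟨Finset.mem_univ _, hS _ c.2 _ (hrep c), phi_dat _⟩⟩,
    QuotientGroup.mk (Matrix.GeneralLinearGroup.det (U (rep c)))⟩
  have hφ : Function.Injective φ := by
    intro c c' h
    have h1 : dat (rep c) = dat (rep c') := congrArg (fun t : T => t.1.1) h
    have key : ∀ g g' : Seq F n n, ∀ a a' : Fˣ, g = g' →
        HEq (QuotientGroup.mk a : Fˣ ⧸ (tau (F := F) (supp g)).range)
          (QuotientGroup.mk a' : Fˣ ⧸ (tau (F := F) (supp g')).range) →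
        a⁻¹ * a' ∈ (tau (F := F) (supp g)).range := by
      rintro g _ a a' rfl h
      exact QuotientGroup.eq.1 (eq_of_heq h)
    have h2 := key _ _ _ _ h1 (Sigma.mk.inj_iff.1 h).2
    obtain ⟨C, hC, hdet⟩ := exists_commute_of_mem (hR (rep c)) h2
    let M := U (rep c') * C⁻¹ * (U (rep c))⁻¹
    have hM : Matrix.GeneralLinearGroup.det M = 1 := by
      simp only [M, map_mul, map_inv, hdet]
      group
    apply Subtype.ext
    rw [← hrep c, ← hrep c', ConjClasses.mk_eq_mk_iff_isConj, isConj_iff]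
    obtain ⟨M₀, hM₀⟩ : ∃ M₀ : Matrix.SpecialLinearGroup (Fin n) F, Matrix.SpecialLinearGroup.toGL M₀ = M :=
      ⟨⟨(M : Matrix (Fin n) (Fin n) F), congrArg Units.val hM⟩, Units.ext rfl⟩
    refine ⟨M₀, Matrix.SpecialLinearGroup.toGL_injective ?_⟩
    rw [map_mul, map_mul, map_inv, hM₀, ← hU (rep c), ← hU (rep c'), ← h1]
    simp only [M, mul_inv_rev, inv_inv, mul_assoc, inv_mul_cancel_left, mul_right_inj]
    rw [← mul_assoc (R (dat (rep c))) C, ← hC.eq]
    simp [mul_assoc]
  refine le_trans (Nat.card_le_card_of_injective φ hφ) (le_of_eq ?_)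
  rw [Nat.card_sigma]
  exact Finset.sum_coe_sort _ (fun g => (tau (F := F) (supp g)).range.index)

/-- Invariance under scaling by `z`. -/
def ScaleInv (z : Fˣ) (g : Seq F n n) : Prop := ∀ e, (g.1 e).scaleRoots (z : F) = g.1 e

theorem scaleInv_twist (z : Fˣ) (g : Seq F n n) (t : Fin n → Fˣ) (h : ScaleInv z g) :
    ScaleInv z (twist g t) := by
  intro e
  by_cases he : e ∈ supp g
  · have h0 := congrArg (fun P : F[X] => P.coeff 0) (h e)
    simp only [coeff_scaleRoots, Nat.sub_zero] at h0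
    have hz : (z : F) ^ (g.1 e).natDegree = 1 := mul_left_cancel₀ (g.2.1 e).2 (h0.trans (mul_one _).symm)
    rw [show (twist g t).1 e = g.1 e + C (((t e : F) - 1) * (g.1 e).coeff 0) from if_pos he]
    ext i
    rw [coeff_scaleRoots, natDegree_add_C]
    rcases Nat.eq_zero_or_pos i with rfl | hi
    · rw [Nat.sub_zero, hz, mul_one]
    · rw [coeff_add, coeff_C_of_ne_zero hi.ne', add_zero, ← coeff_scaleRoots, h e]
  · rw [show (twist g t).1 e = g.1 e from if_neg he]
    exact h e

theorem scaleInv_dat (z : Fˣ) (s s' : Matrix.SpecialLinearGroup (Fin n) F) (h : IsConj s s')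
    (hs : (s' : Matrix (Fin n) (Fin n) F) = (z : F) • (s : Matrix (Fin n) (Fin n) F)) :
    ScaleInv z (dat s) := by
  let g' : Seq F n n := ⟨fun e => ((dat s).1 e).scaleRoots (z : F), fun e =>
      ⟨(monic_scaleRoots_iff _).2 ((dat s).2.1 e).1, by
        rw [coeff_scaleRoots]; exact mul_ne_zero ((dat s).2.1 e).2 (pow_ne_zero _ z.ne_zero)⟩, by
    simpa only [natDegree_scaleRoots] using (dat s).2.2⟩
  have h1 := fits_smul (g' := g') (fits_dat s) z.ne_zero fun e => rfl
  rw [← hs] at h1
  have h2 := fits_unique h1 (fits_dat s')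
  rw [← dat_congr h] at h2
  exact fun e => congrFun (congrArg Subtype.val h2) e

/-! ### Counting data -/

theorem card_seq_self_le (hn : 1 ≤ n) : Nat.card (Seq F n n) ≤ Fintype.card F ^ n - 1 := by
  have h := (seq_bound (F := F) n n).2.2 hn le_rfl
  rw [Nat.sub_self, pow_zero] at h
  omega

theorem card_seq_le (hn : 1 ≤ n) : Nat.card (Seq F m n) ≤ Fintype.card F ^ n - 1 := by
  refine le_trans ?_ (card_seq_self_le hn)
  let ext' : Seq F m n → ℕ → F[X] := fun g i => if h : i < m then g.1 ⟨i, h⟩ else 1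
  have hdeg : ∀ (g : Seq F m n) i, n ≤ i → ext' g i = 1 := by
    intro g i hi
    simp only [ext']
    split_ifs with h
    · refine (g.2.1 _).1.natDegree_eq_zero.1 ?_
      have := Finset.single_le_sum (f := fun i : Fin m => ((i : ℕ) + 1) * (g.1 i).natDegree)
        (fun i _ => Nat.zero_le _) (Finset.mem_univ ⟨i, h⟩)
      rw [g.2.2] at this
      by_contra hne
      have h' : i + 1 ≤ n := (Nat.le_mul_of_pos_right _ (Nat.pos_of_ne_zero hne)).trans this
      omega
    · rfl
  let φ : Seq F m n → Seq F n n := fun g => ⟨fun i => ext' g i, fun i => by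
      simp only [ext']
      split_ifs with h
      · exact g.2.1 _
      · simp [monic_one], by
    have e1 : ∑ i : Fin m, ((i : ℕ) + 1) * (g.1 i).natDegree =
        ∑ i ∈ Finset.range m, (i + 1) * (ext' g i).natDegree := by
      rw [← Fin.sum_univ_eq_sum_range]
      exact Finset.sum_congr rfl fun i _ => by simp [ext']
    rw [Fin.sum_univ_eq_sum_range (fun i => (i + 1) * (ext' g i).natDegree)]
    refine Eq.trans ?_ g.2.2
    rw [e1]
    rcases le_total n m with hnm | hnm
    · exact Finset.sum_subset (Finset.range_mono hnm) fun i _ hi => by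
        rw [hdeg g i (by simpa using hi)]; simp
    · exact (Finset.sum_subset (Finset.range_mono hnm) fun i _ hi => by
        simp only [ext', dif_neg (show ¬ i < m by simpa using hi)]; simp).symm⟩
  refine Nat.card_le_card_of_injective φ fun g g' h => Subtype.ext (funext fun i => ?_)
  by_cases hi : (i : ℕ) < n
  · have := congrFun (congrArg Subtype.val h) ⟨i, hi⟩
    simpa [φ, ext'] using this
  · have h1 := hdeg g i (by omega)
    have h2 := hdeg g' i (by omega)
    simp only [ext', dif_pos i.2, Fin.eta] at h1 h2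
    rw [h1, h2]

theorem card_dvd_le (d : ℕ) (hd : 1 ≤ d) (hdn : d ∣ n) (hn : 1 ≤ n) :
    (Finset.univ.filter fun g : Seq F n n => ∀ e ∈ supp g, d ∣ (e : ℕ) + 1).card ≤
      Fintype.card F ^ (n / d) - 1 := by
  obtain ⟨k, rfl⟩ := hdn
  rw [Nat.mul_div_cancel_left k hd]
  have hk : 1 ≤ k := Nat.pos_of_ne_zero fun h => by simp [h] at hn
  refine le_trans ?_ (card_seq_le (F := F) (m := k) hk)
  rw [← Fintype.card_subtype, ← Nat.card_eq_fintype_card]
  let ι : Fin k → Fin (d * k) := fun j => ⟨d * (j : ℕ) + (d - 1), by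
    have := j.2
    have h := Nat.mul_le_mul_left d (show (j : ℕ) + 1 ≤ k by omega)
    rw [Nat.mul_succ] at h
    omega⟩
  have hι : ∀ j, ((ι j : Fin (d * k)) : ℕ) + 1 = d * ((j : ℕ) + 1) := fun j => by
    simp only [ι, Nat.mul_succ]; omega
  have hinj : Function.Injective ι := fun a b h => by
    have := hι a
    rw [h, hι b] at this
    exact Fin.ext (Nat.add_right_cancel (Nat.eq_of_mul_eq_mul_left hd this.symm))
  have hout : ∀ g : {g : Seq F (d * k) (d * k) // ∀ e ∈ supp g, d ∣ (e : ℕ) + 1},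
      ∀ e, e ∉ Set.range ι → (g.1.1 e).natDegree = 0 := by
    intro g e he
    by_contra hne
    obtain ⟨c, hc⟩ := g.2 e (Finset.mem_filter.2 ⟨Finset.mem_univ _, Nat.pos_of_ne_zero hne⟩)
    have he2 := e.2
    have hc1 : 1 ≤ c := Nat.pos_of_ne_zero fun h => by simp [h] at hc
    have hck : c ≤ k := Nat.le_of_mul_le_mul_left (show d * c ≤ d * k by omega) hd
    refine he ⟨⟨c - 1, by omega⟩, Fin.ext ?_⟩
    have := hι ⟨c - 1, by omega⟩
    rw [show c - 1 + 1 = c by omega] at this
    omega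
  refine Nat.card_le_card_of_injective
    (fun g => (⟨fun j => g.1.1 (ι j), fun j => g.1.2.1 _, ?_⟩ : Seq F k k)) ?_
  · refine Nat.eq_of_mul_eq_mul_left hd ?_
    rw [Finset.mul_sum]
    refine Eq.trans ?_ g.1.2.2
    refine Fintype.sum_of_injective ι hinj _ _ (fun e he => by rw [hout g e he, Nat.mul_zero]) fun j => ?_
    rw [hι, mul_assoc]
  · intro g g' h
    refine Subtype.ext (Subtype.ext (funext fun e => ?_))
    by_cases he : e ∈ Set.range ι
    · obtain ⟨j, rfl⟩ := he
      exact congrFun (congrArg Subtype.val h) j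
    · rw [(g.1.2.1 e).1.natDegree_eq_zero.1 (hout g e he), (g'.1.2.1 e).1.natDegree_eq_zero.1 (hout g' e he)]

theorem gIdx_dvd_n (g : Seq F n n) : gIdx F (supp g) ∣ n := by
  conv_rhs => rw [← g.2.2]
  refine Finset.dvd_sum fun e _ => ?_
  rcases Nat.eq_zero_or_pos (g.1 e).natDegree with h | h
  · rw [h, Nat.mul_zero]; exact dvd_zero _
  · exact ((Nat.gcd_dvd_right _ _).trans (Finset.gcd_dvd (Finset.mem_filter.2 ⟨Finset.mem_univ e, h⟩))).mul_right _

theorem sum_gIdx_sq_le (hn : 1 ≤ n) :
    ∑ g : Seq F n n, gIdx F (supp g) ^ 2 ≤ Nat.card (Seq F n n) +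
      ∑ d ∈ (Nat.gcd n (Fintype.card F - 1)).divisors.erase 1,
        (d ^ 2 - 1) * (Fintype.card F ^ (n / d) - 1) := by
  set D := (Nat.gcd n (Fintype.card F - 1)).divisors.erase 1
  have h0 : Nat.gcd n (Fintype.card F - 1) ≠ 0 := by
    have := Nat.gcd_pos_of_pos_left (Fintype.card F - 1) hn
    omega
  have h1 : ∀ g : Seq F n n, gIdx F (supp g) ^ 2 ≤
      1 + ∑ d ∈ D, if (∀ e ∈ supp g, d ∣ (e : ℕ) + 1) then d ^ 2 - 1 else 0 := by
    intro g
    by_cases hg : gIdx F (supp g) = 1
    · rw [hg]; simp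
    · have hmem : gIdx F (supp g) ∈ D := Finset.mem_erase.2 ⟨hg,
        Nat.mem_divisors.2 ⟨Nat.dvd_gcd (gIdx_dvd_n g) (Nat.gcd_dvd_left _ _), h0⟩⟩
      have := Finset.single_le_sum (f := fun d => if (∀ e ∈ supp g, d ∣ (e : ℕ) + 1) then d ^ 2 - 1 else 0)
        (fun d _ => Nat.zero_le _) hmem
      rw [if_pos (show ∀ e ∈ supp g, gIdx F (supp g) ∣ (e : ℕ) + 1 from
        fun e he => (Nat.gcd_dvd_right _ _).trans (Finset.gcd_dvd he))] at this
      omega
  refine (Finset.sum_le_sum fun g _ => h1 g).trans ?_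
  rw [Finset.sum_add_distrib, Finset.sum_comm]
  refine Nat.add_le_add (le_of_eq (by simp [Nat.card_eq_fintype_card])) (Finset.sum_le_sum fun d hd => ?_)
  rw [← Finset.sum_filter, Finset.sum_const, smul_eq_mul, mul_comm]
  have hd' := Nat.mem_divisors.1 (Finset.mem_of_mem_erase hd)
  refine Nat.mul_le_mul_left _ (card_dvd_le d (Nat.pos_of_dvd_of_pos hd'.1 (Nat.pos_of_ne_zero h0)) ?_ hn)
  exact hd'.1.trans (Nat.gcd_dvd_left _ _)

theorem class_mul_le (hn : 1 ≤ n) :
    Nat.card (ConjClasses (Matrix.SpecialLinearGroup (Fin n) F)) * (Fintype.card F - 1) ≤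
      Nat.card (Seq F n n) + ∑ d ∈ (Nat.gcd n (Fintype.card F - 1)).divisors.erase 1,
        (d ^ 2 - 1) * (Fintype.card F ^ (n / d) - 1) := by
  have h1 := card_classes_le (F := F) (n := n) (fun _ => True) Set.univ fun _ _ _ _ => trivial
  have h2 := sum_index_mul_le (F := F) (n := n) (fun _ => True) fun _ _ h => h
  rw [Nat.card_congr (Equiv.Set.univ _)] at h1
  refine (Nat.mul_le_mul_right _ h1).trans (h2.trans ?_)
  exact le_trans (le_of_eq (Finset.sum_congr (by ext; simp) fun _ _ => rfl)) (sum_gIdx_sq_le hn)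

theorem orderOf_dvd_of_coeff_ne_zero (z : Fˣ) {P : F[X]} (hP : P.scaleRoots (z : F) = P) {i : ℕ}
    (hi : P.coeff i ≠ 0) : orderOf z ∣ P.natDegree - i := by
  have h := congrArg (fun Q : F[X] => Q.coeff i) hP
  rw [coeff_scaleRoots] at h
  have := mul_left_cancel₀ hi (h.trans (mul_one _).symm)
  exact orderOf_dvd_of_pow_eq_one (Units.ext (by simpa using this))

theorem scaleInv_dvd (z : Fˣ) {g : Seq F n n} (h : ScaleInv z g) (e : Fin n) :
    orderOf z ∣ (g.1 e).natDegree := by
  simpa using orderOf_dvd_of_coeff_ne_zero z (h e) (g.2.1 e).2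

theorem scaleInv_card_le (z : Fˣ) (hn : 1 ≤ n) (hz : orderOf z ∣ n) :
    (Finset.univ.filter (ScaleInv (n := n) z)).card ≤ Fintype.card F ^ (n / orderOf z) - 1 := by
  have hm : 1 ≤ orderOf z := orderOf_pos z
  have hk : 1 ≤ n / orderOf z := Nat.div_pos (Nat.le_of_dvd hn hz) hm
  refine le_trans ?_ (card_seq_le (F := F) (m := n) hk)
  rw [← Fintype.card_subtype, ← Nat.card_eq_fintype_card]
  set m := orderOf z with hmdef
  have hdeg : ∀ g : {g : Seq F n n // ScaleInv z g}, ∀ e,
      ((g.1.1 e).contract m).Monic ∧ ((g.1.1 e).contract m).natDegree = (g.1.1 e).natDegree / m := by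
    intro g e
    have hd := scaleInv_dvd z g.2 e
    have hle : ((g.1.1 e).contract m).natDegree ≤ (g.1.1 e).natDegree / m := by
      refine natDegree_le_iff_coeff_eq_zero.2 fun i hi => ?_
      rw [coeff_contract (by omega)]
      refine coeff_eq_zero_of_natDegree_lt ?_
      exact lt_of_eq_of_lt (Nat.div_mul_cancel hd).symm (Nat.mul_lt_mul_of_pos_right hi hm)
    have hc : ((g.1.1 e).contract m).coeff ((g.1.1 e).natDegree / m) = 1 := by
      rw [coeff_contract (by omega), Nat.div_mul_cancel hd]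
      exact (g.1.2.1 e).1.coeff_natDegree
    exact ⟨monic_of_natDegree_le_of_coeff_eq_one _ hle hc,
      natDegree_eq_of_le_of_coeff_ne_zero hle (by rw [hc]; exact one_ne_zero)⟩
  refine Nat.card_le_card_of_injective
    (fun g => (⟨fun e => (g.1.1 e).contract m, fun e => ⟨(hdeg g e).1, ?_⟩, ?_⟩ : Seq F n (n / m))) ?_
  · rw [coeff_contract (by omega), Nat.zero_mul]
    exact (g.1.2.1 e).2
  · refine Nat.eq_div_of_mul_eq_left (by omega) ?_
    rw [Finset.sum_mul]
    refine Eq.trans (Finset.sum_congr rfl fun e _ => ?_) g.1.2.2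
    rw [(hdeg g e).2, mul_assoc, Nat.div_mul_cancel (scaleInv_dvd z g.2 e)]
  · intro g g' h
    refine Subtype.ext (Subtype.ext (funext fun e => Polynomial.ext fun i => ?_))
    have he := congrFun (congrArg Subtype.val h) e
    by_cases hi : m ∣ i
    · obtain ⟨j, rfl⟩ := hi
      rw [mul_comm, ← coeff_contract (by omega : m ≠ 0), ← coeff_contract (by omega : m ≠ 0)]
      exact congrArg (fun Q : F[X] => Q.coeff j) he
    · have key : ∀ f : {g : Seq F n n // ScaleInv z g}, (f.1.1 e).coeff i = 0 := fun f => by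
        by_contra hne
        refine hi ((Nat.dvd_sub_iff_right (le_natDegree_of_ne_zero hne) (scaleInv_dvd z f.2 e)).1 ?_)
        exact orderOf_dvd_of_coeff_ne_zero z (f.2 e) hne
      rw [key g, key g']

theorem scaleInv_gIdx_le (z : Fˣ) {g : Seq F n n} (h : ScaleInv z g) :
    gIdx F (supp g) ≤ Nat.gcd (n / orderOf z) (Fintype.card F - 1) := by
  refine Nat.le_of_dvd ?_ (Nat.dvd_gcd ?_ (Nat.gcd_dvd_left _ _))
  · exact Nat.gcd_pos_of_pos_right _ (by have := Fintype.one_lt_card (α := F); omega)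
  · have hsum : n / orderOf z = ∑ e : Fin n, ((e : ℕ) + 1) * ((g.1 e).natDegree / orderOf z) := by
      refine (Nat.eq_div_of_mul_eq_left (orderOf_pos z).ne' ?_).symm
      rw [Finset.sum_mul]
      refine Eq.trans (Finset.sum_congr rfl fun e _ => ?_) g.2.2
      rw [mul_assoc, Nat.div_mul_cancel (scaleInv_dvd z h e)]
    rw [hsum]
    refine Finset.dvd_sum fun e _ => ?_
    rcases Nat.eq_zero_or_pos (g.1 e).natDegree with hd | hd
    · rw [hd, Nat.zero_div, Nat.mul_zero]; exact dvd_zero _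
    · exact ((Nat.gcd_dvd_right _ _).trans (Finset.gcd_dvd (Finset.mem_filter.2 ⟨Finset.mem_univ e, hd⟩))).mul_right _

theorem fixed_mul_le (z : Fˣ) (hn : 1 ≤ n) (hz : orderOf z ∣ n)
    (S : Set (ConjClasses (Matrix.SpecialLinearGroup (Fin n) F)))
    (hS : ∀ c ∈ S, ∀ s, ConjClasses.mk s = c → ScaleInv z (dat s)) :
    Nat.card S * (Fintype.card F - 1) ≤
      (Fintype.card F ^ (n / orderOf z) - 1) * Nat.gcd (n / orderOf z) (Fintype.card F - 1) ^ 2 := by
  refine (Nat.mul_le_mul_right _ (card_classes_le (ScaleInv z) S hS)).trans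
    ((sum_index_mul_le (ScaleInv z) (scaleInv_twist z)).trans ?_)
  refine le_trans (Finset.sum_le_card_nsmul _ _ (Nat.gcd (n / orderOf z) (Fintype.card F - 1) ^ 2) fun g hg =>
    Nat.pow_le_pow_left (scaleInv_gIdx_le z (Finset.mem_filter.1 hg).2) 2) ?_
  rw [smul_eq_mul]
  exact Nat.mul_le_mul_right _ (scaleInv_card_le z hn hz)

end Cfsg.Agent.GL.SLClassBound
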