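import Cfsg.Agent.Lib.GL.SLClassBound

/-!
The class numbers of `SL n F` and of `PSL n F`.
-/

set_option autoImplicit false

open Polynomial Module
open scoped Classical Matrix

namespace Cfsg.Agent.GL.SLClassNumber

open Cfsg.Agent.GL.ClassNumber Cfsg.Agent.GL.ClassData Cfsg.Agent.GL.SLClassBound

universe u

variable {F : Type u} [Field F] [Fintype F] {n : ℕ}

theorem card_seq_three : Nat.card (Seq F 3 3) ≤ Fintype.card F ^ 3 - Fintype.card F := by
  have hdeg : ∀ g : Seq F 3 3, (g.1 0).natDegree + 2 * (g.1 1).natDegree + 3 * (g.1 2).natDegree = 3 := by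
    intro g
    have := g.2.2
    simpa [Fin.sum_univ_three] using this
  let P : ∀ (g : Seq F 3 3) (i : Fin 3) (a : ℕ), (g.1 i).natDegree = a → Piece F a :=
    fun g i a h => ⟨g.1 i, ⟨(g.2.1 i).1, h⟩, (g.2.1 i).2⟩
  let φ : Seq F 3 3 → Piece F 3 ⊕ (Piece F 1 × Piece F 1) ⊕ Piece F 1 := fun g =>
    if h : (g.1 0).natDegree = 3 then Sum.inl (P g 0 3 h) else
      if h' : (g.1 1).natDegree = 1 then
        Sum.inr (Sum.inl (P g 0 1 (by have := hdeg g; omega), P g 1 1 h'))
      else Sum.inr (Sum.inr (P g 2 1 (by have := hdeg g; omega)))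
  have hφ : Function.Injective φ := by
    intro g g' h
    have h1 := hdeg g
    have h2 := hdeg g'
    have hone : ∀ (g : Seq F 3 3) (i : Fin 3), (g.1 i).natDegree = 0 → g.1 i = 1 :=
      fun g i h => (g.2.1 i).1.natDegree_eq_zero.1 h
    refine Subtype.ext (funext fun i => ?_)
    simp only [φ] at h
    split_ifs at h <;>
      simp only [P, Sum.inl.injEq, Sum.inr.injEq, Prod.mk.injEq, Subtype.mk.injEq, reduceCtorEq] at h
    · fin_cases i
      · exact h
      · exact (hone g 1 (by omega)).trans (hone g' 1 (by omega)).symm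
      · exact (hone g 2 (by omega)).trans (hone g' 2 (by omega)).symm
    · fin_cases i
      · exact h.1
      · exact h.2
      · exact (hone g 2 (by omega)).trans (hone g' 2 (by omega)).symm
    · fin_cases i
      · exact (hone g 0 (by omega)).trans (hone g' 0 (by omega)).symm
      · exact (hone g 1 (by omega)).trans (hone g' 1 (by omega)).symm
      · exact h
  have hq : 2 ≤ Fintype.card F := Fintype.one_lt_card
  refine (Nat.card_le_card_of_injective φ hφ).trans ?_
  rw [Nat.card_sum, Nat.card_sum, Nat.card_prod, card_piece, card_piece]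
  obtain ⟨a, ha⟩ : ∃ a, Fintype.card F = a + 1 := ⟨Fintype.card F - 1, by omega⟩
  rw [ha, Nat.add_sub_cancel]
  refine Nat.le_sub_of_add_le ?_
  nlinarith

theorem divisors_erase_one_cases (p a : ℕ) (hp : p.Prime) :
    (Nat.gcd p a).divisors.erase 1 = ∅ ∨ p ∣ a ∧ (Nat.gcd p a).divisors.erase 1 = {p} := by
  rcases hp.eq_one_or_self_of_dvd _ (Nat.gcd_dvd_left p a) with h | h
  · left; rw [h]; simp
  · refine Or.inr ⟨h ▸ Nat.gcd_dvd_right p a, ?_⟩
    rw [h, hp.divisors, Finset.erase_insert (by simp [hp.one_lt.ne])]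

theorem class_two :
    Nat.card (ConjClasses (Matrix.SpecialLinearGroup (Fin 2) F)) ≤ Fintype.card F + 4 ∧
      2 * Nat.card (ConjClasses (Matrix.SpecialLinearGroup (Fin 2) F)) ≤ 5 * Fintype.card F := by
  have hq : 2 ≤ Fintype.card F := Fintype.one_lt_card
  have hb := class_mul_le (F := F) (n := 2) (by norm_num)
  have hc := card_seq_self_le (F := F) (n := 2) (by norm_num)
  generalize hk : Nat.card (ConjClasses (Matrix.SpecialLinearGroup (Fin 2) F)) = k at hb
  generalize Nat.card (Seq F _ _) = c at hb hc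
  generalize Fintype.card F = q at *
  obtain ⟨a, rfl⟩ : ∃ a, q = a + 1 := ⟨q - 1, by omega⟩
  have hsq : (a + 1) ^ 2 - 1 = a * (a + 2) := by
    have : (a + 1) ^ 2 = a * (a + 2) + 1 := by ring
    omega
  rw [Nat.add_sub_cancel] at hb
  rw [hsq] at hc
  rcases divisors_erase_one_cases 2 a Nat.prime_two with h | ⟨h2, h⟩
  · rw [h] at hb
    simp only [Finset.sum_empty, Nat.add_zero] at hb
    have : k * a ≤ (a + 2) * a := by linarith
    have := Nat.le_of_mul_le_mul_right this (by omega)
    omega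
  · rw [h] at hb
    simp at hb
    have : k * a ≤ (a + 5) * a := by linarith
    have := Nat.le_of_mul_le_mul_right this (by omega)
    have := Nat.le_of_dvd (by omega) h2
    omega

theorem class_three :
    Nat.card (ConjClasses (Matrix.SpecialLinearGroup (Fin 3) F)) ≤
      Fintype.card F ^ 2 + 3 * Fintype.card F := by
  have hq : 2 ≤ Fintype.card F := Fintype.one_lt_card
  have hb := class_mul_le (F := F) (n := 3) (by norm_num)
  have hc := card_seq_three (F := F)
  generalize hk : Nat.card (ConjClasses (Matrix.SpecialLinearGroup (Fin 3) F)) = k at hb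
  generalize Nat.card (Seq F _ _) = c at hb hc
  generalize Fintype.card F = q at *
  obtain ⟨a, rfl⟩ : ∃ a, q = a + 1 := ⟨q - 1, by omega⟩
  have hsq : (a + 1) ^ 3 - (a + 1) = a * ((a + 1) * (a + 2)) := by
    have : (a + 1) ^ 3 = a * ((a + 1) * (a + 2)) + (a + 1) := by ring
    omega
  rw [Nat.add_sub_cancel] at hb
  rw [hsq] at hc
  rcases divisors_erase_one_cases 3 a Nat.prime_three with h | ⟨h3, h⟩
  · rw [h] at hb
    simp only [Finset.sum_empty, Nat.add_zero] at hb
    have : k * a ≤ ((a + 1) * (a + 2)) * a := by linarith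
    have := Nat.le_of_mul_le_mul_right this (by omega)
    nlinarith
  · rw [h] at hb
    simp at hb
    have : k * a ≤ ((a + 1) * (a + 2) + 8) * a := by linarith
    have := Nat.le_of_mul_le_mul_right this (by omega)
    have := Nat.le_of_dvd (by omega) h3
    nlinarith

theorem extra_le {q n : ℕ} (hq : 2 ≤ q) (hn : 4 ≤ n) :
    ∑ d ∈ (Nat.gcd n (q - 1)).divisors.erase 1, (d ^ 2 - 1) * (q ^ (n / d) - 1) ≤
      (2 * q - 3) * q ^ (n - 2) := by
  rcases Nat.lt_or_ge n 6 with h6 | h6
  · rcases (show n = 4 ∨ n = 5 by omega) with rfl | rfl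
    · have hmem : Nat.gcd 4 (q - 1) ∈ Nat.divisors 4 := Nat.mem_divisors.2 ⟨Nat.gcd_dvd_left _ _, by norm_num⟩
      have hle := Nat.le_of_dvd (by omega) (Nat.gcd_dvd_right 4 (q - 1))
      obtain ⟨a, rfl⟩ : ∃ a, q = a + 2 := ⟨q - 2, by omega⟩
      rw [show Nat.divisors 4 = {1, 2, 4} by decide, Finset.mem_insert, Finset.mem_insert, Finset.mem_singleton] at hmem
      rw [show 2 * (a + 2) - 3 = 2 * a + 1 by omega, show 4 - 2 = 2 from rfl]
      rcases hmem with h | h | h <;> rw [h] at hle ⊢
      · simp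
      · rw [show (Nat.divisors 2).erase 1 = {2} by decide, Finset.sum_singleton]
        norm_num
        have : (a + 2) ^ 2 - 1 ≤ (a + 2) ^ 2 := Nat.sub_le _ _
        have : 1 ≤ a := by omega
        nlinarith
      · rw [show (Nat.divisors 4).erase 1 = {2, 4} by decide, Finset.sum_pair (by norm_num)]
        norm_num
        have : (a + 2) ^ 2 - 1 ≤ (a + 2) ^ 2 := Nat.sub_le _ _
        have : 3 ≤ a := by omega
        have : 7 * (a + 2) ^ 2 ≤ (2 * a + 1) * (a + 2) ^ 2 := Nat.mul_le_mul_right _ (by omega)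
        nlinarith
    · rcases divisors_erase_one_cases 5 (q - 1) (by norm_num) with h | ⟨h5, h⟩
      · rw [h]; simp
      · have := Nat.le_of_dvd (by omega) h5
        rw [h, Finset.sum_singleton]
        norm_num
        calc 24 * (q - 1) ≤ (2 * q - 3) * q * q * q := by
              have : 9 * 6 * 6 ≤ (2 * q - 3) * q * q := Nat.mul_le_mul (Nat.mul_le_mul (by omega) (by omega)) (by omega)
              exact Nat.mul_le_mul (by omega) (Nat.sub_le _ _)
          _ = (2 * q - 3) * q ^ 3 := by ring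
  rcases Nat.lt_or_ge q 4 with hq4 | hq4
  · rcases (show q = 2 ∨ q = 3 by omega) with rfl | rfl
    · simp
    have hmem : ∀ d ∈ (Nat.gcd n (3 - 1)).divisors.erase 1, d = 2 := by
      intro d hd
      have h1 := Finset.mem_erase.1 hd
      have h2 := (Nat.mem_divisors.1 h1.2)
      have := Nat.le_of_dvd (by omega) (h2.1.trans (Nat.gcd_dvd_right _ _))
      have : 0 < d := Nat.pos_of_dvd_of_pos h2.1 (Nat.pos_of_ne_zero h2.2)
      omega
    refine le_trans (Finset.sum_le_sum_of_subset (show _ ⊆ ({2} : Finset ℕ) from fun d hd =>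
      Finset.mem_singleton.2 (hmem d hd))) ?_
    rw [Finset.sum_singleton]
    calc (2 ^ 2 - 1) * (3 ^ (n / 2) - 1) ≤ 3 * 3 ^ (n / 2) := Nat.mul_le_mul (by norm_num) (Nat.sub_le _ _)
        _ = 3 ^ (n / 2 + 1) := by ring
        _ ≤ 3 ^ (n - 2) := Nat.pow_le_pow_right (by norm_num) (by omega)
        _ ≤ _ := Nat.le_mul_of_pos_left _ (by norm_num)
  have hD : ∀ d ∈ (Nat.gcd n (q - 1)).divisors.erase 1, 2 ≤ d ∧ d < q := by
    intro d hd
    have h1 := Finset.mem_erase.1 hd
    have h2 := (Nat.mem_divisors.1 h1.2)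
    have := Nat.le_of_dvd (by omega) (h2.1.trans (Nat.gcd_dvd_right _ _))
    have : 0 < d := Nat.pos_of_dvd_of_pos h2.1 (Nat.pos_of_ne_zero h2.2)
    omega
  calc _ ≤ ∑ d ∈ Finset.Ico 2 q, (d ^ 2 - 1) * (q ^ (n / d) - 1) :=
        Finset.sum_le_sum_of_subset fun d hd => Finset.mem_Ico.2 (hD d hd)
    _ = (2 ^ 2 - 1) * (q ^ (n / 2) - 1) + ∑ d ∈ Finset.Ico 3 q, (d ^ 2 - 1) * (q ^ (n / d) - 1) :=
        Finset.sum_eq_sum_Ico_succ_bot (by omega) _
    _ ≤ q * q ^ (n / 2) + q * (q ^ 2 * q ^ (n / 3)) := by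
        refine Nat.add_le_add (Nat.mul_le_mul (by norm_num; omega) (Nat.sub_le _ _)) ?_
        refine (Finset.sum_le_card_nsmul _ _ (q ^ 2 * q ^ (n / 3)) fun d hd => ?_).trans ?_
        · rw [Finset.mem_Ico] at hd
          exact Nat.mul_le_mul ((Nat.sub_le _ _).trans (Nat.pow_le_pow_left (by omega) 2))
            ((Nat.sub_le _ _).trans (Nat.pow_le_pow_right (by omega) (Nat.div_le_div_left hd.1 (by norm_num))))
        · rw [smul_eq_mul, Nat.card_Ico]
          exact Nat.mul_le_mul_right _ (by omega)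
    _ = q ^ (n / 2 + 1) + q ^ (n / 3 + 3) := by ring
    _ ≤ q ^ (n - 2) + q ^ (n - 1) := Nat.add_le_add (Nat.pow_le_pow_right (by omega) (by omega))
        (Nat.pow_le_pow_right (by omega) (by omega))
    _ = (q + 1) * q ^ (n - 2) := by rw [show n - 1 = (n - 2) + 1 by omega, pow_succ]; ring
    _ ≤ _ := Nat.mul_le_mul_right _ (by omega)

theorem class_le (hn : 3 ≤ n) :
    Nat.card (ConjClasses (Matrix.SpecialLinearGroup (Fin n) F)) ≤
      Fintype.card F ^ (n - 1) + 3 * Fintype.card F ^ (n - 2) := by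
  rcases Nat.eq_or_lt_of_le hn with rfl | hn4
  · simpa using class_three (F := F)
  have hq : 2 ≤ Fintype.card F := Fintype.one_lt_card
  have hb := class_mul_le (F := F) (n := n) (by omega)
  have hc := card_seq_self_le (F := F) (n := n) (by omega)
  have he := extra_le hq (show 4 ≤ n by omega)
  generalize hk : Nat.card (ConjClasses (Matrix.SpecialLinearGroup (Fin n) F)) = k at hb
  generalize Fintype.card F = q at *
  obtain ⟨m, rfl⟩ : ∃ m, n = m + 2 := ⟨n - 2, by omega⟩
  obtain ⟨a, rfl⟩ : ∃ a, q = a + 2 := ⟨q - 2, by omega⟩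
  simp only [Nat.add_sub_cancel, show m + 2 - 1 = m + 1 by omega, show 2 * (a + 2) - 3 = 2 * a + 1 by omega] at *
  refine Nat.le_of_mul_le_mul_right ?_ (show 0 < a + 2 - 1 by omega)
  rw [show a + 2 - 1 = a + 1 by omega] at *
  have : (a + 2) ^ (m + 2) - 1 ≤ (a + 2) ^ (m + 2) := Nat.sub_le _ _
  have e1 : (a + 2) ^ (m + 2) = (a + 2) ^ m * ((a + 2) * (a + 2)) := by ring
  have e2 : (a + 2) ^ (m + 1) = (a + 2) ^ m * (a + 2) := by ring
  rw [e2]
  nlinarith

theorem exists_sl_charpoly {P : F[X]} (hP : P.Monic) (hdeg : P.natDegree = n) (h0 : P.coeff 0 = (-1) ^ n) :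
    ∃ A : Matrix.SpecialLinearGroup (Fin n) F, (A : Matrix (Fin n) (Fin n) F).charpoly = P := by
  subst hdeg
  let pb := AdjoinRoot.powerBasis' hP
  let M := Matrix.reindex (finCongr (AdjoinRoot.powerBasis'_dim hP)) (finCongr (AdjoinRoot.powerBasis'_dim hP))
    (Algebra.leftMulMatrix pb.basis pb.gen)
  have hM : M.charpoly = P := by rw [Matrix.charpoly_reindex, charpoly_companion hP]
  refine ⟨⟨M, ?_⟩, hM⟩
  rw [Matrix.det_eq_sign_charpoly_coeff, hM, h0, Fintype.card_fin, ← mul_pow]
  simp

theorem lt_class (hn : 2 ≤ n) :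
    Fintype.card F ^ (n - 1) < Nat.card (ConjClasses (Matrix.SpecialLinearGroup (Fin n) F)) := by
  let T := {P : F[X] // (P.Monic ∧ P.natDegree = n) ∧ P.coeff 0 ∈ ({(-1) ^ n} : Set F)}
  have hT : Nat.card T = Fintype.card F ^ (n - 1) := by
    rw [Semisimple.card_monic _ _ (by omega)]
    simp
  have : Finite T := Nat.finite_of_card_ne_zero (by rw [hT]; exact pow_ne_zero _ Fintype.card_ne_zero)
  let χ := fun A : Matrix.SpecialLinearGroup (Fin n) F => (A : Matrix (Fin n) (Fin n) F).charpoly
  have hinv : ∀ A B, ConjClasses.mk A = ConjClasses.mk B → χ A = χ B := fun A B h =>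
    Semisimple.charpoly_eq_of_isConj Semisimple.slVal A B (ConjClasses.mk_eq_mk_iff_isConj.1 h)
  have hij : (⟨0, by omega⟩ : Fin n) ≠ ⟨1, by omega⟩ := by simp
  let τ := Matrix.SpecialLinearGroup.transvection hij (1 : F)
  have hτ1 : τ ≠ 1 := by
    intro h
    have := congrArg (fun A : Matrix.SpecialLinearGroup (Fin n) F =>
      (A : Matrix (Fin n) (Fin n) F) ⟨0, by omega⟩ ⟨1, by omega⟩) h
    simp [τ, Matrix.SpecialLinearGroup.transvection_coe] at this
  have hτ : χ τ = χ 1 := by
    simp only [χ]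
    rw [Matrix.SpecialLinearGroup.coe_one, Matrix.charpoly_one, Matrix.charpoly_of_isUpperTriangular]
    · simp only [τ, Matrix.SpecialLinearGroup.transvection_coe, Matrix.add_apply, Matrix.single_apply,
        Matrix.one_apply_eq]
      rw [Finset.prod_congr rfl fun x _ => by rw [if_neg (by rintro ⟨rfl, h⟩; simp at h), add_zero, map_one]]
      simp
    · intro i j hji
      simp only [τ, Matrix.SpecialLinearGroup.transvection_coe, Matrix.add_apply, Matrix.single_apply]
      rw [Matrix.one_apply_ne (show j < i from hji).ne', if_neg, add_zero]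
      rintro ⟨rfl, rfl⟩
      simp [Fin.lt_def] at hji
  let A : T → Matrix.SpecialLinearGroup (Fin n) F := fun P =>
    if χ 1 = P.1 then 1 else (exists_sl_charpoly P.2.1.1 P.2.1.2 P.2.2).choose
  have hA : ∀ P : T, χ (A P) = P.1 := by
    intro P
    simp only [A]
    split_ifs with h
    · exact h
    · exact (exists_sl_charpoly P.2.1.1 P.2.1.2 P.2.2).choose_spec
  let f : Option T → ConjClasses (Matrix.SpecialLinearGroup (Fin n) F) := fun o =>
    o.elim (ConjClasses.mk τ) fun P => ConjClasses.mk (A P)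
  have key : ∀ P : T, ConjClasses.mk τ ≠ ConjClasses.mk (A P) := by
    intro P h
    have h1 : χ 1 = P.1 := hτ.symm.trans ((hinv _ _ h).trans (hA P))
    simp only [A, if_pos h1] at h
    obtain ⟨c, hc⟩ := isConj_iff.1 (ConjClasses.mk_eq_mk_iff_isConj.1 h).symm
    exact hτ1 (by simpa using hc.symm)
  have hf : Function.Injective f := by
    rintro (_ | P) (_ | P') h
    · rfl
    · exact absurd h (key P')
    · exact absurd h.symm (key P)
    · exact congrArg some (Subtype.ext ((hA P).symm.trans ((hinv _ _ h).trans (hA P'))))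
  have := Nat.card_le_card_of_injective f hf
  rw [Finite.card_option, hT] at this
  omega

theorem two_mul_le (hn : 2 ≤ n) :
    2 * Nat.card (ConjClasses (Matrix.SpecialLinearGroup (Fin n) F)) ≤ 5 * Fintype.card F ^ (n - 1) := by
  rcases Nat.eq_or_lt_of_le hn with rfl | h3
  · simpa using (class_two (F := F)).2
  refine (Nat.mul_le_mul_left 2 (class_le h3)).trans ?_
  have hq : 2 ≤ Fintype.card F := Fintype.one_lt_card
  rw [show n - 1 = (n - 2) + 1 by omega, pow_succ]
  nlinarith [Nat.zero_le (Fintype.card F ^ (n - 2))]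

/-! ### The quotient by the centre -/

theorem card_center_mul_classes {G : Type*} [Group G] [Finite G] [Fintype (Subgroup.center G)] :
    Nat.card (Subgroup.center G) * Nat.card (ConjClasses (G ⧸ Subgroup.center G)) =
      ∑ z : Subgroup.center G, Nat.card {c : ConjClasses G | ∃ x, ConjClasses.mk x = c ∧ IsConj x ((z : G) * x)} := by
  have hcomm : ∀ (z : Subgroup.center G) (c x : G), c * ((z : G) * x) * c⁻¹ = (z : G) * (c * x * c⁻¹) := by
    intro z c x
    rw [← mul_assoc c, (Subgroup.mem_center_iff.1 z.2 c), mul_assoc, mul_assoc, mul_assoc]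
  let : MulAction (Subgroup.center G) (ConjClasses G) :=
    { smul := fun z => Quotient.map' (fun x => (z : G) * x) fun x y h => by
        obtain ⟨c, rfl⟩ := isConj_iff.1 h
        exact isConj_iff.2 ⟨c, hcomm z c x⟩
      one_smul := fun c => Quotient.inductionOn' c fun x => congrArg ConjClasses.mk (one_mul x)
      mul_smul := fun a b c => Quotient.inductionOn' c fun x =>
        congrArg ConjClasses.mk (mul_assoc (a : G) (b : G) x) }
  have hsmul : ∀ (z : Subgroup.center G) (x : G), z • ConjClasses.mk x = ConjClasses.mk ((z : G) * x) :=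
    fun _ _ => rfl
  have hfix : ∀ z : Subgroup.center G, {c : ConjClasses G | ∃ x, ConjClasses.mk x = c ∧ IsConj x ((z : G) * x)} =
      MulAction.fixedBy (ConjClasses G) z := by
    intro z
    ext c
    refine Quotient.inductionOn' c fun x => ?_
    show (∃ y, ConjClasses.mk y = ConjClasses.mk x ∧ _) ↔ z • ConjClasses.mk x = ConjClasses.mk x
    constructor
    · rintro ⟨y, hy, hy'⟩
      rw [← hy, hsmul]
      exact (ConjClasses.mk_eq_mk_iff_isConj.2 hy').symm
    · intro h
      rw [hsmul] at h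
      exact ⟨x, rfl, (ConjClasses.mk_eq_mk_iff_isConj.1 h).symm⟩
  simp only [hfix]
  let π := QuotientGroup.mk' (Subgroup.center G)
  let f : ConjClasses G → ConjClasses (G ⧸ Subgroup.center G) := ConjClasses.map π
  have hf : ∀ a b, f a = f b ↔ ∃ z : Subgroup.center G, z • b = a := by
    intro a b
    refine Quotient.inductionOn₂' a b fun x y => ?_
    show ConjClasses.mk (π x) = ConjClasses.mk (π y) ↔ ∃ z : Subgroup.center G, z • ConjClasses.mk y = ConjClasses.mk x
    simp only [hsmul, ConjClasses.mk_eq_mk_iff_isConj]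
    constructor
    · intro h
      obtain ⟨c, hc⟩ := isConj_iff.1 h
      obtain ⟨c, rfl⟩ := QuotientGroup.mk'_surjective _ c
      rw [← map_inv, ← map_mul, ← map_mul] at hc
      obtain ⟨z, hz, hzy⟩ := (QuotientGroup.mk'_eq_mk' _).1 hc
      refine ⟨⟨z, hz⟩⁻¹, isConj_iff.2 ⟨c⁻¹, ?_⟩⟩
      rw [← hzy]
      have := Subgroup.mem_center_iff.1 hz (c * x * c⁻¹)
      rw [this]
      simp [mul_assoc]
    · rintro ⟨z, hz⟩
      have := (π.map_isConj hz).symm
      rwa [map_mul, show π (z : G) = 1 from (QuotientGroup.eq_one_iff _).2 z.2, one_mul] at this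
  have hcard : Nat.card (MulAction.orbitRel.Quotient (Subgroup.center G) (ConjClasses G)) =
      Nat.card (ConjClasses (G ⧸ Subgroup.center G)) := by
    refine Nat.card_congr (Equiv.ofBijective (Quotient.lift f fun a b h => ?_) ⟨?_, ?_⟩)
    · obtain ⟨z, hz⟩ := h
      exact (hf a b).2 ⟨z, hz⟩
    · intro a b
      refine Quotient.inductionOn₂' a b fun a b h => Quotient.sound' ?_
      exact (hf a b).1 h
    · intro c
      refine Quotient.inductionOn' c fun x => ?_
      obtain ⟨y, rfl⟩ := QuotientGroup.mk'_surjective _ x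
      exact ⟨Quotient.mk'' (ConjClasses.mk y), rfl⟩
  have := Fintype.ofFinite (ConjClasses G)
  have := Fintype.ofFinite (MulAction.orbitRel.Quotient (Subgroup.center G) (ConjClasses G))
  rw [← hcard, mul_comm]
  simp only [Nat.card_eq_fintype_card]
  exact (MulAction.sum_card_fixedBy_eq_card_orbits_mul_card_group (Subgroup.center G) (ConjClasses G)).symm

/-- The bound for the classes fixed by the scalar `z`, times `q - 1`. -/
noncomputable def bnd (n : ℕ) (z : Fˣ) : ℕ :=
  (Fintype.card F ^ (n / orderOf z) - 1) * Nat.gcd (n / orderOf z) (Fintype.card F - 1) ^ 2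

variable (F) in
/-- The nontrivial `n`-th roots of unity. -/
noncomputable def roots (n : ℕ) : Finset Fˣ :=
  Finset.univ.filter fun z => z ^ n = 1 ∧ z ≠ 1

theorem psl_mul_le (hn : 2 ≤ n) :
    Nat.gcd n (Fintype.card F - 1) *
        Nat.card (ConjClasses (Matrix.ProjectiveSpecialLinearGroup (Fin n) F)) * (Fintype.card F - 1) ≤
      Nat.card (ConjClasses (Matrix.SpecialLinearGroup (Fin n) F)) * (Fintype.card F - 1) +
        ∑ z ∈ roots F n, bnd n z ∧
    Nat.card (ConjClasses (Matrix.SpecialLinearGroup (Fin n) F)) ≤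
      Nat.gcd n (Fintype.card F - 1) * Nat.card (ConjClasses (Matrix.ProjectiveSpecialLinearGroup (Fin n) F)) := by
  have : Nonempty (Fin n) := ⟨⟨0, by omega⟩⟩
  let G := Matrix.SpecialLinearGroup (Fin n) F
  let : Fintype (Subgroup.center G) := Fintype.ofFinite _
  let S := fun z : Subgroup.center G =>
    {c : ConjClasses G | ∃ x, ConjClasses.mk x = c ∧ IsConj x ((z : G) * x)}
  have htot := card_center_mul_classes (G := G)
  rw [card_center_SL, Fintype.card_fin] at htot
  change _ = ∑ z, Nat.card (S z) at htot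
  have h1 : Nat.card (S 1) = Nat.card (ConjClasses G) := by
    rw [show S 1 = Set.univ from Set.eq_univ_of_forall fun c => Quotient.inductionOn' c fun x =>
      ⟨x, rfl, by rw [OneMemClass.coe_one, one_mul]⟩, Nat.card_congr (Equiv.Set.univ _)]
  rw [← Finset.add_sum_erase _ _ (Finset.mem_univ (1 : Subgroup.center G)), h1] at htot
  constructor
  swap
  · exact le_of_le_of_eq (Nat.le_add_right _ _) htot.symm
  rw [show Nat.gcd n (Fintype.card F - 1) * Nat.card (ConjClasses (Matrix.ProjectiveSpecialLinearGroup (Fin n) F)) =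
    _ from htot, Nat.add_mul]
  refine Nat.add_le_add_left ?_ _
  have hr : ∀ z : Subgroup.center G, ∃ r : Fˣ, r ^ n = 1 ∧
      Matrix.scalar (Fin n) (r : F) = ((z : G) : Matrix (Fin n) (Fin n) F) := by
    intro z
    obtain ⟨r, hr, hz⟩ := Matrix.SpecialLinearGroup.mem_center_iff.1 z.2
    rw [Fintype.card_fin] at hr
    exact ⟨Units.mk0 r (fun h => by simp [h, zero_pow (show n ≠ 0 by omega)] at hr), Units.ext (by simpa using hr), hz⟩
  choose r hr hzr using hr
  have hinj : Function.Injective r := fun a b h => by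
    refine Subtype.ext (Subtype.ext ?_)
    rw [← hzr a, ← hzr b, h]
  rw [Finset.sum_mul]
  refine le_trans (Finset.sum_le_sum (g := fun z => bnd n (r z)) fun z _ => ?_) ?_
  · refine fixed_mul_le (r z) (by omega) (orderOf_dvd_of_pow_eq_one (hr z)) (S z) ?_
    rintro c ⟨x, rfl, hx⟩ s hs
    rw [dat_congr (ConjClasses.mk_eq_mk_iff_isConj.1 hs)]
    refine scaleInv_dat (r z) x ((z : G) * x) hx ?_
    rw [Matrix.SpecialLinearGroup.coe_mul, ← hzr z, Matrix.scalar_apply, ← Matrix.smul_eq_diagonal_mul]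
  · rw [← Finset.sum_image (f := fun x => bnd n x) hinj.injOn]
    refine Finset.sum_le_sum_of_subset fun y hy => ?_
    obtain ⟨z, hz, rfl⟩ := Finset.mem_image.1 hy
    refine Finset.mem_filter.2 ⟨Finset.mem_univ _, hr z, fun h => (Finset.mem_erase.1 hz).1 ?_⟩
    refine Subtype.ext (Subtype.ext ?_)
    rw [← hzr z, h]
    simp

theorem card_roots_le (n : ℕ) (hn : 0 < n) :
    (roots F n).card ≤ n - 1 ∧ (roots F n).card ≤ Fintype.card F - 2 := by
  have h : roots F n = (Finset.univ.filter fun z : Fˣ => z ^ n = 1).erase 1 := by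
    ext z; simp [roots, and_comm]
  rw [h, Finset.card_erase_of_mem (by simp)]
  have h1 := IsCyclic.card_pow_eq_one_le (α := Fˣ) hn
  have h2 := Finset.card_le_univ (Finset.univ.filter fun z : Fˣ => z ^ n = 1)
  rw [Fintype.card_units] at h2
  omega

theorem roots_two_card_le (n : ℕ) : ((roots F n).filter fun z => orderOf z = 2).card ≤ 1 := by
  refine le_trans (Finset.card_le_card fun z hz => ?_) ((card_roots_le 2 (by norm_num)).1)
  rw [Finset.mem_filter] at hz
  exact Finset.mem_filter.2 ⟨Finset.mem_univ _, by rw [← hz.2]; exact pow_orderOf_eq_one z,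
    (Finset.mem_filter.1 hz.1).2.2⟩

theorem roots_order {z : Fˣ} (hz : z ∈ roots F n) : orderOf z ∣ n ∧ 2 ≤ orderOf z := by
  rw [roots, Finset.mem_filter] at hz
  refine ⟨orderOf_dvd_of_pow_eq_one hz.2.1, ?_⟩
  have := orderOf_pos z
  have : orderOf z ≠ 1 := fun h => hz.2.2 (orderOf_eq_one_iff.1 h)
  omega

theorem bnd_prime (hp : n.Prime) {z : Fˣ} (hz : z ∈ roots F n) : bnd n z = Fintype.card F - 1 := by
  have h := roots_order hz
  rcases hp.eq_one_or_self_of_dvd _ h.1 with h' | h'
  · omega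
  · rw [bnd, h', Nat.div_self hp.pos, pow_one, Nat.gcd_one_left, one_pow, mul_one]

theorem bnd_sum_two : ∑ z ∈ roots F 2, bnd 2 z ≤ Fintype.card F - 1 := by
  rw [Finset.sum_congr rfl fun z hz => bnd_prime Nat.prime_two hz, Finset.sum_const, smul_eq_mul]
  calc _ ≤ 1 * (Fintype.card F - 1) := Nat.mul_le_mul_right _ (card_roots_le 2 (by norm_num)).1
    _ = _ := one_mul _

theorem bnd_sum_le (hn : 3 ≤ n) :
    ∑ z ∈ roots F n, bnd n z ≤ 2 * (Fintype.card F - 1) * Fintype.card F ^ (n - 2) := by
  have hq : 2 ≤ Fintype.card F := Fintype.one_lt_card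
  rcases (roots F n).eq_empty_or_nonempty with h0 | h0
  · simp [h0]
  have hcard := card_roots_le (F := F) n (by omega)
  have hpos := h0.card_pos
  have h2 := roots_two_card_le (F := F) n
  -- split off the elements of order two
  have split2 : ∀ A B, (∀ z ∈ roots F n, orderOf z = 2 → bnd n z ≤ A) →
      (∀ z ∈ roots F n, orderOf z ≠ 2 → bnd n z ≤ B) →
      ∑ z ∈ roots F n, bnd n z ≤ A + (roots F n).card * B := by
    intro A B hA hB
    rw [← Finset.sum_filter_add_sum_filter_not _ (fun z => orderOf z = 2)]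
    refine Nat.add_le_add ((Finset.sum_le_card_nsmul _ _ A fun z hz => ?_).trans ?_)
      ((Finset.sum_le_card_nsmul _ _ B fun z hz => ?_).trans ?_)
    · exact hA z (Finset.mem_filter.1 hz).1 (Finset.mem_filter.1 hz).2
    · rw [smul_eq_mul]; exact (Nat.mul_le_mul_right _ h2).trans (one_mul A).le
    · exact hB z (Finset.mem_filter.1 hz).1 (Finset.mem_filter.1 hz).2
    · rw [smul_eq_mul]; exact Nat.mul_le_mul_right _ (Finset.card_le_card (Finset.filter_subset _ _))
  have hgcd : ∀ k, 0 < k → Nat.gcd k (Fintype.card F - 1) ^ 2 ≤ k ^ 2 := fun k hk =>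
    Nat.pow_le_pow_left (Nat.le_of_dvd hk (Nat.gcd_dvd_left _ _)) 2
  rcases Nat.lt_or_ge n 7 with h7 | h7
  · obtain ⟨a, ha⟩ : ∃ a, Fintype.card F = a + 3 := ⟨Fintype.card F - 3, by omega⟩
    have hprime : n.Prime → ∑ z ∈ roots F n, bnd n z ≤ 2 * (Fintype.card F - 1) * Fintype.card F ^ (n - 2) := by
      intro hp
      rw [Finset.sum_congr rfl fun z hz => bnd_prime hp hz, Finset.sum_const, smul_eq_mul]
      calc _ ≤ (2 * Fintype.card F ^ (n - 2)) * (Fintype.card F - 1) := by
            refine Nat.mul_le_mul_right _ (hcard.1.trans ?_)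
            rcases (show n ≤ 3 ∨ 4 ≤ n by omega) with h | h
            · have := Nat.one_le_pow (n - 2) (Fintype.card F) (by omega)
              omega
            · have : (3 : ℕ) ^ 2 ≤ Fintype.card F ^ (n - 2) :=
                (Nat.pow_le_pow_left (by omega) 2).trans (Nat.pow_le_pow_right (by omega) (by omega))
              omega
        _ = _ := by ring
    rcases (show n = 3 ∨ n = 4 ∨ n = 5 ∨ n = 6 by omega) with rfl | rfl | rfl | rfl
    · exact hprime (by norm_num)
    · have hA : ∀ z ∈ roots F 4, orderOf z = 2 → bnd 4 z ≤ 4 * (Fintype.card F ^ 2 - 1) := by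
        intro z _ hz
        rw [bnd, hz, mul_comm 4]
        exact Nat.mul_le_mul_left _ (hgcd 2 (by norm_num))
      have hB : ∀ z ∈ roots F 4, orderOf z ≠ 2 → bnd 4 z ≤ Fintype.card F - 1 := by
        intro z hz hne
        obtain ⟨hd, hz2⟩ := roots_order hz
        have : orderOf z ≤ 4 := Nat.le_of_dvd (by norm_num) hd
        have h4 : orderOf z = 4 := by
          interval_cases h : orderOf z <;> omega
        simp [bnd, h4]
      refine (split2 _ _ hA hB).trans ?_
      obtain ⟨b, hb, hb'⟩ : ∃ b, (roots F 4).card = b ∧ b ≤ 3 ∧ b ≤ a + 1 := ⟨_, rfl, by omega, by omega⟩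
      rw [hb, ha]
      norm_num
      rcases Nat.eq_zero_or_pos a with rfl | hapos
      · omega
      · have : (a + 3) ^ 2 - 1 ≤ (a + 3) ^ 2 := Nat.sub_le _ _
        nlinarith
    · exact hprime (by norm_num)
    · have hA : ∀ z ∈ roots F 6, orderOf z = 2 → bnd 6 z ≤ 9 * Fintype.card F ^ 3 := by
        intro z _ hz
        rw [bnd, hz, mul_comm 9]
        exact Nat.mul_le_mul (Nat.sub_le _ _) (hgcd 3 (by norm_num))
      have hB : ∀ z ∈ roots F 6, orderOf z ≠ 2 → bnd 6 z ≤ 4 * Fintype.card F ^ 2 := by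
        intro z hz hne
        obtain ⟨hd, hz2⟩ := roots_order hz
        have hle : 6 / orderOf z ≤ 2 := by
          refine le_trans (Nat.div_le_div_left (show 3 ≤ orderOf z by omega) (by norm_num)) le_rfl
        have hpos' : 0 < 6 / orderOf z := Nat.div_pos (Nat.le_of_dvd (by norm_num) hd) (by omega)
        rw [bnd, mul_comm 4]
        exact Nat.mul_le_mul ((Nat.sub_le _ _).trans (Nat.pow_le_pow_right (by omega) hle))
          ((hgcd _ hpos').trans (Nat.pow_le_pow_left hle 2))
      refine (split2 _ _ hA hB).trans ?_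
      obtain ⟨b, hb, hb'⟩ : ∃ b, (roots F 6).card = b ∧ b ≤ a + 1 := ⟨_, rfl, by omega⟩
      rw [hb, ha, show a + 3 - 1 = a + 2 by omega, show 6 - 2 = 4 from rfl]
      nlinarith [Nat.zero_le (a * (a + 3) ^ 2)]
  · calc ∑ z ∈ roots F n, bnd n z ≤ (roots F n).card * (Fintype.card F ^ (n / 2) * (Fintype.card F - 1) ^ 2) := by
          refine (Finset.sum_le_card_nsmul _ _ _ fun z hz => ?_).trans (smul_eq_mul _ _).le
          obtain ⟨-, hz2⟩ := roots_order hz
          exact Nat.mul_le_mul ((Nat.sub_le _ _).trans (Nat.pow_le_pow_right (by omega) (Nat.div_le_div_left hz2 (by norm_num))))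
            (Nat.pow_le_pow_left (Nat.le_of_dvd (by omega) (Nat.gcd_dvd_right _ _)) 2)
      _ ≤ (Fintype.card F - 1) * (Fintype.card F ^ (n / 2) * Fintype.card F ^ 2) :=
          Nat.mul_le_mul (by omega) (Nat.mul_le_mul_left _ (Nat.pow_le_pow_left (Nat.sub_le _ _) 2))
      _ ≤ (Fintype.card F - 1) * Fintype.card F ^ (n - 2) := by
          rw [← pow_add]
          exact Nat.mul_le_mul_left _ (Nat.pow_le_pow_right (by omega) (by omega))
      _ ≤ _ := by rw [mul_assoc]; exact Nat.le_mul_of_pos_left _ (by norm_num)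

theorem psl_bounds (hn : 2 ≤ n) :
    Fintype.card F ^ (n - 1) ≤
        Nat.gcd n (Fintype.card F - 1) * Nat.card (ConjClasses (Matrix.ProjectiveSpecialLinearGroup (Fin n) F)) ∧
      Nat.gcd n (Fintype.card F - 1) * Nat.card (ConjClasses (Matrix.ProjectiveSpecialLinearGroup (Fin n) F)) ≤
        Fintype.card F ^ (n - 1) + 5 * Fintype.card F ^ (n - 2) := by
  have hq : 2 ≤ Fintype.card F := Fintype.one_lt_card
  obtain ⟨hle, hge⟩ := psl_mul_le (F := F) hn
  refine ⟨(lt_class hn).le.trans hge, Nat.le_of_mul_le_mul_right (hle.trans ?_)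
    (show 0 < Fintype.card F - 1 by omega)⟩
  rcases Nat.eq_or_lt_of_le hn with rfl | h3
  · have h := Nat.mul_le_mul_right (Fintype.card F - 1) (class_two (F := F)).1
    have := bnd_sum_two (F := F)
    simp only [show 2 - 1 = 1 from rfl, Nat.sub_self, pow_one, pow_zero, mul_one]
    rw [Nat.add_mul] at h ⊢
    omega
  · have h := Nat.mul_le_mul_right (Fintype.card F - 1) (class_le (F := F) h3)
    have := bnd_sum_le (F := F) h3
    refine (Nat.add_le_add h this).trans (le_of_eq ?_)
    ring

end Cfsg.Agent.GL.SLClassNumber
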