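/-
Upper bound for the number of classes of `SU n q` through self-dual class data and cosets of determinants.
-/
import Cfsg.Agent.Lib.GL.SLClassBound
import Cfsg.Agent.Lib.GL.UnitaryData
import Cfsg.Agent.Lib.Semisimple.UnitaryDet

set_option autoImplicit false

open Polynomial Module
open scoped Classical Matrix

namespace Cfsg.Agent.GL.SUClassBound

open Cfsg.Agent.GL.ClassNumber Cfsg.Agent.GL.ClassData Cfsg.Agent.GL.SLClassBound UnitaryConj
open Semisimple (udual)

universe u

variable {F : Type u} [Field F] [Fintype F] {q : ℕ} (hF : Fintype.card F = q ^ 2) {n m : ℕ}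

local notation "σ" => Forms.qEnd hF

/-- The scalars of norm one. -/
abbrev W (F : Type u) [Field F] (q : ℕ) : Subgroup Fˣ := (powMonoidHom (α := Fˣ) (q + 1)).ker

include hF in
theorem sigma_eq_inv {c : Fˣ} (hc : c ∈ W F q) : σ (c : F) = (c : F)⁻¹ := by
  refine eq_inv_of_mul_eq_one_left ?_
  rw [Forms.qEnd_apply, ← pow_succ, ← Units.val_pow_eq_pow_val, show c ^ (q + 1) = 1 from hc, Units.val_one]

/-- Self-dual monic polynomials of degree `a` with constant term `c`. -/
def Fib (a : ℕ) (c : Fˣ) : Type u :=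
  {P : F[X] // P.Monic ∧ P.natDegree = a ∧ P.coeff 0 = c ∧ udual hF P = P}

theorem card_fib (a : ℕ) {c : Fˣ} (hc : c ∈ W F q) : Nat.card (Fib hF (a + 1) c) = q ^ a := by
  set s : F := (c : F) with hs
  have hσs : σ s = s⁻¹ := sigma_eq_inv hF hc
  have hs0 : s ≠ 0 := c.ne_zero
  let ι : (Fin a → F) →+ (Fin a → F) :=
    AddMonoidHom.mk' (fun v i => s * σ (v (Fin.rev i))) fun v v' => funext fun i => by simp [mul_add]
  have hι : ∀ v i, ι v i = s * σ (v (Fin.rev i)) := fun v i => rfl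
  rw [← Semisimple.card_fixed hF a ι (fun v => funext fun i => by
      rw [hι, hι, Fin.rev_rev, map_mul, Forms.qEnd_qEnd, hσs, ← mul_assoc, mul_inv_cancel₀ hs0, one_mul])
    (fun b v => funext fun i => by
      show s * σ (b * v (Fin.rev i)) = σ b * (s * σ (v (Fin.rev i)))
      rw [map_mul]; ring)]
  have hrev : ∀ i : Fin a, revAt (a + 1) ((i : ℕ) + 1) = ((Fin.rev i : Fin a) : ℕ) + 1 := fun i => by
    have := i.2
    rw [revAt_le (by omega), Fin.val_rev]
    omega
  refine Nat.card_congr (Equiv.ofBijective (fun P => ⟨fun i => P.1.coeff ((i : ℕ) + 1), funext fun i => ?_⟩) ⟨?_, ?_⟩)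
  · obtain ⟨-, hn, h0, hd⟩ := P.2
    have h := congrArg (fun R => coeff R ((i : ℕ) + 1)) hd
    simp only [Semisimple.udual_coeff, hn, h0, hrev, map_mul, map_inv₀] at h
    rw [hι]
    exact (congrArg (· * _) (by rw [← hs, hσs, inv_inv])).trans h
  · intro P Q h
    refine Subtype.ext (Polynomial.ext fun j => ?_)
    obtain ⟨hPm, hPn, hP0, -⟩ := P.2
    obtain ⟨hQm, hQn, hQ0, -⟩ := Q.2
    rcases j with _ | j
    · rw [hP0, hQ0]
    rcases Nat.lt_trichotomy j a with hj | hj | hj
    · exact congrFun (congrArg Subtype.val h) ⟨j, hj⟩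
    · have e1 := hPm.coeff_natDegree
      have e2 := hQm.coeff_natDegree
      rw [hPn] at e1
      rw [hQn] at e2
      rw [hj, e1, e2]
    · rw [coeff_eq_zero_of_natDegree_lt (by omega), coeff_eq_zero_of_natDegree_lt (by omega)]
  · rintro ⟨v, hv⟩
    let b : ℕ → F := fun j =>
      if j = 0 then s else if j = a + 1 then 1 else if h : j - 1 < a then v ⟨j - 1, h⟩ else 0
    let P : F[X] := ∑ j ∈ Finset.range (a + 2), C (b j) * X ^ j
    have hP : ∀ j, P.coeff j = if j < a + 2 then b j else 0 := fun j => by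
      rw [finset_sum_coeff]
      simp [coeff_C_mul_X_pow]
    have hdeg : P.natDegree = a + 1 := natDegree_eq_of_le_of_coeff_ne_zero
      (natDegree_le_iff_coeff_eq_zero.2 fun j hj => by rw [hP, if_neg (by omega)])
      (by rw [hP, if_pos (by omega)]; simp [b])
    have hlead : P.coeff (a + 1) = 1 := by rw [hP, if_pos (by omega)]; simp [b]
    have h0 : P.coeff 0 = s := by rw [hP, if_pos (by omega)]; simp [b]
    have hmid : ∀ i : Fin a, P.coeff ((i : ℕ) + 1) = v i := fun i => by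
      have := i.2
      rw [hP, if_pos (by omega)]
      simp [b, this, Nat.ne_of_lt this]
    have hd : udual hF P = P := by
      ext j
      rw [Semisimple.udual_coeff, hdeg, h0, map_mul, map_inv₀, hσs, inv_inv]
      rcases j with _ | j
      · rw [revAt_le (Nat.zero_le _), Nat.sub_zero, hlead, map_one, mul_one, h0]
      rcases Nat.lt_trichotomy j a with hj | hj | hj
      · rw [show j + 1 = ((⟨j, hj⟩ : Fin a) : ℕ) + 1 from rfl, hrev, hmid, hmid]
        exact congrFun hv ⟨j, hj⟩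
      · rw [hj, revAt_le le_rfl, Nat.sub_self, h0, hlead, hσs, mul_inv_cancel₀ hs0]
      · rw [revAt_eq_self_of_lt (by omega), hP, if_neg (by omega), map_zero, mul_zero]
    exact ⟨⟨P, by rw [Monic, leadingCoeff, hdeg, hlead], hdeg, h0, hd⟩, Subtype.ext (funext hmid)⟩

theorem fib_finite (a : ℕ) {c : Fˣ} (hc : c ∈ W F q) : Finite (Fib hF (a + 1) c) :=
  Nat.finite_of_card_ne_zero (by
    rw [card_fib hF a hc]; exact pow_ne_zero _ (by have := Forms.one_lt_q hF; omega))

/-- An enumeration of the fibres. -/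
noncomputable def fibEquiv (a : ℕ) {c : Fˣ} (hc : c ∈ W F q) : Fib hF (a + 1) c ≃ Fin (q ^ a) :=
  haveI := fib_finite hF a hc
  (Finite.equivFin _).trans (finCongr (card_fib hF a hc))

/-- Nonconstant self-dual monic polynomials with nonzero constant term. -/
def Good (P : F[X]) : Prop := P.Monic ∧ 0 < P.natDegree ∧ P.coeff 0 ≠ 0 ∧ udual hF P = P

theorem coeff_zero_mem {P : F[X]} (hm : P.Monic) (h0 : P.coeff 0 ≠ 0) (hd : udual hF P = P) :
    Units.mk0 _ h0 ∈ W F q := by
  have h := congrArg (fun R => coeff R 0) hd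
  simp only [Semisimple.udual_coeff, revAt_le (Nat.zero_le _), Nat.sub_zero, hm.coeff_natDegree, mul_one,
    map_inv₀] at h
  refine Units.ext ?_
  show (P.coeff 0) ^ (q + 1) = 1
  rw [pow_succ, ← Forms.qEnd_apply hF]
  conv_lhs => arg 2; rw [← h]
  rw [mul_inv_cancel₀ ((_root_.map_ne_zero _).2 h0)]

/-- Move a polynomial to the fibre whose constant term is multiplied by `t`. -/
noncomputable def shift (t : W F q) (P : F[X]) : F[X] :=
  if h : Good hF P then
    ((fibEquiv hF (P.natDegree - 1) ((W F q).mul_mem t.2 (coeff_zero_mem hF h.1 h.2.2.1 h.2.2.2))).symm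
      (fibEquiv hF (P.natDegree - 1) (coeff_zero_mem hF h.1 h.2.2.1 h.2.2.2)
        ⟨P, h.1, by have := h.2.1; omega, rfl, h.2.2.2⟩)).1
  else P

theorem shift_eq (t : W F q) {a : ℕ} {c : Fˣ} (hc : c ∈ W F q) (P : Fib hF (a + 1) c) :
    shift hF t P.1 = ((fibEquiv hF a ((W F q).mul_mem t.2 hc)).symm (fibEquiv hF a hc P)).1 := by
  obtain ⟨P, hm, hdeg, h0, hd⟩ := P
  have hne : P.coeff 0 ≠ 0 := by rw [h0]; exact c.ne_zero
  have hg : Good hF P := ⟨hm, by omega, hne, hd⟩
  obtain rfl : c = Units.mk0 _ hne := Units.ext h0.symm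
  obtain rfl : a = P.natDegree - 1 := by omega
  rw [shift, dif_pos hg]

theorem shift_spec (t : W F q) {P : F[X]} (h : Good hF P) :
    Good hF (shift hF t P) ∧ (shift hF t P).natDegree = P.natDegree ∧
      (shift hF t P).coeff 0 = ((t : Fˣ) : F) * P.coeff 0 := by
  obtain ⟨hm, hdeg, h0, hd⟩ := h
  obtain ⟨a, ha⟩ : ∃ a, P.natDegree = a + 1 := ⟨P.natDegree - 1, by omega⟩
  rw [shift_eq hF t (coeff_zero_mem hF hm h0 hd) ⟨P, hm, ha, rfl, hd⟩]
  generalize hQ : (fibEquiv hF a ((W F q).mul_mem t.2 (coeff_zero_mem hF hm h0 hd))).symm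
    (fibEquiv hF a (coeff_zero_mem hF hm h0 hd) ⟨P, hm, ha, rfl, hd⟩) = Q
  obtain ⟨Q, hQm, hQd, hQ0, hQs⟩ := Q
  refine ⟨⟨hQm, show 0 < Q.natDegree by omega, ?_, hQs⟩, hQd.trans ha.symm, ?_⟩
  · show Q.coeff 0 ≠ 0
    rw [hQ0]; exact Units.ne_zero _
  · show Q.coeff 0 = _
    rw [hQ0, Units.val_mul, Units.val_mk0]

theorem shift_shift_inv (t : W F q) {P : F[X]} (h : Good hF P) : shift hF t⁻¹ (shift hF t P) = P := by
  obtain ⟨hm, hdeg, h0, hd⟩ := h
  obtain ⟨a, ha⟩ : ∃ a, P.natDegree = a + 1 := ⟨P.natDegree - 1, by omega⟩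
  have hc := coeff_zero_mem hF hm h0 hd
  rw [shift_eq hF t hc ⟨P, hm, ha, rfl, hd⟩, shift_eq hF t⁻¹ ((W F q).mul_mem t.2 hc), Equiv.apply_symm_apply]
  have key : ∀ (c : Fˣ) (hc' : c ∈ W F q), c = Units.mk0 _ h0 →
      ((fibEquiv hF a hc').symm (fibEquiv hF a hc ⟨P, hm, ha, rfl, hd⟩)).1 = P := by
    rintro c hc' rfl
    exact congrArg Subtype.val (Equiv.symm_apply_apply _ _)
  exact key _ _ (by rw [Subgroup.coe_inv, inv_mul_cancel_left])

/-- Self-dual data. -/
def SD (g : Seq F m n) : Prop := ∀ e, udual hF (g.1 e) = g.1 e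

theorem good_of_supp {g : Seq F m n} (hg : SD hF g) {e : Fin m} (he : e ∈ supp g) : Good hF (g.1 e) :=
  ⟨(g.2.1 e).1, (Finset.mem_filter.1 he).2, (g.2.1 e).2, hg e⟩

/-- Multiply the constant coefficients on the support by `t`, keeping self-duality. -/
noncomputable def twistU (g : Seq F n n) (t : Fin n → W F q) : Seq F n n :=
  if hg : SD hF g then
    ⟨fun e => if e ∈ supp g then shift hF (t e) (g.1 e) else g.1 e, fun e => by
      dsimp only
      split_ifs with h
      · have := (shift_spec hF (t e) (good_of_supp hF hg h)).1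
        exact ⟨this.1, this.2.2.1⟩
      · exact g.2.1 e, by
      refine Eq.trans (Finset.sum_congr rfl fun e _ => ?_) g.2.2
      dsimp only
      split_ifs with h
      · rw [(shift_spec hF (t e) (good_of_supp hF hg h)).2.1]
      · rfl⟩
  else g

theorem twistU_apply {g : Seq F n n} (hg : SD hF g) (t : Fin n → W F q) (e : Fin n) :
    (twistU hF g t).1 e = if e ∈ supp g then shift hF (t e) (g.1 e) else g.1 e := by
  simp [twistU, hg]

theorem sd_twistU {g : Seq F n n} (hg : SD hF g) (t : Fin n → W F q) : SD hF (twistU hF g t) := fun e => by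
  rw [twistU_apply hF hg]
  split_ifs with h
  · exact (shift_spec hF (t e) (good_of_supp hF hg h)).1.2.2.2
  · exact hg e

theorem supp_twistU {g : Seq F n n} (hg : SD hF g) (t : Fin n → W F q) : supp (twistU hF g t) = supp g := by
  ext e
  simp only [supp, Finset.mem_filter, Finset.mem_univ, true_and, twistU_apply hF hg]
  split_ifs with h
  · rw [(shift_spec hF (t e) (good_of_supp hF hg (Finset.mem_filter.2 ⟨Finset.mem_univ _, h⟩))).2.1]
  · rfl

theorem twistU_twistU_inv {g : Seq F n n} (hg : SD hF g) (t : Fin n → W F q) :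
    twistU hF (twistU hF g t) t⁻¹ = g := by
  refine Subtype.ext (funext fun e => ?_)
  rw [twistU_apply hF (sd_twistU hF hg t), supp_twistU hF hg, twistU_apply hF hg]
  by_cases h : e ∈ supp g
  · rw [if_pos h, if_pos h, Pi.inv_apply, shift_shift_inv hF _ (good_of_supp hF hg h)]
  · rw [if_neg h, if_neg h]

/-- `t ↦ ∏ t e ^ (e + 1)` on norm one scalars. -/
noncomputable def tauW (F : Type u) [Field F] (q : ℕ) (s : Finset (Fin n)) :
    (Fin n → W F q) →* W F q where
  toFun t := ∏ e ∈ s, t e ^ ((e : ℕ) + 1)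
  map_one' := by simp
  map_mul' a b := by simp [mul_pow, Finset.prod_mul_distrib]

theorem phi_twistU {g : Seq F n n} (hg : SD hF g) (t : Fin n → W F q) :
    phi (twistU hF g t) = phi g * (((tauW F q (supp g) t : W F q) : Fˣ) : F) := by
  show _ = phi g * (((∏ e ∈ supp g, t e ^ ((e : ℕ) + 1) : W F q) : Fˣ) : F)
  rw [SubmonoidClass.coe_finset_prod, Units.coe_prod, phi, phi,
    Finset.prod_ite_mem_eq (supp g) (fun e => (((t e ^ ((e : ℕ) + 1) : W F q) : Fˣ) : F)) |>.symm,
    ← Finset.prod_mul_distrib]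
  refine Finset.prod_congr rfl fun e _ => ?_
  rw [twistU_apply hF hg, SubmonoidClass.coe_pow, Units.val_pow_eq_pow_val]
  by_cases h : e ∈ supp g
  · obtain ⟨-, h1, h2⟩ := shift_spec hF (t e) (good_of_supp hF hg h)
    rw [if_pos h, if_pos h, sd, sd, h1, h2, ← mul_pow]
    congr 1
    ring
  · rw [if_neg h, if_neg h, mul_one]

/-- The bound for the index of the range of `tauW`. -/
noncomputable def gIdxW (q : ℕ) (s : Finset (Fin n)) : ℕ :=
  Nat.gcd (q + 1) (s.gcd fun e => (e : ℕ) + 1)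

include hF in
theorem index_tauW_le (s : Finset (Fin n)) : (tauW F q s).range.index ≤ gIdxW q s := by
  let d := s.gcd fun e => (e : ℕ) + 1
  have h : ∀ x : W F q, x ^ d ∈ (tauW F q s).range := by
    intro x
    refine Finset.induction_on' (motive := fun t => x ^ (t.gcd fun e : Fin n => (e : ℕ) + 1) ∈ (tauW F q s).range)
      s (by simp) fun a t has _ _ ih => ?_
    rw [Finset.gcd_insert]
    refine pow_gcd_mem _ x ⟨Function.update 1 a x, ?_⟩ ih
    show ∏ e ∈ s, Function.update (1 : Fin n → W F q) a x e ^ ((e : ℕ) + 1) = _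
    rw [Finset.prod_eq_single_of_mem a has fun b _ hb => by simp [Function.update_of_ne hb],
      Function.update_self]
  have hr : (powMonoidHom d : W F q →* W F q).range ≤ (tauW F q s).range := by
    rintro _ ⟨x, rfl⟩
    exact h x
  have hd := Nat.le_of_dvd (Nat.pos_of_ne_zero Subgroup.index_ne_zero_of_finite) (Subgroup.index_dvd_of_le hr)
  rwa [IsCyclic.index_powMonoidHom_range, Forms.card_norm_kernel hF] at hd

include hF in
theorem sum_index_mul_le :
    (∑ g ∈ Finset.univ.filter (fun g : Seq F n n => SD hF g ∧ phi g = 1), (tauW F q (supp g)).range.index) *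
      (q + 1) ≤ ∑ g ∈ Finset.univ.filter (fun g : Seq F n n => SD hF g), gIdxW q (supp g) ^ 2 := by
  letI : Fintype (W F q) := Fintype.ofFinite _
  let H := fun g : Seq F n n => (tauW F q (supp g)).range
  let w := fun g : Seq F n n => (H g).index ^ 2
  let A := ((Finset.univ.filter fun g : Seq F n n => SD hF g ∧ phi g = 1) ×ˢ (Finset.univ : Finset (W F q))).filter
    fun x => x.2 ∈ H x.1
  let sec : Finset (Fin n) → W F q → (Fin n → W F q) := fun s => Function.invFun (tauW F q s)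
  let ψ : Seq F n n × W F q → Seq F n n := fun x => twistU hF x.1 (sec (supp x.1) x.2)
  have hA : ∀ x ∈ A, SD hF x.1 ∧ phi x.1 = 1 ∧ tauW F q (supp x.1) (sec (supp x.1) x.2) = x.2 := by
    intro x hx
    simp only [A, H, Finset.mem_filter, Finset.mem_product, Finset.mem_univ, true_and, and_true,
      MonoidHom.mem_range] at hx
    exact ⟨hx.1.1, hx.1.2, Function.invFun_eq hx.2⟩
  have hsupp : ∀ x ∈ A, supp (ψ x) = supp x.1 := fun x hx => supp_twistU hF (hA x hx).1 _
  have hinj : Set.InjOn ψ A := by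
    intro x hx y hy hxy
    obtain ⟨hx0, hx1, hx2⟩ := hA x hx
    obtain ⟨hy0, hy1, hy2⟩ := hA y hy
    have hs : supp x.1 = supp y.1 := by rw [← hsupp x hx, ← hsupp y hy, hxy]
    have hφ := congrArg phi hxy
    simp only [ψ, phi_twistU hF hx0, phi_twistU hF hy0, hx1, hy1, one_mul, hx2, hy2] at hφ
    have h2 : x.2 = y.2 := Subtype.ext (Units.ext hφ)
    refine Prod.ext ?_ h2
    rw [← twistU_twistU_inv hF hx0 (sec (supp x.1) x.2), ← twistU_twistU_inv hF hy0 (sec (supp y.1) y.2)]
    show twistU hF (ψ x) _ = twistU hF (ψ y) _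
    rw [hxy, hs, h2]
  calc _ = ∑ x ∈ A, w x.1 := by
        rw [show (∑ x ∈ A, w x.1) = ∑ g ∈ Finset.univ.filter (fun g : Seq F n n => SD hF g ∧ phi g = 1),
          ∑ h : W F q, if h ∈ H g then w g else 0 from
          (Finset.sum_filter _ _).trans (Finset.sum_product _ _ _), Finset.sum_mul]
        refine Finset.sum_congr rfl fun g _ => ?_
        rw [← Finset.sum_filter, Finset.sum_const, smul_eq_mul]
        show (H g).index * _ = _ * (H g).index ^ 2
        rw [← Forms.card_norm_kernel hF, ← Fintype.card_subtype, ← Nat.card_eq_fintype_card,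
          ← Subgroup.card_mul_index (H g)]
        show _ = Nat.card (H g) * _
        ring
    _ = ∑ x ∈ A, w (ψ x) := Finset.sum_congr rfl fun x hx => by simp only [w, H, hsupp x hx]
    _ = ∑ y ∈ A.image ψ, w y := (Finset.sum_image hinj).symm
    _ ≤ ∑ y ∈ Finset.univ.filter (fun g : Seq F n n => SD hF g), w y := by
        refine Finset.sum_le_sum_of_subset fun y hy => ?_
        obtain ⟨x, hx, rfl⟩ := Finset.mem_image.1 hy
        exact Finset.mem_filter.2 ⟨Finset.mem_univ _, sd_twistU hF (hA x hx).1 _⟩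
    _ ≤ _ := Finset.sum_le_sum fun y _ => Nat.pow_le_pow_left (index_tauW_le hF _) 2

/-! ### Classes -/

include hF in
theorem exists_commute_of_mem {R : GU n F q} {g : Seq F n n}
    (hR : FitsM ((R : GL (Fin n) F) : Matrix (Fin n) (Fin n) F) g) {t : W F q}
    (ht : t ∈ (tauW F q (supp g)).range) :
    ∃ C : GU n F q, Commute C R ∧ Matrix.GeneralLinearGroup.det (C : GL (Fin n) F) = (t : Fˣ) := by
  let dt : GU n F q →* Fˣ := Matrix.GeneralLinearGroup.det.comp (GU n F q).subtype
  let K := (Subgroup.centralizer ({R} : Set (GU n F q))).map dt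
  suffices hK : (t : Fˣ) ∈ K by
    obtain ⟨C, hC, hC'⟩ := hK
    exact ⟨C, (Subgroup.mem_centralizer_singleton_iff.1 hC : C * R = R * C), hC'⟩
  obtain ⟨x, rfl⟩ := ht
  show ((∏ e ∈ supp g, x e ^ ((e : ℕ) + 1) : W F q) : Fˣ) ∈ K
  rw [SubmonoidClass.coe_finset_prod]
  refine Subgroup.prod_mem _ fun e he => ?_
  have hx : ((x e : Fˣ) : F) ^ (q + 1) = 1 := by
    rw [← Units.val_pow_eq_pow_val, show (x e : Fˣ) ^ (q + 1) = 1 from (x e).2, Units.val_one]
  obtain ⟨s, hs, hsx⟩ := Semisimple.exists_div_pow_eq hF hx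
  obtain ⟨C, hCU, hC, hd⟩ := UnitaryData.exists_commute_det_U hF ((mem_GU_iff hF _).1 R.2) hR
    (Finset.mem_filter.1 he).2 hs
  refine ⟨⟨C, hCU⟩, Subgroup.mem_centralizer_singleton_iff.2 (Subtype.ext (Units.ext hC)), Units.ext ?_⟩
  show (C : Matrix (Fin n) (Fin n) F).det = _
  rw [hd, SubmonoidClass.coe_pow, Units.val_pow_eq_pow_val, Forms.qEnd_apply, hsx]

include hF in
theorem card_classes_le :
    Nat.card (ConjClasses (SU n F q)) ≤
      ∑ g ∈ Finset.univ.filter (fun g : Seq F n n => SD hF g ∧ phi g = 1), (tauW F q (supp g)).range.index := by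
  let rep := fun c : ConjClasses (SU n F q) => Quotient.out c
  let toGU : SU n F q → GU n F q := fun s => ⟨Matrix.SpecialLinearGroup.toGL s.1, s.2⟩
  let R : Seq F n n → GU n F q := fun g =>
    if h : ∃ A : GU n F q, FitsM ((A : GL (Fin n) F) : Matrix (Fin n) (Fin n) F) g then h.choose else 1
  have hR : ∀ s : SU n F q, FitsM ((R (dat s.1) : GL (Fin n) F) : Matrix (Fin n) (Fin n) F) (dat s.1) := by
    intro s
    have h : ∃ A : GU n F q, FitsM ((A : GL (Fin n) F) : Matrix (Fin n) (Fin n) F) (dat s.1) :=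
      ⟨toGU s, fits_dat s.1⟩
    simp only [R, dif_pos h]
    exact h.choose_spec
  have hU : ∀ s : SU n F q, ∃ U : GU n F q, U * R (dat s.1) * U⁻¹ = toGU s :=
    fun s => isConj_iff.1 (isConj_of_isConj_GL hF (isConj_of_fits _ _ (dat s.1) (hR s) (fits_dat s.1)))
  choose U hU using hU
  let dt : GU n F q → W F q := fun g => ⟨Matrix.GeneralLinearGroup.det (g : GL (Fin n) F), by
    have h := congrArg Matrix.det ((mem_GU_iff hF _).1 g.2)
    rw [Matrix.det_mul, Matrix.det_one, adj, Matrix.det_transpose, ← RingHom.mapMatrix_apply, ← RingHom.map_det,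
      Forms.qEnd_apply, ← pow_succ] at h
    exact Units.ext h⟩
  let T := Σ g : {g : Seq F n n // g ∈ Finset.univ.filter (fun g : Seq F n n => SD hF g ∧ phi g = 1)},
    W F q ⧸ (tauW F q (supp g.1)).range
  let φ : ConjClasses (SU n F q) → T := fun c => ⟨⟨dat (rep c).1, Finset.mem_filter.2
      ⟨Finset.mem_univ _, UnitaryData.udual_data hF ((mem_GU_iff hF _).1 (toGU (rep c)).2) (fits_dat (rep c).1),
        phi_dat _⟩⟩,
    QuotientGroup.mk (dt (U (rep c)))⟩
  have hφ : Function.Injective φ := by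
    intro c c' h
    have h1 : dat (rep c).1 = dat (rep c').1 := congrArg (fun t : T => t.1.1) h
    have key : ∀ g g' : Seq F n n, ∀ a a' : W F q, g = g' →
        HEq (QuotientGroup.mk a : W F q ⧸ (tauW F q (supp g)).range)
          (QuotientGroup.mk a' : W F q ⧸ (tauW F q (supp g')).range) →
        a⁻¹ * a' ∈ (tauW F q (supp g)).range := by
      rintro g _ a a' rfl h
      exact QuotientGroup.eq.1 (eq_of_heq h)
    have h2 := key _ _ _ _ h1 (Sigma.mk.inj_iff.1 h).2
    obtain ⟨C, hC, hdet⟩ := exists_commute_of_mem hF (hR (rep c)) h2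
    let M := U (rep c') * C⁻¹ * (U (rep c))⁻¹
    have hM : Matrix.GeneralLinearGroup.det (M : GL (Fin n) F) = 1 := by
      simp only [M, Subgroup.coe_mul, Subgroup.coe_inv, map_mul, map_inv, hdet]
      show (dt (U (rep c')) : Fˣ) * ((dt (U (rep c)) : Fˣ)⁻¹ * (dt (U (rep c')) : Fˣ))⁻¹ * (dt (U (rep c)) : Fˣ)⁻¹ = 1
      group
    rw [← Quotient.out_eq c, ← Quotient.out_eq c']
    show ConjClasses.mk (rep c) = ConjClasses.mk (rep c')
    rw [ConjClasses.mk_eq_mk_iff_isConj, isConj_iff]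
    refine ⟨⟨⟨((M : GL (Fin n) F) : Matrix (Fin n) (Fin n) F), congrArg Units.val hM⟩, M.2⟩, ?_⟩
    have hMc : M * toGU (rep c) * M⁻¹ = toGU (rep c') := by
      rw [← hU (rep c), ← hU (rep c'), ← h1]
      simp only [M, mul_inv_rev, inv_inv, mul_assoc, inv_mul_cancel_left, mul_right_inj]
      rw [← mul_assoc (R (dat (rep c).1)) C, ← hC.eq]
      simp [mul_assoc]
    rw [mul_inv_eq_iff_eq_mul] at hMc ⊢
    have h3 := congrArg (fun x : GU n F q => ((x : GL (Fin n) F) : Matrix (Fin n) (Fin n) F)) hMc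
    exact Subtype.ext (Subtype.ext h3)
  refine le_trans (Nat.card_le_card_of_injective φ hφ) (le_of_eq ?_)
  rw [Nat.card_sigma]
  exact Finset.sum_coe_sort _ (fun g => (tauW F q (supp g)).range.index)

/-! ### Counting data -/

/-- Self-dual data. -/
def SeqU (m n : ℕ) : Type u := {g : Seq F m n // SD hF g}

instance : Finite (SeqU hF m n) :=
  have := (seq_bound (F := F) m n).1
  Subtype.finite

/-- Self-dual monic polynomials of degree `a` with nonzero constant term. -/
def PieceU (a : ℕ) : Type u := {P : Piece F a // udual hF P.1 = P.1}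

theorem card_pieceU (a : ℕ) : Nat.card (PieceU hF (a + 1)) = (q + 1) * q ^ a := by
  have e : PieceU hF (a + 1) ≃ Σ c : W F q, Fib hF (a + 1) (c : Fˣ) :=
    { toFun := fun P => ⟨⟨_, coeff_zero_mem hF P.1.2.1.1 P.1.2.2 P.2⟩, P.1.1, P.1.2.1.1, P.1.2.1.2, rfl, P.2⟩
      invFun := fun x => ⟨⟨x.2.1, ⟨x.2.2.1, x.2.2.2.1⟩, by
        show x.2.1.coeff 0 ≠ 0
        rw [x.2.2.2.2.1]; exact Units.ne_zero _⟩, x.2.2.2.2.2⟩
      left_inv := fun P => rfl
      right_inv := by
        rintro ⟨⟨c, hc⟩, P, hm, hd, h0, hs⟩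
        have hne : P.coeff 0 ≠ 0 := by rw [h0]; exact Units.ne_zero _
        obtain rfl : c = Units.mk0 (P.coeff 0) hne := Units.ext h0.symm
        rfl }
  letI : Fintype (W F q) := Fintype.ofFinite _
  haveI : ∀ c : W F q, Finite (Fib hF (a + 1) (c : Fˣ)) := fun c => fib_finite hF a c.2
  rw [Nat.card_congr e, Nat.card_sigma, Finset.sum_congr rfl (fun c _ => card_fib hF a c.2), Finset.sum_const,
    smul_eq_mul, Finset.card_univ, ← Nat.card_eq_fintype_card, Forms.card_norm_kernel hF]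

instance (a : ℕ) : Finite (PieceU hF a) := Subtype.finite

theorem card_seqU_step (m n : ℕ) :
    Nat.card (SeqU hF (m + 1) n) ≤ Nat.card (SeqU hF m n) + ∑ a ∈ Finset.range (n / (m + 1)),
      (q + 1) * q ^ a * Nat.card (SeqU hF m (n - (m + 1) * (a + 1))) := by
  let A := n / (m + 1)
  let T := Σ a : Fin (A + 1), PieceU hF a × SeqU hF m (n - (m + 1) * a)
  have hlast : ∀ g : Seq F (m + 1) n, (m + 1) * (g.1 (Fin.last m)).natDegree ≤ n := by
    intro g
    conv_rhs => rw [← g.2.2]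
    exact Finset.single_le_sum (f := fun i : Fin (m + 1) => ((i : ℕ) + 1) * (g.1 i).natDegree)
      (fun i _ => Nat.zero_le _) (Finset.mem_univ (Fin.last m))
  let φ : SeqU hF (m + 1) n → T := fun g =>
    ⟨⟨(g.1.1 (Fin.last m)).natDegree, Nat.lt_succ_of_le ((Nat.le_div_iff_mul_le (Nat.succ_pos m)).2
        (by rw [Nat.mul_comm]; exact hlast g.1))⟩,
      ⟨⟨g.1.1 (Fin.last m), ⟨(g.1.2.1 _).1, rfl⟩, (g.1.2.1 _).2⟩, g.2 _⟩,
      ⟨⟨fun i => g.1.1 i.castSucc, fun i => g.1.2.1 _, by
        have h := g.1.2.2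
        rw [Fin.sum_univ_castSucc] at h
        simp only [Fin.val_castSucc, Fin.val_last] at h
        show ∑ i : Fin m, ((i : ℕ) + 1) * (g.1.1 i.castSucc).natDegree = n - (m + 1) * (g.1.1 (Fin.last m)).natDegree
        omega⟩, fun i => g.2 _⟩⟩
  have hφ : Function.Injective φ := by
    intro g g' h
    have h1 := congrArg (fun t : T => t.2.1.1.1) h
    have h2 := congrArg (fun t : T => t.2.2.1.1) h
    refine Subtype.ext (Subtype.ext (funext fun i => ?_))
    induction i using Fin.lastCases with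
    | last => exact h1
    | cast i => exact congrFun h2 i
  refine (Nat.card_le_card_of_injective φ hφ).trans (le_of_eq ?_)
  rw [Nat.card_sigma, Fin.sum_univ_eq_sum_range
    (fun a => Nat.card (PieceU hF a × SeqU hF m (n - (m + 1) * a))), Finset.sum_range_succ']
  simp only [Nat.card_prod, card_pieceU]
  have h0 : Nat.card (PieceU hF 0) = 1 := by
    refine Nat.card_eq_one_iff_unique.2
      ⟨⟨fun P Q => Subtype.ext (Subtype.ext ((piece_zero P.1).trans (piece_zero Q.1).symm))⟩, ?_⟩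
    exact ⟨⟨⟨1, ⟨monic_one, natDegree_one⟩, by simp⟩, UnitaryData.udual_one hF⟩⟩
  rw [h0, one_mul, Nat.mul_zero, Nat.sub_zero, Nat.add_comm]

theorem card_seqU_zero (n : ℕ) : Nat.card (SeqU hF 0 n) ≤ if n = 0 then 1 else 0 := by
  split_ifs with h
  · haveI : Subsingleton (SeqU hF 0 n) := ⟨fun a b => Subtype.ext (Subtype.ext (Subsingleton.elim _ _))⟩
    exact Finite.card_le_one_iff_subsingleton.2 this
  · haveI : IsEmpty (SeqU hF 0 n) := ⟨fun g => h (by have := g.1.2.2; simpa using this.symm)⟩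
    simp

include hF in
theorem card_dvd_le (d k : ℕ) (hd : 1 ≤ d) (hn : n = d * k) :
    (Finset.univ.filter fun g : Seq F n n => SD hF g ∧ ∀ e ∈ supp g, d ∣ (e : ℕ) + 1).card ≤
      Nat.card (SeqU hF k k) := by
  subst hn
  rw [← Fintype.card_subtype, ← Nat.card_eq_fintype_card]
  let ι : Fin k → Fin (d * k) := fun j => ⟨d * (j : ℕ) + (d - 1), by
    have := j.2
    have h := Nat.mul_le_mul_left d (show (j : ℕ) + 1 ≤ k by omega)
    rw [Nat.mul_succ] at h
    omega⟩
  have hι : ∀ j, ((ι j : Fin (d * k)) : ℕ) + 1 = d * ((j : ℕ) + 1) := fun j => by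
    simp only [ι, Nat.mul_succ]; omega
  have hinj : Function.Injective ι := fun a b h => by
    have := hι a
    rw [h, hι b] at this
    exact Fin.ext (Nat.add_right_cancel (Nat.eq_of_mul_eq_mul_left hd this.symm))
  have hout : ∀ g : {g : Seq F (d * k) (d * k) // SD hF g ∧ ∀ e ∈ supp g, d ∣ (e : ℕ) + 1},
      ∀ e, e ∉ Set.range ι → (g.1.1 e).natDegree = 0 := by
    intro g e he
    by_contra hne
    obtain ⟨c, hc⟩ := g.2.2 e (Finset.mem_filter.2 ⟨Finset.mem_univ _, Nat.pos_of_ne_zero hne⟩)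
    have he2 := e.2
    have hc1 : 1 ≤ c := Nat.pos_of_ne_zero fun h => by simp [h] at hc
    have hck : c ≤ k := Nat.le_of_mul_le_mul_left (show d * c ≤ d * k by omega) hd
    refine he ⟨⟨c - 1, by omega⟩, Fin.ext ?_⟩
    have := hι ⟨c - 1, by omega⟩
    rw [show c - 1 + 1 = c by omega] at this
    omega
  refine Nat.card_le_card_of_injective
    (fun g => (⟨⟨fun j => g.1.1 (ι j), fun j => g.1.2.1 _, ?_⟩, fun j => g.2.1 _⟩ : SeqU hF k k)) ?_
  · refine Nat.eq_of_mul_eq_mul_left hd ?_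
    rw [Finset.mul_sum]
    refine Eq.trans ?_ g.1.2.2
    refine Fintype.sum_of_injective ι hinj _ _ (fun e he => by rw [hout g e he, Nat.mul_zero]) fun j => ?_
    rw [hι, mul_assoc]
  · intro g g' h
    refine Subtype.ext (Subtype.ext (funext fun e => ?_))
    by_cases he : e ∈ Set.range ι
    · obtain ⟨j, rfl⟩ := he
      exact congrFun (congrArg (fun x : SeqU hF k k => x.1.1) h) j
    · rw [(g.1.2.1 e).1.natDegree_eq_zero.1 (hout g e he), (g'.1.2.1 e).1.natDegree_eq_zero.1 (hout g' e he)]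

theorem gIdxW_dvd_n (g : Seq F n n) : gIdxW q (supp g) ∣ n := by
  conv_rhs => rw [← g.2.2]
  refine Finset.dvd_sum fun e _ => ?_
  rcases Nat.eq_zero_or_pos (g.1 e).natDegree with h | h
  · rw [h, Nat.mul_zero]; exact dvd_zero _
  · exact ((Nat.gcd_dvd_right _ _).trans (Finset.gcd_dvd (Finset.mem_filter.2 ⟨Finset.mem_univ e, h⟩))).mul_right _

include hF in
theorem class_mul_le :
    Nat.card (ConjClasses (SU n F q)) * (q + 1) ≤ Nat.card (SeqU hF n n) +
      ∑ d ∈ (Nat.gcd n (q + 1)).divisors.erase 1, (d ^ 2 - 1) * Nat.card (SeqU hF (n / d) (n / d)) := by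
  refine (Nat.mul_le_mul_right _ (card_classes_le hF)).trans ((sum_index_mul_le hF).trans ?_)
  set D := (Nat.gcd n (q + 1)).divisors.erase 1
  have h0 : Nat.gcd n (q + 1) ≠ 0 := by
    have := Nat.gcd_pos_of_pos_right n (show 0 < q + 1 by omega)
    omega
  have h1 : ∀ g : Seq F n n, gIdxW q (supp g) ^ 2 ≤
      1 + ∑ d ∈ D, if (∀ e ∈ supp g, d ∣ (e : ℕ) + 1) then d ^ 2 - 1 else 0 := by
    intro g
    by_cases hg : gIdxW q (supp g) = 1
    · rw [hg]; simp
    · have hmem : gIdxW q (supp g) ∈ D := Finset.mem_erase.2 ⟨hg,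
        Nat.mem_divisors.2 ⟨Nat.dvd_gcd (gIdxW_dvd_n g) (Nat.gcd_dvd_left _ _), h0⟩⟩
      have := Finset.single_le_sum (f := fun d => if (∀ e ∈ supp g, d ∣ (e : ℕ) + 1) then d ^ 2 - 1 else 0)
        (fun d _ => Nat.zero_le _) hmem
      rw [if_pos (show ∀ e ∈ supp g, gIdxW q (supp g) ∣ (e : ℕ) + 1 from
        fun e he => (Nat.gcd_dvd_right _ _).trans (Finset.gcd_dvd he))] at this
      omega
  refine (Finset.sum_le_sum fun g _ => h1 g).trans ?_
  rw [Finset.sum_add_distrib, Finset.sum_comm]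
  refine Nat.add_le_add (le_of_eq ?_) (Finset.sum_le_sum fun d hd => ?_)
  · rw [Finset.sum_const, smul_eq_mul, mul_one, ← Fintype.card_subtype, ← Nat.card_eq_fintype_card]
    rfl
  rw [← Finset.sum_filter, Finset.sum_const, smul_eq_mul, mul_comm, Finset.filter_filter]
  have hd' := Nat.mem_divisors.1 (Finset.mem_of_mem_erase hd)
  refine Nat.mul_le_mul_left _ (card_dvd_le hF d (n / d) (Nat.pos_of_dvd_of_pos hd'.1 (Nat.pos_of_ne_zero h0)) ?_)
  exact (Nat.mul_div_cancel' (hd'.1.trans (Nat.gcd_dvd_left _ _))).symm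

end Cfsg.Agent.GL.SUClassBound
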