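/-
The class number of `SU n q` is at most `8.26 q ^ (n - 1)`.
-/
import Cfsg.Agent.Lib.GL.SUClassBound

set_option autoImplicit false

open scoped Classical

namespace Cfsg.Agent.GL.SUClassNumber

open Cfsg.Agent.GL.SUClassBound

universe u

/-- The constants bounding the numbers of self-dual data. -/
def Cb (q : ℚ) : ℕ → ℚ
  | 0 => 1
  | 1 => 1 + q⁻¹
  | m + 2 => Cb q (m + 1) * (1 + q⁻¹ * q⁻¹ ^ (m + 1)) / (1 - q⁻¹ ^ (m + 1))

theorem inv_pow_lt {q : ℚ} (hq : 2 ≤ q) (m : ℕ) : 0 < q⁻¹ ^ (m + 1) ∧ q⁻¹ ^ (m + 1) < 1 :=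
  ⟨by positivity, pow_lt_one₀ (by positivity) (inv_lt_one_of_one_lt₀ (by linarith)) (Nat.succ_ne_zero m)⟩

theorem Cb_succ_eq (q : ℚ) {m : ℕ} (hm : 1 ≤ m) :
    Cb q (m + 1) = Cb q m * (1 + q⁻¹ * q⁻¹ ^ m) / (1 - q⁻¹ ^ m) := by
  obtain ⟨k, rfl⟩ : ∃ k, m = k + 1 := ⟨m - 1, by omega⟩
  rfl

theorem Cb_pos {q : ℚ} (hq : 2 ≤ q) : ∀ m, 0 < Cb q m
  | 0 => one_pos
  | 1 => by rw [Cb]; positivity
  | m + 2 => by
    rw [Cb]
    have h := inv_pow_lt hq m
    exact div_pos (mul_pos (Cb_pos hq (m + 1)) (by positivity)) (by linarith [h.2])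

theorem Cb_mono {q : ℚ} (hq : 2 ≤ q) : ∀ m, Cb q m ≤ Cb q (m + 1)
  | 0 => by rw [Cb, Cb]; have : (0 : ℚ) < q⁻¹ := (by positivity); linarith
  | m + 1 => by
    rw [Cb_succ_eq q (m := m + 1) (by omega), le_div_iff₀ (by linarith [(inv_pow_lt hq m).2])]
    refine mul_le_mul_of_nonneg_left ?_ (Cb_pos hq _).le
    have := (inv_pow_lt hq m).1
    have : (0 : ℚ) < q⁻¹ * q⁻¹ ^ (m + 1) := by positivity
    linarith

theorem Cb_anti {q₀ q : ℚ} (h₀ : 2 ≤ q₀) (h : q₀ ≤ q) : ∀ m, Cb q m ≤ Cb q₀ m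
  | 0 => le_rfl
  | 1 => by
    rw [Cb, Cb]
    have := inv_anti₀ (by linarith) h
    linarith
  | m + 2 => by
    rw [Cb, Cb]
    have hi : q⁻¹ ≤ q₀⁻¹ := inv_anti₀ (by linarith) h
    have hq0 : (0 : ℚ) ≤ q⁻¹ := inv_nonneg.2 (by linarith)
    have hp : q⁻¹ ^ (m + 1) ≤ q₀⁻¹ ^ (m + 1) := pow_le_pow_left₀ hq0 hi _
    refine div_le_div₀ ?_ (mul_le_mul (Cb_anti h₀ h (m + 1)) ?_ ?_ (Cb_pos h₀ _).le) ?_ ?_
    · have := Cb_pos h₀ (m + 1); positivity
    · have := mul_le_mul hi hp (by positivity) (by positivity)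
      linarith
    · positivity
    · linarith [(inv_pow_lt h₀ m).2]
    · linarith

theorem Cb_bound {q₀ : ℚ} (h₀ : 2 ≤ q₀) (B c : ℚ) (hc : 0 ≤ c) (m₀ : ℕ) (hm₀ : 1 ≤ m₀)
    (hbase : Cb q₀ m₀ * (1 + c * q₀⁻¹ ^ m₀) ≤ B)
    (hstep : ∀ y : ℚ, 0 < y → y ≤ q₀⁻¹ ^ m₀ → (1 + q₀⁻¹ * y) * (1 + c * q₀⁻¹ * y) ≤ (1 + c * y) * (1 - y)) :
    ∀ m, Cb q₀ m ≤ B := by
  have h : ∀ d, Cb q₀ (m₀ + d) * (1 + c * q₀⁻¹ ^ (m₀ + d)) ≤ B := by
    intro d
    induction d with
    | zero => exact hbase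
    | succ d ih =>
      refine le_trans ?_ ih
      obtain ⟨k, hk⟩ : ∃ k, m₀ + d = k + 1 := ⟨m₀ + d - 1, by omega⟩
      rw [← Nat.add_assoc, Cb_succ_eq q₀ (by omega), div_mul_eq_mul_div,
        div_le_iff₀ (by rw [hk]; linarith [(inv_pow_lt h₀ k).2])]
      have hy := hstep (q₀⁻¹ ^ (m₀ + d)) (by positivity)
        (pow_le_pow_of_le_one (by positivity) (inv_le_one_of_one_le₀ (by linarith)) (by omega))
      rw [mul_assoc, mul_assoc]
      refine mul_le_mul_of_nonneg_left (le_trans (le_of_eq ?_) hy) (Cb_pos h₀ _).le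
      rw [pow_succ]
      ring
  intro m
  have hmain : ∀ d, Cb q₀ (m₀ + d) ≤ B := fun d => by
    refine le_trans ?_ (h d)
    have h1 : (0 : ℚ) ≤ c * q₀⁻¹ ^ (m₀ + d) := by positivity
    exact le_mul_of_one_le_right (Cb_pos h₀ _).le (by linarith)
  rcases Nat.lt_or_ge m m₀ with hlt | hge
  · exact (monotone_nat_of_le_succ (Cb_mono h₀) hlt.le).trans (hmain 0)
  · obtain ⟨d, rfl⟩ := Nat.exists_eq_add_of_le hge
    exact hmain d

theorem Cb_two (m : ℕ) : Cb 2 m ≤ 9 := by
  refine Cb_bound le_rfl 9 8 (by norm_num) 6 (by norm_num) ?_ (fun y h0 hy => ?_) m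
  · norm_num [Cb]
  · norm_num at hy ⊢
    nlinarith

theorem Cb_three (m : ℕ) : Cb 3 m ≤ 3 := by
  refine Cb_bound (by norm_num) 3 4 (by norm_num) 4 (by norm_num) ?_ (fun y h0 hy => ?_) m
  · norm_num [Cb]
  · norm_num at hy ⊢
    nlinarith

variable {F : Type u} [Field F] [Fintype F] {q : ℕ} (hF : Fintype.card F = q ^ 2)

theorem card_seqU_zero_right : ∀ m, Nat.card (SeqU hF m 0) ≤ 1
  | 0 => by simpa using card_seqU_zero hF 0
  | m + 1 => by simpa using (card_seqU_step hF m 0).trans (by simpa using card_seqU_zero_right m)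

theorem card_seqU_one {n : ℕ} (hn : 1 ≤ n) : Nat.card (SeqU hF 1 n) ≤ (q + 1) * q ^ (n - 1) := by
  refine (card_seqU_step hF 0 n).trans ?_
  have h0 : Nat.card (SeqU hF 0 n) = 0 := by simpa [Nat.one_le_iff_ne_zero.1 hn] using card_seqU_zero hF n
  rw [h0, Nat.zero_add, Nat.div_one]
  rw [Finset.sum_eq_single_of_mem (n - 1) (Finset.mem_range.2 (by omega))]
  · refine (Nat.mul_le_mul_left _ (card_seqU_zero hF _)).trans ?_
    rw [if_pos (by omega), mul_one]
  · intro a ha hne
    have ha := Finset.mem_range.1 ha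
    have h := card_seqU_zero hF (n - (0 + 1) * (a + 1))
    rw [if_neg (by omega)] at h
    rw [Nat.le_zero.1 h, mul_zero]

theorem card_seqU_le : ∀ (m n : ℕ), (Nat.card (SeqU hF m n) : ℚ) ≤ Cb q m * (q : ℚ) ^ n
  | 0, n => by
    have h := card_seqU_zero hF n
    rcases Nat.eq_zero_or_pos n with rfl | hn
    · rw [if_pos rfl] at h
      simpa [Cb] using h
    · rw [if_neg hn.ne'] at h
      rw [Nat.le_zero.1 h]
      simp only [Nat.cast_zero, Cb, one_mul]
      positivity
  | 1, n => by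
    have hq : (2 : ℚ) ≤ q := by exact_mod_cast Forms.one_lt_q hF
    rw [Cb]
    rcases Nat.eq_zero_or_pos n with rfl | hn
    · have h : (Nat.card (SeqU hF 1 0) : ℚ) ≤ 1 := by exact_mod_cast card_seqU_zero_right hF 1
      have : (0 : ℚ) < (q : ℚ)⁻¹ := by positivity
      rw [pow_zero]; linarith
    · obtain ⟨k, rfl⟩ : ∃ k, n = k + 1 := ⟨n - 1, by omega⟩
      have h : (Nat.card (SeqU hF 1 (k + 1)) : ℚ) ≤ ((q + 1) * q ^ k : ℕ) := by
        exact_mod_cast card_seqU_one hF hn
      refine h.trans (le_of_eq ?_)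
      have : (q : ℚ) ≠ 0 := by positivity
      push_cast
      field_simp
      ring
  | m + 2, n => by
    have hq : (2 : ℚ) ≤ q := by exact_mod_cast Forms.one_lt_q hF
    have hq0 : (q : ℚ) ≠ 0 := by positivity
    have h : (Nat.card (SeqU hF (m + 2) n) : ℚ) ≤ (Nat.card (SeqU hF (m + 1) n) : ℚ) +
        ∑ a ∈ Finset.range (n / (m + 2)),
          ((q : ℚ) + 1) * (q : ℚ) ^ a * (Nat.card (SeqU hF (m + 1) (n - (m + 2) * (a + 1))) : ℚ) := by
      exact_mod_cast card_seqU_step hF (m + 1) n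
    refine h.trans ?_
    set y := ((q : ℚ))⁻¹ ^ (m + 1) with hy
    have hy01 := inv_pow_lt hq m
    rw [← hy] at hy01
    have hC := Cb_pos hq (m + 1)
    have hterm : ∀ a ∈ Finset.range (n / (m + 2)),
        ((q : ℚ) + 1) * (q : ℚ) ^ a * (Nat.card (SeqU hF (m + 1) (n - (m + 2) * (a + 1))) : ℚ) ≤
          Cb q (m + 1) * (q : ℚ) ^ n * (1 + (q : ℚ)⁻¹) * y ^ (a + 1) := by
      intro a ha
      have hle : (m + 2) * (a + 1) ≤ n := by
        rw [Finset.mem_range] at ha
        exact (Nat.mul_le_mul_left _ ha).trans (Nat.mul_div_le n (m + 2))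
      refine (mul_le_mul_of_nonneg_left (card_seqU_le (m + 1) _) (by positivity)).trans (le_of_eq ?_)
      rw [pow_sub₀ _ hq0 hle, hy, inv_pow, inv_pow, ← pow_mul,
        show (m + 2) * (a + 1) = (m + 1) * (a + 1) + a + 1 by ring, pow_add, pow_add]
      field_simp
    have hgeom : ∀ A : ℕ, ∑ a ∈ Finset.range A, y ^ (a + 1) ≤ y / (1 - y) := by
      intro A
      induction A with
      | zero => simp only [Finset.range_zero, Finset.sum_empty]; exact div_nonneg hy01.1.le (by linarith [hy01.2])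
      | succ A ih =>
        rw [Finset.sum_range_succ']
        have e : ∑ a ∈ Finset.range A, y ^ (a + 1 + 1) = y * ∑ a ∈ Finset.range A, y ^ (a + 1) := by
          rw [Finset.mul_sum]; exact Finset.sum_congr rfl fun a _ => pow_succ' y (a + 1)
        have hle := mul_le_mul_of_nonneg_left ih hy01.1.le
        have h1y : (1 - y) ≠ 0 := by linarith [hy01.2]
        have e2 : y * (y / (1 - y)) + y = y / (1 - y) := by field_simp; ring
        rw [e, zero_add, pow_one]
        linarith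
    refine (add_le_add (card_seqU_le (m + 1) n) (Finset.sum_le_sum hterm)).trans ?_
    rw [← Finset.mul_sum]
    refine (add_le_add le_rfl (mul_le_mul_of_nonneg_left (hgeom _) (by positivity))).trans (le_of_eq ?_)
    rw [Cb, ← hy]
    have h1y : (1 - y) ≠ 0 := by linarith [hy01.2]
    field_simp
    ring

theorem card_le_two (hq : q = 2) (n : ℕ) : Nat.card (SeqU hF n n) ≤ 9 * q ^ n := by
  have h := (card_seqU_le hF n n).trans (mul_le_mul_of_nonneg_right
    (hq ▸ (by simpa using Cb_two n) : Cb (q : ℚ) n ≤ 9) (by positivity))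
  exact_mod_cast h

theorem card_le_three (hq : 3 ≤ q) (n : ℕ) : Nat.card (SeqU hF n n) ≤ 3 * q ^ n := by
  have h := (card_seqU_le hF n n).trans (mul_le_mul_of_nonneg_right
    ((Cb_anti (by norm_num) (by exact_mod_cast hq) n).trans (Cb_three n)) (by positivity))
  exact_mod_cast h

theorem card_two_le : Nat.card (SeqU hF 2 2) ≤ (q + 1) * q + (q + 1) := by
  refine (card_seqU_step hF 1 2).trans ?_
  have h1 := card_seqU_one hF (show 1 ≤ 2 by norm_num)
  have h0 := card_seqU_zero_right hF 1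
  rw [show 2 / (1 + 1) = 1 from rfl, Finset.sum_range_one]
  norm_num
  simp only [pow_one, show 2 - 1 = 1 from rfl] at h1
  have := Nat.mul_le_mul_left (q + 1) h0
  omega

include hF in
theorem class_le (n : ℕ) (hn : 2 ≤ n) :
    100 * Nat.card (ConjClasses (SU n F q)) ≤ 826 * q ^ (n - 1) := by
  have hq := Forms.one_lt_q hF
  have hb := class_mul_le hF (n := n)
  obtain ⟨k, hk⟩ : ∃ k, n = k + 1 := ⟨n - 1, by omega⟩
  rw [show n - 1 = k by omega]
  refine Nat.le_of_mul_le_mul_right ?_ (show 0 < q + 1 by omega)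
  set S := ∑ d ∈ (Nat.gcd n (q + 1)).divisors.erase 1, (d ^ 2 - 1) * Nat.card (SeqU hF (n / d) (n / d)) with hS
  have hD : ∀ d ∈ (Nat.gcd n (q + 1)).divisors.erase 1, d ∣ n ∧ 2 ≤ d ∧ d ≤ q + 1 := by
    intro d hd
    obtain ⟨hd1, hd'⟩ := Finset.mem_erase.1 hd
    obtain ⟨hdd, hne⟩ := Nat.mem_divisors.1 hd'
    have hpos := Nat.pos_of_dvd_of_pos hdd (Nat.pos_of_ne_zero hne)
    exact ⟨hdd.trans (Nat.gcd_dvd_left _ _), by omega,
      Nat.le_of_dvd (by omega) (hdd.trans (Nat.gcd_dvd_right _ _))⟩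
  rcases Nat.lt_or_ge q 3 with hq3 | hq3
  · obtain rfl : q = 2 := by omega
    have hsub : (Nat.gcd n (2 + 1)).divisors.erase 1 ⊆ {3} := fun d hd => by
      obtain ⟨-, h2, h3⟩ := hD d hd
      obtain ⟨-, hd'⟩ := Finset.mem_erase.1 hd
      have := ((Nat.mem_divisors.1 hd').1.trans (Nat.gcd_dvd_right n (2 + 1)))
      rw [Finset.mem_singleton]
      interval_cases d <;> omega
    have hS2 : S = 0 ∨ (3 ∣ n ∧ S ≤ 8 * Nat.card (SeqU hF (n / 3) (n / 3))) := by
      rcases Finset.subset_singleton_iff.1 hsub with h | h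
      · left; rw [hS, h, Finset.sum_empty]
      · right
        refine ⟨(hD 3 (by rw [h]; exact Finset.mem_singleton_self 3)).1, le_of_eq ?_⟩
        rw [hS, h, Finset.sum_singleton]
        norm_num
    have hKn := card_le_two hF rfl n
    rw [hk, pow_succ] at hKn
    rw [← hk] at hKn
    rcases hS2 with h | ⟨h3, h⟩
    · omega
    · obtain ⟨j, rfl⟩ := h3
      rw [Nat.mul_div_cancel_left j (by norm_num)] at h
      have hj := card_le_two hF rfl j
      rcases (show j = 1 ∨ j = 2 ∨ 3 ≤ j by omega) with rfl | rfl | hj3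
      · have := card_seqU_one hF (le_refl 1)
        obtain rfl : k = 2 := by omega
        norm_num at *
        omega
      · have := card_two_le hF
        obtain rfl : k = 5 := by omega
        norm_num at *
        omega
      · have hp : 128 * 2 ^ j ≤ 4 * 2 ^ k := by
          calc 128 * 2 ^ j = 2 ^ (j + 7) := by ring
            _ ≤ 2 ^ (k + 2) := Nat.pow_le_pow_right (by norm_num) (by omega)
            _ = 4 * 2 ^ k := by ring
        omega
  · have hKn := card_le_three hF hq3 n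
    have hqn : q ^ n = q * q ^ k := by rw [hk, pow_succ']
    -- the small exponents
    have hS5 : S ≤ 5 * q ^ n := by
      have hsum : S ≤ ∑ d ∈ (Finset.Icc 2 (min n (q + 1))).filter (· ∣ n),
          (d ^ 2 - 1) * Nat.card (SeqU hF (n / d) (n / d)) :=
        Finset.sum_le_sum_of_subset fun d hd => by
          obtain ⟨h1, h2, h3⟩ := hD d hd
          have := Nat.le_of_dvd (by omega) h1
          simp only [Finset.mem_filter, Finset.mem_Icc]
          exact ⟨⟨h2, by omega⟩, h1⟩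
      refine hsum.trans ?_
      rw [Finset.sum_filter, ← Finset.add_sum_Ioc_eq_sum_Icc (show 2 ≤ min n (q + 1) by omega)]
      have h2 : (if 2 ∣ n then (2 ^ 2 - 1) * Nat.card (SeqU hF (n / 2) (n / 2)) else 0) ≤ 3 * q ^ n := by
        split_ifs with hd
        · calc (2 ^ 2 - 1) * Nat.card (SeqU hF (n / 2) (n / 2)) ≤ 3 * (3 * q ^ (n / 2)) :=
                Nat.mul_le_mul le_rfl (card_le_three hF hq3 _)
            _ ≤ 3 * (q * q ^ (n / 2)) := Nat.mul_le_mul le_rfl (Nat.mul_le_mul_right _ hq3)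
            _ = 3 * q ^ (n / 2 + 1) := by rw [pow_succ']
            _ ≤ 3 * q ^ n := Nat.mul_le_mul le_rfl (Nat.pow_le_pow_right (by omega) (by omega))
        · exact Nat.zero_le _
      refine le_trans (Nat.add_le_add h2 ?_) (show 3 * q ^ n + 2 * q ^ n ≤ 5 * q ^ n by omega)
      rcases Nat.lt_or_ge n 6 with h6 | h6
      · have hK1 := card_seqU_one hF (le_refl 1)
        rw [Nat.sub_self, pow_zero, mul_one] at hK1
        refine (Finset.sum_le_sum (g := fun d => if d = n then (n ^ 2 - 1) * (q + 1) else 0)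
          fun d hd => ?_).trans ?_
        · rw [Finset.mem_Ioc] at hd
          rcases eq_or_ne d n with rfl | hne
          · rw [if_pos (dvd_refl _), if_pos rfl, Nat.div_self (by omega)]
            exact Nat.mul_le_mul le_rfl hK1
          · rw [if_neg hne, if_neg]
            intro hdn
            have : n ≤ 5 := by omega
            have : d < n := by omega
            interval_cases n <;> interval_cases d <;> omega
        · rw [Finset.sum_ite_eq']
          split_ifs
          · have h3 : 3 ^ (n - 1) ≤ q ^ (n - 1) := Nat.pow_le_pow_left hq3 _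
            interval_cases n <;> norm_num at h3 ⊢ <;> nlinarith
          · exact Nat.zero_le _
      · refine (Finset.sum_le_card_nsmul _ _ (6 * q ^ (2 + n / 3)) fun d hd => ?_).trans ?_
        · rw [Finset.mem_Ioc] at hd
          split_ifs
          · calc (d ^ 2 - 1) * Nat.card (SeqU hF (n / d) (n / d)) ≤ (2 * q ^ 2) * (3 * q ^ (n / 3)) := by
                  refine Nat.mul_le_mul ((Nat.sub_le _ _).trans ?_) ((card_le_three hF hq3 _).trans ?_)
                  · have h1 : d ^ 2 ≤ (q + 1) ^ 2 := Nat.pow_le_pow_left (by omega) 2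
                    nlinarith
                  · exact Nat.mul_le_mul le_rfl (Nat.pow_le_pow_right (by omega)
                      (Nat.div_le_div_left (by omega) (by norm_num)))
              _ = 6 * q ^ (2 + n / 3) := by rw [pow_add]; ring
          · exact Nat.zero_le _
        · rw [smul_eq_mul, Nat.card_Ioc]
          calc (min n (q + 1) - 2) * (6 * q ^ (2 + n / 3)) ≤ q * (6 * q ^ (2 + n / 3)) :=
                Nat.mul_le_mul_right _ (by omega)
            _ = 2 * (3 * q ^ (2 + n / 3 + 1)) := by ring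
            _ ≤ 2 * (q * q ^ (2 + n / 3 + 1)) := Nat.mul_le_mul le_rfl (Nat.mul_le_mul_right _ hq3)
            _ = 2 * q ^ (2 + n / 3 + 1 + 1) := by rw [← pow_succ']
            _ ≤ 2 * q ^ n := Nat.mul_le_mul le_rfl (Nat.pow_le_pow_right (by omega) (by omega))
    nlinarith

end Cfsg.Agent.GL.SUClassNumber
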