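import Mathlib

/-!
Sourour's factorisation theorem: a non-scalar invertible matrix is similar to a product of a lower and an upper
triangular matrix with prescribed diagonals, subject only to the determinant condition. Also: a matrix whose
characteristic polynomial splits with distinct roots is similar to a diagonal matrix.
-/

set_option autoImplicit false

open Matrix

namespace Cfsg.Agent.GL

variable {F : Type*} [Field F] {n : ℕ}

/-- The matrix `[a b; c D]`. -/
def borderMat (a : F) (b c : Fin n → F) (D : Matrix (Fin n) (Fin n) F) :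
    Matrix (Fin (n + 1)) (Fin (n + 1)) F :=
  Matrix.of (Fin.cons (Fin.cons a b) (fun i => Fin.cons (c i) (D i)))

@[simp] theorem borderMat_zero_zero (a : F) (b c : Fin n → F) (D : Matrix (Fin n) (Fin n) F) :
    borderMat a b c D 0 0 = a := rfl

@[simp] theorem borderMat_zero_succ (a : F) (b c : Fin n → F) (D : Matrix (Fin n) (Fin n) F) (j : Fin n) :
    borderMat a b c D 0 j.succ = b j := rfl

@[simp] theorem borderMat_succ_zero (a : F) (b c : Fin n → F) (D : Matrix (Fin n) (Fin n) F) (i : Fin n) :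
    borderMat a b c D i.succ 0 = c i := rfl

@[simp] theorem borderMat_succ_succ (a : F) (b c : Fin n → F) (D : Matrix (Fin n) (Fin n) F) (i j : Fin n) :
    borderMat a b c D i.succ j.succ = D i j := rfl

theorem eq_borderMat (A : Matrix (Fin (n + 1)) (Fin (n + 1)) F) :
    A = borderMat (A 0 0) (fun j => A 0 j.succ) (fun i => A i.succ 0) (A.submatrix Fin.succ Fin.succ) := by
  ext i j
  refine Fin.cases ?_ (fun i => ?_) i <;> refine Fin.cases ?_ (fun j => ?_) j <;> simp

theorem borderMat_mul (a a' : F) (b b' c c' : Fin n → F) (D D' : Matrix (Fin n) (Fin n) F) :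
    borderMat a b c D * borderMat a' b' c' D' =
      borderMat (a * a' + b ⬝ᵥ c') (a • b' + b ᵥ* D') (a' • c + D *ᵥ c') (vecMulVec c b' + D * D') := by
  ext i j
  refine Fin.cases ?_ (fun i => ?_) i <;> refine Fin.cases ?_ (fun j => ?_) j <;>
    simp [Matrix.mul_apply, Fin.sum_univ_succ, dotProduct, vecMul, mulVec, vecMulVec, mul_comm]

theorem det_borderMat_upper (a : F) (b : Fin n → F) (D : Matrix (Fin n) (Fin n) F) :
    (borderMat a b 0 D).det = a * D.det := by
  rw [det_succ_column_zero, Fin.sum_univ_succ]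
  simp only [borderMat_zero_zero, borderMat_succ_zero, Pi.zero_apply, mul_zero, zero_mul,
    Finset.sum_const_zero, add_zero, Fin.val_zero, pow_zero, one_mul, Fin.succAbove_zero]
  rfl

theorem det_borderMat_lower (a : F) (c : Fin n → F) (D : Matrix (Fin n) (Fin n) F) :
    (borderMat a 0 c D).det = a * D.det := by
  rw [det_succ_row_zero, Fin.sum_univ_succ]
  simp only [borderMat_zero_zero, borderMat_zero_succ, Pi.zero_apply, mul_zero, zero_mul,
    Finset.sum_const_zero, add_zero, Fin.val_zero, pow_zero, one_mul, Fin.succAbove_zero]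
  rfl

theorem borderMat_one : borderMat (1 : F) 0 0 (1 : Matrix (Fin n) (Fin n) F) = 1 := by
  ext i j
  refine Fin.cases ?_ (fun i => ?_) i <;> refine Fin.cases ?_ (fun j => ?_) j <;>
    simp [Matrix.one_apply, Fin.succ_ne_zero, (Fin.succ_ne_zero _).symm]

theorem det_borderMat_schur (a : F) (ha : a ≠ 0) (b c : Fin n → F) (D : Matrix (Fin n) (Fin n) F) :
    (borderMat a b c D).det = a * (D - a⁻¹ • vecMulVec c b).det := by
  have h : borderMat a b c D =
      borderMat a 0 c 1 * borderMat 1 (a⁻¹ • b) 0 (D - a⁻¹ • vecMulVec c b) := by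
    rw [borderMat_mul]
    simp [smul_smul, mul_inv_cancel₀ ha, vecMulVec_smul]
  rw [h, det_mul, det_borderMat_lower, det_borderMat_upper, det_one]
  ring

/-- Extend an independent family indexed by `Fin m` to one indexed by `Fin N`. -/
theorem exists_linearIndependent_extend {V : Type*} [AddCommGroup V] [Module F V] [FiniteDimensional F V]
    {m N : ℕ} {v : Fin m → V} (hv : LinearIndependent F v) (h : m ≤ N) (hN : N ≤ Module.finrank F V) :
    ∃ w : Fin N → V, LinearIndependent F w ∧ ∀ i, w (Fin.castLE h i) = v i := by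
  induction N, h using Nat.le_induction with
  | base => exact ⟨v, hv, fun i => rfl⟩
  | succ N h ih =>
    obtain ⟨w, hw, hwv⟩ := ih (by omega)
    obtain ⟨x, hx⟩ := exists_linearIndependent_snoc_of_lt_finrank hw (by omega)
    refine ⟨Fin.snoc w x, hx, fun i => ?_⟩
    rw [show Fin.castLE (h.trans (Nat.le_succ N)) i = (Fin.castLE h i).castSucc from rfl, Fin.snoc_castSucc]
    exact hwv i

/-- A non-scalar matrix is similar to one whose first column is `(a, 1, 0, …, 0)`. -/
theorem exists_similar_first_col (A : Matrix (Fin (n + 2)) (Fin (n + 2)) F)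
    (hA : ¬ ∃ c : F, A = c • 1) (a : F) :
    ∃ P A' : Matrix (Fin (n + 2)) (Fin (n + 2)) F, IsUnit P ∧ A * P = P * A' ∧
      A' 0 0 = a ∧ A' 1 0 = 1 ∧ ∀ i, 1 < i → A' i 0 = 0 := by
  obtain ⟨v, hv⟩ : ∃ v, LinearIndependent F ![v, A *ᵥ v] := by
    by_contra h
    push Not at h
    obtain ⟨c, hc⟩ := LinearMap.exists_eq_smul_id_of_forall_notLinearIndependent
      (f := Matrix.toLin' A) (fun v => by simpa [Matrix.toLin'_apply] using h v)
    exact hA ⟨c, Matrix.toLin'.injective (by rw [hc]; simp [Module.End.one_eq_id])⟩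
  have hv' : LinearIndependent F ![v, A *ᵥ v - a • v] := by
    rw [LinearIndependent.pair_iff] at hv ⊢
    intro s t hst
    have := hv (s - t * a) t (by rw [← hst, smul_sub, sub_smul, smul_smul]; abel)
    obtain ⟨h1, h2⟩ := this
    exact ⟨by simpa [h2] using h1, h2⟩
  obtain ⟨w, hw, hwv⟩ := exists_linearIndependent_extend hv' (Nat.le_add_left 2 n)
    (Module.finrank_fin_fun F).ge
  let B : Module.Basis (Fin (n + 2)) F (Fin (n + 2) → F) :=
    basisOfLinearIndependentOfCardEqFinrank hw (by simp)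
  have hB0 : B 0 = v := by
    simp only [B, coe_basisOfLinearIndependentOfCardEqFinrank]
    exact hwv 0
  have hB1 : B 1 = A *ᵥ v - a • v := by
    simp only [B, coe_basisOfLinearIndependentOfCardEqFinrank]
    exact hwv 1
  let P : Matrix (Fin (n + 2)) (Fin (n + 2)) F := (Pi.basisFun F _).toMatrix B
  have hP : IsUnit P := by
    let : Invertible P := (Pi.basisFun F _).invertibleToMatrix B
    exact isUnit_of_invertible P
  refine ⟨P, P⁻¹ * A * P, hP, ?_, ?_⟩
  · rw [← Matrix.mul_assoc, ← Matrix.mul_assoc,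
      Matrix.mul_nonsing_inv _ ((Matrix.isUnit_iff_isUnit_det _).1 hP), Matrix.one_mul]
  have hcol : ∀ j, P *ᵥ Pi.single j 1 = B j := by
    intro j
    ext i
    simp [P, Module.Basis.toMatrix_apply]
  have h0 : (P⁻¹ * A * P) *ᵥ Pi.single 0 1 = a • Pi.single 0 1 + Pi.single 1 1 := by
    rw [← Matrix.mulVec_mulVec, hcol, hB0, ← Matrix.mulVec_mulVec]
    have : A *ᵥ v = P *ᵥ (a • Pi.single 0 1 + Pi.single 1 1) := by
      rw [Matrix.mulVec_add, Matrix.mulVec_smul, hcol, hcol, hB0, hB1]
      abel
    rw [this, Matrix.mulVec_mulVec, Matrix.nonsing_inv_mul _ ((Matrix.isUnit_iff_isUnit_det _).1 hP),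
      Matrix.one_mulVec]
  have hc : ∀ i, (P⁻¹ * A * P) i 0 = (a • Pi.single 0 1 + Pi.single 1 1 : Fin (n + 2) → F) i :=
    fun i => by rw [← h0]; simp
  refine ⟨by simp [hc], by simp [hc], fun i hi => ?_⟩
  rw [hc]
  have h1 : i ≠ 1 := hi.ne'
  have h2 : i ≠ 0 := fun h => by simp [h] at hi
  simp [h1, h2]

/-- **Sourour's factorisation**: a non-scalar invertible `A` is similar to `L * U` with `L` lower and `U` upper
triangular with any prescribed diagonals `β`, `γ` such that `∏ β i * γ i = det A`. -/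
theorem exists_similar_lower_mul_upper :
    ∀ {n : ℕ} (A : Matrix (Fin n) (Fin n) F), (n ≤ 1 ∨ ¬ ∃ c : F, A = c • 1) →
      ∀ β γ : Fin n → F, (∀ i, β i ≠ 0) → (∀ i, γ i ≠ 0) → A.det = ∏ i, β i * γ i →
      ∃ P L U : Matrix (Fin n) (Fin n) F, IsUnit P ∧ A * P = P * (L * U) ∧
        (∀ i, L i i = β i) ∧ (∀ i, U i i = γ i) ∧ (∀ i j, i < j → L i j = 0) ∧ (∀ i j, j < i → U i j = 0) := by
  intro n
  induction n with
  | zero => exact fun A _ β γ _ _ _ => ⟨1, 1, 1, isUnit_one, Subsingleton.elim _ _, fun i => i.elim0,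
      fun i => i.elim0, fun i => i.elim0, fun i => i.elim0⟩
  | succ m ih =>
    intro A hA β γ hβ hγ hdet
    set a := β 0 * γ 0 with ha
    have ha0 : a ≠ 0 := mul_ne_zero (hβ 0) (hγ 0)
    -- reduce to `A` similar to `borderMat a b c D` with Schur complement admissible for induction
    suffices h : ∃ (P : Matrix (Fin (m + 1)) (Fin (m + 1)) F) (b c : Fin m → F) (D : Matrix (Fin m) (Fin m) F),
        IsUnit P ∧ A * P = P * borderMat a b c D ∧
          (m ≤ 1 ∨ ¬ ∃ s : F, D - a⁻¹ • vecMulVec c b = s • 1) by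
      obtain ⟨P, b, c, D, hP, hPA, hS⟩ := h
      have hdetB : (borderMat a b c D).det = A.det := by
        have := congrArg Matrix.det hPA
        rw [det_mul, det_mul, mul_comm] at this
        exact (mul_left_cancel₀ ((Matrix.isUnit_iff_isUnit_det _).1 hP).ne_zero this).symm
      rw [det_borderMat_schur a ha0, hdet, Fin.prod_univ_succ, ← ha] at hdetB
      obtain ⟨R, L, U, hR, hRS, hLd, hUd, hL, hU⟩ := ih (D - a⁻¹ • vecMulVec c b) hS (fun i => β i.succ)
        (fun i => γ i.succ) (fun i => hβ _) (fun i => hγ _) (mul_left_cancel₀ ha0 hdetB)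
      have hRdet := (Matrix.isUnit_iff_isUnit_det _).1 hR
      have hQ : IsUnit (borderMat (1 : F) 0 0 R) := by
        rw [Matrix.isUnit_iff_isUnit_det, det_borderMat_upper, one_mul]
        exact hRdet
      refine ⟨P * borderMat 1 0 0 R, borderMat (β 0) 0 ((γ 0)⁻¹ • (R⁻¹ *ᵥ c)) L,
        borderMat (γ 0) ((β 0)⁻¹ • (b ᵥ* R)) 0 U, hP.mul hQ, ?_, ?_, ?_, ?_, ?_⟩
      · rw [← Matrix.mul_assoc, hPA, Matrix.mul_assoc, Matrix.mul_assoc, borderMat_mul, borderMat_mul,
          borderMat_mul]
        congr 1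
        have e1 : β 0 • (β 0)⁻¹ • (b ᵥ* R) = b ᵥ* R := by rw [smul_smul, mul_inv_cancel₀ (hβ 0), one_smul]
        have e2 : γ 0 • (γ 0)⁻¹ • (R⁻¹ *ᵥ c) = R⁻¹ *ᵥ c := by
          rw [smul_smul, mul_inv_cancel₀ (hγ 0), one_smul]
        have e3 : vecMulVec ((γ 0)⁻¹ • (R⁻¹ *ᵥ c)) ((β 0)⁻¹ • (b ᵥ* R)) =
            a⁻¹ • (R⁻¹ * (vecMulVec c b * R)) := by
          rw [vecMulVec_mul, mul_vecMulVec, vecMulVec_smul, smul_vecMulVec, smul_smul, ha, _root_.mul_inv_rev]
          congr 1
          ring
        have e4 : R *ᵥ (R⁻¹ *ᵥ c) = c := by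
          rw [Matrix.mulVec_mulVec, Matrix.mul_nonsing_inv _ hRdet, Matrix.one_mulVec]
        simp only [smul_zero, zero_add, add_zero, zero_vecMul, mulVec_zero, zero_dotProduct, one_smul,
          dotProduct_zero, vecMulVec_zero, zero_vecMulVec, ← ha, one_mul, mul_one, e1, e2, e4]
        congr 1
        rw [e3, Matrix.mul_add, ← hRS, Matrix.mul_smul, ← Matrix.mul_assoc R, Matrix.mul_nonsing_inv _ hRdet,
          Matrix.one_mul, Matrix.sub_mul, Matrix.smul_mul]
        abel
      · exact Fin.cases (by simp) (fun i => by simpa using hLd i)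
      · exact Fin.cases (by simp) (fun i => by simpa using hUd i)
      · intro i j
        refine Fin.cases ?_ (fun i => ?_) i <;> refine Fin.cases ?_ (fun j => ?_) j <;> simp +contextual [hL]
      · intro i j
        refine Fin.cases ?_ (fun i => ?_) i <;> refine Fin.cases ?_ (fun j => ?_) j <;> simp +contextual [hU]
    match m, A, hA, β, γ, hdet, a, ha, ha0 with
    | 0, A, _, β, γ, hdet, a, ha, _ =>
      refine ⟨1, fun i => i.elim0, fun i => i.elim0, 1, isUnit_one, ?_, Or.inl (by omega)⟩
      rw [Matrix.mul_one, Matrix.one_mul]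
      ext i j
      rw [Fin.fin_one_eq_zero i, Fin.fin_one_eq_zero j, borderMat_zero_zero, ha, ← Matrix.det_fin_one A, hdet]
      simp
    | k + 1, A, hA, β, γ, hdet, a, ha, ha0 =>
      obtain ⟨P, A', hP, hPA, h00, h10, hi0⟩ := exists_similar_first_col A (hA.resolve_left (by omega)) a
      set b : Fin (k + 1) → F := fun j => A' 0 j.succ with hb
      set c : Fin (k + 1) → F := fun i => A' i.succ 0 with hc
      set D := A'.submatrix Fin.succ Fin.succ with hD
      have hA' : A' = borderMat a b c D := by rw [eq_borderMat A', h00]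
      by_cases hS : k + 1 ≤ 1 ∨ ¬ ∃ s : F, D - a⁻¹ • vecMulVec c b = s • 1
      · exact ⟨P, b, c, D, hP, hA' ▸ hPA, hS⟩
      push Not at hS
      obtain ⟨hk, s, hs⟩ := hS
      have hs0 : s ≠ 0 := by
        rintro rfl
        rw [zero_smul] at hs
        have := congrArg Matrix.det hPA
        rw [hA', det_mul, det_mul, det_borderMat_schur a ha0, hs, Matrix.det_zero, mul_zero, mul_zero] at this
        exact mul_ne_zero (hdet ▸ Finset.prod_ne_zero_iff.2 fun i _ => mul_ne_zero (hβ i) (hγ i))
          ((Matrix.isUnit_iff_isUnit_det _).1 hP).ne_zero this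
      obtain ⟨k, rfl⟩ : ∃ k', k = k' + 1 := ⟨k - 1, by omega⟩
      set f : Fin (k + 2) → F := Pi.single 1 1 with hf
      have hfc : f ⬝ᵥ c = 0 := by
        have h21 : A' (Fin.succ 1) 0 = 0 := hi0 _ (by rw [Fin.lt_def, Fin.val_succ]; simp)
        rw [hf, single_dotProduct, one_mul]
        exact h21
      have hDeq : D = s • 1 + a⁻¹ • vecMulVec c b := by rw [← hs]; abel
      have hfD : f ᵥ* D = s • f := by
        rw [hDeq, Matrix.vecMul_add, Matrix.vecMul_smul, Matrix.vecMul_smul, Matrix.vecMul_one,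
          Matrix.vecMul_vecMulVec, hfc, zero_smul, smul_zero, add_zero]
      have hN : borderMat (1 : F) f 0 1 * borderMat 1 (-f) 0 1 = 1 := by
        rw [borderMat_mul]
        conv_rhs => rw [← borderMat_one]
        simp
      refine ⟨P * borderMat 1 (-f) 0 1, b + s • f - a • f, c, D - vecMulVec c f, hP.mul ?_, ?_, Or.inr ?_⟩
      · rw [Matrix.isUnit_iff_isUnit_det, det_borderMat_upper]
        simp
      · rw [← Matrix.mul_assoc, hPA, Matrix.mul_assoc, Matrix.mul_assoc, hA', borderMat_mul, borderMat_mul]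
        congr 1
        simp only [one_smul, mulVec_zero, add_zero, zero_add, dotProduct_zero, Matrix.mul_one, Matrix.one_mul,
          vecMulVec_neg, zero_vecMulVec, one_mul, mul_one, neg_dotProduct, hfc, neg_zero, one_mulVec,
          vecMul_one, smul_zero, neg_vecMul, vecMul_sub, vecMul_vecMulVec, zero_smul, sub_zero, hfD]
        congr 1
        · rw [smul_neg]; abel
        · abel
      · rintro ⟨t, ht⟩
        have key : D - vecMulVec c f - a⁻¹ • vecMulVec c (b + s • f - a • f) =
            s • (1 : Matrix (Fin (k + 2)) (Fin (k + 2)) F) - (a⁻¹ * s) • vecMulVec c f := by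
          rw [hDeq, vecMulVec_sub, vecMulVec_add, vecMulVec_smul, vecMulVec_smul, smul_sub, smul_add,
            smul_smul, smul_smul, inv_mul_cancel₀ ha0, one_smul]
          abel
        rw [key] at ht
        have h01 := congrFun (congrFun ht 0) 1
        have hc0 : c 0 = 1 := h10
        simp [vecMulVec, hf, hc0, ha0, hs0] at h01

/-- A matrix whose characteristic polynomial is `∏ (X - β i)` with distinct `β i` is similar to `diagonal β`. -/
theorem exists_similar_diagonal (A : Matrix (Fin n) (Fin n) F) (β : Fin n → F) (hβ : Function.Injective β)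
    (hA : A.charpoly = ∏ i, (Polynomial.X - Polynomial.C (β i))) :
    ∃ P : Matrix (Fin n) (Fin n) F, IsUnit P ∧ A * P = P * Matrix.diagonal β := by
  have h : ∀ i, ∃ v, v ≠ 0 ∧ A *ᵥ v = β i • v := by
    intro i
    have he : Module.End.HasEigenvalue (Matrix.toLin' A) (β i) := by
      rw [Module.End.hasEigenvalue_iff_isRoot_charpoly, Matrix.charpoly_toLin', hA, Polynomial.IsRoot,
        Polynomial.eval_prod]
      exact Finset.prod_eq_zero (Finset.mem_univ i) (by simp)
    obtain ⟨v, hv⟩ := he.exists_hasEigenvector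
    exact ⟨v, hv.2, by simpa [Matrix.toLin'_apply] using hv.apply_eq_smul⟩
  choose v hv0 hv using h
  have hli : LinearIndependent F v := Module.End.eigenvectors_linearIndependent' (Matrix.toLin' A) β
    hβ v (fun i => ⟨Module.End.mem_eigenspace_iff.2 (by simpa [Matrix.toLin'_apply] using hv i), hv0 i⟩)
  refine ⟨(Matrix.of v)ᵀ, ?_, ?_⟩
  · rw [Matrix.isUnit_transpose]
    exact Matrix.linearIndependent_rows_iff_isUnit.1 hli
  · ext i j
    rw [Matrix.mul_diagonal, Matrix.mul_apply]
    simpa [Matrix.mulVec, dotProduct, mul_comm] using congrFun (hv j) i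

end Cfsg.Agent.GL
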