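import Cfsg.Agent.Lib.GL.PSpPrimes

/-!
Divisibility of torus exponents by odd primes, through the multiplicative order of `q`.
-/

set_option autoImplicit false

namespace Cfsg.Agent.GL

variable {q r : ℕ}

theorem dvd_pow_sub_one_iff_order (hr : r.Prime) (hq : 0 < q) (d : ℕ) :
    r ∣ q ^ d - 1 ↔ orderOf ((q : ℕ) : ZMod r) ∣ d := by
  rw [orderOf_dvd_iff_pow_eq_one, aux hr hq]
where
  aux {r q d : ℕ} (_hr : r.Prime) (hq : 0 < q) :
      r ∣ q ^ d - 1 ↔ ((q : ℕ) : ZMod r) ^ d = 1 := by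
    rw [← ZMod.natCast_eq_zero_iff, Nat.cast_sub (Nat.one_le_pow _ _ hq), Nat.cast_pow, Nat.cast_one, sub_eq_zero]

theorem dvd_pow_add_one_iff_order (hr : r.Prime) (hr2 : r ≠ 2) (hq : 0 < q) (d : ℕ) :
    r ∣ q ^ d + 1 ↔ orderOf ((q : ℕ) : ZMod r) ∣ 2 * d ∧ ¬ orderOf ((q : ℕ) : ZMod r) ∣ d := by
  rw [← dvd_pow_sub_one_iff_order hr hq, ← dvd_pow_sub_one_iff_order hr hq]
  have e : q ^ (2 * d) - 1 = (q ^ d + 1) * (q ^ d - 1) := by
    rw [show q ^ (2 * d) = (q ^ d) ^ 2 by rw [← pow_mul, mul_comm], ← Nat.sq_sub_sq, one_pow]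
  rw [e, hr.dvd_mul]
  constructor
  · intro h
    refine ⟨Or.inl h, fun h' => hr2 ((Nat.prime_dvd_prime_iff_eq hr Nat.prime_two).1 ?_)⟩
    have := Nat.dvd_sub h h'
    rwa [show q ^ d + 1 - (q ^ d - 1) = 2 by have := Nat.one_le_pow d q hq; omega] at this
  · rintro ⟨h | h, h'⟩
    · exact h
    · exact absurd h h'

theorem dvd_torusExp_iff_num (hr : r.Prime) (hr2 : r ≠ 2) (hq : 0 < q) {d : ℕ} (hd : 0 < d) (b : Bool) :
    r ∣ torusExp q d b ↔ r ∣ (if b then q ^ d + 1 else q ^ d - 1) := by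
  constructor
  · refine fun h => h.trans ?_
    unfold torusExp
    refine Nat.div_dvd_of_dvd ?_
    rcases Nat.even_or_odd q with hq' | hq'
    · rw [(Nat.coprime_two_left.2 (Nat.Even.sub_odd hq hq' odd_one) : Nat.Coprime 2 (q - 1)).gcd_eq_one]
      exact one_dvd _
    · refine (Nat.gcd_dvd_left 2 _).trans ?_
      cases b
      · exact (Nat.Odd.sub_odd hq'.pow odd_one).two_dvd
      · exact (hq'.pow.add_one).two_dvd
  · intro h
    refine (hr.dvd_mul.1 (h.trans (two_mul_torusExp hq d b hd))).resolve_left fun h' => hr2 ?_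
    exact (Nat.prime_dvd_prime_iff_eq hr Nat.prime_two).1 (h'.trans (Nat.gcd_dvd_left _ _))

/-- The invariant `η`. -/
structure IsEta (k η : ℕ) : Prop where
  cases : (Odd k ∧ η = k) ∨ (Even k ∧ 2 * η = k)

theorem IsEta.dvd_iff {k η : ℕ} (h : IsEta k η) (d : ℕ) : k ∣ 2 * d ↔ η ∣ d := by
  rcases h.cases with ⟨ho, rfl⟩ | ⟨-, rfl⟩
  · exact (Nat.coprime_two_right.2 ho).dvd_mul_left
  · exact Nat.mul_dvd_mul_iff_left two_pos

theorem IsEta.dvd_self_iff {k η : ℕ} (h : IsEta k η) (hη : 0 < η) : k ∣ η ↔ Odd k := by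
  rcases h.cases with ⟨ho, rfl⟩ | ⟨he, rfl⟩
  · exact iff_of_true dvd_rfl ho
  · refine iff_of_false (fun hd => ?_) (Nat.not_odd_iff_even.2 he)
    have := Nat.le_of_dvd hη hd
    omega

theorem exists_torus_iff (hr : r.Prime) (hr2 : r ≠ 2) (hq : 0 < q) {η : ℕ}
    (hη : IsEta (orderOf ((q : ℕ) : ZMod r)) η) {d : ℕ} (hd : 0 < d) :
    (∃ b, r ∣ torusExp q d b) ↔ η ∣ d := by
  rw [← hη.dvd_iff]
  constructor
  · rintro ⟨b, hb⟩
    rw [dvd_torusExp_iff_num hr hr2 hq hd] at hb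
    cases b
    · exact dvd_mul_of_dvd_right ((dvd_pow_sub_one_iff_order hr hq d).1 hb) 2
    · exact ((dvd_pow_add_one_iff_order hr hr2 hq d).1 hb).1
  · intro h
    by_cases h' : orderOf ((q : ℕ) : ZMod r) ∣ d
    · exact ⟨false, (dvd_torusExp_iff_num hr hr2 hq hd false).2 ((dvd_pow_sub_one_iff_order hr hq d).2 h')⟩
    · exact ⟨true, (dvd_torusExp_iff_num hr hr2 hq hd true).2 ((dvd_pow_add_one_iff_order hr hr2 hq d).2 ⟨h, h'⟩)⟩

theorem order_pos (hr : r.Prime) (hrq : ¬ r ∣ q) : 0 < orderOf ((q : ℕ) : ZMod r) := by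
  have := Fact.mk hr
  refine orderOf_pos_iff.2 (isOfFinOrder_iff_pow_eq_one.2 ⟨r - 1, by have := hr.two_le; omega, ?_⟩)
  exact ZMod.pow_card_sub_one_eq_one fun h => hrq ((ZMod.natCast_eq_zero_iff _ _).1 h)

theorem IsEta.pos {k η : ℕ} (h : IsEta k η) (hk : 0 < k) : 0 < η := by
  rcases h.cases with ⟨-, rfl⟩ | ⟨-, h2⟩ <;> omega

/-- A prime divisor `≠ p` of `|PSp(2n,q)|` has `η ≤ n`. -/
theorem eta_le_of_dvd_card {F : Type*} [Field F] [Fintype F] {n r η : ℕ} (hr : r.Prime)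
    (hrq : ¬ r ∣ Fintype.card F) (hη : IsEta (orderOf ((Fintype.card F : ℕ) : ZMod r)) η)
    (h : r ∣ Nat.card (Cfsg.PSp n F)) : η ≤ n := by
  have h1 : r ∣ Nat.card (Matrix.symplecticGroup (Fin n) F) := h.trans (Subgroup.card_quotient_dvd_card _)
  rw [Forms.card_symplecticGroup, hr.dvd_mul, or_iff_right fun h' => hrq (hr.dvd_of_dvd_pow h'),
    hr.prime.dvd_finsetProd_iff] at h1
  obtain ⟨i, hi, hd⟩ := h1
  have := Nat.le_of_dvd (by omega : 0 < i + 1) ((hη.dvd_iff _).1 ((dvd_pow_sub_one_iff_order hr Fintype.card_pos _).1 hd))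
  rw [Finset.mem_range] at hi
  omega

theorem prime_not_dvd_card {F : Type*} [Field F] [Fintype F] (p : ℕ) [Fact p.Prime] [CharP F p] {r : ℕ}
    (hr : r.Prime) (hrp : r ≠ p) : ¬ r ∣ Fintype.card F := by
  obtain ⟨a, hp, ha⟩ := FiniteField.card F p
  rw [ha]
  exact fun h => hrp ((Nat.prime_dvd_prime_iff_eq hr hp).1 (hr.dvd_of_dvd_pow h))

end Cfsg.Agent.GL
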