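import Cfsg.Agent.Lib.GL.SympOrders

/-!
Products of two primes as element orders of isometries (symplectic and orthogonal groups): the criterion in terms
of the torus exponents `(q ^ d ± 1) / (2, q - 1)`, and its necessity.
-/

set_option autoImplicit false

open Matrix Polynomial

namespace Cfsg.Agent.GL

/-- `(q ^ d + 1) / (2, q - 1)` for `b = true`, `(q ^ d - 1) / (2, q - 1)` for `b = false`. -/
def torusExp (q d : ℕ) (b : Bool) : ℕ := (if b then q ^ d + 1 else q ^ d - 1) / Nat.gcd 2 (q - 1)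

/-- The criterion for `r * s` to be an element order in rank `n`. -/
def PrimeCrit (q n p r s : ℕ) : Prop :=
  (∃ d b, 0 < d ∧ d ≤ n ∧ r * s ∣ torusExp q d b) ∨
  (∃ d₁ b₁ d₂ b₂, 0 < d₁ ∧ 0 < d₂ ∧ d₁ + d₂ ≤ n ∧ r ∣ torusExp q d₁ b₁ ∧ s ∣ torusExp q d₂ b₂) ∨
  ∃ d b, 0 < d ∧ d < n ∧ ((s = p ∧ r ∣ torusExp q d b) ∨ (r = p ∧ s ∣ torusExp q d b))

theorem PrimeCrit.symm {q n p r s : ℕ} (h : PrimeCrit q n p r s) : PrimeCrit q n p s r := by
  rcases h with ⟨d, b, h1, h2, h3⟩ | ⟨d₁, b₁, d₂, b₂, h1, h2, h3, h4, h5⟩ | ⟨d, b, h1, h2, h3⟩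
  · exact Or.inl ⟨d, b, h1, h2, by rwa [mul_comm]⟩
  · exact Or.inr (Or.inl ⟨d₂, b₂, d₁, b₁, h2, h1, by omega, h5, h4⟩)
  · exact Or.inr (Or.inr ⟨d, b, h1, h2, h3.symm⟩)

theorem two_mul_torusExp {q : ℕ} (h0 : 0 < q) (d : ℕ) (b : Bool) (hd : 0 < d) :
    (if b then q ^ d + 1 else q ^ d - 1) ∣ Nat.gcd 2 (q - 1) * torusExp q d b := by
  have hg : Nat.gcd 2 (q - 1) ∣ (if b then q ^ d + 1 else q ^ d - 1) := by
    rcases Nat.even_or_odd q with hq | hq
    · have h1 : Nat.Coprime 2 (q - 1) := Nat.coprime_two_left.2 (Nat.Even.sub_odd h0 hq odd_one)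
      rw [h1.gcd_eq_one]
      exact one_dvd _
    · refine (Nat.gcd_dvd_left 2 _).trans ?_
      cases b
      · exact (Nat.Odd.sub_odd hq.pow odd_one).two_dvd
      · exact (hq.pow.add_one).two_dvd
  unfold torusExp
  rw [Nat.mul_div_cancel' hg]

theorem two_dvd_torusExp {q : ℕ} (hq : Odd q) (d : ℕ) : ∃ b, 2 ∣ torusExp q d b := by
  have h2 : Nat.gcd 2 (q - 1) = 2 := Nat.gcd_eq_left (Nat.Odd.sub_odd hq odd_one).two_dvd
  have hd := Nat.odd_iff.1 (hq.pow (n := d))
  unfold torusExp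
  rw [h2]
  rcases (show q ^ d % 4 = 1 ∨ q ^ d % 4 = 3 by omega) with h | h
  · exact ⟨false, by simp only [Bool.false_eq_true, if_false]; omega⟩
  · exact ⟨true, by simp only [if_true]; omega⟩

variable {F : Type*} [Field F] [Fintype F]

omit [Fintype F] in
theorem dvd_X_pow_sub_one_iff {f : F[X]} (k : ℕ) : f ∣ X ^ k - 1 ↔ AdjoinRoot.root f ^ k = 1 := by
  rw [← AdjoinRoot.mk_eq_zero, map_sub, map_pow, AdjoinRoot.mk_X, map_one, sub_eq_zero]

omit [Fintype F] in
theorem dvd_X_pow_gcd {f : F[X]} {a b : ℕ} (ha : f ∣ X ^ a - 1) (hb : f ∣ X ^ b - 1) :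
    f ∣ X ^ Nat.gcd a b - 1 := by
  rw [dvd_X_pow_sub_one_iff] at *
  exact pow_gcd_eq_one.2 ⟨ha, hb⟩

omit [Fintype F] in
theorem dvd_X_pow_of_dvd {f : F[X]} {a b : ℕ} (h : a ∣ b) (ha : f ∣ X ^ a - 1) : f ∣ X ^ b - 1 := by
  rw [dvd_X_pow_sub_one_iff] at *
  obtain ⟨c, rfl⟩ := h
  rw [pow_mul, ha, one_pow]

omit [Fintype F] in
/-- A root of order dividing `2L` has `L`-th power `±1`. -/
theorem exists_sign_dvd {f : F[X]} (hf : Irreducible f) {L : ℕ} (h : f ∣ X ^ (2 * L) - 1) :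
    ∃ c : F, c * c = 1 ∧ f ∣ X ^ L - C c := by
  have h' : f ∣ (X ^ L - C 1) * (X ^ L - C (-1)) := by
    refine h.trans (dvd_of_eq ?_)
    rw [map_neg, map_one, two_mul, pow_add]
    ring
  rcases hf.prime.dvd_or_dvd h' with h1 | h1
  · exact ⟨1, one_mul 1, h1⟩
  · exact ⟨-1, by ring, h1⟩

variable {ι : Type*} [Fintype ι] [DecidableEq ι] {h : (ι → F) → (ι → F) → F}

omit [Fintype F] in
theorem pow_eq_one_iff_minpoly (A : Matrix ι ι F) (k : ℕ) : A ^ k = 1 ↔ minpoly F A ∣ X ^ k - 1 := by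
  rw [minpoly.dvd_iff, map_sub, map_pow, aeval_X, map_one, sub_eq_zero]

/-- A root squaring to one has `(2, q - 1)`-th power one. -/
theorem root_pow_w {f : F[X]} {w : ℕ} (hw : w = Nat.gcd 2 (Fintype.card F - 1)) (hf : Irreducible f)
    (h : AdjoinRoot.root f ^ 2 = 1) : AdjoinRoot.root f ^ w = 1 := by
  have := Fact.mk hf
  rcases Nat.even_or_odd (Fintype.card F) with he | ho
  · have h2 : (2 : F) = 0 := by
      obtain ⟨a, ha⟩ := FiniteField.card F (ringChar F)
      have := (Nat.even_pow.1 (ha.2 ▸ he : Even (ringChar F ^ (a : ℕ)))).1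
      rw [ha.1.even_iff] at this
      have hc := CharP.cast_eq_zero F (ringChar F)
      rw [this] at hc
      exact_mod_cast hc
    have : CharP F 2 := CharTwo.of_one_ne_zero_of_two_eq_zero one_ne_zero h2
    have : CharP (AdjoinRoot f) 2 := charP_of_injective_algebraMap (algebraMap F (AdjoinRoot f)).injective 2
    rw [CharTwo.sq_injective (h.trans (one_pow 2).symm), one_pow]
  · rw [hw, Nat.gcd_eq_left (Nat.Odd.sub_odd ho odd_one).two_dvd, h]

/-- The orbit `{f, f*}` of an irreducible factor of the minimal polynomial of an isometry. -/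
theorem exists_orbit (hh : IsReflexiveSesq (RingHom.id F) h) {A : Matrix ι ι F} (hA : Preserves h A) {f : F[X]}
    (hfm : f.Monic) (hf : Irreducible f) (hfμ : f ∣ minpoly F A) (hf0 : f.coeff 0 ≠ 0)
    {w : ℕ} (hw : w = Nat.gcd 2 (Fintype.card F - 1)) (hf2 : ¬ f ∣ X ^ w - 1) :
    ∃ (P : F[X]) (d : ℕ) (b : Bool), 0 < d ∧ f ∣ P ∧ P ∣ minpoly F A ∧ P.natDegree = 2 * d ∧
      IsCoprime P (X ^ w - 1) ∧ f ∣ X ^ (w * torusExp (Fintype.card F) d b) - 1 ∧
      (2 ≤ d → ∀ c : F, IsCoprime P (X - C c)) ∧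
      ∀ (L : ℕ) (c : F), 0 < L → c * c = 1 → f ∣ X ^ L - C c → P ∣ X ^ L - C c := by
  have := Fact.mk hf
  have hw0 : 0 < w := hw ▸ Nat.gcd_pos_of_pos_left _ two_pos
  by_cases hself : f ∣ conjRev (RingHom.id F) f
  · rcases root_pow_of_self_rev hfm hf hf0 hself with ⟨-, h2⟩ | ⟨e, he, hde, hpow⟩
    · exact absurd ((dvd_X_pow_sub_one_iff w).2 (root_pow_w hw hf h2)) hf2
    refine ⟨f, e, true, he, dvd_rfl, hfμ, hde, hf.coprime_iff_not_dvd.2 hf2, ?_, fun _ c => ?_,
      fun L c _ _ h1 => h1⟩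
    · exact dvd_X_pow_of_dvd (hw ▸ two_mul_torusExp Fintype.card_pos e true he) ((dvd_X_pow_sub_one_iff _).2 (by simpa using hpow))
    · refine hf.coprime_iff_not_dvd.2 fun h1 => ?_
      have := natDegree_le_of_dvd h1 (X_sub_C_ne_zero c)
      rw [natDegree_X_sub_C, hde] at this
      omega
  · have hg := irreducible_conjRev hh.invol hf hf0
    have hgd := natDegree_conjRev (RingHom.id F) hf0
    have hco : IsCoprime f (conjRev (RingHom.id F) f) := hf.coprime_iff_not_dvd.2 hself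
    have hgμ : conjRev (RingHom.id F) f ∣ minpoly F A := by
      refine (conjRev_dvd _ hfμ).trans ?_
      have := conjRev_dvd (RingHom.id F) (minpoly_dvd_conjRev hh hA)
      rw [conjRev_conjRev hh.invol] at this
      · exact this
      · intro h0
        obtain ⟨u, hu⟩ := hfμ
        have h1 : (minpoly F A).coeff 0 = 0 := h0
        rw [hu, mul_coeff_zero, mul_eq_zero, or_iff_right hf0] at h1
        have h2 := congrArg (fun P : F[X] => P.coeff 0) (show conjRev (RingHom.id F) (minpoly F A) =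
          conjRev (RingHom.id F) f * conjRev (RingHom.id F) u by rw [hu, conjRev_mul])
        simp only [mul_coeff_zero, coeff_zero_conjRev, RingHom.id_apply] at h2
        -- the constant term of the minimal polynomial of an isometry is nonzero
        obtain ⟨w, hw⟩ := minpoly_dvd_conjRev hh hA
        have h3 := congrArg (fun P : F[X] => P.coeff 0) hw
        simp only [mul_coeff_zero, coeff_zero_conjRev, RingHom.id_apply, h0, zero_mul,
          (minpoly.monic (Algebra.IsIntegral.isIntegral A)).leadingCoeff] at h3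
        exact one_ne_zero h3
    refine ⟨f * conjRev (RingHom.id F) f, f.natDegree, false, hf.natDegree_pos, dvd_mul_right _ _,
      hco.mul_dvd hfμ hgμ, ?_, ?_, ?_, fun hd c => ?_, fun L c hL hc h1 => ?_⟩
    · rw [natDegree_mul hf.ne_zero hg.ne_zero, hgd, two_mul]
    · refine IsCoprime.mul_left (hf.coprime_iff_not_dvd.2 hf2) (hg.coprime_iff_not_dvd.2 fun h1 => hf2 ?_)
      have := conjRev_dvd_X_pow_sub_C hh.invol hw0 (c := (1 : F)) (by simp) (f := conjRev (RingHom.id F) f)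
        (by simpa using h1)
      rw [conjRev_conjRev hh.invol hf0] at this
      simpa using this
    · refine dvd_X_pow_of_dvd (hw ▸ two_mul_torusExp Fintype.card_pos _ false hf.natDegree_pos) ((dvd_X_pow_sub_one_iff _).2 ?_)
      have hr0 : AdjoinRoot.root f ≠ 0 := fun h0 => hf0 (by
        have hX : f ∣ X := AdjoinRoot.mk_eq_zero.1 (by rw [AdjoinRoot.mk_X, h0])
        have := (hf.associated_of_dvd Polynomial.irreducible_X hX).symm.dvd
        rwa [X_dvd_iff] at this)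
      have := root_pow_normIndex_mul hfm hf hr0
      rw [normIndex_mul] at this
      simpa using this
    · refine IsCoprime.mul_left (hf.coprime_iff_not_dvd.2 fun h1 => ?_) (hg.coprime_iff_not_dvd.2 fun h1 => ?_)
        <;> have := natDegree_le_of_dvd h1 (X_sub_C_ne_zero c) <;> rw [natDegree_X_sub_C] at this <;> omega
    · exact hco.mul_dvd h1 (conjRev_dvd_X_pow_sub_C hh.invol hL (by simpa using hc) h1)

omit [Fintype F] in
theorem coeff_zero_ne_zero_of_dvd {f : F[X]} {k : ℕ} (hk : 0 < k) (h : f ∣ X ^ k - 1) : f.coeff 0 ≠ 0 := by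
  intro h0
  obtain ⟨u, hu⟩ := h
  have := congrArg (fun P : F[X] => P.coeff 0) hu
  simp [h0, mul_coeff_zero, hk.ne] at this

variable (p : ℕ) [Fact p.Prime] [CharP F p]

omit [Fintype F] in
/-- All roots have order dividing `k`, so `A ^ (k * p ^ e) = 1`. -/
theorem pow_mul_eq_one_of_factors (A : Matrix ι ι F) {k : ℕ}
    (hall : ∀ f : F[X], f.Monic → Irreducible f → f ∣ minpoly F A → f ∣ X ^ k - 1) :
    ∃ e, A ^ (k * p ^ e) = 1 := by
  classical
  have hμ0 : minpoly F A ≠ 0 := minpoly.ne_zero (Algebra.IsIntegral.isIntegral A)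
  obtain ⟨e, he⟩ : ∃ e, (minpoly F A).natDegree ≤ p ^ e :=
    ⟨_, Nat.le_pow_clog (Fact.out : p.Prime).one_lt _⟩
  refine ⟨e, (pow_eq_one_iff_minpoly A _).2 ?_⟩
  rw [pow_mul, show (X ^ k) ^ p ^ e - (1 : F[X]) = (X ^ k - 1) ^ p ^ e by rw [sub_pow_char_pow, one_pow]]
  set Y : F[X] := X ^ k - 1
  obtain ⟨u, hu⟩ := UniqueFactorizationMonoid.prod_normalizedFactors hμ0
  refine (dvd_of_eq hu.symm).trans ?_
  rw [IsUnit.mul_right_dvd u.isUnit]
  have hmem : ∀ f ∈ UniqueFactorizationMonoid.normalizedFactors (minpoly F A), f ∣ Y := fun f hf => by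
    have h1 := UniqueFactorizationMonoid.irreducible_of_normalized_factor f hf
    refine hall f ?_ h1 (UniqueFactorizationMonoid.dvd_of_mem_normalizedFactors hf)
    rw [← UniqueFactorizationMonoid.normalize_normalized_factor f hf]
    exact monic_normalize h1.ne_zero
  have hdvd := Multiset.prod_dvd_prod_of_dvd (S := UniqueFactorizationMonoid.normalizedFactors (minpoly F A))
    id (fun _ => Y) hmem
  rw [Multiset.map_id, Multiset.map_const', Multiset.prod_replicate] at hdvd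
  refine hdvd.trans (pow_dvd_pow _ (le_trans ?_ he))
  rw [← natDegree_eq_of_degree_eq (degree_eq_degree_of_associated (UniqueFactorizationMonoid.prod_normalizedFactors hμ0))]
  rw [natDegree_multiset_prod _ (UniqueFactorizationMonoid.zero_notMem_normalizedFactors _)]
  have := Multiset.card_nsmul_le_sum (a := 1)
    (s := (UniqueFactorizationMonoid.normalizedFactors (minpoly F A)).map natDegree) fun x hx => by
      obtain ⟨f, hf, rfl⟩ := Multiset.mem_map.1 hx
      exact (UniqueFactorizationMonoid.irreducible_of_normalized_factor f hf).natDegree_pos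
  simpa using this

/-- Necessity of the criterion, up to two small exponents. -/
theorem crit_or_pow_eq_one (hh : IsReflexiveSesq (RingHom.id F) h) {A : Matrix ι ι F} (hA : Preserves h A)
    {n : ℕ} (hn : 2 ≤ n) (hN : Fintype.card ι ≤ 2 * n + 1) {r s : ℕ} (hr : r.Prime) (hs : s.Prime)
    (hrs : r ≠ s) {w : ℕ} (hw : w = Nat.gcd 2 (Fintype.card F - 1)) (hpow : A ^ (w * (r * s)) = 1) :
    PrimeCrit (Fintype.card F) n p r s ∨ A ^ (w * r) = 1 ∨ A ^ (w * s) = 1 := by
  classical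
  have hw0 : 0 < w := hw ▸ Nat.gcd_pos_of_pos_left _ two_pos
  set q := Fintype.card F with hq
  set μ := minpoly F A with hμ
  have hμ0 : μ ≠ 0 := minpoly.ne_zero (Algebra.IsIntegral.isIntegral A)
  have hdeg : μ.natDegree ≤ 2 * n + 1 :=
    ((natDegree_le_of_dvd (Matrix.minpoly_dvd_charpoly A) (Matrix.charpoly_monic A).ne_zero).trans
      (Matrix.charpoly_natDegree_eq_dim A).le).trans hN
  have hall : ∀ f : F[X], f ∣ μ → f ∣ X ^ (w * (r * s)) - 1 := fun f hf =>
    hf.trans ((pow_eq_one_iff_minpoly A _).1 hpow)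
  have horb : ∀ f : F[X], f.Monic → Irreducible f → f ∣ μ → ¬ f ∣ X ^ w - 1 → _ := fun f hfm hf hfμ hf2 =>
    exists_orbit hh hA hfm hf hfμ (coeff_zero_ne_zero_of_dvd (by
      have := hr.pos; have := hs.pos; positivity) (hall f hfμ)) hw hf2
  -- a factor whose root has projective order `t`
  have hexp : ∀ {f : F[X]} {t T : ℕ}, t.Prime → ¬ f ∣ X ^ w - 1 → f ∣ X ^ (w * t) - 1 →
      f ∣ X ^ (w * T) - 1 → t ∣ T := by
    intro f t T ht h2 h1 hT
    have := dvd_X_pow_gcd h1 hT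
    rw [Nat.gcd_mul_left] at this
    rcases ht.eq_one_or_self_of_dvd _ (Nat.gcd_dvd_left t T) with h0 | h0
    · rw [h0, mul_one] at this; exact absurd this h2
    · exact h0 ▸ Nat.gcd_dvd_right t T
  -- the residual case: all roots have projective order dividing `t`
  have hres : ∀ t u : ℕ, t.Prime → u.Prime → t ≠ u → A ^ (w * (t * u)) = 1 →
      (∀ f : F[X], f.Monic → Irreducible f → f ∣ μ → f ∣ X ^ (w * t) - 1) →
      PrimeCrit q n p t u ∨ A ^ (w * t) = 1 ∨ A ^ (w * u) = 1 := by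
    intro t u ht hu htu hpow' hall'
    obtain ⟨e, he⟩ := pow_mul_eq_one_of_factors p A hall'
    by_cases hup : u = p
    · by_cases hall2 : ∀ f : F[X], f.Monic → Irreducible f → f ∣ μ → f ∣ X ^ w - 1
      · obtain ⟨e', he'⟩ := pow_mul_eq_one_of_factors p A hall2
        right; right
        have := pow_gcd_eq_one.2 ⟨hpow', he'⟩
        rw [Nat.gcd_mul_left] at this
        obtain ⟨c, hc⟩ : Nat.gcd (t * u) (p ^ e') ∣ u := by
          subst hup
          rw [Nat.Coprime.gcd_mul_left_cancel u (((Nat.coprime_primes ht hu).2 htu).pow_right e')]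
          exact Nat.gcd_dvd_left _ _
        rw [hc, ← mul_assoc, pow_mul, this, one_pow]
      · push Not at hall2
        obtain ⟨f, hfm, hf, hfμ, hf2⟩ := hall2
        obtain ⟨P, d, b, hd, -, hPμ, hPd, -, hfT, hlin, hPX⟩ := horb f hfm hf hfμ hf2
        have hdn : 2 * d ≤ 2 * n + 1 := hPd ▸ (natDegree_le_of_dvd hPμ hμ0).trans hdeg
        rcases lt_or_eq_of_le (show d ≤ n by omega) with hlt | heq
        · exact Or.inl (Or.inr (Or.inr ⟨d, b, hd, hlt, Or.inl ⟨hup, hexp ht hf2 (hall' f hfm hf hfμ) hfT⟩⟩))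
        · right; left
          rw [pow_eq_one_iff_minpoly]
          have hP2t : P ∣ X ^ (w * t) - 1 := by
            simpa using hPX (w * t) 1 (by have := ht.pos; positivity) (one_mul 1) (by simpa using hall' f hfm hf hfμ)
          obtain ⟨l, hl⟩ := hPμ
          replace hl : μ = P * l := hl
          have hP0 : P ≠ 0 := fun h0 => hμ0 (by rw [hl, h0, zero_mul])
          have hl0 : l ≠ 0 := fun h0 => hμ0 (by rw [hl, h0, mul_zero])
          have hld : l.natDegree ≤ 1 := by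
            have h1 := hdeg
            rw [hl, natDegree_mul hP0 hl0, hPd, heq] at h1
            omega
          rcases Nat.le_one_iff_eq_zero_or_eq_one.1 hld with h0 | h1
          · rw [← hμ, hl]
            exact (IsUnit.mul_right_dvd (isUnit_iff_degree_eq_zero.2 (by rw [degree_eq_natDegree hl0, h0]; rfl))).2 hP2t
          · have hli : Irreducible l := irreducible_of_degree_eq_one (by rw [degree_eq_natDegree hl0, h1]; rfl)
            obtain ⟨c, hc⟩ : ∃ c, normalize l = X - C c := by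
              refine ⟨-(normalize l).coeff 0, ?_⟩
              rw [map_neg, sub_neg_eq_add]
              exact (monic_normalize hl0).eq_X_add_C (by rw [natDegree_eq_of_degree_eq degree_normalize, h1])
            have hlμ : X - C c ∣ μ := hc ▸ normalize_dvd_iff.2 (hl ▸ dvd_mul_left l P)
            have hlX : X - C c ∣ X ^ (w * t) - 1 :=
              hall' _ (monic_X_sub_C c) (irreducible_X_sub_C c) hlμ
            have := ((hlin (by omega) c).mul_dvd hP2t hlX)
            rw [← hμ, hl]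
            refine dvd_trans ?_ this
            rw [← hc]
            exact mul_dvd_mul_left P (dvd_normalize_iff.2 dvd_rfl)
    · right; left
      have := pow_gcd_eq_one.2 ⟨hpow', he⟩
      rw [mul_assoc, Nat.gcd_mul_left, Nat.gcd_mul_left,
        ((Nat.coprime_primes hu (Fact.out : p.Prime)).2 hup).pow_right e, mul_one] at this
      exact this
  by_cases h1 : ∀ f : F[X], f.Monic → Irreducible f → f ∣ μ → f ∣ X ^ (w * r) - 1
  · exact hres r s hr hs hrs hpow h1
  by_cases h2 : ∀ f : F[X], f.Monic → Irreducible f → f ∣ μ → f ∣ X ^ (w * s) - 1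
  · rcases hres s r hs hr hrs.symm (by rwa [mul_comm s r]) h2 with h3 | h3 | h3
    · exact Or.inl h3.symm
    · exact Or.inr (Or.inr h3)
    · exact Or.inr (Or.inl h3)
  push Not at h1 h2
  obtain ⟨f, hfm, hf, hfμ, hfr⟩ := h1
  obtain ⟨g, hgm, hg, hgμ, hgs⟩ := h2
  left
  have hf2 : ¬ f ∣ X ^ w - 1 := fun h0 => hfr (dvd_X_pow_of_dvd (dvd_mul_right w r) h0)
  have hg2 : ¬ g ∣ X ^ w - 1 := fun h0 => hgs (dvd_X_pow_of_dvd (dvd_mul_right w s) h0)
  obtain ⟨P, d, b, hd, -, hPμ, hPd, hP2, hfT, -, hPX⟩ := horb f hfm hf hfμ hf2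
  obtain ⟨Q, e, b', he, -, hQμ, hQd, -, hgT, -, hQX⟩ := horb g hgm hg hgμ hg2
  have hdn : d ≤ n := by
    have := hPd ▸ (natDegree_le_of_dvd hPμ hμ0).trans hdeg
    omega
  -- `f` has projective order `s` or `r * s`
  have hsT : s ∣ torusExp q d b := by
    by_contra hno
    have := dvd_X_pow_gcd (hall f hfμ) hfT
    rw [Nat.gcd_mul_left, Nat.Coprime.gcd_mul_right_cancel r (hs.coprime_iff_not_dvd.2 hno)] at this
    exact hfr (dvd_X_pow_of_dvd (mul_dvd_mul_left w (Nat.gcd_dvd_left _ _)) this)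
  have hrT : r ∣ torusExp q e b' := by
    by_contra hno
    have := dvd_X_pow_gcd (hall g hgμ) hgT
    rw [Nat.gcd_mul_left, Nat.Coprime.gcd_mul_left_cancel s (hr.coprime_iff_not_dvd.2 hno)] at this
    exact hgs (dvd_X_pow_of_dvd (mul_dvd_mul_left w (Nat.gcd_dvd_left _ _)) this)
  by_cases hrd : r ∣ torusExp q d b
  · exact Or.inl ⟨d, b, hd, hdn, ((Nat.coprime_primes hr hs).2 hrs).mul_dvd_of_dvd_of_dvd hrd hsT⟩
  have hen : e ≤ n := by
    have := hQd ▸ (natDegree_le_of_dvd hQμ hμ0).trans hdeg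
    omega
  by_cases hse : s ∣ torusExp q e b'
  · exact Or.inl ⟨e, b', he, hen, ((Nat.coprime_primes hr hs).2 hrs).mul_dvd_of_dvd_of_dvd hrT hse⟩
  -- two different orbits
  have hfs : f ∣ X ^ (w * s) - 1 := by
    have := dvd_X_pow_gcd (hall f hfμ) hfT
    rw [Nat.gcd_mul_left, Nat.Coprime.gcd_mul_left_cancel s (hr.coprime_iff_not_dvd.2 hrd)] at this
    exact dvd_X_pow_of_dvd (mul_dvd_mul_left w (Nat.gcd_dvd_left _ _)) this
  have hgr : g ∣ X ^ (w * r) - 1 := by
    have := dvd_X_pow_gcd (hall g hgμ) hgT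
    rw [Nat.gcd_mul_left, Nat.Coprime.gcd_mul_right_cancel r (hs.coprime_iff_not_dvd.2 hse)] at this
    exact dvd_X_pow_of_dvd (mul_dvd_mul_left w (Nat.gcd_dvd_left _ _)) this
  have hPs : P ∣ X ^ (w * s) - 1 := by
    simpa using hPX (w * s) 1 (by have := hs.pos; positivity) (one_mul 1) (by simpa using hfs)
  have hQr : Q ∣ X ^ (w * r) - 1 := by
    simpa using hQX (w * r) 1 (by have := hr.pos; positivity) (one_mul 1) (by simpa using hgr)
  have hco : IsCoprime P Q := by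
    refine isCoprime_of_prime_dvd (fun h0 => hμ0 ?_) fun z hz hzP hzQ => hz.not_unit
      (hP2.isUnit_of_dvd' hzP ?_)
    · obtain ⟨u, hu⟩ := hPμ
      exact hu.trans (by rw [h0.1, zero_mul])
    · have := dvd_X_pow_gcd (hzP.trans hPs) (hzQ.trans hQr)
      rwa [Nat.gcd_mul_left, ((Nat.coprime_primes hs hr).2 hrs.symm), mul_one] at this
  have hPQ := (natDegree_le_of_dvd (hco.mul_dvd hPμ hQμ) hμ0).trans hdeg
  have hP0 : P ≠ 0 := fun h0 => by simp [h0] at hPd; omega
  have hQ0 : Q ≠ 0 := fun h0 => by simp [h0] at hQd; omega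
  rw [natDegree_mul hP0 hQ0, hPd, hQd] at hPQ
  exact Or.inr (Or.inl ⟨e, b', d, b, he, hd, by omega, hrT, hsT⟩)

/-- The case `A ^ (2 * r) = 1` of an element of projective order `2 * r`. -/
theorem crit_two_or_orbit (hh : IsReflexiveSesq (RingHom.id F) h) {A : Matrix ι ι F} (hA : Preserves h A)
    {n : ℕ} (hn : 2 ≤ n) (hN : Fintype.card ι ≤ 2 * n + 1) (hodd : Odd (Fintype.card F)) {r : ℕ} (hr : r.Prime)
    (hr2 : r ≠ 2) (hpow : A ^ (2 * r) = 1) (hne : A ^ 2 ≠ 1) :
    PrimeCrit (Fintype.card F) n p r 2 ∨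
      ∃ (P : F[X]) (b : Bool) (c : F), c * c = 1 ∧ P ∣ minpoly F A ∧ P.natDegree = 2 * n ∧
        IsCoprime P (X ^ 2 - 1) ∧ (∀ a : F, IsCoprime P (X - C a)) ∧ P ∣ X ^ r - C c ∧
        ¬ 2 ∣ torusExp (Fintype.card F) n b ∧ r ∣ torusExp (Fintype.card F) n b := by
  classical
  have hw : 2 = Nat.gcd 2 (Fintype.card F - 1) := (Nat.gcd_eq_left (Nat.Odd.sub_odd hodd odd_one).two_dvd).symm
  set μ := minpoly F A with hμ
  have hμ0 : μ ≠ 0 := minpoly.ne_zero (Algebra.IsIntegral.isIntegral A)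
  by_cases hrp : r = p
  · obtain ⟨b, hb⟩ := two_dvd_torusExp hodd 1
    exact Or.inl (Or.inr (Or.inr ⟨1, b, one_pos, by omega, Or.inr ⟨hrp, hb⟩⟩))
  obtain ⟨f, hfm, hf, hfμ, hf2⟩ : ∃ f : F[X], f.Monic ∧ Irreducible f ∧ f ∣ μ ∧ ¬ f ∣ X ^ 2 - 1 := by
    by_contra hno
    push Not at hno
    obtain ⟨e, he⟩ := pow_mul_eq_one_of_factors p A hno
    have := pow_gcd_eq_one.2 ⟨hpow, he⟩
    rw [Nat.gcd_mul_left, ((Nat.coprime_primes hr (Fact.out : p.Prime)).2 hrp).pow_right e, mul_one] at this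
    exact hne this
  have hfr : f ∣ X ^ (2 * r) - 1 := hfμ.trans ((pow_eq_one_iff_minpoly A _).1 hpow)
  obtain ⟨P, d, b, hd, -, hPμ, hPd, hP2, hfT, hlin, hPX⟩ := exists_orbit hh hA hfm hf hfμ
    (coeff_zero_ne_zero_of_dvd (by have := hr.pos; omega) hfr) hw hf2
  have hrT : r ∣ torusExp (Fintype.card F) d b := by
    have := dvd_X_pow_gcd hfr hfT
    rw [Nat.gcd_mul_left] at this
    rcases hr.eq_one_or_self_of_dvd _ (Nat.gcd_dvd_left r (torusExp (Fintype.card F) d b)) with h0 | h0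
    · rw [h0, mul_one] at this; exact absurd this hf2
    · exact h0 ▸ Nat.gcd_dvd_right _ _
  have hdn : 2 * d ≤ 2 * n + 1 := hPd ▸ ((natDegree_le_of_dvd hPμ hμ0).trans
    ((natDegree_le_of_dvd (Matrix.minpoly_dvd_charpoly A) (Matrix.charpoly_monic A).ne_zero).trans
      (Matrix.charpoly_natDegree_eq_dim A).le)).trans hN
  rcases lt_or_eq_of_le (show d ≤ n by omega) with hlt | rfl
  · obtain ⟨b', hb'⟩ := two_dvd_torusExp hodd (n - d)
    exact Or.inl (Or.inr (Or.inl ⟨d, b, n - d, b', hd, by omega, by omega, hrT, hb'⟩))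
  by_cases h2 : 2 ∣ torusExp (Fintype.card F) d b
  · exact Or.inl (Or.inl ⟨d, b, hd, le_rfl,
      ((Nat.coprime_primes hr Nat.prime_two).2 hr2).mul_dvd_of_dvd_of_dvd hrT h2⟩)
  obtain ⟨c, hc, hfc⟩ := exists_sign_dvd hf hfr
  exact Or.inr ⟨P, b, c, hc, hPμ, hPd, hP2, hlin hn, hPX r c hr.pos hc hfc, h2, hrT⟩

end Cfsg.Agent.GL
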