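import Mathlib
import Cfsg.Agent.Lib.GL.Sylow

/-!
The two-dimensional case: unitriangular subgroups meet trivially, two of them generate `SL_2`, their
centralisers, and sharp 3-transitivity of `PGL_2` on the projective line.
-/

set_option autoImplicit false

open Matrix
open scoped MatrixGroups LinearAlgebra.Projectivization

namespace Cfsg.Agent.GL

variable {F : Type*} [Field F]

theorem val_mkOfDetNeZero (A : Matrix (Fin 2) (Fin 2) F) (h : A.det ≠ 0) :
    ((GeneralLinearGroup.mkOfDetNeZero A h : GL (Fin 2) F) : Matrix (Fin 2) (Fin 2) F) = A := rfl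

theorem mem_borel_two {g : GL (Fin 2) F} :
    g ∈ borel 2 F ↔ (g : Matrix (Fin 2) (Fin 2) F) 1 0 = 0 := by
  rw [mem_borel]
  refine ⟨fun h => h 1 0 (by decide), fun h i j hij => ?_⟩
  fin_cases i <;> fin_cases j <;> simp_all

theorem unitriangular_two_eq {u : GL (Fin 2) F} (hu : u ∈ unitriangular 2 F) :
    (u : Matrix (Fin 2) (Fin 2) F) = !![1, (u : Matrix (Fin 2) (Fin 2) F) 0 1; 0, 1] := by
  obtain ⟨h1, h2⟩ := mem_unitriangular.1 hu
  ext i j
  fin_cases i <;> fin_cases j <;> simp [h2, h1 1 0 (by decide)]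

theorem unitriangular_two_ne_one {u : GL (Fin 2) F} (hu : u ∈ unitriangular 2 F) (h1 : u ≠ 1) :
    (u : Matrix (Fin 2) (Fin 2) F) 0 1 ≠ 0 := fun h => h1 (Units.ext (by
  rw [unitriangular_two_eq hu, h, GeneralLinearGroup.coe_one, Matrix.one_fin_two]))

/-- An element conjugating a non-trivial unitriangular element into the unitriangular group is triangular. -/
theorem mem_borel_of_conj_mem {k u : GL (Fin 2) F} (hu : u ∈ unitriangular 2 F) (h1 : u ≠ 1)
    (hv : k * u * k⁻¹ ∈ unitriangular 2 F) : k ∈ borel 2 F := by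
  obtain ⟨v, hv, he⟩ : ∃ v ∈ unitriangular 2 F, k * u = v * k := ⟨_, hv, by group⟩
  have he' := congrArg (fun g : GL (Fin 2) F => (g : Matrix (Fin 2) (Fin 2) F) 1 1) he
  simp only [GeneralLinearGroup.coe_mul] at he'
  rw [unitriangular_two_eq hu, unitriangular_two_eq hv] at he'
  simp [Matrix.mul_apply, Fin.sum_univ_two] at he'
  exact mem_borel_two.2 (he'.resolve_right (unitriangular_two_ne_one hu h1))

theorem conj_unitriangular_eq_of_mem {g h x : GL (Fin 2) F}
    (hg : x ∈ (unitriangular 2 F).map (MulAut.conj g).toMonoidHom)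
    (hh : x ∈ (unitriangular 2 F).map (MulAut.conj h).toMonoidHom) (hx : x ≠ 1) :
    (unitriangular 2 F).map (MulAut.conj g).toMonoidHom =
      (unitriangular 2 F).map (MulAut.conj h).toMonoidHom := by
  obtain ⟨u, hu, rfl⟩ := hg
  obtain ⟨v, hv, he⟩ := hh
  have he' : h * v * h⁻¹ = g * u * g⁻¹ := he
  have hu1 : u ≠ 1 := fun h => hx (by simp [h])
  have hk : h⁻¹ * g ∈ borel 2 F := mem_borel_of_conj_mem hu hu1 (by
    rw [show h⁻¹ * g * u * (h⁻¹ * g)⁻¹ = h⁻¹ * (g * u * g⁻¹) * h by group, ← he',
      show h⁻¹ * (h * v * h⁻¹) * h = v by group]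
    exact hv)
  have hn := Subgroup.mem_normalizer_iff.1 (borel_le_normalizer_unitriangular hk)
  ext y
  constructor
  · rintro ⟨w, hw, rfl⟩
    refine ⟨_, (hn w).1 hw, ?_⟩
    simp only [MulEquiv.coe_toMonoidHom, MulAut.conj_apply]
    group
  · rintro ⟨w, hw, rfl⟩
    refine ⟨(h⁻¹ * g)⁻¹ * w * (h⁻¹ * g), (hn _).2 ?_, ?_⟩
    · rw [show h⁻¹ * g * ((h⁻¹ * g)⁻¹ * w * (h⁻¹ * g)) * (h⁻¹ * g)⁻¹ = w by group]
      exact hw
    · simp only [MulEquiv.coe_toMonoidHom, MulAut.conj_apply]
      group

theorem centralizer_transvection_two (b : F) (hb : b ≠ 0) (u : GL (Fin 2) F)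
    (hu : (u : Matrix (Fin 2) (Fin 2) F) = !![1, b; 0, 1]) (m : GL (Fin 2) F) :
    m ∈ Subgroup.centralizer ({u} : Set (GL (Fin 2) F)) ↔
      (m : Matrix (Fin 2) (Fin 2) F) 1 0 = 0 ∧
        (m : Matrix (Fin 2) (Fin 2) F) 0 0 = (m : Matrix (Fin 2) (Fin 2) F) 1 1 := by
  rw [Subgroup.mem_centralizer_singleton_iff]
  constructor
  · intro h
    have e := fun i j => congrArg (fun g : GL (Fin 2) F => (g : Matrix (Fin 2) (Fin 2) F) i j) h
    simp only [GeneralLinearGroup.coe_mul, hu] at e
    have e1 := e 0 0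
    have e2 := e 0 1
    simp [Matrix.mul_apply, Fin.sum_univ_two] at e1 e2
    have h10 := e1
    simp [hb] at h10
    refine ⟨by grind, ?_⟩
    grind
  · rintro ⟨h1, h2⟩
    refine Units.ext (Matrix.ext fun i j => ?_)
    simp only [GeneralLinearGroup.coe_mul, hu]
    fin_cases i <;> fin_cases j <;> simp [Matrix.mul_apply, Fin.sum_univ_two, h1, h2] <;> ring

theorem card_centralizer_transvection_two (b : F) (hb : b ≠ 0) (u : GL (Fin 2) F)
    (hu : (u : Matrix (Fin 2) (Fin 2) F) = !![1, b; 0, 1]) :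
    Nat.card (Subgroup.centralizer ({u} : Set (GL (Fin 2) F))) = Nat.card Fˣ * Nat.card F := by
  rw [← Nat.card_prod]
  refine (Nat.card_congr (Equiv.ofBijective
    (fun x : Fˣ × F => (⟨GeneralLinearGroup.mkOfDetNeZero !![(x.1 : F), x.2; 0, (x.1 : F)]
      (by simp [Matrix.det_fin_two]), (centralizer_transvection_two b hb u hu _).2
        ⟨by simp [val_mkOfDetNeZero],
         by simp [val_mkOfDetNeZero]⟩⟩ :
      Subgroup.centralizer ({u} : Set (GL (Fin 2) F)))) ⟨?_, ?_⟩)).symm
  · intro x y h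
    have e := fun i j =>
      congrArg (fun g : Subgroup.centralizer ({u} : Set (GL (Fin 2) F)) =>
        (g : GL (Fin 2) F).1 i j) h
    exact Prod.ext (Units.ext (by simpa using! e 0 0)) (by simpa using! e 0 1)
  · rintro ⟨m, hm⟩
    obtain ⟨h1, h2⟩ := (centralizer_transvection_two b hb u hu m).1 hm
    have hdet := GeneralLinearGroup.det_ne_zero m
    rw [Matrix.det_fin_two, h1, ← h2] at hdet
    refine ⟨⟨Units.mk0 ((m : Matrix (Fin 2) (Fin 2) F) 0 0) (fun h => hdet (by simp [h])),
      (m : Matrix (Fin 2) (Fin 2) F) 0 1⟩, ?_⟩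
    refine Subtype.ext (Units.ext (Matrix.ext fun i j => ?_))
    fin_cases i <;> fin_cases j <;>
      simp [val_mkOfDetNeZero, h1, h2]

/-- A non-triangular `k` conjugates upper root elements onto all lower ones, up to an upper element. -/
theorem SL2_sup_conj_eq_top {k : SL(2, F)} (hk : (k : Matrix (Fin 2) (Fin 2) F) 1 0 ≠ 0) :
    unitriangularSL 2 F ⊔ (unitriangularSL 2 F).map (MulAut.conj k).toMonoidHom = ⊤ := by
  set H := unitriangularSL 2 F ⊔ (unitriangularSL 2 F).map (MulAut.conj k).toMonoidHom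
  have hU : ∀ c : F, SpecialLinearGroup.transvection (zero_ne_one : (0 : Fin 2) ≠ 1) c ∈ H :=
    fun c => Subgroup.mem_sup_left (transvection_mem_unitriangular (by decide : (0 : Fin 2) < 1) c)
  have hL : ∀ y : F, SpecialLinearGroup.transvection (one_ne_zero : (1 : Fin 2) ≠ 0) y ∈ H := by
    intro y
    set c := (k : Matrix (Fin 2) (Fin 2) F) 1 0 with hc
    set a := (k : Matrix (Fin 2) (Fin 2) F) 0 0 / c with ha
    have e : SpecialLinearGroup.transvection (one_ne_zero : (1 : Fin 2) ≠ 0) y =
        SpecialLinearGroup.transvection zero_ne_one (-a) *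
          (k * SpecialLinearGroup.transvection zero_ne_one (-y / c ^ 2) * k⁻¹) *
          SpecialLinearGroup.transvection zero_ne_one a := by
      apply SpecialLinearGroup.coeMonoidHom_injective
      have hinv : SpecialLinearGroup.coeMonoidHom (k⁻¹ : SL(2, F)) =
          !![(k : Matrix (Fin 2) (Fin 2) F) 1 1, -(k : Matrix (Fin 2) (Fin 2) F) 0 1;
            -(k : Matrix (Fin 2) (Fin 2) F) 1 0, (k : Matrix (Fin 2) (Fin 2) F) 0 0] := by
        exact (Matrix.SpecialLinearGroup.coe_inv k).trans (Matrix.adjugate_fin_two _)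
      simp only [map_mul, hinv]
      simp only [SpecialLinearGroup.coeMonoidHom_apply,
        SpecialLinearGroup.transvection_coe]
      have hd : (k : Matrix (Fin 2) (Fin 2) F).det = 1 := k.2
      rw [Matrix.det_fin_two] at hd
      ext i j
      fin_cases i <;> fin_cases j <;>
        simp [Matrix.mul_apply, Fin.sum_univ_two, Matrix.single_apply, ha, ← hc] <;>
        field_simp <;> grind
    rw [e]
    exact H.mul_mem (H.mul_mem (hU _) (Subgroup.mem_sup_right ⟨_,
      transvection_mem_unitriangular (by decide : (0 : Fin 2) < 1) _, rfl⟩)) (hU _)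
  refine SL_eq_top_of_transvection_mem fun i j hij c => ?_
  fin_cases i <;> fin_cases j
  · exact absurd rfl hij
  · exact hU c
  · exact hL c
  · exact absurd rfl hij

/-- The standard three points of the projective line. -/
def stdPoint (F : Type*) [Field F] : Fin 3 → Fin 2 → F := ![![1, 0], ![0, 1], ![1, 1]]

theorem stdPoint_ne_zero (i : Fin 3) : stdPoint F i ≠ 0 := by
  intro h
  have h0 := congrFun h 0
  have h1 := congrFun h 1
  fin_cases i <;> simp [stdPoint] at h0 h1

theorem stdPoint_injective :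
    Function.Injective fun i : Fin 3 => Projectivization.mk F (stdPoint F i) (stdPoint_ne_zero i) := by
  intro i j h
  obtain ⟨u, hu⟩ := (Projectivization.mk_eq_mk_iff F _ _ _ _).1 h
  have h0 := congrFun hu 0
  have h1 := congrFun hu 1
  fin_cases i <;> fin_cases j <;> simp [stdPoint, Units.smul_def] at h0 h1 ⊢ <;> simp_all

/-- Any three distinct points of the projective line are the image of the standard ones. -/
theorem exists_GL2_map_stdPoint (x : Fin 3 → ℙ F (Fin 2 → F)) (hx : Function.Injective x) :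
    ∃ g : GL (Fin 2) F, ∀ i,
      g • Projectivization.mk F (stdPoint F i) (stdPoint_ne_zero i) = x i := by
  set v := (x 0).rep with hv
  set w := (x 1).rep with hw
  set z := (x 2).rep with hz
  have ne : ∀ {i j : Fin 3}, i ≠ j → LinearIndependent F ![(x i).rep, (x j).rep] := by
    intro i j hij
    rw [LinearIndependent.pair_iff' (x i).rep_nonzero]
    intro c hc
    have hc0 : c ≠ 0 := by
      rintro rfl
      rw [zero_smul] at hc
      exact (x j).rep_nonzero hc.symm
    apply hij
    apply hx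
    rw [← (x i).mk_rep, ← (x j).mk_rep, Projectivization.mk_eq_mk_iff]
    exact ⟨Units.mk0 c⁻¹ (inv_ne_zero hc0), by rw [Units.smul_def, Units.val_mk0, ← hc, smul_smul, inv_mul_cancel₀ hc0, one_smul]⟩
  have hli : LinearIndependent F ![v, w] := ne (by decide)
  obtain ⟨α, β, hαβ⟩ : ∃ α β : F, α • v + β • w = z := by
    have hspan := hli.span_eq_top_of_card_eq_finrank (by simp)
    have hmem : z ∈ Submodule.span F (Set.range ![v, w]) := hspan ▸ Submodule.mem_top
    rw [Matrix.range_cons_cons_empty, Submodule.mem_span_pair] at hmem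
    exact hmem
  have hα : α ≠ 0 := by
    rintro rfl
    rw [zero_smul, zero_add] at hαβ
    have := LinearIndependent.pair_iff.1 (ne (show (1 : Fin 3) ≠ 2 by decide)) β (-1) (by
      rw [← hw, ← hz, ← hαβ]; simp)
    exact one_ne_zero (neg_eq_zero.1 this.2)
  have hβ : β ≠ 0 := by
    rintro rfl
    rw [zero_smul, add_zero] at hαβ
    have := LinearIndependent.pair_iff.1 (ne (show (0 : Fin 3) ≠ 2 by decide)) α (-1) (by
      rw [← hv, ← hz, ← hαβ]; simp)
    exact one_ne_zero (neg_eq_zero.1 this.2)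
  have hdet : !![α * v 0, β * w 0; α * v 1, β * w 1].det ≠ 0 := by
    rw [Matrix.det_fin_two_of]
    intro h0
    have h : v 0 * w 1 - v 1 * w 0 = 0 := by
      have : α * β * (v 0 * w 1 - v 1 * w 0) = 0 := by linear_combination h0
      simpa [hα, hβ] using this
    have hp := LinearIndependent.pair_iff.1 hli
    by_cases h1 : w 0 = 0
    · by_cases h2 : v 0 = 0
      · have := hp (w 1) (-(v 1)) (funext fun i => by fin_cases i <;> simp [h1, h2] <;> ring)
        exact (x 1).rep_nonzero (funext fun i => by fin_cases i <;> simp [← hw, h1, this.1])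
      · have hw1 : w 1 = 0 := by simpa [h1, h2] using h
        exact (x 1).rep_nonzero (funext fun i => by fin_cases i <;> simp [← hw, h1, hw1])
    · have := hp (w 0) (-(v 0)) (funext fun i => by
        fin_cases i <;> simp
        · ring
        · linear_combination (-1 : F) * h)
      exact h1 this.1
  refine ⟨GeneralLinearGroup.mkOfDetNeZero _ hdet, fun i => ?_⟩
  rw [Projectivization.smul_mk]
  conv_rhs => rw [← (x i).mk_rep]
  rw [Projectivization.mk_eq_mk_iff]
  fin_cases i
  · refine ⟨Units.mk0 α hα, funext fun j => ?_⟩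
    fin_cases j <;> simp [stdPoint, Units.smul_def, val_mkOfDetNeZero, Matrix.GeneralLinearGroup.toLin_apply, Matrix.mulVec, ← hv]
  · refine ⟨Units.mk0 β hβ, funext fun j => ?_⟩
    fin_cases j <;> simp [stdPoint, Units.smul_def, val_mkOfDetNeZero, Matrix.GeneralLinearGroup.toLin_apply, Matrix.mulVec, ← hw]
  · refine ⟨1, funext fun j => ?_⟩
    fin_cases j <;> simp [stdPoint, Units.smul_def, val_mkOfDetNeZero, Matrix.GeneralLinearGroup.toLin_apply, Matrix.mulVec, ← hz, ← hαβ]

/-- An element fixing the three standard points is scalar. -/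
theorem mem_center_of_fix_stdPoint {g : GL (Fin 2) F}
    (h : ∀ i, g • Projectivization.mk F (stdPoint F i) (stdPoint_ne_zero i) =
      Projectivization.mk F (stdPoint F i) (stdPoint_ne_zero i)) :
    g ∈ Subgroup.center (GL (Fin 2) F) := by
  have key : ∀ i, ∃ u : F, g.1 *ᵥ stdPoint F i = u • stdPoint F i := by
    intro i
    have := h i
    rw [Projectivization.smul_mk, Projectivization.mk_eq_mk_iff] at this
    obtain ⟨u, hu⟩ := this
    exact ⟨u, hu.symm⟩
  obtain ⟨a, ha⟩ := key 0
  obtain ⟨b, hb⟩ := key 1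
  obtain ⟨c, hc⟩ := key 2
  have a0 := congrFun ha 0
  have a1 := congrFun ha 1
  have b0 := congrFun hb 0
  have b1 := congrFun hb 1
  have c0 := congrFun hc 0
  have c1 := congrFun hc 1
  simp [stdPoint, Matrix.mulVec, dotProduct, Fin.sum_univ_two] at a0 a1 b0 b1 c0 c1
  rw [GeneralLinearGroup.mem_center_iff_val_mem_range_scalar]
  refine ⟨a, Matrix.ext fun i j => ?_⟩
  fin_cases i <;> fin_cases j <;> simp <;> grind

end Cfsg.Agent.GL
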