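import Mathlib

/-!
Conjugacy classes of `GL₂`: a non-scalar element is determined up to conjugacy by trace and determinant;
elements of order `p` in characteristic `p` form one class; there are `q² - 1` classes.
-/

set_option autoImplicit false

open Matrix

namespace Cfsg.Agent.GL.TwoClasses

variable {F : Type*} [Field F]

/-- Being scalar. -/
def IsSc (A : Matrix (Fin 2) (Fin 2) F) : Prop := A 0 1 = 0 ∧ A 1 0 = 0 ∧ A 0 0 = A 1 1

/-- The companion matrix with trace `t` and determinant `d`. -/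
def comp (t d : F) (hd : d ≠ 0) : Matrix.GeneralLinearGroup (Fin 2) F :=
  GeneralLinearGroup.mkOfDetNeZero !![0, -d; 1, t] (by simp [Matrix.det_fin_two_of, hd])

theorem coe_comp (t d : F) (hd : d ≠ 0) :
    (comp t d hd : Matrix (Fin 2) (Fin 2) F) = !![0, -d; 1, t] := rfl

theorem det_ne_zero (g : Matrix.GeneralLinearGroup (Fin 2) F) : (g : Matrix (Fin 2) (Fin 2) F).det ≠ 0 :=
  ((Matrix.isUnit_iff_isUnit_det _).1 g.isUnit).ne_zero

theorem isConj_comp (g : Matrix.GeneralLinearGroup (Fin 2) F) (h : ¬ IsSc (g : Matrix (Fin 2) (Fin 2) F)) :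
    IsConj (comp (g : Matrix (Fin 2) (Fin 2) F).trace (g : Matrix (Fin 2) (Fin 2) F).det (det_ne_zero g)) g := by
  obtain ⟨x, y, hne⟩ : ∃ x y : F, x * ((g : Matrix (Fin 2) (Fin 2) F) 1 0 * x + (g : Matrix (Fin 2) (Fin 2) F) 1 1 * y) -
      y * ((g : Matrix (Fin 2) (Fin 2) F) 0 0 * x + (g : Matrix (Fin 2) (Fin 2) F) 0 1 * y) ≠ 0 := by
    by_contra H
    push Not at H
    have h1 := H 1 0
    have h2 := H 0 1
    have h3 := H 1 1
    apply h
    exact ⟨by linear_combination -h2, by linear_combination h1, by linear_combination h1 + h2 - h3⟩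
  set M := (g : Matrix (Fin 2) (Fin 2) F) with hM
  rw [isConj_iff]
  refine ⟨GeneralLinearGroup.mkOfDetNeZero !![x, M 0 0 * x + M 0 1 * y; y, M 1 0 * x + M 1 1 * y] (by
    rw [Matrix.det_fin_two_of]; intro h0; apply hne; linear_combination h0), ?_⟩
  rw [mul_inv_eq_iff_eq_mul]
  apply Units.ext
  simp only [Units.val_mul, coe_comp, ← hM]
  ext i j
  fin_cases i <;> fin_cases j <;>
    simp [GeneralLinearGroup.mkOfDetNeZero, Matrix.mul_apply, Fin.sum_univ_two, Matrix.trace_fin_two, Matrix.det_fin_two] <;>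
    ring

theorem trace_det_of_isConj {g h : Matrix.GeneralLinearGroup (Fin 2) F} (hc : IsConj g h) :
    (g : Matrix (Fin 2) (Fin 2) F).trace = (h : Matrix (Fin 2) (Fin 2) F).trace ∧
      (g : Matrix (Fin 2) (Fin 2) F).det = (h : Matrix (Fin 2) (Fin 2) F).det := by
  obtain ⟨c, rfl⟩ := isConj_iff.1 hc
  simp only [Units.val_mul]
  exact ⟨(Matrix.trace_units_conj c _).symm, (Matrix.det_units_conj c _).symm⟩

/-- Non-scalar elements with equal trace and determinant are conjugate. -/
theorem isConj_of_trace_det {g h : Matrix.GeneralLinearGroup (Fin 2) F}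
    (hg : ¬ IsSc (g : Matrix (Fin 2) (Fin 2) F)) (hh : ¬ IsSc (h : Matrix (Fin 2) (Fin 2) F))
    (ht : (g : Matrix (Fin 2) (Fin 2) F).trace = (h : Matrix (Fin 2) (Fin 2) F).trace)
    (hd : (g : Matrix (Fin 2) (Fin 2) F).det = (h : Matrix (Fin 2) (Fin 2) F).det) : IsConj g h := by
  have h1 := isConj_comp g hg
  simp only [ht, hd] at h1
  exact h1.symm.trans (isConj_comp h hh)

/-- The scalar element. -/
def scalarGL (a : Fˣ) : Matrix.GeneralLinearGroup (Fin 2) F :=
  Units.map (Matrix.scalar (Fin 2) (α := F)).toMonoidHom a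

theorem coe_scalarGL (a : Fˣ) : (scalarGL a : Matrix (Fin 2) (Fin 2) F) = Matrix.scalar (Fin 2) (a : F) := rfl

theorem card_conjClasses [Fintype F] :
    Nat.card (ConjClasses (Matrix.GeneralLinearGroup (Fin 2) F)) = Fintype.card F ^ 2 - 1 := by
  classical
  let f : Fˣ ⊕ F × Fˣ → ConjClasses (Matrix.GeneralLinearGroup (Fin 2) F) :=
    Sum.elim (fun a => ConjClasses.mk (scalarGL a)) (fun p => ConjClasses.mk (comp p.1 p.2 p.2.ne_zero))
  have hcent : ∀ a (h : Matrix.GeneralLinearGroup (Fin 2) F), IsConj (scalarGL a) h →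
      ∀ i j, (h : Matrix (Fin 2) (Fin 2) F) i j = (scalarGL a : Matrix (Fin 2) (Fin 2) F) i j := by
    intro a h hc
    suffices h = scalarGL a by intros; rw [this]
    obtain ⟨c, rfl⟩ := isConj_iff.1 hc
    rw [mul_inv_eq_iff_eq_mul]
    apply Units.ext
    simp only [Units.val_mul, coe_scalarGL]
    exact ((Matrix.scalar_commute (a : F) (fun r => Commute.all _ r) _).eq).symm
  have hf : Function.Bijective f := by
    refine ⟨?_, ?_⟩
    · rintro (a | ⟨t, d⟩) (b | ⟨t', d'⟩) heq <;> simp only [f, Sum.elim_inl, Sum.elim_inr, ConjClasses.mk_eq_mk_iff_isConj] at heq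
      · have h1 := hcent a _ heq 0 0
        simp [coe_scalarGL, Matrix.scalar_apply] at h1
        exact congrArg _ (Units.ext h1.symm)
      · have h1 := hcent a _ heq 1 0
        simp [coe_scalarGL, coe_comp, Matrix.scalar_apply] at h1
      · have h1 := hcent b _ heq.symm 1 0
        simp [coe_scalarGL, coe_comp, Matrix.scalar_apply] at h1
      · obtain ⟨h1, h2⟩ := trace_det_of_isConj heq
        simp [coe_comp, Matrix.trace_fin_two, Matrix.det_fin_two_of] at h1 h2
        exact congrArg _ (Prod.ext h1 (Units.ext h2))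
    · intro C
      obtain ⟨g, rfl⟩ := ConjClasses.exists_rep C
      by_cases h : IsSc (g : Matrix (Fin 2) (Fin 2) F)
      · have hdet := det_ne_zero g
        rw [Matrix.det_fin_two, h.1, ← h.2.2] at hdet
        refine ⟨Sum.inl (Units.mk0 ((g : Matrix (Fin 2) (Fin 2) F) 0 0) (by intro h0; simp [h0] at hdet)), ?_⟩
        simp only [f, Sum.elim_inl]
        congr 1
        apply Units.ext
        ext i j
        fin_cases i <;> fin_cases j <;> simp [coe_scalarGL, Matrix.scalar_apply, h.1, h.2.1, h.2.2]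
      · exact ⟨Sum.inr ((g : Matrix (Fin 2) (Fin 2) F).trace, Units.mk0 _ (det_ne_zero g)),
          ConjClasses.mk_eq_mk_iff_isConj.2 (isConj_comp g h)⟩
  rw [← Nat.card_congr (Equiv.ofBijective f hf), Nat.card_sum, Nat.card_prod, Nat.card_eq_fintype_card,
    Nat.card_eq_fintype_card, Fintype.card_units]
  obtain ⟨k, hk⟩ : ∃ k, Fintype.card F = k + 1 := ⟨Fintype.card F - 1, (Nat.sub_add_cancel Fintype.card_pos).symm⟩
  rw [hk, Nat.add_sub_cancel, show (k + 1) ^ 2 = k + (k + 1) * k + 1 by ring, Nat.add_sub_cancel]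

/-- Elements of order `p` in characteristic `p` are conjugate. -/
theorem isConj_of_orderOf_eq_char (p : ℕ) [hp : Fact p.Prime] [CharP F p]
    {g h : Matrix.GeneralLinearGroup (Fin 2) F} (hg : orderOf g = p) (hh : orderOf h = p) : IsConj g h := by
  have key : ∀ g : Matrix.GeneralLinearGroup (Fin 2) F, orderOf g = p →
      ¬ IsSc (g : Matrix (Fin 2) (Fin 2) F) ∧ (g : Matrix (Fin 2) (Fin 2) F).trace = 2 ∧
        (g : Matrix (Fin 2) (Fin 2) F).det = 1 := by
    intro g hg
    set M := (g : Matrix (Fin 2) (Fin 2) F)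
    have hM : M ^ p = 1 := by
      rw [← Units.val_pow_eq_pow_val, ← hg, pow_orderOf_eq_one, Units.val_one]
    have hd : M.det = 1 := by
      have h1 : M.det ^ p = 1 := by rw [← Matrix.det_pow, hM, Matrix.det_one]
      rw [← sub_eq_zero] at h1 ⊢
      rw [show M.det ^ p - 1 = (M.det - 1) ^ p by rw [sub_pow_char, one_pow]] at h1
      exact eq_zero_of_pow_eq_zero h1
    have hN : (M - 1) ^ p = 0 := by
      rw [sub_pow_char_of_commute (p := p) (Commute.one_right M), hM, one_pow, sub_self]
    have hdN : (M - 1).det = 0 := eq_zero_of_pow_eq_zero (n := p) (by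
      rw [← Matrix.det_pow, hN, Matrix.det_zero])
    rw [Matrix.det_fin_two] at hdN hd
    simp at hdN
    refine ⟨fun hs => ?_, by rw [Matrix.trace_fin_two]; linear_combination hd - hdN, by rw [Matrix.det_fin_two]; exact hd⟩
    have h1 : M 0 0 = 1 := by
      rw [hs.1, hs.2.1, ← hs.2.2] at hdN
      have : M 0 0 - 1 = 0 := eq_zero_of_pow_eq_zero (n := 2) (by linear_combination hdN)
      linear_combination this
    have h2 : g = 1 := Units.ext (by
      ext i j
      fin_cases i <;> fin_cases j <;> simp <;> first | exact hs.1 | exact hs.2.1 | exact h1 | exact hs.2.2.symm.trans h1)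
    rw [h2, orderOf_one] at hg
    exact hp.out.ne_one hg.symm
  obtain ⟨a1, a2, a3⟩ := key g hg
  obtain ⟨b1, b2, b3⟩ := key h hh
  exact isConj_of_trace_det a1 b1 (a2.trans b2.symm) (a3.trans b3.symm)

end Cfsg.Agent.GL.TwoClasses
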