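import Mathlib

/-!
Products of two regular unipotent endomorphisms: over a field with at least four elements every non-scalar
endomorphism of determinant one is such a product.

`TwoRegAt A u ω`: `A = X * Y` with `X`, `Y` unipotent, `(X - 1) ^ (n - 1) u ≠ 0` and `ω ∘ (Y - 1) ^ (n - 1) ≠ 0`
(in particular both are regular). The induction passes from `A` to its Schur complement with respect to a
vector `v` and a functional `φ` with `φ v = φ (A v) = 1`, and glues along invariant subspaces.
-/

set_option autoImplicit false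

namespace Cfsg.Agent.GL.TwoReg

open Module

universe uK v w

variable {K : Type uK} [Field K]

/-- `A = X * Y` with `X`, `Y` regular unipotent, `u` and `ω` seen by the top powers of `X - 1`, `Y - 1`. -/
def TwoRegAt {V : Type v} [AddCommGroup V] [Module K V] (A : Module.End K V) (u : V) (ω : Module.Dual K V) :
    Prop :=
  ∃ X Y : Module.End K V, A = X * Y ∧ (X - 1) ^ finrank K V = 0 ∧ (Y - 1) ^ finrank K V = 0 ∧
    ((X - 1) ^ (finrank K V - 1)) u ≠ 0 ∧ ω.comp ((Y - 1) ^ (finrank K V - 1)) ≠ 0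

section Avoid

variable {V : Type v} [AddCommGroup V] [Module K V]

/-- Four elements suffice to avoid four proper subspaces. -/
theorem exists_avoid_finset {T : Finset K} (hT : T.card = 4) (s : Finset (Submodule K V)) :
    s.card ≤ 4 → (∀ W ∈ s, W ≠ ⊤) → ∃ x, ∀ W ∈ s, x ∉ W := by
  classical
  induction s using Finset.induction_on with
  | empty => exact fun _ _ => ⟨0, by simp⟩
  | @insert P s hP ih =>
    intro hc hp
    rw [Finset.card_insert_of_notMem hP] at hc
    obtain ⟨x, hx⟩ := ih (by omega) fun W hW => hp W (Finset.mem_insert_of_mem hW)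
    by_cases hxP : x ∈ P
    swap
    · exact ⟨x, fun W hW => (Finset.mem_insert.1 hW).elim (fun h => h ▸ hxP) (hx W)⟩
    obtain ⟨y, hy⟩ : ∃ y, y ∉ P := by
      by_contra h
      push Not at h
      exact hp P (Finset.mem_insert_self _ _) (Submodule.eq_top_iff'.2 h)
    let g : K → V := fun t => if t = 0 then y else x + t • y
    have hgP : ∀ t, g t ∉ P := by
      intro t ht
      by_cases h : t = 0
      · exact hy (by simpa [g, h] using ht)
      · simp only [g, h, if_false] at ht
        exact hy ((P.smul_mem_iff h).1 ((P.add_mem_iff_right hxP).1 ht))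
    by_contra hcon
    push Not at hcon
    have hg : ∀ t, ∃ W, W ∈ s ∧ g t ∈ W := fun t => by
      obtain ⟨W, hW, hgW⟩ := hcon (g t)
      rcases Finset.mem_insert.1 hW with h | h
      · exact absurd (h ▸ hgW) (hgP t)
      · exact ⟨W, h, hgW⟩
    choose f hfs hf using hg
    obtain ⟨t₁, -, t₂, -, hne, heq⟩ :=
      Finset.exists_ne_map_eq_of_card_lt_of_maps_to (f := f) (s := T) (t := s) (by omega) fun t _ => hfs t
    have h₁ := hf t₁
    have h₂ := hf t₂
    rw [← heq] at h₂
    have key : x ∈ f t₁ := by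
      by_cases a : t₁ = 0
      · have b : t₂ ≠ 0 := fun b => hne (a.trans b.symm)
        simp only [g, a, b, if_true, if_false] at h₁ h₂
        rw [a]
        exact ((f 0).add_mem_iff_left ((f 0).smul_mem _ h₁)).1 h₂
      · by_cases b : t₂ = 0
        · simp only [g, a, b, if_true, if_false] at h₁ h₂
          exact ((f t₁).add_mem_iff_left ((f t₁).smul_mem _ h₂)).1 h₁
        · simp only [g, a, b, if_false] at h₁ h₂
          have h3 : (t₁ - t₂) • y ∈ f t₁ := by
            have := (f t₁).sub_mem h₁ h₂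
            rwa [add_sub_add_left_eq_sub, ← sub_smul] at this
          have hy' := ((f t₁).smul_mem_iff (sub_ne_zero.2 hne)).1 h3
          exact ((f t₁).add_mem_iff_left ((f t₁).smul_mem _ hy')).1 h₁
    exact hx _ (hfs t₁) key

theorem exists_avoid {T : Finset K} (hT : T.card = 4) (P₁ P₂ P₃ P₄ : Submodule K V) (h₁ : P₁ ≠ ⊤) (h₂ : P₂ ≠ ⊤)
    (h₃ : P₃ ≠ ⊤) (h₄ : P₄ ≠ ⊤) : ∃ x, x ∉ P₁ ∧ x ∉ P₂ ∧ x ∉ P₃ ∧ x ∉ P₄ := by
  classical
  obtain ⟨x, hx⟩ := exists_avoid_finset hT {P₁, P₂, P₃, P₄} Finset.card_le_four (by simp [h₁, h₂, h₃, h₄])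
  exact ⟨x, hx _ (by simp), hx _ (by simp), hx _ (by simp), hx _ (by simp)⟩

/-- Outside two proper subspaces there is a vector at which `T` is no multiple of the injective `B`. -/
theorem exists_not_parallel {F : Finset K} (hF : F.card = 4) (T B : Module.End K V) (hB : Function.Injective B)
    (hT : ∀ ρ : K, T ≠ ρ • B) (P₁ P₂ : Submodule K V) (h₁ : P₁ ≠ ⊤) (h₂ : P₂ ≠ ⊤) :
    ∃ x, x ∉ P₁ ∧ x ∉ P₂ ∧ ∀ ρ : K, T x ≠ ρ • B x := by
  classical
  obtain ⟨x, hx₁, hx₂, -, -⟩ := exists_avoid hF P₁ P₂ P₁ P₂ h₁ h₂ h₁ h₂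
  by_contra hcon
  push Not at hcon
  obtain ⟨r, hr⟩ := hcon x hx₁ hx₂
  obtain ⟨y, hy⟩ : ∃ y, T y ≠ r • B y := by
    by_contra h
    push Not at h
    exact hT r (LinearMap.ext fun z => by simpa using h z)
  have hx0 : B x ≠ 0 := fun h => hx₁ (by rw [hB (h.trans (map_zero B).symm)]; exact zero_mem _)
  let Q₁ : K → Prop := fun t => y + t • x ∈ P₁
  let Q₂ : K → Prop := fun t => y + t • x ∈ P₂
  let Q₃ : K → Prop := fun t => ∃ ρ : K, T (y + t • x) = ρ • B (y + t • x)
  have hone : ∀ P : Submodule K V, x ∉ P → ∀ a b : K, y + a • x ∈ P → y + b • x ∈ P → a = b := by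
    intro P hP a b ha hb
    by_contra hne
    have := P.sub_mem ha hb
    rw [add_sub_add_left_eq_sub, ← sub_smul] at this
    exact hP ((P.smul_mem_iff (sub_ne_zero.2 hne)).1 this)
  have h3 : ∀ a b, Q₃ a → Q₃ b → a = b := by
    rintro a b ⟨ρ, hρ⟩ ⟨σ, hσ⟩
    rw [map_add, map_smul, map_add, map_smul, hr] at hρ hσ
    by_cases hρσ : ρ = σ
    · subst hρσ
      have h : ((a - b) * (r - ρ)) • B x = 0 := by
        linear_combination (norm := module) hρ - hσ
      rcases mul_eq_zero.1 ((smul_eq_zero.1 h).resolve_right hx0) with h | h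
      · exact sub_eq_zero.1 h
      · have hrρ : r = ρ := sub_eq_zero.1 h
        subst hrρ
        exact absurd (by linear_combination (norm := module) hρ) hy
    · exfalso
      have h : (ρ - σ) • B y = ((a - b) * r - a * ρ + b * σ) • B x := by
        linear_combination (norm := module) hσ - hρ
      have hy' : B y = B (((ρ - σ)⁻¹ * ((a - b) * r - a * ρ + b * σ)) • x) := by
        rw [map_smul, mul_smul, ← h, inv_smul_smul₀ (sub_ne_zero.2 hρσ)]
      exact hy (by rw [hB hy', map_smul, map_smul, hr, smul_comm])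
  have hsub : F ⊆ F.filter Q₁ ∪ F.filter Q₂ ∪ F.filter Q₃ := by
    intro t ht
    simp only [Finset.mem_union, Finset.mem_filter, ht, true_and]
    by_cases h1 : Q₁ t
    · exact Or.inl (Or.inl h1)
    by_cases h2 : Q₂ t
    · exact Or.inl (Or.inr h2)
    exact Or.inr (hcon _ h1 h2)
  have hc : ∀ Q : K → Prop, (∀ a b, Q a → Q b → a = b) → (F.filter Q).card ≤ 1 := fun Q hQ =>
    Finset.card_le_one.2 fun a ha b hb => hQ a b (Finset.mem_filter.1 ha).2 (Finset.mem_filter.1 hb).2
  have := (Finset.card_le_card hsub).trans ((Finset.card_union_le _ _).trans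
    (add_le_add (Finset.card_union_le _ _) le_rfl))
  have e1 := hc Q₁ (hone P₁ hx₁)
  have e2 := hc Q₂ (hone P₂ hx₂)
  have e3 := hc Q₃ h3
  omega

end Avoid

section Prod

variable {V : Type v} [AddCommGroup V] [Module K V] {W : Type w} [AddCommGroup W] [Module K W]

/-- Transport along an equivalence. -/
theorem TwoRegAt.congr (e : V ≃ₗ[K] W) {A : Module.End K V} {A' : Module.End K W} (hA : ∀ x, A' (e x) = e (A x))
    {u : V} {u' : W} (hu : u' = e u) {ω : Module.Dual K V} {ω' : Module.Dual K W} (hω : ∀ x, ω x = ω' (e x))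
    (h : TwoRegAt A u ω) : TwoRegAt A' u' ω' := by
  obtain ⟨X, Y, hXY, hX, hY, hXu, hYω⟩ := h
  let f := e.conjAlgEquiv K
  have hf : ∀ (Z : Module.End K V) (x : V), f Z (e x) = e (Z x) := fun Z x => by
    simp [f, LinearEquiv.conjAlgEquiv_apply]
  have hpow : ∀ (Z : Module.End K V) (k : ℕ), (f Z - 1) ^ k = f ((Z - 1) ^ k) := fun Z k => by
    rw [map_pow, map_sub, map_one]
  refine ⟨f X, f Y, ?_, ?_, ?_, ?_, ?_⟩
  · refine LinearMap.ext fun x => ?_
    obtain ⟨y, rfl⟩ := e.surjective x
    rw [hA, hXY, Module.End.mul_apply, Module.End.mul_apply, hf, hf]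
  · rw [← e.finrank_eq, hpow, hX, map_zero]
  · rw [← e.finrank_eq, hpow, hY, map_zero]
  · rw [← e.finrank_eq, hpow, hu, hf]
    exact fun h => hXu (e.map_eq_zero_iff.1 h)
  · rw [← e.finrank_eq, hpow]
    refine fun h => hYω (LinearMap.ext fun x => ?_)
    have := LinearMap.congr_fun h (e x)
    rw [LinearMap.comp_apply, hf, ← hω] at this
    simpa using this

variable (A₁ : Module.End K V) (E : W →ₗ[K] V) (A₂ : Module.End K W)

/-- The block map `(x, z) ↦ (A₁ x + E z, A₂ z)`. -/
def upper : Module.End K (V × W) :=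
  ((A₁.comp (LinearMap.fst K V W)) + E.comp (LinearMap.snd K V W)).prod (A₂.comp (LinearMap.snd K V W))

@[simp] theorem upper_apply (x : V) (z : W) : upper A₁ E A₂ (x, z) = (A₁ x + E z, A₂ z) := rfl

theorem upper_sub_one : upper A₁ E A₂ - 1 = upper (A₁ - 1) E (A₂ - 1) := by
  refine LinearMap.ext fun ⟨x, z⟩ => ?_
  simp [sub_add_eq_add_sub]

theorem upper_mul (B₁ : Module.End K V) (E' : W →ₗ[K] V) (B₂ : Module.End K W) :
    upper A₁ E A₂ * upper B₁ E' B₂ = upper (A₁ * B₁) (A₁.comp E' + E.comp B₂) (A₂ * B₂) := by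
  refine LinearMap.ext fun ⟨x, z⟩ => ?_
  simp [Module.End.mul_apply, map_add, add_assoc]

theorem upper_pow_snd (k : ℕ) : ∀ x : V × W, ((upper A₁ E A₂ ^ k) x).2 = (A₂ ^ k) x.2 := by
  induction k with
  | zero => simp
  | succ k ih =>
    intro x
    rw [pow_succ', pow_succ', Module.End.mul_apply, Module.End.mul_apply, ← ih x]
    rfl

theorem upper_pow_inl (k : ℕ) (x : V) : (upper A₁ E A₂ ^ k) (x, 0) = ((A₁ ^ k) x, 0) := by
  induction k with
  | zero => simp
  | succ k ih => rw [pow_succ', pow_succ', Module.End.mul_apply, Module.End.mul_apply, ih]; simp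

theorem upper_pow_top {d e : ℕ} (hd : A₁ ^ (d + 1) = 0) (he : A₂ ^ (e + 1) = 0) (x : V × W) :
    (upper A₁ E A₂ ^ (d + (e + 1))) x = ((A₁ ^ d) (E ((A₂ ^ e) x.2)), 0) := by
  obtain ⟨y, hy⟩ : ∃ y, y = (upper A₁ E A₂ ^ e) x := ⟨_, rfl⟩
  have hy2 : y.2 = (A₂ ^ e) x.2 := hy ▸ upper_pow_snd A₁ E A₂ e x
  have h0 : A₂ y.2 = 0 := by rw [hy2, ← Module.End.mul_apply, ← pow_succ', he]; rfl
  rw [pow_add, Module.End.mul_apply, pow_succ', Module.End.mul_apply, ← hy]
  obtain ⟨y₁, y₂⟩ := y
  simp only at hy2 h0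
  rw [upper_apply, h0, upper_pow_inl, map_add, ← Module.End.mul_apply, ← pow_succ, hd, hy2]
  simp

theorem upper_pow_eq_zero {d e : ℕ} (hd : A₁ ^ (d + 1) = 0) (he : A₂ ^ (e + 1) = 0) :
    upper A₁ E A₂ ^ (d + 1 + (e + 1)) = 0 := by
  refine LinearMap.ext fun x => ?_
  rw [show d + 1 + (e + 1) = (d + (e + 1)) + 1 by omega, pow_succ', Module.End.mul_apply,
    upper_pow_top A₁ E A₂ hd he, upper_apply, ← Module.End.mul_apply, ← pow_succ', hd]
  simp

theorem det_upper [FiniteDimensional K V] [FiniteDimensional K W] :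
    LinearMap.det (upper A₁ E A₂) = LinearMap.det A₁ * LinearMap.det A₂ := by
  classical
  let b := Module.finBasis K V
  let c := Module.finBasis K W
  rw [← LinearMap.det_toMatrix (b.prod c), ← LinearMap.det_toMatrix b, ← LinearMap.det_toMatrix c]
  have h : LinearMap.toMatrix (b.prod c) (b.prod c) (upper A₁ E A₂) =
      Matrix.fromBlocks (LinearMap.toMatrix b b A₁) (LinearMap.toMatrix c b E) 0 (LinearMap.toMatrix c c A₂) := by
    ext i j
    rcases i with i | i <;> rcases j with j | j <;> simp [LinearMap.toMatrix_apply, upper]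
  rw [h, Matrix.det_fromBlocks_zero₂₁]

end Prod

section Glue

variable {V : Type v} [AddCommGroup V] [Module K V] [FiniteDimensional K V]
  {W : Type w} [AddCommGroup W] [Module K W] [FiniteDimensional K W]

/-- Gluing along an invariant subspace. -/
theorem twoRegAt_upper {F : Finset K} (hF : F.card = 4) {A₁ : Module.End K V} (E : W →ₗ[K] V)
    {A₂ : Module.End K W} (hV : 1 ≤ finrank K V) (hW : 1 ≤ finrank K W) {u : V × W}
    {ω : Module.Dual K (V × W)} {a : V} (h₁ : TwoRegAt A₁ a (ω.comp (LinearMap.inl K V W)))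
    {η : Module.Dual K W} (h₂ : TwoRegAt A₂ u.2 η) : TwoRegAt (upper A₁ E A₂) u ω := by
  classical
  obtain ⟨X₁, Y₁, hA₁, hX₁, hY₁, hX₁u, hY₁ω⟩ := h₁
  obtain ⟨X₂, Y₂, hA₂, hX₂, hY₂, hX₂u, hY₂η⟩ := h₂
  obtain ⟨d, hd⟩ : ∃ d, finrank K V = d + 1 := ⟨_, (Nat.sub_add_cancel hV).symm⟩
  obtain ⟨e, he⟩ : ∃ e, finrank K W = e + 1 := ⟨_, (Nat.sub_add_cancel hW).symm⟩
  rw [hd, Nat.add_sub_cancel] at hX₁u hY₁ω
  rw [he, Nat.add_sub_cancel] at hX₂u hY₂η
  rw [hd] at hX₁ hY₁
  rw [he] at hX₂ hY₂
  -- `X₁` is invertible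
  have hX₁u' : IsUnit X₁ := by
    have hn : IsNilpotent (X₁ - 1) := ⟨_, hX₁⟩
    simpa using hn.isUnit_one_add
  obtain ⟨U₁, hU₁⟩ := hX₁u'
  set x := ((X₂ - 1) ^ e) u.2 with hxdef
  obtain ⟨z₀, hy⟩ : ∃ z, η (((Y₂ - 1) ^ e) z) ≠ 0 := by
    by_contra h
    push Not at h
    exact hY₂η (LinearMap.ext fun z => h z)
  set y := ((Y₂ - 1) ^ e) z₀ with hydef
  have hy0 : y ≠ 0 := fun h => hy (by rw [h, map_zero])
  have hY₂y : Y₂ y = y := by
    have : (Y₂ - 1) y = 0 := by rw [hydef, ← Module.End.mul_apply, ← pow_succ', hY₂]; rfl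
    simpa [sub_eq_zero] using this
  set α := (X₁ - 1) ^ d with hα
  set ψ : Module.Dual K V := (ω.comp (LinearMap.inl K V W)).comp
    (((Y₁ - 1) ^ d) * (↑U₁⁻¹ : Module.End K V)) with hψdef
  have hψ : ψ ≠ 0 := fun h => hY₁ω (LinearMap.ext fun r => by
    have := LinearMap.congr_fun h ((U₁ : Module.End K V) r)
    rw [hψdef, LinearMap.comp_apply, Module.End.mul_apply, ← Module.End.mul_apply (f := (↑U₁⁻¹ : Module.End K V)),
      Units.inv_mul, Module.End.one_apply] at this
    exact this)
  -- choose `E₀` of rank one with both corners nonzero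
  obtain ⟨φ, hφx, hφy⟩ : ∃ φ : Module.Dual K W, φ x ≠ 0 ∧ φ y ≠ 0 := by
    have hp : ∀ r : W, r ≠ 0 → LinearMap.ker (Module.Dual.eval K W r) ≠ ⊤ := fun r hr h => hr
      ((Module.forall_dual_apply_eq_zero_iff K r).1 fun φ => by
        have h' : φ ∈ LinearMap.ker (Module.Dual.eval K W r) := by rw [h]; exact Submodule.mem_top
        simpa using h')
    obtain ⟨φ, h1, h2, -, -⟩ := exists_avoid hF _ _ _ _ (hp x hX₂u) (hp y hy0) (hp x hX₂u) (hp y hy0)
    exact ⟨φ, by simpa using h1, by simpa using h2⟩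
  obtain ⟨r, hαr, hψr⟩ : ∃ r : V, α r ≠ 0 ∧ ψ r ≠ 0 := by
    have h1 : LinearMap.ker α ≠ ⊤ := fun h => hX₁u (LinearMap.mem_ker.1 (h ▸ Submodule.mem_top))
    have h2 : LinearMap.ker ψ ≠ ⊤ := fun h => hψ (LinearMap.ker_eq_top.1 h)
    obtain ⟨r, h1', h2', -, -⟩ := exists_avoid hF _ _ _ _ h1 h2 h1 h2
    exact ⟨r, by simpa using h1', by simpa using h2'⟩
  obtain ⟨t, ht0, ht⟩ : ∃ t : K, t ≠ 0 ∧ ψ (E y) ≠ t * (φ y * ψ r) := by
    have hc : ({0, ψ (E y) / (φ y * ψ r)} : Finset K).card < F.card := by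
      rw [hF]
      exact lt_of_le_of_lt Finset.card_le_two (by norm_num)
    obtain ⟨t, -, ht⟩ := Finset.exists_mem_notMem_of_card_lt_card hc
    simp only [Finset.mem_insert, Finset.mem_singleton, not_or] at ht
    refine ⟨t, ht.1, fun h => ht.2 ?_⟩
    rw [h, mul_div_assoc, div_self (mul_ne_zero hφy hψr), mul_one]
  set E₀ : W →ₗ[K] V := (t • φ).smulRight r with hE₀
  set E' : W →ₗ[K] V := (↑U₁⁻¹ : Module.End K V).comp (E - E₀.comp Y₂) with hE'
  refine ⟨upper X₁ E₀ X₂, upper Y₁ E' Y₂, ?_, ?_, ?_, ?_, ?_⟩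
  · rw [upper_mul, hA₁, hA₂]
    congr 1
    refine LinearMap.ext fun z => ?_
    simp only [hE', LinearMap.add_apply, LinearMap.comp_apply, LinearMap.sub_apply, ← hU₁]
    rw [← Module.End.mul_apply (f := (U₁ : Module.End K V)), Units.mul_inv, Module.End.one_apply, sub_add_cancel]
  · rw [Module.finrank_prod, hd, he, upper_sub_one, upper_pow_eq_zero _ _ _ hX₁ hX₂]
  · rw [Module.finrank_prod, hd, he, upper_sub_one, upper_pow_eq_zero _ _ _ hY₁ hY₂]
  · rw [Module.finrank_prod, hd, he, show d + 1 + (e + 1) - 1 = d + (e + 1) by omega, upper_sub_one,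
      upper_pow_top _ _ _ hX₁ hX₂]
    intro h
    have h1 := congrArg Prod.fst h
    simp only [hE₀, LinearMap.smulRight_apply, LinearMap.smul_apply, smul_eq_mul, map_smul,
      Prod.fst_zero, smul_eq_zero] at h1
    exact h1.elim (mul_ne_zero ht0 hφx) hαr
  · rw [Module.finrank_prod, hd, he, show d + 1 + (e + 1) - 1 = d + (e + 1) by omega, upper_sub_one]
    intro h
    have h1 := LinearMap.congr_fun h (0, z₀)
    rw [LinearMap.comp_apply, upper_pow_top _ _ _ hY₁ hY₂] at h1
    have h2 : ψ (E y - E₀ (Y₂ y)) = 0 := h1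
    rw [hY₂y, map_sub, sub_eq_zero] at h2
    refine ht (h2.trans ?_)
    simp [hE₀, mul_assoc]

theorem twoRegAt_one_dim {A : Module.End K V} (hd : finrank K V = 1) (hA : A = 1) {u : V} (hu : u ≠ 0)
    {ω : Module.Dual K V} (hω : ω ≠ 0) : TwoRegAt A u ω :=
  ⟨1, 1, by rw [hA, mul_one], by simp [hd], by simp [hd], by simpa [hd], by simpa [hd, Module.End.one_eq_id] using hω⟩

end Glue

section Step

variable {V : Type v} [AddCommGroup V] [Module K V]

/-- The Schur complement of `A` at `(v, φ)`. -/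
def schur (A : Module.End K V) (v : V) (φ : Module.Dual K V) (h : φ (A v) = 1) :
    Module.End K ↥(LinearMap.ker φ) :=
  ((A - (φ.comp A).smulRight (A v)).comp (LinearMap.ker φ).subtype).codRestrict _ fun x => by
    simp [h]

theorem schur_coe (A : Module.End K V) (v : V) (φ : Module.Dual K V) (h : φ (A v) = 1)
    (x : ↥(LinearMap.ker φ)) : (schur A v φ h x : V) = A x - φ (A x) • A v := rfl

/-- `A v - v`, in the kernel of `φ`. -/
def cVec (A : Module.End K V) (v : V) (φ : Module.Dual K V) (hv : φ v = 1) (h : φ (A v) = 1) :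
    ↥(LinearMap.ker φ) :=
  ⟨A v - v, by simp [hv, h]⟩

/-- `φ ∘ A` on the kernel of `φ`. -/
def bDual (A : Module.End K V) (φ : Module.Dual K V) : Module.Dual K ↥(LinearMap.ker φ) :=
  (φ.comp A).comp (LinearMap.ker φ).subtype

variable (v : V) (φ : Module.Dual K V) (hv : φ v = 1)

/-- `V = ⟨v⟩ ⊕ ker φ`. -/
def splitEquiv : (K × ↥(LinearMap.ker φ)) ≃ₗ[K] V where
  toFun x := x.1 • v + x.2
  invFun x := (φ x, ⟨x - φ x • v, by simp [hv]⟩)
  map_add' x y := by simp only [Prod.fst_add, Prod.snd_add, Submodule.coe_add]; module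
  map_smul' r x := by simp only [Prod.smul_fst, Prod.smul_snd, Submodule.coe_smul, RingHom.id_apply, smul_eq_mul]; module
  left_inv := by
    rintro ⟨t, h, hh⟩
    rw [LinearMap.mem_ker] at hh
    simp [hv, hh]
  right_inv x := by simp

theorem splitEquiv_apply (t : K) (h : ↥(LinearMap.ker φ)) : splitEquiv v φ hv (t, h) = t • v + (h : V) := rfl

variable [FiniteDimensional K V]

theorem finrank_ker_eq {n : ℕ} (hn : finrank K V = n + 1) (hv : φ v = 1) :
    finrank K ↥(LinearMap.ker φ) = n := by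
  have := (splitEquiv v φ hv).finrank_eq
  rw [Module.finrank_prod, Module.finrank_self, hn] at this
  omega

theorem det_schur (A : Module.End K V) (h : φ (A v) = 1) (hv : φ v = 1) :
    LinearMap.det (schur A v φ h) = LinearMap.det A := by
  let e := splitEquiv v φ hv
  let T : Module.End K (K × ↥(LinearMap.ker φ)) := upper 1 (bDual A φ) (schur A v φ h)
  let L : Module.End K (K × ↥(LinearMap.ker φ)) :=
    LinearMap.transvection (LinearMap.fst K K ↥(LinearMap.ker φ)) (0, cVec A v φ hv h)
  have hA : A = (e : _ →ₗ[K] V) ∘ₗ (L * T) ∘ₗ (e.symm : V →ₗ[K] _) := by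
    refine LinearMap.ext fun x => ?_
    obtain ⟨⟨t, z⟩, rfl⟩ := e.surjective x
    simp only [LinearMap.comp_apply, LinearEquiv.coe_coe, LinearEquiv.symm_apply_apply, Module.End.mul_apply,
      T, L, upper_apply, Module.End.one_apply, LinearMap.transvection.apply, LinearMap.fst_apply]
    simp only [e, splitEquiv_apply, Prod.smul_mk, smul_zero, Prod.mk_add_mk, add_zero, Submodule.coe_add,
      Submodule.coe_smul, schur_coe, bDual, cVec, LinearMap.comp_apply, Submodule.subtype_apply, map_add,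
      map_smul]
    module
  conv_rhs => rw [hA, LinearMap.det_conj, map_mul]
  rw [LinearMap.transvection.det, det_upper, map_one]
  simp

/-- **The step.** -/
theorem twoRegAt_step (A : Module.End K V) (h : φ (A v) = 1) (hv : φ v = 1) {n : ℕ}
    (hn : finrank K V = n + 2) {u : V} (hu : φ u ≠ 0) {ω : Module.Dual K V} (hω : ω v ≠ 0)
    (hS : TwoRegAt (schur A v φ h) (cVec A v φ hv h) (bDual A φ)) : TwoRegAt A u ω := by
  obtain ⟨X', Y', hS', hX', hY', hXc, hYb⟩ := hS
  rw [finrank_ker_eq v φ hn hv] at hX' hY' hXc hYb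
  rw [Nat.add_sub_cancel] at hXc hYb
  set e := splitEquiv v φ hv
  set c := cVec A v φ hv h with hc
  set b := bDual A φ with hb
  let X : Module.End K (K × ↥(LinearMap.ker φ)) :=
    (LinearMap.fst K K _).prod ((LinearMap.fst K K _).smulRight c + X'.comp (LinearMap.snd K K _))
  let Y : Module.End K (K × ↥(LinearMap.ker φ)) := upper 1 b Y'
  have hXp : ∀ (k : ℕ) (t : K) (z : ↥(LinearMap.ker φ)),
      ((X - 1) ^ (k + 1)) (t, z) = (0, ((X' - 1) ^ k) (t • c + (X' - 1) z)) := by
    intro k
    induction k with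
    | zero => intro t z; simp [X]; abel
    | succ k ih =>
      intro t z
      rw [pow_succ', Module.End.mul_apply, ih, pow_succ' (X' - 1), Module.End.mul_apply]
      simp [X]
  have hYp : ∀ (k : ℕ) (t : K) (z : ↥(LinearMap.ker φ)),
      ((Y - 1) ^ (k + 1)) (t, z) = (b (((Y' - 1) ^ k) z), ((Y' - 1) ^ (k + 1)) z) := by
    intro k
    induction k with
    | zero => intro t z; simp [Y]
    | succ k ih =>
      intro t z
      rw [pow_succ', Module.End.mul_apply, ih, pow_succ' (Y' - 1) (k + 1), Module.End.mul_apply]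
      simp [Y]
  have hd : finrank K (K × ↥(LinearMap.ker φ)) = n + 2 := by
    rw [Module.finrank_prod, Module.finrank_self, finrank_ker_eq v φ hn hv]; omega
  refine TwoRegAt.congr e (A := X * Y) (u := (φ u, ⟨u - φ u • v, by simp [hv]⟩))
    (ω := ω.comp (e : _ →ₗ[K] V)) ?_ ?_ (fun _ => rfl) ⟨X, Y, rfl, ?_, ?_, ?_, ?_⟩
  · rintro ⟨t, z⟩
    have hS1 := congrArg (Subtype.val) (LinearMap.congr_fun hS' z)
    rw [Module.End.mul_apply, schur_coe] at hS1
    simp only [Module.End.mul_apply, X, Y, upper_apply, LinearMap.prod_apply, Function.prod_apply, LinearMap.add_apply,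
      LinearMap.smulRight_apply, LinearMap.comp_apply, LinearMap.fst_apply, LinearMap.snd_apply,
      Module.End.one_apply]
    simp only [e, splitEquiv_apply, Submodule.coe_add, Submodule.coe_smul, ← hS1, hb, bDual, hc, cVec,
      LinearMap.comp_apply, Submodule.subtype_apply, map_add, map_smul]
    module
  · simp [e, splitEquiv_apply]
  · refine LinearMap.ext fun ⟨t, z⟩ => ?_
    rw [hd, hXp, hX']
    simp
  · refine LinearMap.ext fun ⟨t, z⟩ => ?_
    rw [hd, hYp, hY', pow_succ, hY']
    simp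
  · rw [hd, show n + 2 - 1 = n + 1 by omega, hXp]
    intro h0
    have h1 := congrArg Prod.snd h0
    simp only [Prod.snd_zero, map_add, map_smul] at h1
    rw [← Module.End.mul_apply, ← pow_succ, hX', LinearMap.zero_apply, add_zero, smul_eq_zero] at h1
    exact h1.elim hu hXc
  · rw [hd, show n + 2 - 1 = n + 1 by omega]
    intro h0
    refine hYb (LinearMap.ext fun z => ?_)
    have h1 := LinearMap.congr_fun h0 (0, z)
    rw [LinearMap.comp_apply, hYp, hY'] at h1
    simp only [LinearMap.comp_apply, LinearEquiv.coe_coe, e, splitEquiv_apply, LinearMap.zero_apply,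
      ZeroMemClass.coe_zero, add_zero, map_smul, smul_eq_mul, mul_eq_zero] at h1
    exact h1.resolve_right hω

/-- The Schur complement has no fixed vector if `A` has none and a corner condition holds. -/
theorem schur_fixed_eq_zero (A : Module.End K V) (h : φ (A v) = 1) (r : V) (hr : r - A r = A v)
    (hfix : ∀ x, A x = x → x = 0) (hr' : φ (A r) + 1 ≠ 0) :
    ∀ x, schur A v φ h x = x → x = 0 := by
  intro x hx
  have h1 := congrArg Subtype.val hx
  rw [schur_coe] at h1
  set k := φ (A (x : V))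
  have hxr : (x : V) + k • r = 0 := hfix _ (by
    rw [map_add, map_smul]
    linear_combination (norm := module) h1 + k • (hr.symm.trans rfl))
  have hk : k * (1 + φ (A r)) = 0 := by
    have := congrArg (fun y => φ (A y)) hxr
    simp only [map_add, map_smul, map_zero, smul_eq_mul] at this
    linear_combination this
  have hk0 : k = 0 := (mul_eq_zero.1 hk).resolve_right fun h' => hr' (by rw [add_comm]; exact h')
  rw [hk0, zero_smul, add_zero] at hxr
  exact Subtype.ext hxr

end Step

section Main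

variable {V : Type v} [AddCommGroup V] [Module K V] [FiniteDimensional K V]

theorem injective_of_det {A : Module.End K V} (h : LinearMap.det A = 1) : Function.Injective A :=
  (LinearMap.equivOfDetNeZero A (by rw [h]; exact one_ne_zero)).injective

theorem eq_one_of_finrank_one {A : Module.End K V} (hd : finrank K V = 1) (h : LinearMap.det A = 1) : A = 1 := by
  obtain ⟨c, hc⟩ : ∃ c : K, A = c • 1 := by
    obtain ⟨v, hv0, hv⟩ := finrank_eq_one_iff'.1 hd
    obtain ⟨c, hc⟩ := hv (A v)
    refine ⟨c, LinearMap.ext fun x => ?_⟩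
    obtain ⟨a, rfl⟩ := hv x
    simp [← hc, smul_comm a c]
  rw [hc, LinearMap.det_smul, hd, pow_one, map_one, mul_one] at h
  rw [hc, h, one_smul]

theorem exists_quadratic_two (A : Module.End K V) (hd : finrank K V = 2) :
    ∃ τ : K, ∀ x, A (A x) + LinearMap.det A • x = τ • A x := by
  let b := Module.finBasisOfFinrankEq K V hd
  let M := LinearMap.toMatrix b b A
  have hM : M * M + LinearMap.det A • 1 = M.trace • M := by
    rw [← LinearMap.det_toMatrix b, Matrix.det_fin_two, Matrix.trace_fin_two]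
    ext i j
    fin_cases i <;> fin_cases j <;> simp [M, Matrix.mul_apply, Fin.sum_univ_two] <;> ring
  refine ⟨M.trace, fun x => ?_⟩
  have h := congrArg (Matrix.toLin b b) hM
  rw [map_add, map_smul, map_smul, Matrix.toLin_mul b b b, Matrix.toLin_one, Matrix.toLin_toMatrix] at h
  exact LinearMap.congr_fun h x

/-- A functional equal to one on `v`, `A v`, nonzero on `r₁`, `r₂`, away from a given line. -/
theorem exists_functional {F : Finset K} (hF : F.card = 4) {v w r₁ r₂ : V}
    (hv : v ∉ Submodule.span K {w - v}) (h₁ : r₁ ∉ Submodule.span K {w - v})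
    (h₂ : r₂ ∉ Submodule.span K {w - v}) (φ₀ : Module.Dual K V)
    (hφ₀ : φ₀ = 0 ∨ 3 ≤ finrank K V) :
    ∃ φ : Module.Dual K V, φ v = 1 ∧ φ w = 1 ∧ φ r₁ ≠ 0 ∧ φ r₂ ≠ 0 ∧ φ ≠ φ₀ := by
  let M : Submodule K (Module.Dual K V) := LinearMap.ker (Module.Dual.eval K V (w - v))
  have hex : ∀ r : V, r ∉ Submodule.span K {w - v} → ∃ φ ∈ M, φ r ≠ 0 := by
    intro r hr
    obtain ⟨φ, hφr, hφ⟩ := Submodule.exists_dual_map_eq_bot_of_notMem hr inferInstance
    refine ⟨φ, LinearMap.mem_ker.2 ?_, hφr⟩
    have : φ (w - v) ∈ (Submodule.span K {w - v}).map φ := ⟨_, Submodule.mem_span_singleton_self _, rfl⟩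
    rw [hφ] at this
    simpa using this
  let P : V → Submodule K M := fun r => (LinearMap.ker (Module.Dual.eval K V r)).comap M.subtype
  have hP : ∀ r : V, r ∉ Submodule.span K {w - v} → P r ≠ ⊤ := by
    intro r hr h
    obtain ⟨φ, hφM, hφr⟩ := hex r hr
    have : (⟨φ, hφM⟩ : M) ∈ P r := h ▸ Submodule.mem_top
    exact hφr (by simpa [P] using this)
  let L : Submodule K M := (Submodule.span K {φ₀}).comap M.subtype
  have hL : L ≠ ⊤ := by
    intro h
    rcases hφ₀ with h0 | hn
    · obtain ⟨φ, hφM, hφv⟩ := hex v hv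
      have : (⟨φ, hφM⟩ : M) ∈ L := h ▸ Submodule.mem_top
      simp only [L, h0, Submodule.mem_comap, Submodule.subtype_apply, Submodule.span_zero_singleton,
        Submodule.mem_bot] at this
      exact hφv (by rw [this]; rfl)
    · obtain ⟨x, hx0, hx⟩ : ∃ x, φ₀ x = 0 ∧ x ∉ Submodule.span K {w - v} := by
        by_contra h'
        push Not at h'
        have hle : LinearMap.ker φ₀ ≤ Submodule.span K {w - v} := fun x hx => h' x hx
        have h1 := (Submodule.finrank_mono hle).trans
          (show finrank K ↥(Submodule.span K ({w - v} : Set V)) ≤ 1 by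
            simpa using finrank_span_le_card (R := K) ({w - v} : Set V))
        have h2 := LinearMap.finrank_range_add_finrank_ker φ₀
        have h3 := Submodule.finrank_le (LinearMap.range φ₀)
        rw [Module.finrank_self] at h3
        omega
      obtain ⟨φ, hφM, hφx⟩ := hex x hx
      have : (⟨φ, hφM⟩ : M) ∈ L := h ▸ Submodule.mem_top
      obtain ⟨k, hk⟩ := Submodule.mem_span_singleton.1 this
      exact hφx (by rw [show φ = k • φ₀ from hk.symm]; simp [hx0])
  obtain ⟨⟨φ, hφM⟩, hv', h1', h2', hL'⟩ := exists_avoid (V := ↥M) hF (P v) (P r₁) (P r₂) L (hP v hv) (hP r₁ h₁) (hP r₂ h₂) hL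
  have hvw : φ w = φ v := by
    have := LinearMap.mem_ker.1 hφM
    simpa [sub_eq_zero] using this
  simp only [P, Submodule.mem_comap, LinearMap.mem_ker, Submodule.subtype_apply, Module.Dual.eval_apply] at hv' h1' h2'
  refine ⟨(φ v)⁻¹ • φ, by simp [hv'], by simp [hvw, hv'], by simp [hv', h1'], by simp [hv', h2'], fun h => hL' ?_⟩
  refine Submodule.mem_comap.2 (Submodule.mem_span_singleton.2 ⟨φ v, ?_⟩)
  show φ v • φ₀ = φ
  rw [← h, smul_smul, mul_inv_cancel₀ hv', one_smul]

/-- At most one normalised functional gives a scalar Schur complement. -/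
theorem schur_scalar_unique {A : Module.End K V} (hA : Function.Injective A) (hn : 3 ≤ finrank K V) {v : V}
    (hind : ∀ ρ : K, A v ≠ ρ • v) {φ φ' : Module.Dual K V} (hv : φ v = 1) (hv' : φ' v = 1)
    (h : φ (A v) = 1) (h' : φ' (A v) = 1) {s s' : K} (hS : schur A v φ h = s • 1)
    (hS' : schur A v φ' h' = s' • 1) : φ = φ' := by
  have hv0 : v ≠ 0 := fun h0 => one_ne_zero (α := K) (by rw [← hv, h0, map_zero])
  have hker : ∀ x, φ x = 0 → A x - φ (A x) • A v = s • x := fun x hx => by
    have := congrArg Subtype.val (LinearMap.congr_fun hS ⟨x, hx⟩)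
    simpa [schur_coe] using this
  have hker' : ∀ x, φ' x = 0 → A x - φ' (A x) • A v = s' • x := fun x hx => by
    have := congrArg Subtype.val (LinearMap.congr_fun hS' ⟨x, hx⟩)
    simpa [schur_coe] using this
  obtain ⟨z, hz, hzφ, hzφ'⟩ : ∃ z, z ≠ 0 ∧ φ z = 0 ∧ φ' z = 0 := by
    have hni : ¬ Function.Injective (φ.prod φ') := fun hi => by
      have := LinearMap.finrank_le_finrank_of_injective hi
      rw [Module.finrank_prod, Module.finrank_self] at this
      omega
    rw [← LinearMap.ker_eq_bot, Submodule.eq_bot_iff] at hni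
    push Not at hni
    obtain ⟨z, hz, hz0⟩ := hni
    exact ⟨z, hz0, congrArg Prod.fst (LinearMap.mem_ker.1 hz), congrArg Prod.snd (LinearMap.mem_ker.1 hz)⟩
  have hss : s = s' := by
    have h1 := hker z hzφ
    have h2 := hker' z hzφ'
    have h3 : (s - s') • z = (φ' (A z) - φ (A z)) • A v := by
      linear_combination (norm := module) h2 - h1
    have h4 := congrArg φ h3
    rw [map_smul, map_smul, hzφ, h, smul_zero, smul_eq_mul, mul_one] at h4
    rw [← h4, zero_smul, smul_eq_zero] at h3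
    exact sub_eq_zero.1 (h3.resolve_right hz)
  have hgen : ∀ x, A x - φ (A x) • A v = s • x - (s * φ x) • v := fun x => by
    have h1 := hker (x - φ x • v) (by simp [hv])
    rw [map_sub, map_smul, map_sub, map_smul, h, smul_eq_mul, mul_one] at h1
    linear_combination (norm := module) h1
  have hgen' : ∀ x, A x - φ' (A x) • A v = s • x - (s * φ' x) • v := fun x => by
    have h1 := hker' (x - φ' x • v) (by simp [hv'])
    rw [map_sub, map_smul, map_sub, map_smul, h', smul_eq_mul, mul_one, ← hss] at h1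
    linear_combination (norm := module) h1
  have hs0 : s ≠ 0 := by
    intro hs
    have hxz : z = φ (A z) • v := hA (by
      rw [map_smul]
      have := hgen z
      rw [hs, zero_mul, zero_smul, zero_smul, sub_zero, sub_eq_zero] at this
      exact this)
    have h5 := congrArg φ hxz
    rw [hzφ, map_smul, hv, smul_eq_mul, mul_one] at h5
    exact hz (by rw [hxz, ← h5, zero_smul])
  refine LinearMap.ext fun x => ?_
  have h6 : (φ' (A x) - φ (A x)) • A v = (s * (φ' x - φ x)) • v := by
    linear_combination (norm := module) hgen x - hgen' x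
  by_cases hz' : φ' (A x) - φ (A x) = 0
  · rw [hz', zero_smul, eq_comm, smul_eq_zero] at h6
    exact (sub_eq_zero.1 ((mul_eq_zero.1 (h6.resolve_right hv0)).resolve_left hs0)).symm
  · exact absurd (by rw [mul_smul, ← h6, inv_smul_smul₀ hz'] :
      A v = ((φ' (A x) - φ (A x))⁻¹ * (s * (φ' x - φ x))) • v) (hind _)

end Main

/-- The statement of the induction. -/
def Key (K : Type uK) [Field K] (n : ℕ) : Prop :=
  ∀ {V : Type v} [AddCommGroup V] [Module K V] [FiniteDimensional K V], finrank K V = n →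
    ∀ A : Module.End K V, LinearMap.det A = 1 → (∀ x, A x = x → x = 0) → (∀ c : K, A ≠ c • 1) →
      ∀ (u : V) (ω : Module.Dual K V), u ≠ 0 → ω ≠ 0 → TwoRegAt A u ω

/-- A fixed vector with a scalar quotient. -/
theorem twoRegAt_fixedScalar {F : Finset K} (hF : F.card = 4) {n : ℕ} (hkey : ∀ m < n, Key.{uK, v} K m)
    {V : Type v} [AddCommGroup V] [Module K V] [FiniteDimensional K V] (hd : finrank K V = n)
    (S : Module.End K V) (hdet : LinearMap.det S = 1) {e : V} (he : e ≠ 0) (hSe : S e = e) {μ : K}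
    (hμ : μ ≠ 1) (hq : ∀ x, S x - μ • x ∈ Submodule.span K {e}) (hn : 2 ≤ n) {ω : Module.Dual K V}
    (hω : ω ≠ 0) : TwoRegAt S e ω := by
  set E := LinearMap.ker (S - μ • (1 : Module.End K V)) with hE
  have hEmem : ∀ z, z ∈ E ↔ S z = μ • z := fun z => by simp [E, sub_eq_zero]
  have heE : ∀ z ∈ E, ∀ a : K, a • e + z = 0 → a = 0 ∧ z = 0 := by
    intro z hz a h
    have h1 := congrArg S h
    rw [map_add, map_smul, hSe, (hEmem z).1 hz, map_zero] at h1
    have h2 : ((1 - μ) * a) • e = 0 := by linear_combination (norm := module) h1 - μ • h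
    have ha : a = 0 := (mul_eq_zero.1 ((smul_eq_zero.1 h2).resolve_right he)).resolve_left
      (sub_ne_zero.2 hμ.symm)
    exact ⟨ha, by simpa [ha] using h⟩
  have hdec : ∀ x, ∃ a : K, x - a • e ∈ E := fun x => by
    obtain ⟨a, ha⟩ := Submodule.mem_span_singleton.1 (hq x)
    refine ⟨a / (1 - μ), (hEmem _).2 ?_⟩
    rw [map_sub, map_smul, hSe, smul_sub, smul_smul]
    rw [← div_mul_cancel₀ a (sub_ne_zero.2 hμ.symm)] at ha
    linear_combination (norm := module) (-1 : K) • ha
  have hcompl : IsCompl (Submodule.span K {e}) E := by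
    refine IsCompl.of_eq (Submodule.eq_bot_iff _ |>.2 fun z hz => ?_) (Submodule.eq_top_iff'.2 fun x => ?_)
    · obtain ⟨a, ha⟩ := Submodule.mem_span_singleton.1 hz.1
      have := heE z hz.2 (-a) (by rw [← ha, ← add_smul]; simp)
      exact this.2
    · obtain ⟨a, ha⟩ := hdec x
      exact Submodule.mem_sup.2 ⟨a • e, Submodule.smul_mem _ _ (Submodule.mem_span_singleton_self e), _, ha,
        add_sub_cancel _ _⟩
  have hEd : finrank K E + 1 = n := by
    have := Submodule.finrank_add_eq_of_isCompl hcompl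
    rw [finrank_span_singleton he, hd] at this
    omega
  -- the determinant excludes dimension two
  have hn3 : 3 ≤ n := by
    by_contra hlt
    have hE1 : finrank K E = 1 := by omega
    obtain ⟨τ, hτ⟩ := exists_quadratic_two S (by omega)
    rw [hdet] at hτ
    obtain ⟨z, hz, hz0⟩ := Submodule.exists_mem_ne_zero_of_ne_bot (p := E) (fun h => by
      rw [h, finrank_bot] at hE1; omega)
    have h1 := hτ e
    rw [hSe, hSe, one_smul] at h1
    have hτ2 : τ = 2 := by
      by_contra hne
      have : ((2 : K) - τ) • e = 0 := by linear_combination (norm := module) h1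
      exact he ((smul_eq_zero.1 this).resolve_left (sub_ne_zero.2 (Ne.symm hne)))
    have h2 := hτ z
    rw [(hEmem z).1 hz, map_smul, (hEmem z).1 hz, one_smul, hτ2] at h2
    have : ((μ - 1) * (μ - 1)) • z = 0 := by linear_combination (norm := module) h2
    exact hz0 ((smul_eq_zero.1 this).resolve_left (mul_ne_zero (sub_ne_zero.2 hμ) (sub_ne_zero.2 hμ)))
  -- `w ∈ E` with `ω (e + w) ≠ 0`
  obtain ⟨w, hwE, hw0, hωw⟩ : ∃ w ∈ E, w ≠ 0 ∧ ω (e + w) ≠ 0 := by
    classical
    obtain ⟨w₁, hw₁, hw₁0⟩ := Submodule.exists_mem_ne_zero_of_ne_bot (p := E) (fun h => by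
      rw [h, finrank_bot] at hEd; omega)
    by_cases hE0 : ∀ z ∈ E, ω z = 0
    · refine ⟨w₁, hw₁, hw₁0, fun h => hω (LinearMap.ext fun x => ?_)⟩
      obtain ⟨a, ha⟩ := hdec x
      have := hE0 _ ha
      rw [map_sub, map_smul, sub_eq_zero] at this
      rw [map_add, hE0 _ hw₁, add_zero] at h
      simp [this, h]
    · push Not at hE0
      obtain ⟨w₂, hw₂, hω₂⟩ := hE0
      have hc : ({0, -ω e / ω w₂} : Finset K).card < F.card := by
        rw [hF]
        exact lt_of_le_of_lt Finset.card_le_two (by norm_num)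
      obtain ⟨t, -, ht⟩ := Finset.exists_mem_notMem_of_card_lt_card hc
      simp only [Finset.mem_insert, Finset.mem_singleton, not_or] at ht
      refine ⟨t • w₂, E.smul_mem _ hw₂, smul_ne_zero ht.1 fun h => hω₂ (by simp [h]), fun h => ht.2 ?_⟩
      rw [map_add, map_smul, smul_eq_mul] at h
      field_simp
      linear_combination h
  obtain ⟨y, hyE, hy⟩ : ∃ y ∈ E, y ∉ Submodule.span K {w} := by
    by_contra h
    push Not at h
    have := Submodule.finrank_mono (show E ≤ Submodule.span K {w} from h)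
    rw [finrank_span_singleton hw0] at this
    omega
  -- the functional
  obtain ⟨ψ₀, hψy, hψw⟩ := Submodule.exists_dual_map_eq_bot_of_notMem hy inferInstance
  have hψw' : ψ₀ w = 0 := by
    have : ψ₀ w ∈ (Submodule.span K {w}).map ψ₀ := ⟨_, Submodule.mem_span_singleton_self _, rfl⟩
    rw [hψw] at this
    simpa using this
  obtain ⟨ρ, hρe, hρ⟩ := Submodule.exists_dual_map_eq_bot_of_notMem (p := E)
    (show e ∉ E from fun h => one_ne_zero (α := K) (heE _ (E.neg_mem h) 1 (by simp)).1) inferInstance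
  have hρE : ∀ z ∈ E, ρ z = 0 := fun z hz => by
    have : ρ z ∈ E.map ρ := ⟨z, hz, rfl⟩
    rw [hρ] at this
    simpa using this
  -- `φ e = 1`, `φ w = 0`, `φ y = 1`
  let φ : Module.Dual K V := (ρ e)⁻¹ • ρ + (ψ₀ y)⁻¹ • (ψ₀ - (ψ₀ e * (ρ e)⁻¹) • ρ)
  have hφe : φ e = 1 := by simp [φ, hρe]
  have hφw : φ w = 0 := by simp [φ, hρE w hwE, hψw']
  have hφy : φ y = 1 := by simp [φ, hρE y hyE, hψy]
  have hSw : S w = μ • w := (hEmem w).1 hwE
  have hSy : S y = μ • y := (hEmem y).1 hyE
  set v := e + w with hvdef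
  have hv : φ v = 1 := by simp [v, hφe, hφw]
  have hSv : S v = e + μ • w := by simp [v, hSe, hSw]
  have h : φ (S v) = 1 := by simp [hSv, hφe, hφw]
  obtain ⟨m, rfl⟩ : ∃ m, n = m + 2 := ⟨n - 2, by omega⟩
  refine twoRegAt_step v φ S h hv hd (by rw [hφe]; exact one_ne_zero) hωw ?_
  have hm := finrank_ker_eq v φ hd hv
  refine hkey (m + 1) (by omega) hm _ (by rw [det_schur v φ S h hv, hdet]) ?_ ?_ _ _ ?_ ?_
  · intro x hx
    obtain ⟨a, ha⟩ := hdec x
    set z := (x : V) - a • e with hz
    have hx' : (x : V) = a • e + z := by rw [hz]; abel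
    have hφx : a + φ z = 0 := by
      have := x.2
      rw [LinearMap.mem_ker, hx', map_add, map_smul, hφe, smul_eq_mul, mul_one] at this
      exact this
    have h1 := congrArg Subtype.val hx
    rw [schur_coe, hx', map_add, map_smul, hSe, (hEmem z).1 ha, map_add, map_smul, map_smul, hφe, hSv,
      smul_eq_mul, smul_eq_mul, mul_one] at h1
    have h2 := heE ((μ - 1) • z - (μ * (a + μ * φ z)) • w)
      (E.sub_mem (E.smul_mem _ ha) (E.smul_mem _ hwE)) (-(a + μ * φ z))
      (by linear_combination (norm := module) h1)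
    have ha0 : a = 0 := by
      have h3 : a * (1 - μ) = 0 := by linear_combination -h2.1 - μ * hφx
      exact (mul_eq_zero.1 h3).resolve_right (sub_ne_zero.2 hμ.symm)
    have hψ0 : φ z = 0 := by rw [ha0, zero_add] at hφx; exact hφx
    have h4 := h2.2
    rw [ha0, hψ0, mul_zero, add_zero, mul_zero, zero_smul, sub_zero, smul_eq_zero] at h4
    exact Subtype.ext (by rw [hx', ha0, h4.resolve_left (sub_ne_zero.2 hμ)]; simp)
  · intro c hc
    have hh : φ (y - e) = 0 := by simp [hφy, hφe]
    have h1 := congrArg Subtype.val (LinearMap.congr_fun hc ⟨y - e, hh⟩)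
    have h2 := congrArg Subtype.val (LinearMap.congr_fun hc ⟨w, hφw⟩)
    simp only [schur_coe, LinearMap.smul_apply, Module.End.one_apply, Submodule.coe_smul, map_sub, map_smul,
      hSw, hSy, hSe, hφw, hφy, hφe, smul_eq_mul, mul_zero, zero_smul, sub_zero, mul_one] at h1 h2
    have hcμ : c = μ := (smul_left_injective K hw0 h2).symm
    rw [hcμ, hSv] at h1
    have h3 := heE ((-(μ - 1) * μ) • w) (E.smul_mem _ hwE) 0
      (by linear_combination (norm := module) h1)
    exact hw0 ((smul_eq_zero.1 h3.2).resolve_left (mul_ne_zero (neg_ne_zero.2 (sub_ne_zero.2 hμ)) (by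
      rintro rfl
      exact hw0 (injective_of_det hdet (by rw [hSw, zero_smul, map_zero])))))
  · intro hc
    have h1 := congrArg Subtype.val hc
    simp only [cVec, hSv, v, ZeroMemClass.coe_zero] at h1
    have h2 : (μ - 1) • w = 0 := by linear_combination (norm := module) h1
    exact hw0 ((smul_eq_zero.1 h2).resolve_left (sub_ne_zero.2 hμ))
  · intro hb
    have hh : φ (y - e) = 0 := by simp [hφy, hφe]
    have := LinearMap.congr_fun hb ⟨y - e, hh⟩
    simp [bDual, hSy, hSe, hφy, hφe, sub_eq_zero, hμ] at this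


section Induction

variable {V : Type v} [AddCommGroup V] [Module K V] [FiniteDimensional K V]

theorem bDual_ne_zero {A : Module.End K V} (hfix : ∀ x, A x = x → x = 0) {v : V} {φ : Module.Dual K V}
    (hv : φ v = 1) (h : φ (A v) = 1) : bDual A φ ≠ 0 := by
  intro hb
  have hsur : Function.Surjective ⇑(A - (1 : Module.End K V)) := LinearMap.injective_iff_surjective.1
    ((injective_iff_map_eq_zero _).2 fun x hx => hfix x (by simpa [sub_eq_zero] using hx))
  have hAφ : ∀ x, φ (A x) = φ x := fun x => by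
    have := LinearMap.congr_fun hb ⟨x - φ x • v, by simp [hv]⟩
    simpa [bDual, h, sub_eq_zero] using this
  have : φ v = 0 := by
    obtain ⟨y, hy⟩ := hsur v
    rw [← hy]
    simp [hAφ]
  rw [hv] at this
  exact one_ne_zero this

theorem cVec_ne_zero {A : Module.End K V} (hfix : ∀ x, A x = x → x = 0) {v : V} {φ : Module.Dual K V}
    (hv : φ v = 1) (h : φ (A v) = 1) : cVec A v φ hv h ≠ 0 := by
  intro hc
  have h1 : A v - v = 0 := congrArg Subtype.val hc
  have := hfix v (sub_eq_zero.1 h1)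
  rw [this, map_zero] at hv
  exact zero_ne_one hv

/-- The block form along an invariant subspace. -/
theorem exists_split (A : Module.End K V) {W C : Submodule K V} (hWC : IsCompl W C) (hW : ∀ x ∈ W, A x ∈ W) :
    ∃ (A₁ : Module.End K W) (E : C →ₗ[K] W) (A₂ : Module.End K C),
      (∀ x, A (Submodule.prodEquivOfIsCompl W C hWC x) =
        Submodule.prodEquivOfIsCompl W C hWC (upper A₁ E A₂ x)) ∧
      (∀ w : W, (A₁ w : V) = A w) ∧ (∀ z : C, A (z : V) = (E z : V) + (A₂ z : V)) ∧
      LinearMap.det A = LinearMap.det A₁ * LinearMap.det A₂ := by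
  set e := Submodule.prodEquivOfIsCompl W C hWC with he
  let f : C →ₗ[K] W × C := (e.symm : V →ₗ[K] _).comp (A.comp C.subtype)
  let A₁ : Module.End K W := LinearMap.restrict A hW
  let E : C →ₗ[K] W := (LinearMap.fst K W C).comp f
  let A₂ : Module.End K C := (LinearMap.snd K W C).comp f
  have hC : ∀ z : C, A (z : V) = (E z : V) + (A₂ z : V) := fun z => by
    have : e (E z, A₂ z) = A (z : V) := by
      show e (e.symm (A (z : V))) = _
      rw [LinearEquiv.apply_symm_apply]
    rw [← this, he, Submodule.coe_prodEquivOfIsCompl']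
  have hA : ∀ x, A (e x) = e (upper A₁ E A₂ x) := by
    rintro ⟨w, z⟩
    rw [he, Submodule.coe_prodEquivOfIsCompl', Submodule.coe_prodEquivOfIsCompl', map_add, hC]
    simp only [upper_apply, Submodule.coe_add]
    rw [show ((A₁ w : W) : V) = A w from rfl]
    abel
  refine ⟨A₁, E, A₂, hA, fun _ => rfl, hC, ?_⟩
  rw [← det_upper A₁ E A₂, ← LinearMap.det_conj (upper A₁ E A₂) e]
  congr 1
  refine LinearMap.ext fun x => ?_
  obtain ⟨y, rfl⟩ := e.surjective x
  simp [hA]

end Induction

/-- The induction. -/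
theorem key {F : Finset K} (hF : F.card = 4) : ∀ n, Key.{uK, v} K n := by
  intro n
  induction n using Nat.strong_induction_on with
  | _ n ih =>
  intro V _ _ _ hd A hdet hfix hns u ω hu hω
  classical
  have hn2 : 2 ≤ n := by
    by_contra hlt
    have hn : n = 0 ∨ n = 1 := by omega
    rcases hn with rfl | rfl
    · have : Subsingleton V := Module.finrank_zero_iff.1 hd
      exact hns 0 (LinearMap.ext fun x => Subsingleton.elim _ _)
    · exact hns 1 (by rw [one_smul]; exact eq_one_of_finrank_one hd hdet)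
  have hAinj := injective_of_det hdet
  have hsur : Function.Surjective ⇑(A - (1 : Module.End K V)) := LinearMap.injective_iff_surjective.1
    ((injective_iff_map_eq_zero _).2 fun x hx => hfix x (by simpa [sub_eq_zero] using hx))
  obtain ⟨m, rfl⟩ : ∃ m, n = m + 2 := ⟨n - 2, by omega⟩
  have hkω : LinearMap.ker ω ≠ ⊤ := fun h => hω (LinearMap.ker_eq_top.1 h)
  set L := (Submodule.span K {u}).comap (A - 1) with hLdef
  have hL : L ≠ ⊤ := fun h => by
    have hle : (⊤ : Submodule K V) ≤ Submodule.span K {u} := fun x _ => by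
      obtain ⟨y, rfl⟩ := hsur x
      have : y ∈ L := h ▸ Submodule.mem_top
      exact this
    have := Submodule.finrank_mono hle
    rw [finrank_top, finrank_span_singleton hu, hd] at this
    omega
  have hvspan : ∀ v : V, (∀ ρ : K, A v ≠ ρ • v) → v ∉ Submodule.span K {A v - v} := fun v hv h => by
    obtain ⟨k, hk⟩ := Submodule.mem_span_singleton.1 h
    have hv0 : v ≠ 0 := fun h0 => hv 0 (by simp [h0])
    have hk0 : k ≠ 0 := fun h0 => hv0 (by rw [← hk, h0, zero_smul])
    refine hv (1 + k⁻¹) ?_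
    have : k⁻¹ • v = A v - v := inv_smul_eq_iff₀ hk0 |>.2 hk.symm
    rw [add_smul, one_smul, this, add_sub_cancel]
  have huspan : ∀ v : V, v ∉ L → u ∉ Submodule.span K {A v - v} := fun v hv h => by
    obtain ⟨k, hk⟩ := Submodule.mem_span_singleton.1 h
    have hk0 : k ≠ 0 := fun h0 => hu (by rw [← hk, h0, zero_smul])
    refine hv (Submodule.mem_span_singleton.2 ⟨k⁻¹, ?_⟩)
    simp [← hk, smul_smul, inv_mul_cancel₀ hk0]
  have hne1 : ∀ x : V, (1 : Module.End K V) x = x := fun _ => rfl
  by_cases hm : m = 0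
  · subst hm
    obtain ⟨v, hvω, hvL, hvA⟩ := exists_not_parallel hF A 1 Function.injective_id
      (fun ρ h => hns ρ (by rw [h])) _ _ hkω hL
    obtain ⟨φ, hφv, hφw, hφu, -, -⟩ := exists_functional hF (hvspan v hvA) (huspan v hvL) (huspan v hvL)
      (0 : Module.Dual K V) (Or.inl rfl)
    have hk := finrank_ker_eq v φ (n := 1) hd hφv
    exact twoRegAt_step v φ A hφw hφv hd hφu hvω (twoRegAt_one_dim hk
      (eq_one_of_finrank_one hk (by rw [det_schur v φ A hφw hφv, hdet])) (cVec_ne_zero hfix hφv hφw)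
      (bDual_ne_zero hfix hφv hφw))
  have hn3 : 3 ≤ finrank K V := by omega
  by_cases hexc : ∃ τ : K, ∀ x, A (A x) + x = τ • A x
  swap
  · -- the generic case
    obtain ⟨v, hvω, hvL, hvA⟩ := exists_not_parallel hF (A * A + 1) A hAinj
      (fun ρ h => hexc ⟨ρ, fun x => LinearMap.congr_fun h x⟩) _ _ hkω hL
    have hv0 : v ≠ 0 := fun h => hvω (by rw [h]; exact zero_mem _)
    have hve : ∀ ρ : K, A v ≠ ρ • v := fun ρ h => by
      have hρ : ρ ≠ 0 := fun h0 => hv0 (hAinj (by rw [h, h0, zero_smul, map_zero]))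
      refine hvA ((ρ * ρ + 1) / ρ) ?_
      rw [LinearMap.add_apply, Module.End.mul_apply, hne1, h, map_smul, h, smul_smul, smul_smul,
        div_mul_cancel₀ _ hρ, add_smul, one_smul]
    obtain ⟨r₀, hr₀⟩ := hsur (A v)
    set r := -r₀ with hrdef
    have hr : r - A r = A v := by
      rw [← hr₀, hrdef, map_neg, LinearMap.sub_apply, hne1]
      abel
    have hr2 : A r + v ∉ Submodule.span K {A v - v} := fun h => by
      obtain ⟨k, hk⟩ := Submodule.mem_span_singleton.1 h
      have h1 := congrArg A hk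
      have h2 := congrArg A hr
      rw [map_smul, map_sub, map_add] at h1
      rw [map_sub] at h2
      have h3 : (1 + k) • (A (A v) + v) = (1 + 2 * k) • A v := by
        linear_combination (norm := module) h1 - hk - h2
      by_cases hk1 : 1 + k = 0
      · rw [hk1, zero_smul, eq_comm, smul_eq_zero] at h3
        rcases h3 with h3 | h3
        · exact one_ne_zero (α := K) (by linear_combination -h3 + 2 * hk1)
        · exact hv0 (hAinj (by rw [h3, map_zero]))
      · refine hvA ((1 + k)⁻¹ * (1 + 2 * k)) ?_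
        rw [LinearMap.add_apply, Module.End.mul_apply, hne1, mul_smul, ← h3, inv_smul_smul₀ hk1]
    let isBad : Module.Dual K V → Prop := fun φ =>
      φ v = 1 ∧ ∃ (h : φ (A v) = 1), ∃ s : K, schur A v φ h = s • 1
    let φ₀ : Module.Dual K V := if h : ∃ φ, isBad φ then h.choose else 0
    obtain ⟨φ, hφv, hφw, hφu, hφr, hφ₀⟩ := exists_functional hF (hvspan v hve) (huspan v hvL) hr2 φ₀
      (Or.inr hn3)
    have hk := finrank_ker_eq v φ (n := m + 1) hd hφv
    refine twoRegAt_step v φ A hφw hφv hd hφu hvω ?_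
    refine ih (m + 1) (by omega) hk _ (by rw [det_schur v φ A hφw hφv, hdet]) ?_ ?_ _ _
      (cVec_ne_zero hfix hφv hφw) (bDual_ne_zero hfix hφv hφw)
    · exact schur_fixed_eq_zero v φ A hφw r hr hfix (by rwa [map_add, hφv] at hφr)
    · intro s hs
      have hbad : ∃ φ, isBad φ := ⟨φ, hφv, hφw, s, hs⟩
      obtain ⟨h0v, h0w, s₀, hs₀⟩ := hbad.choose_spec
      exact hφ₀ ((schur_scalar_unique hAinj hn3 hve hφv h0v hφw h0w hs hs₀).trans
        (by simp only [φ₀, dif_pos hbad]))
  -- `A ^ 2 - τ A + 1 = 0`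
  obtain ⟨τ, hτ⟩ := hexc
  set B : Submodule K V := if h : ∃ c : K, A u = c • u then
    (Submodule.span K {u}).comap (A - (τ - h.choose) • 1) else Submodule.span K {u, A u} with hBdef
  set B' : Submodule K V := if B = ⊤ then L else B with hB'def
  have hB' : B' ≠ ⊤ := by
    rw [hB'def]; split_ifs with h
    · exact hL
    · exact h
  obtain ⟨v, hvω, hvB, hve⟩ := exists_not_parallel hF A 1 Function.injective_id
    (fun ρ h => hns ρ (by rw [h])) _ _ hkω hB'
  simp only [hne1] at hve
  have hv0 : v ≠ 0 := fun h => hvω (by rw [h]; exact zero_mem _)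
  have hind : LinearIndependent K ![v, A v] :=
    (LinearIndependent.pair_iff' hv0).2 fun a => (hve a).symm
  set W := Submodule.span K ({v, A v} : Set V) with hWdef
  have hW2 : finrank K W = 2 := by
    rw [hWdef, ← Matrix.range_cons_cons_empty v (A v) ![], finrank_span_eq_card hind]
    rfl
  have hvW : v ∈ W := Submodule.subset_span (by simp)
  have hAvW : A v ∈ W := Submodule.subset_span (by simp)
  have hWinv : ∀ x ∈ W, A x ∈ W := fun x hx => by
    obtain ⟨a, b, rfl⟩ := Submodule.mem_span_pair.1 hx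
    have : A (A v) = τ • A v - v := eq_sub_of_add_eq (hτ v)
    rw [map_add, map_smul, map_smul, this]
    exact W.add_mem (W.smul_mem _ hAvW) (W.smul_mem _ (W.sub_mem (W.smul_mem _ hAvW) hvW))
  -- `u ∈ W` forces `B = ⊤`, when the quotient is scalar
  have huW : u ∈ W → B = ⊤ ∧ ∃ μ : K, ∀ x, A x - μ • x ∈ W := fun huW => by
    by_cases he : ∃ c : K, A u = c • u
    · have hBeq : B = (Submodule.span K {u}).comap (A - (τ - he.choose) • 1) := by
        rw [hBdef, dif_pos he]
      obtain ⟨a, b, hab⟩ := Submodule.mem_span_pair.1 huW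
      set c := he.choose
      have hc : A u = c • u := he.choose_spec
      have h1 : (a + b * τ - c * b) • A v = (b + c * a) • v := by
        rw [← hab, map_add, map_smul, map_smul] at hc
        linear_combination (norm := module) hc - b • hτ v
      have h2 : a + b * τ - c * b = 0 := by
        by_contra h
        exact hve ((a + b * τ - c * b)⁻¹ * (b + c * a)) (by rw [mul_smul, ← h1, inv_smul_smul₀ h])
      have hb : b ≠ 0 := fun hb0 => hu (by
        rw [hb0] at h2
        simp only [zero_mul, add_zero, mul_zero, sub_zero] at h2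
        rw [← hab, hb0, h2]; simp)
      have hvB0 : v ∈ B := by
        rw [hBeq, Submodule.mem_comap]
        refine Submodule.mem_span_singleton.2 ⟨b⁻¹, ?_⟩
        have hu' : b⁻¹ • u = A v - (τ - c) • v := by
          rw [inv_smul_eq_iff₀ hb, ← hab, show a = -(b * (τ - c)) by linear_combination h2]
          module
        simpa using hu'
      have hBtop : B = ⊤ := by
        by_contra h
        exact hvB (by rw [hB'def, if_neg h]; exact hvB0)
      refine ⟨hBtop, τ - c, fun x => ?_⟩
      have : x ∈ B := hBtop ▸ Submodule.mem_top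
      rw [hBeq, Submodule.mem_comap] at this
      exact (Submodule.span_singleton_le_iff_mem u W).2 huW (by simpa using this)
    · have hBeq : B = Submodule.span K {u, A u} := by rw [hBdef, dif_neg he]
      push Not at he
      have hi : LinearIndependent K ![u, A u] := (LinearIndependent.pair_iff' hu).2 fun a => (he a).symm
      have h2 : finrank K ↥(Submodule.span K ({u, A u} : Set V)) = 2 := by
        rw [← Matrix.range_cons_cons_empty u (A u) ![], finrank_span_eq_card hi]
        rfl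
      have hle : Submodule.span K ({u, A u} : Set V) ≤ W :=
        Submodule.span_le.2 (Set.insert_subset huW (Set.singleton_subset_iff.2 (hWinv u huW)))
      have heq := Submodule.eq_of_le_of_finrank_le hle (by rw [h2, hW2])
      have hvB0 : v ∈ B := by rw [hBeq, heq]; exact hvW
      exfalso
      by_cases hBtop : B = ⊤
      · rw [hBeq] at hBtop
        rw [hBtop, finrank_top] at h2
        omega
      · exact hvB (by rw [hB'def, if_neg hBtop]; exact hvB0)
  obtain ⟨C, hWC⟩ := Submodule.exists_isCompl W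
  obtain ⟨A₁, E, A₂, hA, hA₁, hA₂, hdetA⟩ := exists_split A hWC hWinv
  set e := Submodule.prodEquivOfIsCompl W C hWC
  have hCd : finrank K C = m := by
    have := Submodule.finrank_add_eq_of_isCompl hWC
    rw [hW2, hd] at this
    omega
  have hτ2 : τ ≠ 2 := fun h2 => by
    have h3 : A (A v - v) = A v - v := by
      rw [map_sub]
      have h4 := hτ v
      rw [h2, two_smul] at h4
      linear_combination (norm := module) h4
    exact hve 1 (by rw [one_smul]; exact sub_eq_zero.1 (hfix _ h3))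
  have hA₂rel : ∀ z : C, A₂ (A₂ z) + z = τ • A₂ z := fun z => by
    have h1 := hτ (z : V)
    have h2 : (z : V) = e (0, z) := by simp [e]
    rw [h2, hA, hA, ← map_add, ← map_smul] at h1
    simpa using congrArg Prod.snd (e.injective h1)
  have hA₁fix : ∀ w : W, A₁ w = w → w = 0 := fun w hw => Subtype.ext (hfix _ (by rw [← hA₁, hw]))
  have hA₂fix : ∀ z : C, A₂ z = z → z = 0 := fun z hz => by
    have h := hA₂rel z
    rw [hz, hz] at h
    have h4 : ((2 : K) - τ) • z = 0 := by linear_combination (norm := module) h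
    exact (smul_eq_zero.1 h4).resolve_left (sub_ne_zero.2 hτ2.symm)
  have hdet₁ : LinearMap.det A₁ = 1 := by
    obtain ⟨τ', hτ'⟩ := exists_quadratic_two A₁ hW2
    have h1 := congrArg Subtype.val (hτ' ⟨v, hvW⟩)
    simp only [Submodule.coe_add, Submodule.coe_smul, hA₁] at h1
    have h2 : (τ - τ') • A v = (1 - LinearMap.det A₁) • v := by
      linear_combination (norm := module) h1 - hτ v
    by_cases h3 : τ - τ' = 0
    · rw [h3, zero_smul, eq_comm, smul_eq_zero] at h2
      exact (sub_eq_zero.1 (h2.resolve_right hv0)).symm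
    · exact absurd (by rw [mul_smul, ← h2, inv_smul_smul₀ h3] :
        A v = ((τ - τ')⁻¹ * (1 - LinearMap.det A₁)) • v) (hve _)
  have hdet₂ : LinearMap.det A₂ = 1 := by rwa [hdetA, hdet₁, one_mul] at hdet
  by_cases hsc : ∃ μ : K, A₂ = μ • 1
  swap
  · -- glue
    push Not at hsc
    have huC : (e.symm u).2 ≠ 0 := fun h => by
      have huW' : u ∈ W := by
        rw [← e.apply_symm_apply u]
        simp only [e, Submodule.coe_prodEquivOfIsCompl', h, ZeroMemClass.coe_zero, add_zero]
        exact Submodule.coe_mem _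
      obtain ⟨-, μ, hμ⟩ := huW huW'
      refine hsc μ (LinearMap.ext fun z => ?_)
      have h1 : e.symm (A (z : V) - μ • (z : V)) = ((E z, A₂ z - μ • z) : W × C) := by
        rw [LinearEquiv.symm_apply_eq]
        simp only [e, Submodule.coe_prodEquivOfIsCompl', hA₂ z, Submodule.coe_sub, Submodule.coe_smul]
        abel
      have h2 := (Submodule.prodEquivOfIsCompl_symm_apply_snd_eq_zero W C hWC).2 (hμ (z : V))
      rw [h1] at h2
      simpa [sub_eq_zero] using h2
    obtain ⟨η, hη⟩ : ∃ η : Module.Dual K C, η ≠ 0 := by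
      obtain ⟨η, hη, -⟩ := Submodule.exists_dual_map_eq_bot_of_notMem (p := (⊥ : Submodule K C))
        (show (e.symm u).2 ∉ (⊥ : Submodule K C) by simpa using huC) inferInstance
      exact ⟨η, fun h => hη (by rw [h]; rfl)⟩
    refine TwoRegAt.congr e hA (u := e.symm u) (by simp) (ω := ω.comp (e : _ →ₗ[K] V)) (fun _ => rfl)
      (twoRegAt_upper hF E (by omega) (by omega) (a := ⟨v, hvW⟩) ?_ (η := η) ?_)
    · refine ih 2 (by omega) hW2 A₁ hdet₁ hA₁fix (fun c h => hve c ?_) _ _
        (fun h => hv0 (congrArg Subtype.val h)) (fun h => hvω ?_)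
      · have := congrArg Subtype.val (LinearMap.congr_fun h ⟨v, hvW⟩)
        simpa [hA₁] using this
      · have := LinearMap.congr_fun h ⟨v, hvW⟩
        simpa [e] using this
    · exact ih m (by omega) hCd A₂ hdet₂ hA₂fix hsc _ _ huC hη
  -- scalar quotient
  obtain ⟨μ, hμ⟩ := hsc
  have hu' : u ∉ Submodule.span K {A v - v} := by
    by_cases hBtop : B = ⊤
    · exact huspan v (by rwa [hB'def, if_pos hBtop] at hvB)
    · exact fun h => hBtop (huW ((Submodule.span_singleton_le_iff_mem _ W).2 (W.sub_mem hAvW hvW) h)).1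
  obtain ⟨φ, hφv, hφw, hφu, -, -⟩ := exists_functional hF (hvspan v hve) hu' hu' (0 : Module.Dual K V)
    (Or.inl rfl)
  have hk := finrank_ker_eq v φ (n := m + 1) hd hφv
  refine twoRegAt_step v φ A hφw hφv hd hφu hvω ?_
  set c := cVec A v φ hφv hφw with hc
  have hSc : schur A v φ hφw c = c := by
    apply Subtype.ext
    have h1 : A (A v) = τ • A v - v := eq_sub_of_add_eq (hτ v)
    simp only [schur_coe, hc, cVec, map_sub, h1, map_smul, hφv, hφw, smul_eq_mul, mul_one]
    module
  have hμ1 : μ ≠ 1 := fun h => by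
    obtain ⟨z, hz⟩ : ∃ z : C, z ≠ 0 := by
      by_contra h'
      push Not at h'
      have : Subsingleton C := ⟨fun a b => (h' a).trans (h' b).symm⟩
      rw [Module.finrank_zero_of_subsingleton] at hCd
      exact hm hCd.symm
    exact hz (hA₂fix z (by rw [hμ, h]; simp))
  have hAW : ∀ x : V, A x - μ • x ∈ W := fun x => by
    obtain ⟨⟨w, z⟩, rfl⟩ := e.surjective x
    rw [hA, ← map_smul, ← map_sub, hμ]
    simp [e, Submodule.coe_prodEquivOfIsCompl']
    exact Submodule.sub_mem _ (Submodule.add_mem _ (Submodule.coe_mem _) (Submodule.coe_mem _))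
      (Submodule.smul_mem _ _ (Submodule.coe_mem _))
  refine twoRegAt_fixedScalar hF (n := m + 1) (fun k hk' => ih k (by omega)) hk _
    (by rw [det_schur v φ A hφw hφv, hdet]) (cVec_ne_zero hfix hφv hφw) hSc hμ1 (fun x => ?_) (by omega)
    (bDual_ne_zero hfix hφv hφw)
  have hmem : ((schur A v φ hφw x - μ • x : ↥(LinearMap.ker φ)) : V) ∈ W := by
    rw [Submodule.coe_sub, Submodule.coe_smul, schur_coe, sub_right_comm]
    exact W.sub_mem (hAW _) (W.smul_mem _ hAvW)
  obtain ⟨a, b, hab⟩ := Submodule.mem_span_pair.1 hmem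
  have hab0 : a + b = 0 := by
    have := (schur A v φ hφw x - μ • x).2
    rw [LinearMap.mem_ker, ← hab] at this
    simpa [hφv, hφw] using this
  refine Submodule.mem_span_singleton.2 ⟨b, Subtype.ext ?_⟩
  rw [Submodule.coe_smul, ← hab, show a = -b by linear_combination hab0]
  simp only [cVec]
  module

/-- **The theorem.** -/
theorem exists_twoRegAt {F : Finset K} (hF : F.card = 4) :
    ∀ (n : ℕ) {V : Type v} [AddCommGroup V] [Module K V] [FiniteDimensional K V], finrank K V = n → 1 ≤ n →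
      ∀ A : Module.End K V, LinearMap.det A = 1 → ((∀ c : K, A ≠ c • 1) ∨ A = 1) →
        ∃ u ω, TwoRegAt A u ω := by
  intro n
  induction n using Nat.strong_induction_on with
  | _ n ih =>
  intro V _ _ _ hd hn A hdet hA
  obtain ⟨v₀, hv₀⟩ : ∃ v : V, v ≠ 0 := by
    have : Nontrivial V := Module.nontrivial_of_finrank_pos (R := K) (by omega)
    exact exists_ne 0
  obtain ⟨ω₀, hω₀, -⟩ := Submodule.exists_dual_map_eq_bot_of_notMem (p := (⊥ : Submodule K V))
    (show v₀ ∉ (⊥ : Submodule K V) by simpa using hv₀) inferInstance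
  have hω₀' : ω₀ ≠ 0 := fun h => hω₀ (by rw [h]; rfl)
  rcases eq_or_lt_of_le hn with rfl | hn2
  · exact ⟨v₀, ω₀, twoRegAt_one_dim hd (eq_one_of_finrank_one hd hdet) hv₀ hω₀'⟩
  by_cases hfix : ∀ x, A x = x → x = 0
  · refine ⟨v₀, ω₀, key hF n hd A hdet hfix (hA.resolve_right fun h => hv₀ (hfix v₀ (by rw [h]; rfl))) _ _
      hv₀ hω₀'⟩
  push Not at hfix
  obtain ⟨e₀, he₀, he₀0⟩ := hfix
  set W := Submodule.span K ({e₀} : Set V)
  have hWinv : ∀ x ∈ W, A x ∈ W := fun x hx => by
    obtain ⟨a, rfl⟩ := Submodule.mem_span_singleton.1 hx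
    rw [map_smul, he₀]
    exact W.smul_mem _ (Submodule.mem_span_singleton_self _)
  obtain ⟨C, hWC⟩ := Submodule.exists_isCompl W
  obtain ⟨A₁, E, A₂, hAe, hA₁, hA₂, hdetA⟩ := exists_split A hWC hWinv
  set e := Submodule.prodEquivOfIsCompl W C hWC
  have hW1 : finrank K W = 1 := finrank_span_singleton he₀0
  have hCd : finrank K C = n - 1 := by
    have := Submodule.finrank_add_eq_of_isCompl hWC
    rw [hW1, hd] at this
    omega
  have hA₁one : A₁ = 1 := LinearMap.ext fun w => Subtype.ext (by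
    obtain ⟨a, ha⟩ := Submodule.mem_span_singleton.1 w.2
    rw [hA₁, ← ha, map_smul, he₀]
    exact ha)
  have hdet₂ : LinearMap.det A₂ = 1 := by rwa [hdetA, hA₁one, map_one, one_mul] at hdet
  by_cases hsc : ∃ μ : K, μ ≠ 1 ∧ A₂ = μ • 1
  · obtain ⟨μ, hμ1, hμ⟩ := hsc
    refine ⟨e₀, ω₀, twoRegAt_fixedScalar hF (fun m _ => key hF m) hd A hdet he₀0 he₀ hμ1 (fun x => ?_) hn2 hω₀'⟩
    obtain ⟨⟨w, z⟩, rfl⟩ := e.surjective x
    rw [hAe, ← map_smul, ← map_sub, hμ]
    simp [e, Submodule.coe_prodEquivOfIsCompl']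
    exact Submodule.sub_mem _ (Submodule.add_mem _ (Submodule.coe_mem _) (Submodule.coe_mem _))
      (Submodule.smul_mem _ _ (Submodule.coe_mem _))
  push Not at hsc
  have hA₂' : (∀ c : K, A₂ ≠ c • 1) ∨ A₂ = 1 := by
    by_cases h1 : A₂ = 1
    · exact Or.inr h1
    · refine Or.inl fun c hc => h1 ?_
      by_cases hc1 : c = 1
      · rw [hc, hc1, one_smul]
      · exact absurd hc (hsc c hc1)
  obtain ⟨u₂, η, h₂⟩ := ih (n - 1) (by omega) hCd (by omega) A₂ hdet₂ hA₂'
  obtain ⟨ω₁, hω₁, -⟩ := Submodule.exists_dual_map_eq_bot_of_notMem (p := (⊥ : Submodule K W))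
    (show (⟨e₀, Submodule.mem_span_singleton_self e₀⟩ : W) ∉ (⊥ : Submodule K W) by simpa using he₀0) inferInstance
  refine ⟨e (0, u₂), (ω₁.comp (LinearMap.fst K W C)).comp (e.symm : V →ₗ[K] _),
    TwoRegAt.congr e hAe rfl (ω := ω₁.comp (LinearMap.fst K W C)) (fun x => by simp)
      (twoRegAt_upper hF E (by omega) (by omega) (a := ⟨e₀, Submodule.mem_span_singleton_self e₀⟩) ?_ h₂)⟩
  refine twoRegAt_one_dim hW1 hA₁one (fun h => he₀0 (congrArg Subtype.val h)) fun h => hω₁ ?_
  have := LinearMap.congr_fun h ⟨e₀, Submodule.mem_span_singleton_self e₀⟩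
  simpa using this

end Cfsg.Agent.GL.TwoReg
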