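import Mathlib

/-!
Arithmetic for the largest element order of `PGU_d(q)`: the numbers `q ^ w - (-1) ^ w`.
-/

set_option autoImplicit false

namespace Cfsg.Agent.GL.UnitaryMax

open Finset

/-- `q ^ w - (-1) ^ w`. -/
def umax (q w : ℕ) : ℕ := if Even w then q ^ w - 1 else q ^ w + 1

theorem umax_even {q w : ℕ} (h : Even w) : umax q w = q ^ w - 1 := if_pos h

theorem umax_odd {q w : ℕ} (h : Odd w) : umax q w = q ^ w + 1 := if_neg (Nat.not_even_iff_odd.2 h)

theorem umax_le (q w : ℕ) : umax q w ≤ q ^ w + 1 := by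
  unfold umax; split_ifs <;> omega

theorem le_umax (q w : ℕ) : q ^ w - 1 ≤ umax q w := by
  unfold umax; split_ifs <;> omega

theorem umax_zero (q : ℕ) : umax q 0 = 0 := by simp [umax]

theorem umax_pos {q w : ℕ} (hq : 2 ≤ q) (hw : 0 < w) : 0 < umax q w := by
  have h1 := le_umax q w
  have h2 : 2 ≤ q ^ w := hq.trans (Nat.le_self_pow hw.ne' q)
  omega

theorem succ_dvd_umax (q w : ℕ) : q + 1 ∣ umax q w := by
  rcases Nat.even_or_odd w with hw | hw
  · obtain ⟨k, rfl⟩ := hw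
    rw [umax_even ⟨k, rfl⟩, ← two_mul, pow_mul]
    refine dvd_trans ?_ (Nat.sub_one_dvd_pow_sub_one (q ^ 2) k)
    have e : q ^ 2 - 1 = (q + 1) * (q - 1) := by rw [← Nat.sq_sub_sq, one_pow]
    rw [e]
    exact dvd_mul_right _ _
  · rw [umax_odd hw]
    simpa using hw.nat_add_dvd_pow_add_pow q 1

theorem umax_le_succ {q : ℕ} (hq : 2 ≤ q) (w : ℕ) : umax q w ≤ umax q (w + 1) := by
  rcases Nat.eq_zero_or_pos w with rfl | hw
  · simp [umax_zero]
  · refine (umax_le q w).trans ((le_umax q (w + 1)).trans' ?_)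
    rw [pow_succ]
    have h2 : 2 ≤ q ^ w := hq.trans (Nat.le_self_pow hw.ne' q)
    have h3 : q ^ w * 2 ≤ q ^ w * q := Nat.mul_le_mul_left _ hq
    omega

theorem umax_mono {q : ℕ} (hq : 2 ≤ q) : Monotone (umax q) := monotone_nat_of_le_succ (umax_le_succ hq)

theorem umax_mul_le {q a b : ℕ} (hq : 2 ≤ q) (ha : 1 ≤ a) (hb : 1 ≤ b) :
    umax q a * umax q b ≤ (q + 1) * umax q (a + b - 1) := by
  have hXY : q * q ^ (a + b - 1) = q ^ a * q ^ b := by
    rw [← pow_succ', ← pow_add]; congr 1; omega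
  have hq1 : 1 ≤ q := by omega
  have hca : q ^ a ≤ q ^ (a + b - 1) := Nat.pow_le_pow_right hq1 (by omega)
  have hcb : q ^ b ≤ q ^ (a + b - 1) := Nat.pow_le_pow_right hq1 (by omega)
  have hqa : q ≤ q ^ a := Nat.le_self_pow (by omega) q
  have hqb : q ≤ q ^ b := Nat.le_self_pow (by omega) q
  have hsum : q ^ a + q ^ b ≤ q ^ (a + b - 1) + q := by
    rcases Nat.eq_or_lt_of_le ha with rfl | ha2
    · rw [show 1 + b - 1 = b by omega, pow_one]; omega
    rcases Nat.eq_or_lt_of_le hb with rfl | hb2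
    · rw [show a + 1 - 1 = a by omega, pow_one]
    have h1 : q ^ a * 2 ≤ q ^ (a + b - 1) := by
      refine le_trans ?_ (Nat.pow_le_pow_right hq1 (show a + 1 ≤ a + b - 1 by omega))
      rw [pow_succ]; exact Nat.mul_le_mul_left _ hq
    have h2 : q ^ b * 2 ≤ q ^ (a + b - 1) := by
      refine le_trans ?_ (Nat.pow_le_pow_right hq1 (show b + 1 ≤ a + b - 1 by omega))
      rw [pow_succ]; exact Nat.mul_le_mul_left _ hq
    omega
  obtain ⟨x, hx⟩ : ∃ x, q ^ a = x + 1 := ⟨q ^ a - 1, by omega⟩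
  obtain ⟨y, hy⟩ : ∃ y, q ^ b = y + 1 := ⟨q ^ b - 1, by omega⟩
  obtain ⟨z, hz⟩ : ∃ z, q ^ (a + b - 1) = z + 1 := ⟨q ^ (a + b - 1) - 1, by omega⟩
  rcases Nat.even_or_odd a with hea | hoa <;> rcases Nat.even_or_odd b with heb | hob
  · have : Odd (a + b - 1) := by
      obtain ⟨k, rfl⟩ := hea; obtain ⟨l, rfl⟩ := heb; exact ⟨k + l - 1, by omega⟩
    rw [umax_even hea, umax_even heb, umax_odd this, hx, hy, hz, Nat.add_sub_cancel, Nat.add_sub_cancel]
    rw [hx, hy, hz] at hXY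
    nlinarith
  · have : Even (a + b - 1) := by
      obtain ⟨k, rfl⟩ := hea; obtain ⟨l, rfl⟩ := hob; exact ⟨k + l, by omega⟩
    rw [umax_even hea, umax_odd hob, umax_even this, hx, hy, hz, Nat.add_sub_cancel, Nat.add_sub_cancel]
    rw [hx, hy, hz] at hXY
    nlinarith
  · have : Even (a + b - 1) := by
      obtain ⟨k, rfl⟩ := hoa; obtain ⟨l, rfl⟩ := heb; exact ⟨k + l, by omega⟩
    rw [umax_odd hoa, umax_even heb, umax_even this, hx, hy, hz, Nat.add_sub_cancel, Nat.add_sub_cancel]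
    rw [hx, hy, hz] at hXY
    nlinarith
  · have : Odd (a + b - 1) := by
      obtain ⟨k, rfl⟩ := hoa; obtain ⟨l, rfl⟩ := hob; exact ⟨k + l, by omega⟩
    rw [umax_odd hoa, umax_odd hob, umax_odd this, hx, hy, hz]
    rw [hx, hy, hz] at hXY hsum
    nlinarith

theorem lcm_umax_le {ι : Type*} [DecidableEq ι] {q : ℕ} (hq : 2 ≤ q) (T : Finset ι) (w : ι → ℕ)
    (hw : ∀ i ∈ T, 0 < w i) (hT : T.Nonempty) :
    ∃ u, 1 ≤ u ∧ u + T.card ≤ ∑ i ∈ T, w i + 1 ∧ q + 1 ∣ T.lcm (fun i => umax q (w i)) ∧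
      (T.lcm fun i => umax q (w i)) ≤ umax q u := by
  induction hT using Finset.Nonempty.cons_induction with
  | singleton i =>
    refine ⟨w i, hw i (mem_singleton_self i), by simp, ?_, ?_⟩
    · rw [Finset.lcm_singleton, normalize_eq]; exact succ_dvd_umax q _
    · rw [Finset.lcm_singleton, normalize_eq]
  | cons i T hi hT ih =>
    obtain ⟨u, hu, hcard, hdvd, hle⟩ := ih fun j hj => hw j (Finset.mem_cons_of_mem hj)
    have hwi : 1 ≤ w i := hw i (Finset.mem_cons_self i T)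
    rw [Finset.cons_eq_insert]
    rw [Finset.lcm_insert, Finset.sum_insert hi, Finset.card_insert_of_notMem hi]
    refine ⟨w i + u - 1, by omega, by omega, (succ_dvd_umax q _).trans (dvd_lcm_left _ _), ?_⟩
    set M := T.lcm fun i => umax q (w i)
    refine le_of_mul_le_mul_left (a := q + 1) ?_ (Nat.succ_pos q)
    refine le_trans ?_ (umax_mul_le hq hwi hu)
    refine le_trans ?_ (Nat.mul_le_mul_left _ hle)
    rw [← Nat.gcd_mul_lcm (umax q (w i)) M]
    exact Nat.mul_le_mul_right _ (Nat.le_of_dvd (Nat.gcd_pos_of_pos_left _ (umax_pos hq hwi))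
      (Nat.dvd_gcd (succ_dvd_umax q _) hdvd))

theorem umax_div_le {q w : ℕ} (hq : 2 ≤ q) (hw : 2 ≤ w) : umax q w / (q + 1) ≤ umax q (w - 1) := by
  refine Nat.div_le_of_le_mul ?_
  rcases Nat.eq_or_lt_of_le hw with rfl | h3
  · rw [umax_even even_two, umax_odd (by decide : Odd (2 - 1))]
    have e : (q + 1) * (q ^ (2 - 1) + 1) = q ^ 2 + 2 * q + 1 := by
      rw [show (2 - 1 : ℕ) = 1 from rfl, pow_one]; ring
    rw [e]; omega
  · refine (umax_le q w).trans (le_trans ?_ (Nat.mul_le_mul_left _ (le_umax q (w - 1))))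
    obtain ⟨k, rfl⟩ : ∃ k, w = k + 3 := ⟨w - 3, by omega⟩
    rw [show k + 3 - 1 = k + 2 by omega, pow_succ']
    have h4 : 4 ≤ q ^ (k + 2) := by
      calc 4 = 2 ^ 2 := rfl
        _ ≤ q ^ 2 := Nat.pow_le_pow_left hq 2
        _ ≤ q ^ (k + 2) := Nat.pow_le_pow_right (by omega) (by omega)
    have h5 : q * 2 ≤ q ^ (k + 2) := by
      calc q * 2 ≤ q * q := Nat.mul_le_mul_left _ hq
        _ = q ^ 2 := (sq q).symm
        _ ≤ q ^ (k + 2) := Nat.pow_le_pow_right (by omega) (by omega)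
    obtain ⟨z, hz⟩ : ∃ z, q ^ (k + 2) = z + 1 := ⟨q ^ (k + 2) - 1, by omega⟩
    rw [hz, Nat.add_sub_cancel]
    rw [hz] at h4 h5
    nlinarith

/-- The bound on `lcm` part times the `p`-part, in the four cases. -/
theorem final_bound {p f q d ν L : ℕ} (hp : p.Prime) (hf : 1 ≤ f) (hq : q = p ^ f) (hd : 3 ≤ d)
    (h32 : ¬ (d = 3 ∧ q = 2)) (hν : 1 ≤ ν) (hνd : ν ≤ d) (hL : L ≤ max 1 (umax q (d - ν))) :
    (Odd d → 2 ≤ f → L * p ^ Nat.clog p ν ≤ q ^ (d - 1) - 1) ∧
    (Odd d → f = 1 → L * p ^ Nat.clog p ν ≤ (p ^ (d - 2) + 1) * p) ∧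
    (Even d → 2 < q → L * p ^ Nat.clog p ν ≤ q ^ (d - 1) + 1) ∧
    (Even d → q = 2 → L * p ^ Nat.clog p ν ≤ 4 * (2 ^ (d - 3) + 1)) := by
  have hp2 := hp.two_le
  have hpq : p ≤ q := hq ▸ Nat.le_self_pow (by omega) p
  have hq2 : 2 ≤ q := le_trans hp2 hpq
  have hf2 : 2 ≤ f → p * 2 ≤ q := by
    intro h
    rw [hq]
    refine le_trans ?_ (Nat.pow_le_pow_right (by omega) h)
    rw [sq]; exact Nat.mul_le_mul_left _ hp2
  have hf1 : f = 1 → p = q := by rintro rfl; rw [hq, pow_one]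
  have h2q : q = 2 → p = 2 := fun h => by omega
  obtain ⟨k, rfl⟩ : ∃ k, d = k + 3 := ⟨d - 3, by omega⟩
  simp only [show k + 3 - 1 = k + 2 by omega, show k + 3 - 2 = k + 1 by omega, Nat.add_sub_cancel]
  have e1 : q ^ (k + 1) = q ^ k * q := pow_succ q k
  have e2 : q ^ (k + 2) = q ^ (k + 1) * q := pow_succ q (k + 1)
  have hk1 : 1 ≤ q ^ k := Nat.one_le_pow _ _ (by omega)
  have hk2 : q ≤ q ^ (k + 1) := Nat.le_self_pow (by omega) q
  have hk3 : q * q ≤ q ^ (k + 2) := by rw [e2]; exact Nat.mul_le_mul_right _ hk2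
  have hodd : Odd (k + 3) → Even k ∧ Odd (k + 1) ∧ Even (k + 2) := fun h => by
    obtain ⟨t, ht⟩ := h
    exact ⟨⟨t - 1, by omega⟩, ⟨t - 1, by omega⟩, ⟨t, by omega⟩⟩
  have heven : Even (k + 3) → Odd k ∧ Even (k + 1) ∧ Odd (k + 2) := fun h => by
    obtain ⟨t, ht⟩ := h
    exact ⟨⟨t - 2, by omega⟩, ⟨t - 1, by omega⟩, ⟨t - 1, by omega⟩⟩
  rcases (by omega : ν = 1 ∨ ν = 2 ∨ ν = 3 ∨ 4 ≤ ν) with rfl | rfl | rfl | h4
  · rw [Nat.clog_one_right, pow_zero, mul_one]
    rw [show k + 3 - 1 = k + 2 by omega, max_eq_right (umax_pos hq2 (by omega))] at hL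
    refine ⟨fun h _ => ?_, fun h h1 => ?_, fun h _ => ?_, fun h h2 => ?_⟩
    · rwa [umax_even (hodd h).2.2] at hL
    · rw [umax_even (hodd h).2.2, ← hf1 h1] at hL
      refine hL.trans ?_
      rw [add_mul, one_mul, ← pow_succ]
      exact (Nat.sub_le _ _).trans (Nat.le_add_right _ _)
    · rwa [umax_odd (heven h).2.2] at hL
    · subst h2
      rw [umax_odd (heven h).2.2] at hL
      refine hL.trans ?_
      rw [pow_succ 2 (k + 1), pow_succ 2 k]; omega
  · rw [show Nat.clog p 2 = 1 from le_antisymm ((Nat.clog_le_iff_le_pow hp.one_lt).2 (by simpa using hp2))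
      (Nat.clog_pos hp.one_lt (by norm_num)), pow_one]
    rw [show k + 3 - 2 = k + 1 by omega, max_eq_right (umax_pos hq2 (by omega))] at hL
    refine ⟨fun h h1 => ?_, fun h h1 => ?_, fun h _ => ?_, fun h h2 => ?_⟩
    · rw [umax_odd (hodd h).2.1] at hL
      have hp' := hf2 h1
      have := Nat.mul_le_mul hL (le_refl p)
      have h3 : 2 * ((q ^ (k + 1) + 1) * p) ≤ (q ^ (k + 1) + 1) * q := by
        rw [mul_comm 2, mul_assoc]; exact Nat.mul_le_mul_left _ hp'
      rw [add_mul _ _ q, one_mul, ← e2] at h3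
      have h6 : q * 2 ≤ q ^ (k + 2) := le_trans (Nat.mul_le_mul_left _ hq2) hk3
      omega
    · rw [umax_odd (hodd h).2.1, ← hf1 h1] at hL
      exact Nat.mul_le_mul_right _ hL
    · refine le_trans (Nat.mul_le_mul hL hpq) ?_
      rw [umax_even (heven h).2.1, Nat.sub_mul, ← e2]; omega
    · subst h2
      rw [h2q rfl]
      refine le_trans (Nat.mul_le_mul_right _ hL) ?_
      rw [umax_even (heven h).2.1, pow_succ 2 k]; omega
  · rw [Nat.add_sub_cancel] at hL
    have hL' : L ≤ q ^ k + 1 := hL.trans (max_le (Nat.succ_pos _) (umax_le q k))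
    have hpe : p ^ Nat.clog p 3 ≤ if p = 2 then 4 else p := by
      split_ifs with h
      · subst h; decide
      · calc p ^ Nat.clog p 3 ≤ p ^ 1 := Nat.pow_le_pow_right hp.pos
              ((Nat.clog_le_iff_le_pow hp.one_lt).2 (by rw [pow_one]; omega))
          _ = p := pow_one p
    by_cases hp' : p = 2
    · rw [if_pos hp'] at hpe
      rcases eq_or_ne q 2 with h2 | h2
      · subst h2
        have hf' : f = 1 := by
          subst hp'
          exact (Nat.pow_right_injective le_rfl (by simpa using hq.symm)) 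
        refine ⟨fun _ h => absurd h (by omega), fun h _ => ?_, fun _ h => absurd h (lt_irrefl _),
          fun _ _ => ?_⟩
        · subst hp'
          refine le_trans (Nat.mul_le_mul hL hpe) ?_
          rw [umax_even (hodd h).1, pow_succ 2 k]
          have hk0 : k ≠ 0 := fun h0 => h32 ⟨by omega, rfl⟩
          have : 2 ≤ 2 ^ k := Nat.le_self_pow hk0 2
          rw [max_eq_right (by omega)]; omega
        · rw [hp'] at hpe ⊢
          refine le_trans (Nat.mul_le_mul hL' hpe) ?_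
          rw [mul_comm]
      · have hq4 : 4 ≤ q := by
          rcases (by omega : q = 3 ∨ 4 ≤ q) with h3 | h3
          · exfalso
            subst hp'
            have : Even q := hq ▸ (even_two.pow_of_ne_zero (by omega))
            rw [h3] at this; exact absurd this (by decide)
          · exact h3
        have key : L * p ^ Nat.clog p 3 ≤ q ^ (k + 2) - 1 := by
          refine le_trans (Nat.mul_le_mul hL' hpe) ?_
          rw [add_mul, one_mul]
          have h5 : q ^ k * 4 ≤ q ^ (k + 1) := by rw [e1]; exact Nat.mul_le_mul_left _ hq4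
          have h6 : q ^ (k + 1) * 4 ≤ q ^ (k + 2) := by rw [e2]; exact Nat.mul_le_mul_left _ hq4
          omega
        refine ⟨fun _ _ => key, fun _ h => absurd (hf1 h) (by omega), fun _ _ => key.trans (by omega),
          fun _ h => absurd h h2⟩
    · rw [if_neg hp'] at hpe
      have hq3 : 3 ≤ q := by omega
      have key : L * p ^ Nat.clog p 3 ≤ q ^ (k + 2) - 1 := by
        refine le_trans (Nat.mul_le_mul hL' (hpe.trans hpq)) ?_
        rw [add_mul, one_mul, ← e1]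
        have h6 : q ^ (k + 1) * 3 ≤ q ^ (k + 2) := by rw [e2]; exact Nat.mul_le_mul_left _ hq3
        omega
      refine ⟨fun _ _ => key, fun _ h => key.trans ?_, fun _ _ => key.trans (by omega),
        fun _ h => absurd h (by omega)⟩
      rw [hf1 h, add_mul, ← e2]; omega
  · have hL' : L ≤ q ^ (k + 3 - ν) + 1 := hL.trans (max_le (Nat.succ_pos _) (umax_le q _))
    have hpe : p ^ Nat.clog p ν ≤ p ^ (ν - 2) := by
      refine Nat.pow_le_pow_right hp.pos ((Nat.clog_le_iff_le_pow hp.one_lt).2 ?_)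
      refine le_trans ?_ (Nat.pow_le_pow_left hp2 (ν - 2))
      obtain ⟨j, rfl⟩ : ∃ j, ν = j + 4 := ⟨ν - 4, by omega⟩
      rw [show j + 4 - 2 = j + 2 by omega, pow_add]
      have := Nat.lt_two_pow_self (n := j)
      omega
    have h1 : 1 ≤ q ^ (k + 3 - ν) := Nat.one_le_pow _ _ (by omega)
    have hLe : L * p ^ Nat.clog p ν ≤ q ^ (k + 3 - ν) * (2 * p ^ (ν - 2)) :=
      le_trans (Nat.mul_le_mul (show L ≤ q ^ (k + 3 - ν) * 2 by omega) hpe) (le_of_eq (mul_assoc _ _ _))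
    have hexp : q ^ (k + 3 - ν) * q ^ (ν - 1) = q ^ (k + 2) := by
      rw [← pow_add]; congr 1; omega
    obtain ⟨j, hj⟩ : ∃ j, ν - 1 = j + 1 := ⟨ν - 2, by omega⟩
    have hj' : ν - 2 = j := by omega
    have key : L * p ^ Nat.clog p ν ≤ q ^ (k + 2) := by
      refine hLe.trans ?_
      rw [← hexp, hj, hj', pow_succ' q j]
      exact Nat.mul_le_mul_left _ (Nat.mul_le_mul hq2 (Nat.pow_le_pow_left hpq j))
    refine ⟨fun _ h => ?_, fun _ h => key.trans ?_, fun _ _ => key.trans (Nat.le_succ _), fun _ h => ?_⟩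
    · have h5 : 2 * (L * p ^ Nat.clog p ν) ≤ q ^ (k + 2) := by
        refine le_trans (Nat.mul_le_mul_left 2 hLe) ?_
        rw [← hexp, hj, hj', pow_succ' q j, mul_left_comm, ← mul_assoc 2 2]
        refine Nat.mul_le_mul_left _ (Nat.mul_le_mul ?_ (Nat.pow_le_pow_left hpq j))
        have := hf2 h; omega
      have h6 : 4 ≤ q ^ (k + 2) := le_trans (Nat.mul_le_mul hq2 hq2) hk3
      omega
    · rw [hf1 h, add_mul, ← e2]; omega
    · subst h
      refine key.trans ?_
      rw [pow_succ 2 (k + 1), pow_succ 2 k]; omega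

end Cfsg.Agent.GL.UnitaryMax
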