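import Cfsg.Agent.Lib.GL.UnitaryOrders
import Cfsg.Agent.Lib.GL.UnitaryMaxArith

/-!
A scalar power of a unitary matrix, read off from the orbits of the irreducible factors of its minimal polynomial.
-/

set_option autoImplicit false

open Matrix Polynomial UniqueFactorizationMonoid
open Cfsg.Agent.Forms (qEnd qEnd_apply qEnd_qEnd one_lt_q)

namespace Cfsg.Agent.GL.UnitaryMax

variable {F : Type*} [Field F] [Fintype F] {q : ℕ} (hF : Fintype.card F = q ^ 2)
variable {ι : Type*} [Fintype ι] [DecidableEq ι]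

include hF in
/-- The weight of an orbit, and the order of its roots. -/
theorem orbit_pow {f : F[X]} (hm : f.Monic) (hf : Irreducible f) (h0 : f.coeff 0 ≠ 0) :
    AdjoinRoot.root f ^ umax q (2 * f.natDegree) = 1 ∧ (f ∣ conjRev (qEnd hF) f →
      AdjoinRoot.root f ^ umax q f.natDegree = 1) := by
  have := Fact.mk hf
  have hroot : AdjoinRoot.root f ≠ 0 := fun h => h0 (by
    have hX : f ∣ X := AdjoinRoot.mk_eq_zero.1 (by rw [AdjoinRoot.mk_X, h])
    have := (hf.associated_of_dvd Polynomial.irreducible_X hX).symm.dvd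
    rwa [X_dvd_iff] at this)
  refine ⟨?_, fun hs => ?_⟩
  · rw [umax_even (even_two_mul _), ← evenIndex_mul]
    exact root_pow_evenIndex_mul hF hm hf hroot
  · obtain ⟨hodd, h⟩ := root_pow_of_self_conj hF hm hf h0 hs
    rwa [umax_odd hodd]

include hF in
theorem exists_scalar_pow [Nonempty ι] {p : ℕ} [Fact p.Prime] [CharP F p] {h : (ι → F) → (ι → F) → F}
    (hh : IsReflexiveSesq (qEnd hF) h) {A : Matrix ι ι F} (hA : Preserves h A) (hdet : A.det ≠ 0) :
    ∃ ν L : ℕ, 1 ≤ ν ∧ ν ≤ Fintype.card ι ∧ 0 < L ∧ L ≤ max 1 (umax q (Fintype.card ι - ν)) ∧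
      ∃ c : F, A ^ (L * p ^ Nat.clog p ν) = c • 1 := by
  classical
  have hp : p.Prime := Fact.out
  have hq : 2 ≤ q := one_lt_q hF
  have hint : IsIntegral F A := Algebra.IsIntegral.isIntegral A
  set μ := minpoly F A with hμdef
  have hμ0 : μ ≠ 0 := minpoly.ne_zero hint
  have hμm : μ.Monic := minpoly.monic hint
  have hμχ : μ ∣ A.charpoly := Matrix.minpoly_dvd_charpoly A
  have hχ0 : A.charpoly.coeff 0 ≠ 0 := fun h0 => hdet (by
    rw [Matrix.det_eq_sign_charpoly_coeff, h0, mul_zero])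
  have hdeg : μ.natDegree ≤ Fintype.card ι :=
    (natDegree_le_of_dvd hμχ (Matrix.charpoly_monic A).ne_zero).trans (Matrix.charpoly_natDegree_eq_dim A).le
  have hc0 : ∀ P, P ∣ μ → P.coeff 0 ≠ 0 := fun P hP h0 => hχ0 (by
    obtain ⟨c, hc⟩ := hP.trans hμχ
    rw [hc, mul_coeff_zero, h0, zero_mul])
  let rev : F[X] → F[X] := conjRev (qEnd hF)
  have hsymm : ∀ P, P ∣ μ → rev P ∣ μ := by
    intro P hP
    refine (conjRev_dvd _ hP).trans ?_
    have := conjRev_dvd (qEnd hF) (minpoly_dvd_conjRev hh hA)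
    rwa [conjRev_conjRev hh.invol (hc0 μ dvd_rfl)] at this
  set S := (normalizedFactors μ).toFinset with hS
  let ν : F[X] → ℕ := fun f => (normalizedFactors μ).count f
  have hmem : ∀ f ∈ S, Irreducible f ∧ f.Monic ∧ f ∣ μ ∧ 1 ≤ ν f := by
    intro f hf
    rw [hS, Multiset.mem_toFinset] at hf
    have hi := irreducible_of_normalized_factor f hf
    refine ⟨hi, ?_, dvd_of_mem_normalizedFactors hf, Multiset.one_le_count_iff_mem.2 hf⟩
    rw [← normalize_normalized_factor f hf]
    exact Polynomial.monic_normalize hi.ne_zero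
  have hprod : Associated (∏ f ∈ S, f ^ ν f) μ := by
    rw [hS, ← Finset.prod_multiset_count]
    exact prod_normalizedFactors hμ0
  have hsum : ∑ f ∈ S, f.natDegree * ν f ≤ Fintype.card ι := by
    refine le_trans (le_of_eq ?_) hdeg
    rw [← natDegree_eq_of_degree_eq (degree_eq_degree_of_associated hprod),
      natDegree_prod _ _ fun f hf => pow_ne_zero _ (hmem f hf).1.ne_zero]
    exact Finset.sum_congr rfl fun f _ => by rw [natDegree_pow, mul_comm]
  have hcount : ∀ g : F[X], Irreducible g → ∀ k, g ^ k ∣ μ → k ≤ ν (normalize g) := by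
    intro g hg k hk
    rw [dvd_iff_normalizedFactors_le_normalizedFactors (pow_ne_zero _ hg.ne_zero) hμ0,
      normalizedFactors_pow, normalizedFactors_irreducible hg, Multiset.nsmul_singleton] at hk
    exact Multiset.le_count_iff_replicate_le.2 hk
  let r : F[X] → F[X] := fun f => normalize (rev f)
  have hrev : ∀ f ∈ S, r f ∈ S ∧ r (r f) = f ∧ (r f).natDegree = f.natDegree ∧ ν f ≤ ν (r f) := by
    intro f hf
    obtain ⟨hi, hmo, hd, h1⟩ := hmem f hf
    have h0 := hc0 f hd
    have hg := irreducible_conjRev hh.invol hi h0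
    have hpd : rev f ^ ν f ∣ μ := by
      show conjRev (qEnd hF) f ^ ν f ∣ μ
      rw [← conjRev_pow]
      refine hsymm _ ((Finset.dvd_prod_of_mem (fun f => f ^ ν f) hf).trans hprod.dvd)
    have hle := hcount _ hg _ hpd
    refine ⟨?_, ?_, ?_, hle⟩
    · rw [hS, Multiset.mem_toFinset, ← Multiset.one_le_count_iff_mem]
      exact h1.trans hle
    · have hn := normalize_associated (conjRev (qEnd hF) f)
      have h2 : Associated (rev (normalize (rev f))) (rev (rev f)) :=
        associated_of_dvd_dvd (conjRev_dvd _ hn.dvd) (conjRev_dvd _ hn.symm.dvd)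
      rw [show rev (rev f) = f from conjRev_conjRev hh.invol h0] at h2
      show normalize (rev (normalize (rev f))) = f
      rw [normalize_eq_normalize h2.dvd h2.symm.dvd, hmo.normalize_eq_self]
    · show (normalize (rev f)).natDegree = _
      rw [natDegree_eq_of_degree_eq (degree_eq_degree_of_associated (normalize_associated _)),
        natDegree_conjRev _ h0]
  have hνr : ∀ f ∈ S, ν (r f) = ν f := fun f hf => by
    obtain ⟨h1, h2, -, h4⟩ := hrev f hf
    have h5 := (hrev _ h1).2.2.2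
    rw [h2] at h5
    omega
  -- orbit representatives
  let idx : F[X] → ℕ := fun f => S.toList.idxOf f
  have hidx : ∀ f ∈ S, ∀ g, idx f = idx g → f = g := fun f hf g h =>
    (List.idxOf_inj (Finset.mem_toList.2 hf)).1 h
  let T := S.filter fun f => idx f ≤ idx (r f)
  let w : F[X] → ℕ := fun f => if r f = f then f.natDegree else 2 * f.natDegree
  have hTS : ∀ f ∈ T, f ∈ S := fun f hf => (Finset.mem_filter.1 hf).1
  have hcov : ∀ f ∈ S, f ∈ T ∨ r f ∈ T := by
    intro f hf
    rcases le_or_gt (idx f) (idx (r f)) with h | h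
    · exact Or.inl (Finset.mem_filter.2 ⟨hf, h⟩)
    · exact Or.inr (Finset.mem_filter.2 ⟨(hrev f hf).1, by rw [(hrev f hf).2.1]; exact h.le⟩)
  have hw : ∀ f ∈ T, 0 < w f := fun f hf => by
    have := (hmem f (hTS f hf)).1.natDegree_pos
    show 0 < if r f = f then f.natDegree else 2 * f.natDegree
    split_ifs <;> omega
  have hwpow : ∀ f ∈ T, AdjoinRoot.root f ^ umax q (w f) = 1 := by
    intro f hf
    obtain ⟨hi, hmo, hd, -⟩ := hmem f (hTS f hf)
    obtain ⟨h1, h2⟩ := orbit_pow hF hmo hi (hc0 f hd)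
    show AdjoinRoot.root f ^ umax q (if r f = f then f.natDegree else 2 * f.natDegree) = 1
    split_ifs with he
    · refine h2 ?_
      calc f = normalize (rev f) := he.symm
        _ ∣ conjRev (qEnd hF) f := (normalize_associated _).dvd
    · exact h1
  have hweight : ∑ f ∈ T, w f * ν f ≤ Fintype.card ι := by
    refine le_trans ?_ hsum
    let T' := S.filter fun f => idx (r f) < idx f
    have hST : S = T ∪ T' := by
      ext f
      simp only [T, T', Finset.mem_union, Finset.mem_filter]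
      refine ⟨fun h => ?_, fun h => h.elim And.left And.left⟩
      rcases le_or_gt (idx f) (idx (r f)) with h' | h'
      · exact Or.inl ⟨h, h'⟩
      · exact Or.inr ⟨h, h'⟩
    have hd : Disjoint T T' := Finset.disjoint_filter.2 fun f _ h1 h2 => absurd h1 (not_le.2 h2)
    conv_rhs => rw [hST, Finset.sum_union hd]
    have e1 : ∀ f ∈ T, w f * ν f = f.natDegree * ν f + if r f = f then 0 else f.natDegree * ν f := by
      intro f _
      show (if r f = f then f.natDegree else 2 * f.natDegree) * ν f = _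
      split_ifs <;> ring
    rw [Finset.sum_congr rfl e1, Finset.sum_add_distrib]
    refine Nat.add_le_add_left (le_of_eq ?_) _
    rw [Finset.sum_ite, Finset.sum_const_zero, zero_add]
    refine Finset.sum_nbij' r r (fun f hf => ?_) (fun f hf => ?_) (fun f hf => ?_) (fun f hf => ?_)
      (fun f hf => ?_)
    all_goals simp only [T, T', Finset.mem_filter] at *
    · obtain ⟨⟨hfS, hle⟩, hne⟩ := hf
      refine ⟨(hrev f hfS).1, ?_⟩
      rw [(hrev f hfS).2.1]
      exact lt_of_le_of_ne hle fun he => hne (hidx f hfS _ he).symm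
    · obtain ⟨hfS, hlt⟩ := hf
      refine ⟨⟨(hrev f hfS).1, by rw [(hrev f hfS).2.1]; exact hlt.le⟩, ?_⟩
      rw [(hrev f hfS).2.1]
      intro he
      rw [← he] at hlt
      exact lt_irrefl _ hlt
    · exact (hrev f hf.1.1).2.1
    · exact (hrev f hf.1).2.1
    · rw [(hrev f hf.1.1).2.2.1, hνr f hf.1.1]
  have hSne : S.Nonempty := by
    rw [hS, Multiset.toFinset_nonempty]
    intro h0
    have h1 := prod_normalizedFactors hμ0
    rw [h0, Multiset.prod_zero] at h1
    exact minpoly.not_isUnit F A (h1.isUnit isUnit_one)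
  have hTne : T.Nonempty := by
    obtain ⟨f, hf⟩ := hSne
    rcases hcov f hf with h | h
    exacts [⟨f, h⟩, ⟨r f, h⟩]
  obtain ⟨f₀, hf₀, hmax⟩ := Finset.exists_max_image T ν hTne
  have hνmax : ∀ f ∈ S, ν f ≤ ν f₀ := by
    intro f hf
    rcases hcov f hf with h | h
    · exact hmax f h
    · exact hνr f hf ▸ hmax (r f) h
  have hν1 : 1 ≤ ν f₀ := (hmem f₀ (hTS f₀ hf₀)).2.2.2
  set e := Nat.clog p (ν f₀) with hedef
  have hνe : ∀ f ∈ S, ν f ≤ p ^ e := fun f hf => (hνmax f hf).trans (Nat.le_pow_clog hp.one_lt _)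
  have hslack : ∑ f ∈ T, w f + (ν f₀ - 1) ≤ Fintype.card ι := by
    refine le_trans ?_ hweight
    rw [← Finset.add_sum_erase T (fun f => w f * ν f) hf₀, ← Finset.add_sum_erase T w hf₀]
    have h1 : ∑ f ∈ T.erase f₀, w f ≤ ∑ f ∈ T.erase f₀, w f * ν f :=
      Finset.sum_le_sum fun f hf =>
        Nat.le_mul_of_pos_right _ (hmem f (hTS f (Finset.mem_of_mem_erase hf))).2.2.2
    obtain ⟨k, hk⟩ : ∃ k, ν f₀ = k + 1 := ⟨ν f₀ - 1, by omega⟩
    have h2 : 1 * k ≤ w f₀ * k := Nat.mul_le_mul_right _ (hw f₀ hf₀)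
    rw [hk, Nat.add_sub_cancel, mul_add, mul_one]
    omega
  have hfinal : ∀ L, 0 < L → ∀ c : F, c * qEnd hF c = 1 → (∀ f ∈ T, f ∣ X ^ L - C c) →
      ∃ c' : F, A ^ (L * p ^ e) = c' • 1 := by
    intro L hL c hc hdv
    have hall : ∀ f ∈ S, f ∣ X ^ L - C c := by
      intro f hf
      rcases hcov f hf with h | h
      · exact hdv f h
      · have h1 := conjRev_dvd_X_pow_sub_C hh.invol hL hc (hdv _ h)
        rw [← (hrev f hf).2.1]
        exact (normalize_associated _).dvd.trans h1
    have h1 : μ ∣ (X ^ L - C c) ^ p ^ e := by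
      refine hprod.symm.dvd.trans (Finset.prod_dvd_of_coprime (fun f hf g hg hfg => ?_) fun f hf => ?_)
      · refine IsCoprime.pow ((hmem f hf).1.coprime_iff_not_dvd.2 fun hd => hfg ?_)
        exact Polynomial.eq_of_monic_of_associated (hmem f hf).2.1 (hmem g hg).2.1
          ((hmem f hf).1.associated_of_dvd (hmem g hg).1 hd)
      · exact (pow_dvd_pow _ (hνe f hf)).trans (pow_dvd_pow_of_dvd (hall f hf) _)
    rw [sub_pow_char_pow, ← pow_mul, ← map_pow] at h1
    obtain ⟨u, hu⟩ := h1
    have h3 := congrArg (aeval A) hu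
    rw [map_mul, minpoly.aeval, zero_mul, map_sub, map_pow, aeval_X, aeval_C, sub_eq_zero] at h3
    exact ⟨c ^ p ^ e, by rw [h3, Algebra.algebraMap_eq_smul_one]⟩
  have hνle : ν f₀ ≤ Fintype.card ι := by
    have := Finset.single_le_sum (f := w) (fun _ _ => Nat.zero_le _) hf₀
    have := hw f₀ hf₀
    omega
  by_cases hone : T.card = 1
  · obtain ⟨g, hg⟩ := Finset.card_eq_one.1 hone
    obtain rfl : f₀ = g := by rw [hg] at hf₀; exact Finset.mem_singleton.1 hf₀
    have hwf := hw f₀ hf₀
    have hwle : w f₀ + (ν f₀ - 1) ≤ Fintype.card ι := by rwa [hg, Finset.sum_singleton] at hslack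
    have hdvd := succ_dvd_umax q (w f₀)
    set L := umax q (w f₀) / (q + 1) with hLdef
    have hLpos : 0 < L := Nat.div_pos (Nat.le_of_dvd (umax_pos hq hwf) hdvd) (Nat.succ_pos q)
    obtain ⟨c, hc, hfc⟩ := exists_norm_one_scalar hF (hmem f₀ (hTS f₀ hf₀)).1 (L := L) (by
      rw [hLdef, Nat.div_mul_cancel hdvd]; exact hwpow f₀ hf₀)
    refine ⟨ν f₀, L, hν1, hνle, hLpos, ?_, hfinal L hLpos c hc fun f hf => ?_⟩
    · rcases (by omega : w f₀ = 1 ∨ 2 ≤ w f₀) with h | h
      · rw [hLdef, h, umax_odd odd_one, pow_one, Nat.div_self (Nat.succ_pos q)]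
        exact le_max_left _ _
      · exact ((umax_div_le hq h).trans (umax_mono hq (by omega))).trans (le_max_right _ _)
    · rw [hg, Finset.mem_singleton] at hf
      rw [hf]; exact hfc
  · obtain ⟨u, hu, hcard, -, hle⟩ := lcm_umax_le hq T w hw hTne
    set L := T.lcm fun f => umax q (w f)
    have hLpos : 0 < L := Nat.pos_of_ne_zero fun h0 => by
      obtain ⟨f, hf, hf0⟩ := Finset.lcm_eq_zero_iff.1 h0
      have := umax_pos hq (hw f hf)
      omega
    refine ⟨ν f₀, L, hν1, hνle, hLpos, ?_, hfinal L hLpos 1 (by rw [map_one, one_mul]) fun f hf => ?_⟩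
    · have : 2 ≤ T.card := by have := hTne.card_pos; omega
      exact (hle.trans (umax_mono hq (by omega))).trans (le_max_right _ _)
    · obtain ⟨k, hk⟩ : umax q (w f) ∣ L := Finset.dvd_lcm (f := fun f => umax q (w f)) hf
      have := Fact.mk (hmem f (hTS f hf)).1
      rw [← AdjoinRoot.mk_eq_zero, map_sub, map_pow, AdjoinRoot.mk_X, map_one, map_one, hk, pow_mul,
        hwpow f hf, one_pow, sub_self]

end Cfsg.Agent.GL.UnitaryMax
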