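import Cfsg.Agent.Lib.GL.UnitaryOrders
import Cfsg.Agent.Lib.GL.UnitaryMaxArith

/-!
Tori of order `q ^ n - (-1) ^ n` in `U_n(q)` and the two-block elements of largest order in `PGU_d(q)`.
-/

set_option autoImplicit false

open Matrix Polynomial
open Cfsg.Agent.Forms (qEnd qEnd_apply qEnd_qEnd one_lt_q exists_prime_pow_q)

namespace Cfsg.Agent.GL.UnitaryMax

variable {F : Type*} [Field F] [Fintype F] {q : ℕ} (hF : Fintype.card F = q ^ 2)

include hF in
/-- A torus of order `q ^ d + 1` in `U_d`, `d` odd. -/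
theorem exists_full_odd {d : ℕ} (hd : Odd d) :
    ∃ Z : Matrix (Fin d) (Fin d) F, Preserves (hermForm d F q) Z ∧ ∀ k, Z ^ k = 1 ↔ q ^ d + 1 ∣ k := by
  obtain ⟨p, a, hp, hchar, hqp⟩ := exists_prime_pow_q hF
  have := Fact.mk hp
  obtain ⟨d', rfl⟩ : ∃ d', d = 2 * d' + 1 := by obtain ⟨t, ht⟩ := hd; exact ⟨t, ht⟩
  set d := 2 * d' + 1 with hd'
  have : NeZero d := ⟨by omega⟩
  let E := FiniteField.Extension F p d
  have : CharP E p := charP_of_injective_algebraMap (algebraMap F E).injective p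
  let b : Module.Basis (Fin d) F E := Module.finBasisOfFinrankEq F E (FiniteField.finrank_extension F p d)
  obtain ⟨g, hg⟩ := IsCyclic.exists_ofOrder_eq_natCard (α := Eˣ)
  rw [Nat.card_units, FiniteField.natCard_extension, ← Fintype.card_eq_nat_card, hF, ← pow_mul] at hg
  have hq := one_lt_q hF
  have hpos : 1 ≤ q ^ d := Nat.one_le_pow _ _ (by omega)
  set s := q ^ d - 1 with hs
  have hprod : (q ^ d + 1) * s = q ^ (2 * d) - 1 := by
    rw [hs, ← Nat.sq_sub_sq, one_pow, ← pow_mul, mul_comm]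
  have hs0 : s ≠ 0 := by
    have : 2 ≤ q ^ d := le_trans hq (Nat.le_self_pow (by omega) q)
    omega
  set z : Eˣ := g ^ s with hz
  have hord : orderOf (z : E) = q ^ d + 1 := by
    rw [orderOf_units, hz, orderOf_pow' _ hs0, hg, ← hprod, Nat.gcd_mul_left_left,
      Nat.mul_div_cancel _ (Nat.pos_of_ne_zero hs0)]
  have hzq : (z : E) ^ (q ^ d + 1) = 1 := by
    rw [← hord, pow_orderOf_eq_one]
  -- the conjugation `x ↦ x ^ (q ^ d)` and the form
  let ψ : E →+* E := iterateFrobenius E p (a * d)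
  have hψ : ∀ x, ψ x = x ^ q ^ d := fun x => by
    rw [hqp, ← pow_mul]; exact iterateFrobenius_def p (a * d) x
  have hψam : ∀ c : F, ψ (algebraMap F E c) = algebraMap F E (qEnd hF c) := by
    intro c
    rw [hψ, ← map_pow, qEnd_apply]
    congr 1
    rw [hd', pow_succ', pow_mul, pow_mul, ← hF]
    rw [FiniteField.pow_card_pow]
  have hψψ : ∀ x : E, ψ (ψ x) = x := by
    intro x
    have := Fintype.ofFinite E
    rw [hψ, hψ, ← pow_mul, ← pow_add, ← two_mul, pow_mul, ← hF]
    have hc : Fintype.card E = Fintype.card F ^ d := by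
      rw [Fintype.card_eq_nat_card, FiniteField.natCard_extension, ← Fintype.card_eq_nat_card]
    rw [← hc, FiniteField.pow_card]
  have htr : ∀ w : E, qEnd hF (Algebra.trace F E w) = Algebra.trace F E (ψ w) := by
    intro w
    apply (algebraMap F E).injective
    rw [← hψam, FiniteField.algebraMap_trace_eq_sum_pow, FiniteField.algebraMap_trace_eq_sum_pow, map_sum]
    refine Finset.sum_congr rfl fun i _ => ?_
    rw [map_pow]
  let X' : (Fin d → F) ≃ₗ[F] E := b.equivFun.symm
  let h : (Fin d → F) → (Fin d → F) → F := fun u v => Algebra.trace F E (X' u * ψ (X' v))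
  have hh : IsReflexiveSesq (qEnd hF) h :=
    { invol := qEnd_qEnd hF
      add_left := fun u u' v => by simp [h, add_mul]
      smul_left := fun c u v => by simp [h, smul_mul_assoc]
      add_right := fun u v v' => by simp [h, mul_add]
      smul_right := fun c u v => by
        show Algebra.trace F E (X' u * ψ (X' (c • v))) = _
        rw [map_smul, Algebra.smul_def, map_mul ψ, hψam, ← Algebra.smul_def, mul_smul_comm, map_smul,
          smul_eq_mul]
      refl := fun u v huv => by
        have := htr (X' u * ψ (X' v))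
        rw [show Algebra.trace F E (X' u * ψ (X' v)) = 0 from huv, map_zero, map_mul, hψψ, mul_comm] at this
        exact this.symm
      nondeg := fun v hv => by
        have : ψ (X' v) = 0 := (traceForm_nondegenerate F E).2 _ fun x => by
          have := hv (X'.symm x)
          simpa [h, Algebra.traceForm_apply] using this
        simpa using this }
  obtain ⟨Φ, hΦ⟩ := exists_to_standard hF (n := d) (Fintype.card_fin d) hh (fun u v => by
    simp only [h, htr, map_mul, hψψ, mul_comm])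
  refine ⟨Φ (Algebra.leftMulMatrix b z), ?_, fun k => ?_⟩
  · refine (hΦ _).2 fun u v => ?_
    have hX : ∀ u, X' (Algebra.leftMulMatrix b (z : E) *ᵥ u) = (z : E) * X' u := fun u => by
      rw [LinearEquiv.symm_apply_eq]
      conv_lhs => rw [show u = ⇑(b.repr (X' u)) from (b.equivFun.apply_symm_apply u).symm]
      exact Algebra.leftMulMatrix_mulVec_repr b _ _
    simp only [h, hX, map_mul, hψ]
    rw [show (z : E) * X' u * ((z : E) * X' v) ^ q ^ d = (z : E) ^ (q ^ d + 1) * (X' u * X' v ^ q ^ d) by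
      rw [mul_pow, pow_succ]; ring, hzq, one_mul]
  · rw [← map_pow, map_eq_one_iff _ Φ.injective, ← map_pow, map_eq_one_iff _ (Algebra.leftMulMatrix_injective b),
      ← orderOf_dvd_iff_pow_eq_one, hord]

include hF in
/-- A torus of order `q ^ (2 * d) - 1` in `U_{2d}`. -/
theorem exists_full_even {d : ℕ} (hd : 0 < d) :
    ∃ Z : Matrix (Fin (2 * d)) (Fin (2 * d)) F, Preserves (hermForm (2 * d) F q) Z ∧
      ∀ k, Z ^ k = 1 ↔ q ^ (2 * d) - 1 ∣ k := by
  obtain ⟨p, hp⟩ := CharP.exists F
  have : Fact p.Prime := ⟨CharP.char_is_prime F p⟩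
  have : NeZero d := ⟨hd.ne'⟩
  have hq := one_lt_q hF
  let E := FiniteField.Extension F p d
  let b : Module.Basis (Fin d) F E := Module.finBasisOfFinrankEq F E (FiniteField.finrank_extension F p d)
  obtain ⟨g, hg⟩ := IsCyclic.exists_ofOrder_eq_natCard (α := Eˣ)
  rw [Nat.card_units, FiniteField.natCard_extension, ← Fintype.card_eq_nat_card, hF, ← pow_mul,
    ← evenIndex_mul] at hg
  set z : Eˣ := g with hz
  have hord : orderOf (z : E) = q ^ (2 * d) - 1 := by
    rw [orderOf_units, hz, hg, evenIndex_mul]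
  set B : Matrix (Fin d) (Fin d) F := Algebra.leftMulMatrix b (z : E) with hB
  have hBu : IsUnit B := z.isUnit.map (Algebra.leftMulMatrix b)
  set Bs : Matrix (Fin d) (Fin d) F := (qEnd hF).mapMatrix B with hBs
  have hBsu : IsUnit Bs.det := (Matrix.isUnit_iff_isUnit_det _).1 (hBu.map (qEnd hF).mapMatrix)
  set D : Matrix (Fin d) (Fin d) F := (Bs⁻¹)ᵀ with hD
  have hDpow : ∀ k, D ^ k = (((qEnd hF).mapMatrix (B ^ k))⁻¹)ᵀ := fun k => by
    rw [hD, ← Matrix.transpose_pow, Matrix.inv_pow', map_pow]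
  have hBk : ∀ k, B ^ k = 1 ↔ q ^ (2 * d) - 1 ∣ k := fun k => by
    rw [hB, ← map_pow, map_eq_one_iff _ (Algebra.leftMulMatrix_injective b), ← orderOf_dvd_iff_pow_eq_one, hord]
  let h : (Fin d ⊕ Fin d → F) → (Fin d ⊕ Fin d → F) → F := fun u v =>
    (u ∘ Sum.inl) ⬝ᵥ (qEnd hF ∘ v ∘ Sum.inr) + (u ∘ Sum.inr) ⬝ᵥ (qEnd hF ∘ v ∘ Sum.inl)
  have hsymm : ∀ u v, qEnd hF (h u v) = h v u := by
    intro u v
    simp only [h, map_add, dotProduct, map_sum, map_mul, Function.comp_apply, qEnd_qEnd]
    rw [add_comm]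
    congr 1 <;> exact Finset.sum_congr rfl fun i _ => mul_comm _ _
  have hh : IsReflexiveSesq (qEnd hF) h :=
    { invol := qEnd_qEnd hF
      add_left := fun u u' v => by
        simp [h, dotProduct, add_mul, Finset.sum_add_distrib]; ring
      smul_left := fun c u v => by simp [h, dotProduct, Finset.mul_sum, mul_assoc, mul_add]
      add_right := fun u v v' => by
        simp [h, dotProduct, mul_add, Finset.sum_add_distrib]; ring
      smul_right := fun c u v => by simp [h, dotProduct, Finset.mul_sum, mul_left_comm, mul_add]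
      refl := fun u v huv => by rw [← hsymm u v, huv, map_zero]
      nondeg := fun v hv => by
        funext i
        rcases i with i | i
        · have := hv (Pi.single (Sum.inr i) 1)
          simpa [h, dotProduct, Pi.single_apply] using this
        · have := hv (Pi.single (Sum.inl i) 1)
          simpa [h, dotProduct, Pi.single_apply] using this }
  obtain ⟨Φ, hΦ⟩ := exists_to_standard hF (n := 2 * d) (by simp [two_mul]) hh hsymm
  refine ⟨Φ (Matrix.fromBlocks B 0 0 D), ?_, fun k => ?_⟩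
  · refine (hΦ _).2 fun u v => ?_
    have el : ∀ w : Fin d ⊕ Fin d → F, (Matrix.fromBlocks B 0 0 D *ᵥ w) ∘ Sum.inl = B *ᵥ (w ∘ Sum.inl) :=
      fun w => by funext i; simp [Matrix.fromBlocks_mulVec]
    have er : ∀ w : Fin d ⊕ Fin d → F, (Matrix.fromBlocks B 0 0 D *ᵥ w) ∘ Sum.inr = D *ᵥ (w ∘ Sum.inr) :=
      fun w => by funext i; simp [Matrix.fromBlocks_mulVec]
    have em : ∀ (M : Matrix (Fin d) (Fin d) F) (w : Fin d → F),
        qEnd hF ∘ (M *ᵥ w) = (qEnd hF).mapMatrix M *ᵥ (qEnd hF ∘ w) :=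
      fun M w => funext fun i => RingHom.map_mulVec (qEnd hF) M w i
    have hDs : (qEnd hF).mapMatrix D = (B⁻¹)ᵀ := by
      have h1 : (qEnd hF).mapMatrix Bs = B := by ext i j; simp [hBs, qEnd_qEnd]
      have h2 : (qEnd hF).mapMatrix Bs⁻¹ = B⁻¹ := by
        refine (Matrix.inv_eq_right_inv ?_).symm
        nth_rewrite 1 [← h1]
        rw [← map_mul, Matrix.mul_nonsing_inv _ hBsu, map_one]
      rw [← h2, hD]
      rfl
    simp only [h, el, er, em, hDs, ← hBs]
    rw [Matrix.mulVec_transpose, dotProduct_comm, ← Matrix.dotProduct_mulVec, Matrix.mulVec_mulVec,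
      Matrix.nonsing_inv_mul _ ((Matrix.isUnit_iff_isUnit_det _).1 hBu), Matrix.one_mulVec, dotProduct_comm,
      hD, Matrix.mulVec_transpose, ← Matrix.dotProduct_mulVec, Matrix.mulVec_mulVec,
      Matrix.nonsing_inv_mul _ hBsu, Matrix.one_mulVec]
  · rw [← map_pow, map_eq_one_iff _ Φ.injective, Matrix.fromBlocks_diagonal_pow, ← Matrix.fromBlocks_one,
      Matrix.fromBlocks_inj]
    refine ⟨fun h1 => (hBk k).1 h1.1, fun h1 => ⟨(hBk k).2 h1, rfl, rfl, ?_⟩⟩
    rw [hDpow, (hBk k).2 h1, map_one, inv_one, Matrix.transpose_one]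

include hF in
/-- A torus of order `q ^ n - (-1) ^ n` in `U_n`. -/
theorem exists_full_torus {n : ℕ} (hn : 0 < n) :
    ∃ Z : Matrix (Fin n) (Fin n) F, Preserves (hermForm n F q) Z ∧ ∀ k, Z ^ k = 1 ↔ umax q n ∣ k := by
  rcases Nat.even_or_odd n with h | h
  · obtain ⟨d, rfl⟩ := even_iff_two_dvd.1 h
    rw [umax_even h]
    exact exists_full_even hF (by omega)
  · rw [umax_odd h]
    exact exists_full_odd hF h

end Cfsg.Agent.GL.UnitaryMax
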