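import Cfsg.Agent.Lib.GL.UnitaryMaxFactor
import Cfsg.Agent.Lib.GL.UnitaryMaxTori
import Cfsg.Prelude.Def_LieClassical

/-!
Element orders of `PGU_d(q)`: the centre of `GU_d`, upper bound and witnesses.
-/

set_option autoImplicit false

open Matrix Polynomial
open Cfsg.Agent.Forms (qEnd qEnd_apply qEnd_qEnd one_lt_q exists_prime_pow_q)

namespace Cfsg.Agent.GL.UnitaryMax

variable {F : Type*} [Field F] [Fintype F] {q : ℕ} (hF : Fintype.card F = q ^ 2) {d : ℕ}

omit [Fintype F] in
theorem preserves_coe (g : GU d F q) :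
    Preserves (hermForm d F q) ((g.1 : GL (Fin d) F) : Matrix (Fin d) (Fin d) F) := g.2

omit [Fintype F] in
theorem exists_mem_GU {A : Matrix (Fin d) (Fin d) F} (hA : Preserves (hermForm d F q) A) (hu : IsUnit A) :
    ∃ g : GU d F q, ((g.1 : GL (Fin d) F) : Matrix (Fin d) (Fin d) F) = A :=
  ⟨⟨hu.unit, fun u v => by
    show hermForm d F q ((hu.unit : Matrix (Fin d) (Fin d) F) *ᵥ u) ((hu.unit : Matrix (Fin d) (Fin d) F) *ᵥ v) = _
    rw [IsUnit.unit_spec]; exact hA u v⟩, IsUnit.unit_spec hu⟩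

omit [Fintype F] in
theorem mem_center_of_scalar {g : GU d F q} {c : F}
    (hg : ((g.1 : GL (Fin d) F) : Matrix (Fin d) (Fin d) F) = c • 1) : g ∈ Subgroup.center (GU d F q) := by
  rw [Subgroup.mem_center_iff]
  intro x
  refine Subtype.ext (Units.ext ?_)
  rw [Subgroup.coe_mul, Subgroup.coe_mul, Units.val_mul, Units.val_mul, hg, mul_smul_comm, smul_mul_assoc,
    mul_one, one_mul]

include hF in
/-- Central elements of `GU_d` are scalar. -/
theorem scalar_of_mem_center (hd : 0 < d) {z : GU d F q} (hz : z ∈ Subgroup.center (GU d F q)) :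
    ∃ c : F, ((z.1 : GL (Fin d) F) : Matrix (Fin d) (Fin d) F) = c • 1 := by
  have hq := one_lt_q hF
  set M : Matrix (Fin d) (Fin d) F := ((z.1 : GL (Fin d) F) : Matrix (Fin d) (Fin d) F) with hM
  have hcomm : ∀ A, Preserves (hermForm d F q) A → IsUnit A → A * M = M * A := by
    intro A hA hu
    obtain ⟨g, hg⟩ := exists_mem_GU hA hu
    have := congrArg (fun x : GU d F q => ((x.1 : GL (Fin d) F) : Matrix (Fin d) (Fin d) F))
      (Subgroup.mem_center_iff.1 hz g)
    simpa [hg, ← hM] using this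
  obtain ⟨g, hg⟩ := IsCyclic.exists_ofOrder_eq_natCard (α := Fˣ)
  rw [Nat.card_units, ← Fintype.card_eq_nat_card, hF] at hg
  set ζ : F := ((g ^ (q - 1) : Fˣ) : F) with hζ
  have hζ1 : ζ ^ (q + 1) = 1 := by
    rw [hζ, ← Units.val_pow_eq_pow_val, ← pow_mul, mul_comm, ← Nat.sq_sub_sq, one_pow, ← hg,
      pow_orderOf_eq_one, Units.val_one]
  have hζne : ζ ≠ 1 := by
    intro h
    have h1 : g ^ (q - 1) = 1 := Units.ext (by rw [← hζ, h, Units.val_one])
    have h2 := Nat.le_of_dvd (by omega) (orderOf_dvd_of_pow_eq_one h1)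
    rw [hg, sq] at h2
    have : q * 2 ≤ q * q := Nat.mul_le_mul_left _ hq
    omega
  have hoff : ∀ i j, i ≠ j → M j i = 0 := by
    intro i j hij
    have hdiag : Preserves (hermForm d F q) (diagonal (Function.update (fun _ => (1 : F)) i ζ)) := by
      intro u v
      refine Finset.sum_congr rfl fun k _ => ?_
      rw [Matrix.mulVec_diagonal, Matrix.mulVec_diagonal, mul_pow]
      have hk : Function.update (fun _ => (1 : F)) i ζ k ^ (q + 1) = 1 := by
        rcases eq_or_ne k i with rfl | hne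
        · simpa using hζ1
        · simp [hne]
      linear_combination (u k * v k ^ q) * hk
    have hu : IsUnit (diagonal (Function.update (fun _ => (1 : F)) i ζ)) := by
      rw [Matrix.isUnit_diagonal, Pi.isUnit_iff]
      intro k
      rcases eq_or_ne k i with rfl | hne
      · simp [hζ]
      · simp [hne]
    have := congrFun (congrFun (hcomm _ hdiag hu) j) i
    rw [Matrix.diagonal_mul, Matrix.mul_diagonal, Function.update_of_ne hij.symm, Function.update_self,
      one_mul] at this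
    by_contra h
    exact hζne ((mul_eq_left₀ h).1 this.symm)
  have hswap : ∀ i j, M i i = M j j := by
    intro i j
    have hP : Preserves (hermForm d F q) ((Equiv.swap i j).permMatrix F) := by
      intro u v
      simp only [hermForm, Matrix.permMatrix_mulVec, Function.comp_apply]
      exact Equiv.sum_comp (Equiv.swap i j) fun k => u k * v k ^ q
    have hu : IsUnit ((Equiv.swap i j).permMatrix F) := by
      rw [Matrix.isUnit_iff_isUnit_det, Matrix.det_permutation]
      exact ((Equiv.Perm.sign (Equiv.swap i j)).isUnit.map (Int.castRingHom F).toMonoidHom)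
    have hsingle : (Equiv.swap i j).permMatrix F *ᵥ Pi.single i (1 : F) = Pi.single j 1 := by
      rw [Matrix.permMatrix_mulVec]
      funext k
      simp only [Function.comp_apply, Pi.single_apply]
      rcases eq_or_ne k j with rfl | hk
      · simp
      · rw [if_neg hk, if_neg]
        exact fun h => hk (by rw [← Equiv.swap_apply_self i j k, h, Equiv.swap_apply_left])
    have h1 : (Equiv.swap i j).permMatrix F *ᵥ (M *ᵥ Pi.single i (1 : F)) =
        M *ᵥ ((Equiv.swap i j).permMatrix F *ᵥ Pi.single i (1 : F)) := by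
      rw [Matrix.mulVec_mulVec, Matrix.mulVec_mulVec, hcomm _ hP hu]
    rw [hsingle, Matrix.permMatrix_mulVec, Matrix.mulVec_single_one, Matrix.mulVec_single_one] at h1
    have h2 := congrFun h1 j
    simpa [Function.comp_apply, Matrix.col_apply] using h2
  refine ⟨M ⟨0, hd⟩ ⟨0, hd⟩, ?_⟩
  ext a b
  rcases eq_or_ne a b with rfl | hab
  · rw [Matrix.smul_apply, Matrix.one_apply_eq, smul_eq_mul, mul_one]; exact hswap a _
  · rw [Matrix.smul_apply, Matrix.one_apply_ne hab, smul_zero]; exact hoff b a hab.symm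

include hF in
/-- The upper bound. -/
theorem exists_bound (hd : 0 < d) {p : ℕ} [Fact p.Prime] [CharP F p]
    (g : GU d F q ⧸ Subgroup.center (GU d F q)) :
    ∃ ν L : ℕ, 1 ≤ ν ∧ ν ≤ d ∧ L ≤ max 1 (umax q (d - ν)) ∧ orderOf g ≤ L * p ^ Nat.clog p ν := by
  have hp : p.Prime := Fact.out
  obtain ⟨x, rfl⟩ := QuotientGroup.mk'_surjective _ g
  haveI : Nonempty (Fin d) := ⟨⟨0, hd⟩⟩
  obtain ⟨ν, L, h1, h2, hL, h3, c, hc⟩ := exists_scalar_pow hF (p := p) (isReflexiveSesq_hermForm hF d)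
    (preserves_coe x) ((Matrix.isUnit_iff_isUnit_det _).1 x.1.isUnit).ne_zero
  rw [Fintype.card_fin] at h2 h3
  refine ⟨ν, L, h1, h2, h3, Nat.le_of_dvd (Nat.mul_pos hL (pow_pos hp.pos _)) (orderOf_dvd_of_pow_eq_one ?_)⟩
  rw [← map_pow, QuotientGroup.mk'_apply, QuotientGroup.eq_one_iff]
  refine mem_center_of_scalar (c := c) ?_
  rw [SubgroupClass.coe_pow, Units.val_pow_eq_pow_val, hc]

include hF in
/-- An element with two diagonal blocks. -/
theorem exists_block {d₁ d₂ E : ℕ} (hd : 0 < d) (h : d₁ + d₂ = d)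
    {B₁ : Matrix (Fin d₁) (Fin d₁) F} {B₂ : Matrix (Fin d₂) (Fin d₂) F}
    (h₁ : Preserves (hermForm d₁ F q) B₁) (h₂ : Preserves (hermForm d₂ F q) B₂)
    (u₁ : B₁.det ≠ 0) (u₂ : B₂.det ≠ 0)
    (hmin : ∀ N (c : F), B₁ ^ N = c • 1 → B₂ ^ N = c • 1 → E ∣ N) :
    ∃ g : GU d F q ⧸ Subgroup.center (GU d F q), E ≤ orderOf g := by
  have hu : IsUnit (twoBlock h (B₁, B₂)) := by
    rw [Matrix.isUnit_iff_isUnit_det, isUnit_iff_ne_zero, det_twoBlock]
    exact mul_ne_zero u₁ u₂
  obtain ⟨x, hx⟩ := exists_mem_GU (preserves_twoBlock hF h h₁ h₂) hu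
  refine ⟨QuotientGroup.mk' _ x, Nat.le_of_dvd (orderOf_pos _) ?_⟩
  have h1 := pow_orderOf_eq_one (QuotientGroup.mk' (Subgroup.center (GU d F q)) x)
  rw [← map_pow, QuotientGroup.mk'_apply, QuotientGroup.eq_one_iff] at h1
  obtain ⟨c, hc⟩ := scalar_of_mem_center hF hd h1
  rw [SubgroupClass.coe_pow, Units.val_pow_eq_pow_val, hx, ← map_pow, Prod.pow_mk, twoBlock_eq_smul_one] at hc
  exact hmin _ c hc.1 hc.2

include hF in
theorem det_torus_ne_zero {n : ℕ} (hn : 0 < n) {Z : Matrix (Fin n) (Fin n) F}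
    (hZk : ∀ k, Z ^ k = 1 ↔ umax q n ∣ k) : Z.det ≠ 0 :=
  ((Matrix.isUnit_iff_isUnit_det _).1
    (IsUnit.of_pow_eq_one ((hZk _).2 dvd_rfl) (umax_pos (one_lt_q hF) hn).ne')).ne_zero

include hF in
/-- A torus next to a point. -/
theorem exists_le_orderOf_umax (hd : 2 ≤ d) :
    ∃ g : GU d F q ⧸ Subgroup.center (GU d F q), umax q (d - 1) ≤ orderOf g := by
  obtain ⟨Z, hZ, hZk⟩ := exists_full_torus hF (n := d - 1) (by omega)
  refine exists_block hF (by omega) (show d - 1 + 1 = d by omega) hZ (B₂ := 1) (fun u v => by simp)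
    (det_torus_ne_zero hF (by omega) hZk) (by simp) fun N c h1 h2 => (hZk N).1 ?_
  rw [one_pow] at h2
  have hc : c = 1 := by simpa using (congrFun (congrFun h2 0) 0).symm
  rw [h1, hc, one_smul]

include hF in
/-- A torus next to a regular unipotent element. -/
theorem exists_le_orderOf_umax_mul {p : ℕ} [Fact p.Prime] [CharP F p] {s : ℕ} (hs : 0 < s) (hsd : s < d)
    (hcop : (umax q (d - s)).Coprime p) :
    ∃ g : GU d F q ⧸ Subgroup.center (GU d F q), umax q (d - s) * p ^ Nat.clog p s ≤ orderOf g := by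
  obtain ⟨Z, hZ, hZk⟩ := exists_full_torus hF (n := d - s) (by omega)
  obtain ⟨J, hJd, hJ, hJk⟩ := exists_unitary_jordan hF p hs
  refine exists_block hF (by omega) (show d - s + s = d by omega) hZ hJ
    (det_torus_ne_zero hF (by omega) hZk) (by rw [hJd]; exact one_ne_zero) fun N c h1 h2 => ?_
  obtain ⟨hc, hp⟩ := hJk N c h2
  rw [hc, one_smul] at h1
  exact (Nat.Coprime.pow_right _ hcop).mul_dvd_of_dvd_of_dvd ((hZk N).1 h1) hp

end Cfsg.Agent.GL.UnitaryMax
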